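/-
The hexacode through a table model of the field of order four.
-/
import Cfsg.Prelude.Def_SporadicCombinatorics
import Mathlib.FieldTheory.Finite.Basic

set_option autoImplicit false

namespace CfsgLib.Spor.Hexa

open Cfsg Finset

/-- Sum in the model. -/
def addT (a b : Fin 4) : Fin 4 :=
  (([[0, 1, 2, 3], [1, 0, 3, 2], [2, 3, 0, 1], [3, 2, 1, 0]] : List (List (Fin 4))).getD a.1 []).getD b.1 0

/-- Product in the model. -/
def mulT (a b : Fin 4) : Fin 4 :=
  (([[0, 0, 0, 0], [0, 1, 2, 3], [0, 2, 3, 1], [0, 3, 1, 2]] : List (List (Fin 4))).getD a.1 []).getD b.1 0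

/-- The three spanning words in the model. -/
def gen (k : Fin 3) (i : Fin 6) : Fin 4 :=
  (([[2, 3, 3, 2, 3, 2], [3, 2, 2, 3, 3, 2], [3, 2, 3, 2, 2, 3]] : List (List (Fin 4))).getD k.1 []).getD i.1 0

/-- The words in the model. -/
def wordT (n : Fin 4 × Fin 4 × Fin 4) (i : Fin 6) : Fin 4 :=
  addT (addT (mulT n.1 (gen 0 i)) (mulT n.2.1 (gen 1 i))) (mulT n.2.2 (gen 2 i))

variable (F : Type*) [Field F] (ω : F)

/-- The model in the field. -/
def φ (a : Fin 4) : F := ![0, 1, ω, 1 + ω] a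

theorem two_eq_zero [Fintype F] (hF : Fintype.card F = 4) : (2 : F) = 0 := by
  have h : ((4 : ℕ) : F) = 0 := hF ▸ Nat.cast_card_eq_zero F
  have h' : (2 : F) * 2 = 0 := by rw [← h]; norm_num
  exact (mul_eq_zero.1 h').elim id id

variable {F} {ω} [Fintype F]

theorem φ_add (hF : Fintype.card F = 4) (a b : Fin 4) : φ F ω (addT a b) = φ F ω a + φ F ω b := by
  have h2 := two_eq_zero F hF
  fin_cases a <;> fin_cases b <;> simp [φ, addT] <;> first
    | linear_combination (0 : F) * h2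
    | linear_combination (-1 : F) * h2
    | linear_combination (-ω) * h2
    | linear_combination (-1 - ω) * h2

theorem φ_mul (hF : Fintype.card F = 4) (hω : ω ^ 2 + ω + 1 = 0) (a b : Fin 4) :
    φ F ω (mulT a b) = φ F ω a * φ F ω b := by
  have h2 := two_eq_zero F hF
  fin_cases a <;> fin_cases b <;> simp [φ, mulT] <;> first
    | linear_combination (0 : F) * h2
    | linear_combination (-1 : F) * hω + (1 + ω) * h2
    | linear_combination (-1 : F) * hω + h2
    | linear_combination (-1 : F) * hω + (0 : F) * h2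
    | linear_combination (-1 : F) * hω + ω * h2
    | linear_combination (-1 : F) * hω + (-ω) * h2
    | linear_combination (-1 : F) * hω + (-1 : F) * h2

theorem φ_bijective (hF : Fintype.card F = 4) (hω : ω ^ 2 + ω + 1 = 0) : Function.Bijective (φ F ω) := by
  rw [Fintype.bijective_iff_injective_and_card]
  refine ⟨fun a b h => ?_, by rw [Fintype.card_fin, hF]⟩
  by_contra hne
  obtain ⟨c, hc, hc0⟩ : ∃ c, φ F ω c = 0 ∧ c ≠ 0 := ⟨addT a b, by
    rw [φ_add hF, h, ← two_mul, two_eq_zero F hF, zero_mul], by clear h; revert hne; revert a b; decide +kernel⟩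
  obtain ⟨d, hd⟩ : ∃ d, mulT c d = 1 := by revert hc0; clear hc; revert c; decide +kernel
  have := φ_mul hF hω c d
  rw [hd, hc, zero_mul] at this
  exact one_ne_zero (show (1 : F) = 0 from this)

/-- The words. -/
def wordF (F : Type*) [Field F] (ω : F) (n : Fin 4 × Fin 4 × Fin 4) : Fin 6 → F := fun i => φ F ω (wordT n i)

theorem coe_hexacode (hF : Fintype.card F = 4) (hω : ω ^ 2 + ω + 1 = 0) (x : Fin 6 → F) :
    x ∈ hexacode F ω ↔ ∃ n, wordF F ω n = x := by
  have h2 := two_eq_zero F hF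
  have hsq : ω ^ 2 = φ F ω 3 := by
    show ω ^ 2 = 1 + ω
    linear_combination hω - (1 + ω) * h2
  have hw : φ F ω 2 = ω := rfl
  have hexp : ∀ n, wordF F ω n = φ F ω n.1 • ![ω, ω ^ 2, ω ^ 2, ω, ω ^ 2, ω] +
      φ F ω n.2.1 • ![ω ^ 2, ω, ω, ω ^ 2, ω ^ 2, ω] + φ F ω n.2.2 • ![ω ^ 2, ω, ω ^ 2, ω, ω, ω ^ 2] := by
    intro n
    funext i
    simp only [wordF, wordT, φ_add hF, φ_mul hF hω, Pi.add_apply, Pi.smul_apply, smul_eq_mul]
    fin_cases i <;> simp [gen, hsq, hw]
  rw [hexacode, Submodule.mem_span_triple]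
  constructor
  · rintro ⟨a, b, c, rfl⟩
    obtain ⟨a', rfl⟩ := (φ_bijective hF hω).2 a
    obtain ⟨b', rfl⟩ := (φ_bijective hF hω).2 b
    obtain ⟨c', rfl⟩ := (φ_bijective hF hω).2 c
    exact ⟨(a', b', c'), hexp _⟩
  · rintro ⟨n, rfl⟩
    exact ⟨_, _, _, (hexp n).symm⟩

variable [DecidableEq F]

theorem weight (hF : Fintype.card F = 4) (hω : ω ^ 2 + ω + 1 = 0) (n : Fin 4 × Fin 4 × Fin 4) :
    (univ.filter fun i => wordF F ω n i ≠ 0).card = (univ.filter fun i => wordT n i ≠ 0).card := by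
  refine congrArg card (filter_congr fun i _ => not_congr ?_)
  exact ⟨fun h => (φ_bijective hF hω).1 h, fun h => by rw [wordF, h]; rfl⟩

theorem wordF_injective (hF : Fintype.card F = 4) (hω : ω ^ 2 + ω + 1 = 0) :
    Function.Injective (wordF F ω) := by
  have key : ∀ a b : Fin 4 × Fin 4 × Fin 4, (∀ i, wordT a i = wordT b i) → a = b := by decide +kernel
  exact fun a b h => key a b fun i => (φ_bijective hF hω).1 (congrFun h i)

theorem card_code (hF : Fintype.card F = 4) (hω : ω ^ 2 + ω + 1 = 0) : Nat.card ↥(hexacode F ω) = 64 := by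
  rw [show Nat.card ↥(hexacode F ω) = (hexacode F ω : Set (Fin 6 → F)).ncard from Nat.card_coe_set_eq _,
    show (hexacode F ω : Set (Fin 6 → F)) = Set.range (wordF F ω) from Set.ext fun x => coe_hexacode hF hω x,
    ← Set.image_univ, Set.ncard_image_of_injective _ (wordF_injective hF hω), Set.ncard_univ]
  simp

theorem count (hF : Fintype.card F = 4) (hω : ω ^ 2 + ω + 1 = 0) (k : ℕ) :
    {x : Fin 6 → F | x ∈ hexacode F ω ∧ (univ.filter fun i => x i ≠ 0).card = k}.ncard =
      (univ.filter fun n : Fin 4 × Fin 4 × Fin 4 => (univ.filter fun i => wordT n i ≠ 0).card = k).card := by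
  rw [show {x : Fin 6 → F | x ∈ hexacode F ω ∧ (univ.filter fun i => x i ≠ 0).card = k} = wordF F ω ''
      ↑(univ.filter fun n : Fin 4 × Fin 4 × Fin 4 => (univ.filter fun i => wordT n i ≠ 0).card = k) from ?_,
    Set.ncard_image_of_injective _ (wordF_injective hF hω), Set.ncard_coe_finset]
  ext x
  simp only [coe_filter, mem_univ, true_and, Set.mem_ofPred_eq, Set.mem_image]
  constructor
  · rintro ⟨h, hk⟩
    obtain ⟨n, rfl⟩ := (coe_hexacode hF hω x).1 h
    exact ⟨n, (weight hF hω n).symm.trans hk, rfl⟩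
  · rintro ⟨n, hk, rfl⟩
    exact ⟨(coe_hexacode hF hω _).2 ⟨n, rfl⟩, (weight hF hω n).trans hk⟩

theorem weights (hF : Fintype.card F = 4) (hω : ω ^ 2 + ω + 1 = 0) {x : Fin 6 → F} (hx : x ∈ hexacode F ω)
    (h0 : x ≠ 0) : (univ.filter fun i => x i ≠ 0).card = 4 ∨ (univ.filter fun i => x i ≠ 0).card = 6 := by
  obtain ⟨n, rfl⟩ := (coe_hexacode hF hω x).1 hx
  have key : ∀ n, (∀ i, wordT n i = 0) ∨ (univ.filter fun i => wordT n i ≠ 0).card = 4 ∨
      (univ.filter fun i => wordT n i ≠ 0).card = 6 := by decide +kernel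
  rw [weight hF hω]
  exact (key n).resolve_left fun h => h0 (funext fun i => by rw [wordF, h i]; rfl)

end CfsgLib.Spor.Hexa
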