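/-
Monomial automorphisms of the hexacode.
-/
import Cfsg.Agent.Lib.Spor.Hexacode
import Mathlib.GroupTheory.Perm.Sign
import Mathlib.GroupTheory.SpecificGroups.Alternating

set_option autoImplicit false

namespace CfsgLib.Spor.HexaMon

open Cfsg CfsgLib.Spor.Hexa Equiv Equiv.Perm

/-- Linear combination coordinate in the model. -/
def comb (u v w : Fin 4) (x : Fin 6 → Fin 4) : Fin 4 :=
  addT (addT (mulT u (x 0)) (mulT v (x 1))) (mulT w (x 2))

/-- The coordinates of a word from its first three entries. -/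
def solve (x : Fin 6 → Fin 4) : Fin 4 × Fin 4 × Fin 4 := (comb 2 3 0 x, comb 3 3 1 x, comb 0 1 1 x)

/-- Membership in the code in the model. -/
def inC (x : Fin 6 → Fin 4) : Bool :=
  let n := solve x
  (List.finRange 6).all fun i => wordT n i == x i

theorem solve_word : ∀ n, solve (wordT n) = n := by decide +kernel

theorem gen_word : ∀ k, inC (gen k) = true := by decide +kernel

/-- A nonzero scalar of the model. -/
def nz (a : Fin 3) : Fin 4 := a.succ

/-- The test for a monomial map, given the inverse permutation as a function. -/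
def okM (si : Fin 6 → Fin 6) (c : Fin 6 → Fin 3) : Bool :=
  (List.finRange 3).all fun k => inC fun i => mulT (nz (c i)) (gen k (si i))

theorem diag_check : ∀ a b c d e f : Fin 3, okM id ![a, b, c, d, e, f] = true →
    a = b ∧ b = c ∧ c = d ∧ d = e ∧ e = f := by decide +kernel

theorem odd_check : ∀ a b c d e f : Fin 3, okM (swap (0 : Fin 6) 1) ![a, b, c, d, e, f] = false := by
  decide +kernel

theorem three_check :
    okM (⇑(swap (0 : Fin 6) 1 * swap (0 : Fin 6) 2)) ![0, 0, 0, 0, 2, 1] = true ∧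
    okM (⇑(swap (0 : Fin 6) 1 * swap (0 : Fin 6) 3)) ![0, 0, 0, 0, 1, 2] = true ∧
    okM (⇑(swap (0 : Fin 6) 1 * swap (0 : Fin 6) 4)) ![0, 0, 2, 1, 0, 0] = true ∧
    okM (⇑(swap (0 : Fin 6) 1 * swap (0 : Fin 6) 5)) ![0, 0, 1, 2, 0, 0] = true := by decide +kernel

theorem const_check : ∀ a : Fin 3, okM id (fun _ => a) = true := by decide +kernel

/-! ### Even permutations -/

theorem alternating_le {K : Subgroup (Equiv.Perm (Fin 6))}
    (h : ∀ k : Fin 6, k ≠ 0 → k ≠ 1 → swap 0 k * swap 0 1 ∈ K) : alternatingGroup (Fin 6) ≤ K := by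
  have h0 : ∀ k : Fin 6, k ≠ 0 → swap 0 k * swap 0 1 ∈ K ∧ swap 0 1 * swap 0 k ∈ K := by
    intro k hk
    have h1 : swap 0 k * swap 0 1 ∈ K := by
      rcases eq_or_ne k 1 with rfl | h1
      · rw [swap_mul_self]; exact K.one_mem
      · exact h k hk h1
    exact ⟨h1, by simpa [mul_inv_rev, swap_inv] using K.inv_mem h1⟩
  have hsw : ∀ a b : Fin 6, a ≠ b → swap a b * swap 0 1 ∈ K := by
    intro a b hab
    rcases eq_or_ne a 0 with rfl | ha
    · exact (h0 b hab.symm).1
    rcases eq_or_ne b 0 with rfl | hb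
    · rw [swap_comm]; exact (h0 a ha).1
    have e : swap a b = swap (0 : Fin 6) a * swap 0 b * swap 0 a := by
      have h := (swap_mul_swap_mul_swap (x := (0 : Fin 6)) (y := b) (z := a) hb.symm ha.symm)
      revert hab ha hb; clear h; revert a b; decide +kernel
    rw [e]
    have : swap (0 : Fin 6) a * swap 0 b * swap 0 a * swap 0 1 =
        (swap 0 a * swap 0 1) * (swap 0 1 * swap 0 b) * (swap 0 a * swap 0 1) := by
      simp [mul_assoc]
    rw [this]
    exact K.mul_mem (K.mul_mem (h0 a ha).1 (h0 b hb).2) (h0 a ha).1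
  have key : ∀ σ : Equiv.Perm (Fin 6), (sign σ = 1 → σ ∈ K) ∧ (sign σ = -1 → σ * swap 0 1 ∈ K) := by
    intro σ
    induction σ using Equiv.Perm.swap_induction_on' with
    | one => exact ⟨fun _ => K.one_mem, fun h => absurd h (by rw [map_one]; decide)⟩
    | mul_swap f x y hxy ih =>
      rw [map_mul, sign_swap hxy]
      rcases Int.units_eq_one_or (sign f) with hf | hf
      · rw [hf]
        refine ⟨fun h => absurd h (by decide), fun _ => ?_⟩
        rw [mul_assoc]
        exact K.mul_mem (ih.1 hf) (hsw x y hxy)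
      · rw [hf]
        refine ⟨fun _ => ?_, fun h => absurd h (by decide)⟩
        have e : f * swap x y = (f * swap 0 1) * (swap x y * swap 0 1)⁻¹ := by
          simp [mul_inv_rev, mul_assoc]
        rw [e]
        exact K.mul_mem (ih.2 hf) (K.inv_mem (hsw x y hxy))
  exact fun σ hσ => (key σ).1 (Equiv.Perm.mem_alternatingGroup.1 hσ)

/-! ### The field -/

variable {F : Type*} [Field F] {ω : F}

/-- A monomial pair preserving the hexacode. -/
def Pres (F : Type*) [Field F] (ω : F) (σ : Equiv.Perm (Fin 6)) (c : Fin 6 → Fˣ) : Prop :=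
  ∀ x ∈ Cfsg.hexacode F ω, Cfsg.monomialMap σ c x ∈ Cfsg.hexacode F ω

theorem pres_one : Pres F ω 1 1 := fun x hx => by
  have : Cfsg.monomialMap (1 : Equiv.Perm (Fin 6)) (1 : Fin 6 → Fˣ) x = x := by
    funext i; simp [Cfsg.monomialMap, Equiv.Perm.one_def]
  rw [this]; exact hx

theorem pres_mul {σ τ : Equiv.Perm (Fin 6)} {c d : Fin 6 → Fˣ} (h : Pres F ω σ c) (h' : Pres F ω τ d) :
    Pres F ω (σ * τ) fun i => c i * d (σ.symm i) := fun x hx => by
  have : Cfsg.monomialMap (σ * τ) (fun i => c i * d (σ.symm i)) x =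
      Cfsg.monomialMap σ c (Cfsg.monomialMap τ d x) := by
    funext i; simp [Cfsg.monomialMap, Equiv.Perm.mul_def, mul_assoc]
  rw [this]; exact h _ (h' x hx)

theorem pres_pow {σ : Equiv.Perm (Fin 6)} {c : Fin 6 → Fˣ} (h : Pres F ω σ c) : ∀ n : ℕ, ∃ d, Pres F ω (σ ^ n) d
  | 0 => ⟨1, by rw [pow_zero]; exact pres_one⟩
  | n + 1 => by
    obtain ⟨d, hd⟩ := pres_pow h n
    exact ⟨_, by rw [pow_succ]; exact pres_mul hd h⟩

/-- The permutation parts. -/
def parts (F : Type*) [Field F] (ω : F) : Subgroup (Equiv.Perm (Fin 6)) where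
  carrier := {σ | ∃ c, Pres F ω σ c}
  one_mem' := ⟨1, pres_one⟩
  mul_mem' := fun ⟨_, h⟩ ⟨_, h'⟩ => ⟨_, pres_mul h h'⟩
  inv_mem' := fun {σ} ⟨_, h⟩ => by
    obtain ⟨d, hd⟩ := pres_pow h (orderOf σ - 1)
    refine ⟨d, ?_⟩
    rwa [inv_eq_of_mul_eq_one_right (a := σ) (b := σ ^ (orderOf σ - 1)) (by
      rw [← pow_succ', Nat.sub_add_cancel (orderOf_pos σ), pow_orderOf_eq_one])]

variable [Fintype F]

theorem mem_iff (hF : Fintype.card F = 4) (hω : ω ^ 2 + ω + 1 = 0) (x : Fin 6 → Fin 4) :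
    (fun i => φ F ω (x i)) ∈ Cfsg.hexacode F ω ↔ inC x = true := by
  simp only [inC, List.all_eq_true, beq_iff_eq, List.mem_finRange, forall_const]
  rw [coe_hexacode hF hω]
  constructor
  · rintro ⟨n, hn⟩ i
    have : wordT n = x := funext fun j => (φ_bijective hF hω).1 (congrFun hn j)
    rw [← this, solve_word]
  · exact fun h => ⟨solve x, funext fun i => by rw [wordF, h i]⟩

/-- The unit attached to a model scalar. -/
noncomputable def unitOf (hF : Fintype.card F = 4) (hω : ω ^ 2 + ω + 1 = 0) (a : Fin 3) : Fˣ :=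
  Units.mk0 (φ F ω (nz a)) fun h => Fin.succ_ne_zero a
    ((φ_bijective hF hω).1 (show φ F ω (nz a) = φ F ω 0 by rw [h]; rfl))

theorem unitOf_bijective (hF : Fintype.card F = 4) (hω : ω ^ 2 + ω + 1 = 0) :
    Function.Bijective (unitOf hF hω) := by
  refine ⟨fun a b h => ?_, fun u => ?_⟩
  · exact Fin.succ_injective _ ((φ_bijective hF hω).1 (congrArg Units.val h))
  · obtain ⟨a, ha⟩ := (φ_bijective hF hω).2 (u : F)
    rcases eq_or_ne a 0 with rfl | ha0
    · exact absurd ha.symm u.ne_zero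
    · exact ⟨a.pred ha0, Units.ext (by rw [unitOf, Units.val_mk0, nz, Fin.succ_pred, ha])⟩

theorem exists_model (hF : Fintype.card F = 4) (hω : ω ^ 2 + ω + 1 = 0) (c : Fin 6 → Fˣ) :
    ∃ k : Fin 6 → Fin 3, c = fun i => unitOf hF hω (k i) := by
  choose k hk using fun i => (unitOf_bijective hF hω).2 (c i)
  exact ⟨k, funext fun i => (hk i).symm⟩

theorem gen_mem (hF : Fintype.card F = 4) (hω : ω ^ 2 + ω + 1 = 0) (k : Fin 3) :
    (fun i => φ F ω (gen k i)) ∈ Cfsg.hexacode F ω := (mem_iff hF hω _).2 (gen_word k)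

theorem pres_iff (hF : Fintype.card F = 4) (hω : ω ^ 2 + ω + 1 = 0) (σ : Equiv.Perm (Fin 6)) (k : Fin 6 → Fin 3) :
    Pres F ω σ (fun i => unitOf hF hω (k i)) ↔ okM σ.symm k = true := by
  have hval : ∀ j, Cfsg.monomialMap σ (fun i => unitOf hF hω (k i)) (fun i => φ F ω (gen j i)) =
      fun i => φ F ω (mulT (nz (k i)) (gen j (σ.symm i))) := fun j => funext fun i => by
    simp only [Cfsg.monomialMap, unitOf, Units.val_mk0, φ_mul hF hω]
  simp only [okM, List.all_eq_true, List.mem_finRange, forall_const]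
  constructor
  · intro h j
    exact (mem_iff hF hω _).1 (hval j ▸ h _ (gen_mem hF hω j))
  · intro h x hx
    obtain ⟨n, rfl⟩ := (coe_hexacode hF hω x).1 hx
    have hexp : Cfsg.monomialMap σ (fun i => unitOf hF hω (k i)) (wordF F ω n) =
        φ F ω n.1 • (fun i => φ F ω (mulT (nz (k i)) (gen 0 (σ.symm i)))) +
        φ F ω n.2.1 • (fun i => φ F ω (mulT (nz (k i)) (gen 1 (σ.symm i)))) +
        φ F ω n.2.2 • (fun i => φ F ω (mulT (nz (k i)) (gen 2 (σ.symm i)))) := funext fun i => by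
      simp only [Cfsg.monomialMap, unitOf, Units.val_mk0, wordF, wordT, φ_add hF, φ_mul hF hω, Pi.add_apply,
        Pi.smul_apply, smul_eq_mul]
      ring
    rw [hexp]
    exact Submodule.add_mem _ (Submodule.add_mem _ (Submodule.smul_mem _ _ ((mem_iff hF hω _).2 (h 0)))
      (Submodule.smul_mem _ _ ((mem_iff hF hω _).2 (h 1)))) (Submodule.smul_mem _ _ ((mem_iff hF hω _).2 (h 2)))

theorem eta_six (k : Fin 6 → Fin 3) : k = ![k 0, k 1, k 2, k 3, k 4, k 5] := by
  funext i; fin_cases i <;> rfl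

theorem diagonal (hF : Fintype.card F = 4) (hω : ω ^ 2 + ω + 1 = 0) {c : Fin 6 → Fˣ} (h : Pres F ω 1 c)
    (i j : Fin 6) : c i = c j := by
  obtain ⟨k, rfl⟩ := exists_model hF hω c
  have h' := (pres_iff hF hω 1 k).1 h
  rw [eta_six k] at h'
  obtain ⟨h1, h2, h3, h4, h5⟩ := diag_check _ _ _ _ _ _ h'
  have : ∀ i, k i = k 0 := by intro i; fin_cases i <;> simp_all
  show unitOf hF hω (k i) = unitOf hF hω (k j)
  rw [this i, this j]

theorem parts_eq (hF : Fintype.card F = 4) (hω : ω ^ 2 + ω + 1 = 0) :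
    parts F ω = alternatingGroup (Fin 6) := by
  have hle : alternatingGroup (Fin 6) ≤ parts F ω := by
    refine alternating_le fun k h0 h1 => ?_
    obtain ⟨e2, e3, e4, e5⟩ := three_check
    have hs : ∀ m : Fin 6, ((swap (0 : Fin 6) m * swap 0 1).symm : Fin 6 → Fin 6) = ⇑(swap (0 : Fin 6) 1 * swap 0 m) := by
      intro m; funext i; simp [Equiv.Perm.mul_def]
    have hk : k = 2 ∨ k = 3 ∨ k = 4 ∨ k = 5 := by revert h0 h1; revert k; decide +kernel
    rcases hk with rfl | rfl | rfl | rfl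
    · exact ⟨_, (pres_iff hF hω _ _).2 (by rw [hs]; exact e2)⟩
    · exact ⟨_, (pres_iff hF hω _ _).2 (by rw [hs]; exact e3)⟩
    · exact ⟨_, (pres_iff hF hω _ _).2 (by rw [hs]; exact e4)⟩
    · exact ⟨_, (pres_iff hF hω _ _).2 (by rw [hs]; exact e5)⟩
  refine le_antisymm (fun σ hσ => ?_) hle
  by_contra hodd
  rw [Equiv.Perm.mem_alternatingGroup] at hodd
  have hτ : σ * swap 0 1 ∈ alternatingGroup (Fin 6) := by
    rw [Equiv.Perm.mem_alternatingGroup, map_mul, sign_swap (by decide : (0 : Fin 6) ≠ 1),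
      (Int.units_eq_one_or (sign σ)).resolve_left hodd]
    rfl
  have hsw : swap (0 : Fin 6) 1 ∈ parts F ω := by
    simpa using (parts F ω).mul_mem ((parts F ω).inv_mem hσ) (hle hτ)
  obtain ⟨c, hc⟩ := hsw
  obtain ⟨k, rfl⟩ := exists_model hF hω c
  have h' := (pres_iff hF hω _ k).1 hc
  rw [eta_six k, Equiv.symm_swap, odd_check] at h'
  exact Bool.false_ne_true h'

theorem card_pres (hF : Fintype.card F = 4) (hω : ω ^ 2 + ω + 1 = 0) :
    Nat.card {f : Equiv.Perm (Fin 6) × (Fin 6 → Fˣ) // Pres F ω f.1 f.2} = 1080 := by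
  classical
  have hA : Nat.card (alternatingGroup (Fin 6)) = 360 := by
    haveI : Nontrivial (Fin 6) := inferInstance
    have h := two_mul_nat_card_alternatingGroup (α := Fin 6)
    rw [Nat.card_perm, Nat.card_fin, show Nat.factorial 6 = 720 by decide] at h
    omega
  have hU : Nat.card Fˣ = 3 := by
    rw [Nat.card_eq_fintype_card, Fintype.card_units, hF]
  have hp : ∀ σ : alternatingGroup (Fin 6), ∃ c, Pres F ω (σ : Equiv.Perm (Fin 6)) c := fun σ => by
    have h : (σ : Equiv.Perm (Fin 6)) ∈ parts F ω := by rw [parts_eq hF hω]; exact σ.2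
    exact h
  choose c hc using hp
  have hconst : ∀ u : Fˣ, Pres F ω 1 fun _ => u := fun u => by
    obtain ⟨a, rfl⟩ := (unitOf_bijective hF hω).2 u
    exact (pres_iff hF hω 1 fun _ => a).2 (const_check a)
  let f : alternatingGroup (Fin 6) × Fˣ → {f : Equiv.Perm (Fin 6) × (Fin 6 → Fˣ) // Pres F ω f.1 f.2} :=
    fun p => ⟨((p.1 : Equiv.Perm (Fin 6)), fun i => p.2 * c p.1 i), by
      have h := pres_mul (hconst p.2) (hc p.1)
      rw [one_mul] at h
      exact h⟩
  have hf : Function.Bijective f := by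
    constructor
    · intro p q h
      have h1 : p.1 = q.1 := Subtype.ext (congrArg (fun x => x.1.1) h)
      have h2 := congrFun (congrArg (fun x => x.1.2) h) 0
      simp only [f, h1] at h2
      exact Prod.ext h1 (mul_right_cancel h2)
    · rintro ⟨⟨σ, d⟩, hd⟩
      have hσ : σ ∈ alternatingGroup (Fin 6) := parts_eq hF hω ▸ (⟨d, hd⟩ : σ ∈ parts F ω)
      obtain ⟨e, he⟩ := (parts F ω).inv_mem (⟨c ⟨σ, hσ⟩, hc _⟩ : σ ∈ parts F ω)
      have h1 := pres_mul hd he
      have h2 := pres_mul (hc ⟨σ, hσ⟩) he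
      rw [mul_inv_cancel] at h1
      simp only [mul_inv_cancel] at h2
      refine ⟨(⟨σ, hσ⟩, d 0 * (c ⟨σ, hσ⟩ 0)⁻¹), Subtype.ext (Prod.ext rfl (funext fun i => ?_))⟩
      have a := diagonal hF hω h1 i 0
      have b := diagonal hF hω h2 i 0
      simp only at a b
      show d 0 * (c ⟨σ, hσ⟩ 0)⁻¹ * c ⟨σ, hσ⟩ i = d i
      have q1 : d 0 * (c ⟨σ, hσ⟩ 0)⁻¹ = d i * (c ⟨σ, hσ⟩ i)⁻¹ := by
        have hdiv := congrArg₂ (fun x y : Fˣ => x / y) a b
        simp only [mul_div_mul_right_eq_div] at hdiv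
        rw [← div_eq_mul_inv, ← div_eq_mul_inv]
        exact hdiv.symm
      rw [q1, inv_mul_cancel_right]
  rw [← Nat.card_eq_of_bijective f hf, Nat.card_prod, hA, hU]

end CfsgLib.Spor.HexaMon
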