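/-
Kernel-friendly model of the length-24 code `Cfsg.golayCode`: words and point sets are natural numbers below 2^24.
-/
import Cfsg.Prelude.Def_Sporadic_a

namespace CfsgLib.Spor

open Cfsg

/-- Index of a point: residues keep their value, the extra point gets 23. -/
def ptIdx : GolayPt → ℕ
  | none => 23
  | some x => x.val

/-- Inverse of `ptIdx` on numbers below 24. -/
def idxPt (i : ℕ) : GolayPt := if i < 23 then some (i : ZMod 23) else none

theorem ptIdx_lt : ∀ p : GolayPt, ptIdx p < 24 := by decide

theorem idxPt_ptIdx : ∀ p : GolayPt, idxPt (ptIdx p) = p := by decide +kernel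

theorem ptIdx_idxPt : ∀ i < 24, ptIdx (idxPt i) = i := by decide +kernel

theorem ptIdx_injective : Function.Injective ptIdx :=
  Function.LeftInverse.injective idxPt_ptIdx

/-- The number whose binary digits below `n` are given by `f`. -/
def maskFn (f : ℕ → Bool) : ℕ → ℕ
  | 0 => 0
  | n + 1 => if f n then 2 ^ n ||| maskFn f n else maskFn f n

theorem testBit_maskFn (f : ℕ → Bool) (n i : ℕ) :
    (maskFn f n).testBit i = (decide (i < n) && f i) := by
  induction n with
  | zero => simp [maskFn]
  | succ n ih =>
    rcases lt_trichotomy i n with h | rfl | h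
    · rw [maskFn]; split_ifs <;> simp [ih, h, Nat.testBit_two_pow, h.ne', Nat.lt_succ_of_lt h]
    · rw [maskFn]; split_ifs with hf <;> simp [ih, Nat.testBit_two_pow, hf]
    · rw [maskFn]; split_ifs <;>
        simp [ih, Nat.testBit_two_pow, h.ne, Nat.not_lt.2 h.le, Nat.not_lt.2 (Nat.succ_le_of_lt h)]

theorem maskFn_lt (f : ℕ → Bool) (n : ℕ) : maskFn f n < 2 ^ n := by
  induction n with
  | zero => simp [maskFn]
  | succ n ih =>
    have h2 : 2 ^ n < 2 ^ (n + 1) := Nat.pow_lt_pow_right (by norm_num) (Nat.lt_succ_self n)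
    rw [maskFn]; split_ifs
    · exact Nat.or_lt_two_pow h2 (ih.trans h2)
    · exact ih.trans h2

/-- All 24 points as a number. -/
def fullMask : ℕ := 16777215

/-- The word whose support is given by the binary digits of `m`. -/
def word (m : ℕ) : GolayPt → ZMod 2 := fun p => if m.testBit (ptIdx p) then 1 else 0

/-- The point set given by the binary digits of `m`. -/
def pts (m : ℕ) : Finset GolayPt := Finset.univ.filter fun p => m.testBit (ptIdx p)

/-- The number attached to a point set. -/
def maskPts (s : Finset GolayPt) : ℕ := maskFn (fun i => decide (idxPt i ∈ s)) 24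

/-- The number attached to a word. -/
def maskWord (w : GolayPt → ZMod 2) : ℕ := maskFn (fun i => decide (w (idxPt i) = 1)) 24

theorem mem_pts {m : ℕ} {p : GolayPt} : p ∈ pts m ↔ m.testBit (ptIdx p) = true := by
  simp [pts]

theorem testBit_maskPts (s : Finset GolayPt) (p : GolayPt) :
    (maskPts s).testBit (ptIdx p) = decide (p ∈ s) := by
  simp [maskPts, testBit_maskFn, ptIdx_lt, idxPt_ptIdx]

theorem pts_maskPts (s : Finset GolayPt) : pts (maskPts s) = s := by
  ext p; simp [mem_pts, testBit_maskPts]

theorem maskPts_lt (s : Finset GolayPt) : maskPts s < 2 ^ 24 := maskFn_lt _ _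

theorem maskWord_lt (w : GolayPt → ZMod 2) : maskWord w < 2 ^ 24 := maskFn_lt _ _

theorem eq_of_pts_eq {m n : ℕ} (hm : m < 2 ^ 24) (hn : n < 2 ^ 24) (h : pts m = pts n) : m = n := by
  apply Nat.eq_of_testBit_eq
  intro i
  by_cases hi : i < 24
  · have := Finset.ext_iff.1 h (idxPt i)
    rw [mem_pts, mem_pts, ptIdx_idxPt i hi] at this
    exact Bool.eq_iff_iff.2 this
  · have hp : 2 ^ 24 ≤ 2 ^ i := Nat.pow_le_pow_right (by norm_num) (Nat.not_lt.1 hi)
    rw [Nat.testBit_eq_false_of_lt (hm.trans_le hp), Nat.testBit_eq_false_of_lt (hn.trans_le hp)]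

theorem maskPts_pts {m : ℕ} (hm : m < 2 ^ 24) : maskPts (pts m) = m :=
  eq_of_pts_eq (maskPts_lt _) hm (pts_maskPts _)

theorem word_maskWord (w : GolayPt → ZMod 2) : word (maskWord w) = w := by
  funext p
  simp only [word, maskWord, testBit_maskFn, ptIdx_lt, idxPt_ptIdx, decide_true, Bool.true_and,
    decide_eq_true_eq]
  rcases (by decide +kernel : ∀ z : ZMod 2, z = 0 ∨ z = 1) (w p) with h | h <;> simp [h]

theorem support₂_word (m : ℕ) : support₂ (word m) = pts m := by
  ext p; simp [support₂, word, mem_pts]

theorem support₂_injective : Function.Injective (support₂ : (GolayPt → ZMod 2) → Finset GolayPt) := by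
  intro u v h
  funext p
  have := Finset.ext_iff.1 h p
  simp only [support₂, Finset.mem_filter, Finset.mem_univ, true_and] at this
  generalize u p = a, v p = b at this
  revert a b; decide

theorem word_xor (a b : ℕ) : word (a ^^^ b) = word a + word b := by
  funext p
  simp only [word, Pi.add_apply, Nat.testBit_xor]
  cases a.testBit (ptIdx p) <;> cases b.testBit (ptIdx p) <;> decide

theorem word_zero : word 0 = 0 := by
  funext p; simp [word]

/-- Number of nonzero binary digits below `n`. -/
def pop (n m : ℕ) : ℕ := (List.range n).countP fun i => m.testBit i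

theorem card_pts (m : ℕ) : (pts m).card = pop 24 m := by
  have h : pop 24 m = ((Finset.range 24).filter fun i => m.testBit i).card := by
    simp [pop, List.countP_eq_length_filter, Finset.card, Finset.filter, Finset.range, Multiset.range]
  rw [h]
  refine Finset.card_bij' (fun p _ => ptIdx p) (fun i _ => idxPt i) ?_ ?_ ?_ ?_
  · intro p hp; simpa [ptIdx_lt] using mem_pts.1 hp
  · intro i hi; rw [Finset.mem_filter, Finset.mem_range] at hi
    rw [mem_pts, ptIdx_idxPt i hi.1]; exact hi.2
  · intro p _; exact idxPt_ptIdx p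
  · intro i hi; rw [Finset.mem_filter, Finset.mem_range] at hi
    exact ptIdx_idxPt i hi.1

/-- The twelve rows of the systematic basis (row `j` meets the first twelve points in `j` only). -/
def rows : List ℕ :=
  [13062145, 4845570, 13938692, 7221256, 10170384, 11952160, 15515712, 2019456, 4038912, 8077824,
    11654144, 14919680]

/-- For each row, the generators of `golayCode` summing to it (23 stands for the all-ones word). -/
def rowGens : List (List ℕ) :=
  [[0, 3, 5, 7, 9, 10, 23], [3, 4, 8], [0, 3, 4, 7, 10, 23], [3, 4, 5, 6, 8, 10],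
    [1, 3, 4, 5, 7, 9, 10, 23], [0, 1, 2, 4, 7, 8, 9, 10, 23], [0, 2, 3, 6, 7, 8, 10, 23],
    [4, 6, 7, 8, 9, 10], [0, 1, 6, 8, 10], [0, 2, 5, 6], [0, 1, 5, 6, 9, 10, 23],
    [0, 2, 5, 9, 10, 23]]

/-- The `i`-th generator of `golayCode` as a number. -/
def genMask (i : ℕ) : ℕ := if i < 23 then maskWord (qrWord (i : ZMod 23)) else fullMask

theorem word_fullMask : word fullMask = 1 := by decide +kernel

theorem word_genMask_mem (i : ℕ) : word (genMask i) ∈ golayCode := by
  rw [genMask]; split_ifs with h
  · rw [word_maskWord]; exact Submodule.subset_span (Or.inl ⟨_, rfl⟩)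
  · rw [word_fullMask]; exact Submodule.subset_span (Or.inr rfl)

theorem word_xorFold_mem (l : List ℕ) (h : ∀ i ∈ l, word i ∈ golayCode) :
    word (l.foldr (· ^^^ ·) 0) ∈ golayCode := by
  induction l with
  | nil => simp [word_zero]
  | cons a l ih =>
    rw [List.foldr_cons, word_xor]
    exact add_mem (h a List.mem_cons_self) (ih fun i hi => h i (List.mem_cons_of_mem a hi))

theorem rows_eq : rowGens.map (fun l => (l.map genMask).foldr (· ^^^ ·) 0) = rows := by
  decide +kernel

theorem word_row_mem {r : ℕ} (hr : r ∈ rows) : word r ∈ golayCode := by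
  rw [← rows_eq] at hr
  obtain ⟨l, _, rfl⟩ := List.mem_map.1 hr
  apply word_xorFold_mem
  intro i hi
  obtain ⟨j, _, rfl⟩ := List.mem_map.1 hi
  exact word_genMask_mem j

/-- `row j` and the pivot `j`. -/
def pivRows : List (ℕ × ℕ) := (List.range 12).zip rows

/-- Inner product with the word of `m`. -/
def dotWord (m : ℕ) : (GolayPt → ZMod 2) →ₗ[ZMod 2] ZMod 2 :=
  ∑ p, word m p • LinearMap.proj p

theorem dotWord_apply (m : ℕ) (w : GolayPt → ZMod 2) : dotWord m w = ∑ p, word m p * w p := by
  simp [dotWord]

theorem dot_word_word (a b : ℕ) : dotWord a (word b) = (pop 24 (a &&& b) : ZMod 2) := by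
  rw [dotWord_apply, ← card_pts, pts]
  rw [Finset.card_filter, Nat.cast_sum]
  refine Finset.sum_congr rfl fun p _ => ?_
  simp only [word, Nat.testBit_and]
  cases a.testBit (ptIdx p) <;> cases b.testBit (ptIdx p) <;> simp

/-- Whether the word of `m` is in the code: parity checks against the rows. -/
def codeTest (m : ℕ) : Bool := rows.all fun r => pop 24 (r &&& m) % 2 == 0

theorem codeTest_iff_dot (m : ℕ) : codeTest m = true ↔ ∀ r ∈ rows, dotWord r (word m) = 0 := by
  simp [codeTest, List.all_eq_true, dot_word_word, ZMod.natCast_eq_zero_iff_even,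
    Nat.even_iff]

theorem codeTest_genMask : (List.range 24).all (fun i => codeTest (genMask i)) = true := by
  decide +kernel

theorem dotWord_eq_zero {r : ℕ} (hr : r ∈ rows) {w : GolayPt → ZMod 2} (hw : w ∈ golayCode) :
    dotWord r w = 0 := by
  have hgen : ∀ i < 24, dotWord r (word (genMask i)) = 0 := fun i hi =>
    (codeTest_iff_dot _).1 (List.all_eq_true.1 codeTest_genMask i (List.mem_range.2 hi)) r hr
  refine (Submodule.span_le.2 ?_ : golayCode ≤ LinearMap.ker (dotWord r)) hw
  rintro x (⟨t, rfl⟩ | hx)
  · have := hgen t.val (t.val_lt.trans (by norm_num))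
    rw [genMask, if_pos t.val_lt, word_maskWord, ZMod.natCast_zmod_val] at this
    exact this
  · have := hgen 23 (by norm_num)
    rw [genMask, if_neg (lt_irrefl 23), word_fullMask] at this
    rw [Set.mem_singleton_iff.1 hx]; exact this

/-- `w ↦ Σ_j w(pivot j) • row j + Σ_j (row j · w) • (row j + e_(pivot j))`; it is the identity. -/
def decompose : List (ℕ × ℕ) → ((GolayPt → ZMod 2) →ₗ[ZMod 2] (GolayPt → ZMod 2))
  | [] => 0
  | pr :: l => (LinearMap.proj (idxPt pr.1)).smulRight (word pr.2) +
      (dotWord pr.2).smulRight (word (pr.2 ^^^ 2 ^ pr.1)) + decompose l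

/-- The `decompose` identity on unit vectors, in numbers. -/
def decomposeMask (i : ℕ) : List (ℕ × ℕ) → ℕ
  | [] => 0
  | pr :: l => (if pr.1 = i then pr.2 else 0) ^^^
      (if pr.2.testBit i then pr.2 ^^^ 2 ^ pr.1 else 0) ^^^ decomposeMask i l

theorem decompose_single (p : GolayPt) :
    ∀ l : List (ℕ × ℕ), (∀ pr ∈ l, pr.1 < 24) →
      decompose l (Pi.single p 1) = word (decomposeMask (ptIdx p) l)
  | [], _ => by simp [decompose, decomposeMask, word_zero]
  | (j, r) :: l, h => by
    have hj : j < 24 := h (j, r) List.mem_cons_self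
    have ih := decompose_single p l fun pr hpr => h pr (List.mem_cons_of_mem _ hpr)
    have e1 : (idxPt j = p) = (j = ptIdx p) := by
      apply propext; constructor
      · rintro rfl; exact (ptIdx_idxPt j hj).symm
      · rintro rfl; exact idxPt_ptIdx p
    simp only [decompose, decomposeMask, LinearMap.add_apply, LinearMap.smulRight_apply,
      LinearMap.proj_apply, word_xor, ih, dotWord_apply, Pi.single_apply, e1,
      mul_ite, mul_one, mul_zero, Finset.sum_ite_eq', Finset.mem_univ, if_true]
    congr 2
    · split_ifs <;> simp [word_zero]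
    · by_cases hb : r.testBit (ptIdx p) <;> simp [word, hb, word_zero, word_xor]

theorem decomposeMask_pivRows :
    (List.range 24).all (fun i => decomposeMask i pivRows == 2 ^ i) = true := by decide +kernel

theorem pivRows_lt : ∀ pr ∈ pivRows, pr.1 < 24 := by decide +kernel

theorem decompose_pivRows : decompose pivRows = LinearMap.id := by
  apply LinearMap.pi_ext'
  intro p
  ext1
  simp only [LinearMap.comp_apply, LinearMap.single_apply, LinearMap.id_apply]
  rw [decompose_single p pivRows pivRows_lt]
  have := List.all_eq_true.1 decomposeMask_pivRows (ptIdx p) (List.mem_range.2 (ptIdx_lt p))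
  rw [beq_iff_eq] at this
  rw [this]
  funext q
  simp [word, Nat.testBit_two_pow, Pi.single_apply, ptIdx_injective.eq_iff, eq_comm]

/-- All sums of sublists of a list of numbers. -/
def spanList : List ℕ → List ℕ
  | [] => [0]
  | r :: l => let s := spanList l; s ++ s.map (r ^^^ ·)

/-- The 4096 code words as numbers. -/
def codeList : List ℕ := spanList rows

theorem spanList_spec : ∀ l : List ℕ, (∀ r ∈ l, r < 2 ^ 24 ∧ word r ∈ golayCode) →
    ∀ m ∈ spanList l, m < 2 ^ 24 ∧ word m ∈ golayCode
  | [], _, m, hm => by simp [spanList] at hm; simp [hm, word_zero]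
  | r :: l, h, m, hm => by
    have ih := spanList_spec l fun r' hr' => h r' (List.mem_cons_of_mem r hr')
    simp only [spanList, List.mem_append, List.mem_map] at hm
    rcases hm with hm | ⟨a, ha, rfl⟩
    · exact ih m hm
    · refine ⟨Nat.xor_lt_two_pow (h r List.mem_cons_self).1 (ih a ha).1, ?_⟩
      rw [word_xor]; exact add_mem (h r List.mem_cons_self).2 (ih a ha).2

theorem rows_lt : ∀ r ∈ rows, r < 2 ^ 24 := by decide +kernel

theorem codeList_spec {m : ℕ} (hm : m ∈ codeList) : m < 2 ^ 24 ∧ word m ∈ golayCode :=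
  spanList_spec rows (fun r hr => ⟨rows_lt r hr, word_row_mem hr⟩) m hm

theorem decompose_mem_span (w : GolayPt → ZMod 2) :
    ∀ l : List (ℕ × ℕ), (∀ pr ∈ l, dotWord pr.2 w = 0) →
      ∃ m ∈ spanList (l.map Prod.snd), word m = decompose l w
  | [], _ => ⟨0, by simp [spanList], by simp [decompose, word_zero]⟩
  | (j, r) :: l, h => by
    obtain ⟨m, hm, e⟩ := decompose_mem_span w l fun pr hpr => h pr (List.mem_cons_of_mem _ hpr)
    have h0 : dotWord r w = 0 := h (j, r) List.mem_cons_self
    rcases (by decide +kernel : ∀ z : ZMod 2, z = 0 ∨ z = 1) (w (idxPt j)) with hz | hz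
    · exact ⟨m, by simp [spanList, hm], by simp [decompose, hz, h0, e]⟩
    · exact ⟨r ^^^ m, by simp [spanList, hm], by simp [decompose, hz, h0, e, word_xor]⟩

theorem exists_codeList_of_dot {w : GolayPt → ZMod 2} (h : ∀ r ∈ rows, dotWord r w = 0) :
    ∃ m ∈ codeList, word m = w := by
  have hs : pivRows.map Prod.snd = rows := by decide +kernel
  obtain ⟨m, hm, e⟩ := decompose_mem_span w pivRows fun pr hpr =>
    h pr.2 (hs ▸ List.mem_map.2 ⟨pr, hpr, rfl⟩)
  rw [hs] at hm
  exact ⟨m, hm, by rw [e, decompose_pivRows]; rfl⟩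

theorem mem_golayCode_iff {w : GolayPt → ZMod 2} :
    w ∈ golayCode ↔ ∀ r ∈ rows, dotWord r w = 0 := by
  refine ⟨fun hw r hr => dotWord_eq_zero hr hw, fun h => ?_⟩
  obtain ⟨m, hm, rfl⟩ := exists_codeList_of_dot h
  exact (codeList_spec hm).2

theorem word_mem_golayCode_iff (m : ℕ) : word m ∈ golayCode ↔ codeTest m = true := by
  rw [mem_golayCode_iff, codeTest_iff_dot]

theorem exists_codeList {w : GolayPt → ZMod 2} (hw : w ∈ golayCode) :
    ∃ m ∈ codeList, word m = w :=
  exists_codeList_of_dot (mem_golayCode_iff.1 hw)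

theorem golayCode_self_orthogonal {v w : GolayPt → ZMod 2} (hv : v ∈ golayCode) (hw : w ∈ golayCode) :
    ∑ p, v p * w p = 0 := by
  obtain ⟨m, hm, rfl⟩ := exists_codeList hv
  have : ∀ l : List ℕ, (∀ r ∈ l, dotWord r w = 0) → ∀ m ∈ spanList l, dotWord m w = 0 := by
    intro l
    induction l with
    | nil => intro _ m hm; simp [spanList] at hm; simp [hm, dotWord_apply, word_zero]
    | cons r l ih =>
      intro h m hm
      have ih' := ih fun r' hr' => h r' (List.mem_cons_of_mem r hr')
      simp only [spanList, List.mem_append, List.mem_map] at hm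
      rcases hm with hm | ⟨a, ha, rfl⟩
      · exact ih' m hm
      · have h1 := h r List.mem_cons_self
        have h2 := ih' a ha
        simp only [dotWord_apply, word_xor, Pi.add_apply, add_mul, Finset.sum_add_distrib] at *
        rw [h1, h2, add_zero]
  rw [← dotWord_apply]
  exact this rows (mem_golayCode_iff.1 hw) m hm

theorem mem_supports_iff (s : Finset GolayPt) :
    s ∈ supports (golayCode : Set (GolayPt → ZMod 2)) ↔ maskPts s ∈ codeList := by
  constructor
  · rintro ⟨w, hw, rfl⟩
    obtain ⟨m, hm, rfl⟩ := exists_codeList hw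
    rwa [support₂_word, maskPts_pts (codeList_spec hm).1]
  · intro h
    exact ⟨word (maskPts s), (codeList_spec h).2, by rw [support₂_word, pts_maskPts]⟩

theorem mem_supports_iff_codeTest (s : Finset GolayPt) :
    s ∈ supports (golayCode : Set (GolayPt → ZMod 2)) ↔ codeTest (maskPts s) = true := by
  rw [← word_mem_golayCode_iff]
  constructor
  · rintro ⟨w, hw, rfl⟩
    have e : word (maskPts (support₂ w)) = w :=
      support₂_injective (by rw [support₂_word, pts_maskPts])
    rw [e]; exact hw
  · exact fun h => ⟨word (maskPts s), h, by rw [support₂_word, pts_maskPts]⟩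

theorem pts_mem_supports {m : ℕ} (hm : m ∈ codeList) :
    pts m ∈ supports (golayCode : Set (GolayPt → ZMod 2)) :=
  ⟨word m, (codeList_spec hm).2, support₂_word m⟩

theorem wordsOfWeight_eq (n : ℕ) :
    wordsOfWeight (golayCode : Set (GolayPt → ZMod 2)) n =
      ↑((codeList.filter fun m => pop 24 m == n).toFinset.image pts) := by
  ext b
  simp only [wordsOfWeight, Set.mem_ofPred_eq, Finset.coe_image, Set.mem_image, List.coe_toFinset,
    List.mem_filter, beq_iff_eq]
  constructor
  · rintro ⟨hb, rfl⟩
    refine ⟨maskPts b, ⟨(mem_supports_iff b).1 hb, ?_⟩, pts_maskPts b⟩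
    rw [← card_pts, pts_maskPts]
  · rintro ⟨m, ⟨hm, rfl⟩, rfl⟩
    exact ⟨pts_mem_supports hm, card_pts m⟩

theorem codeList_nodup : codeList.Nodup := by
  have h : ∀ l : List (ℕ × ℕ), (∀ pr ∈ l, pr.2.testBit pr.1 = true ∧
      ∀ pr' ∈ l, pr' ≠ pr → pr'.2.testBit pr.1 = false) → l.Nodup →
      (spanList (l.map Prod.snd)).Nodup ∧
      ∀ j, (∀ pr ∈ l, pr.2.testBit j = false) → ∀ m ∈ spanList (l.map Prod.snd), m.testBit j = false := by
    intro l
    induction l with
    | nil => intro _ _; refine ⟨by simp [spanList], fun j _ m hm => ?_⟩; simp [spanList] at hm; simp [hm]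
    | cons a l ih =>
      intro h hn
      rw [List.nodup_cons] at hn
      obtain ⟨ih1, ih2⟩ := ih (fun pr hpr => ⟨(h pr (List.mem_cons_of_mem a hpr)).1,
        fun pr' hpr' => (h pr (List.mem_cons_of_mem a hpr)).2 pr' (List.mem_cons_of_mem a hpr')⟩) hn.2
      have hz : ∀ m ∈ spanList (l.map Prod.snd), m.testBit a.1 = false :=
        ih2 a.1 fun pr hpr => (h a List.mem_cons_self).2 pr (List.mem_cons_of_mem a hpr)
          fun e => hn.1 (e ▸ hpr)
      refine ⟨?_, fun j hj m hm => ?_⟩
      · simp only [List.map_cons, spanList]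
        refine List.nodup_append'.2 ⟨ih1, ih1.map fun x y e => Nat.xor_right_injective e, ?_⟩
        intro m hm hm'
        obtain ⟨b, hb, rfl⟩ := List.mem_map.1 hm'
        have := hz _ hm
        simp [hz b hb, (h a List.mem_cons_self).1] at this
      · simp only [List.map_cons, spanList, List.mem_append, List.mem_map] at hm
        rcases hm with hm | ⟨b, hb, rfl⟩
        · exact ih2 j (fun pr hpr => hj pr (List.mem_cons_of_mem a hpr)) m
            (by simpa using hm)
        · simp [ih2 j (fun pr hpr => hj pr (List.mem_cons_of_mem a hpr)) b (by simpa using hb),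
            hj a List.mem_cons_self]
  have hs : pivRows.map Prod.snd = rows := by decide +kernel
  have h1 := (h pivRows (by decide +kernel) (by decide +kernel)).1
  rwa [hs] at h1

theorem ncard_wordsOfWeight (n : ℕ) :
    (wordsOfWeight (golayCode : Set (GolayPt → ZMod 2)) n).ncard =
      (codeList.filter fun m => pop 24 m == n).length := by
  rw [wordsOfWeight_eq, Set.ncard_coe_finset, Finset.card_image_of_injOn,
    List.toFinset_card_of_nodup (codeList_nodup.filter _)]
  intro a ha b hb e
  simp only [List.coe_toFinset, Set.mem_ofPred_eq, List.mem_filter] at ha hb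
  exact eq_of_pts_eq (codeList_spec ha.1).1 (codeList_spec hb.1).1 e

theorem codeList_weights :
    codeList.all (fun m => [0, 8, 12, 16, 24].contains (pop 24 m)) = true := by decide +kernel

theorem card_of_mem_supports {s : Finset GolayPt}
    (h : s ∈ supports (golayCode : Set (GolayPt → ZMod 2))) :
    s.card = 0 ∨ s.card = 8 ∨ s.card = 12 ∨ s.card = 16 ∨ s.card = 24 := by
  have h' := List.all_eq_true.1 codeList_weights _ ((mem_supports_iff s).1 h)
  rw [← card_pts, pts_maskPts] at h'
  simpa using h'

theorem octad_eq_of_five {o o' : Finset GolayPt} (ho : o ∈ octads) (ho' : o' ∈ octads)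
    (h : 5 ≤ (o ∩ o').card) : o = o' := by
  obtain ⟨⟨u, hu, rfl⟩, hc⟩ := ho
  obtain ⟨⟨v, hv, rfl⟩, hc'⟩ := ho'
  have hs : support₂ (u + v) = symmDiff (support₂ u) (support₂ v) := by
    ext p
    simp only [support₂, Finset.mem_symmDiff, Finset.mem_filter, Finset.mem_univ, true_and,
      Pi.add_apply]
    generalize u p = a, v p = b
    revert a b; decide
  have hm := card_of_mem_supports ⟨u + v, add_mem hu hv, rfl⟩
  rw [hs] at hm
  have e : (symmDiff (support₂ u) (support₂ v)).card + 2 * (support₂ u ∩ support₂ v).card = 16 := by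
    have h1 := Finset.card_sdiff_add_card_inter (support₂ u) (support₂ v)
    have h2 := Finset.card_sdiff_add_card_inter (support₂ v) (support₂ u)
    rw [Finset.inter_comm] at h2
    have h3 : (symmDiff (support₂ u) (support₂ v)).card =
        (support₂ u \ support₂ v).card + (support₂ v \ support₂ u).card :=
      Finset.card_union_of_disjoint disjoint_sdiff_sdiff
    omega
  have h0 : (symmDiff (support₂ u) (support₂ v)).card = 0 := by omega
  rw [Finset.card_eq_zero] at h0
  exact symmDiff_eq_bot.1 (by simpa using h0)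

end CfsgLib.Spor
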