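/-
`Cfsg.M24` through packed permutations (five binary digits per image): membership test, a verified stabilizer
chain, the order, five-transitivity, and the decomposition of its elements along the chain.
-/
import Cfsg.Agent.Lib.Spor.GolayBasic

namespace CfsgLib.Spor

open Cfsg
open scoped Pointwise

/-! ### Data -/

def basePts : List ℕ := [23, 0, 1, 2, 3, 4, 5]

def levels : List (List ℕ) := [
  [18443657130655713080235720310038853, 70798448544161049448138203972738443, 100543240046349804598823482974504177, 144776317272452463660703615035875629, 184842617708040261585352884140416042, 236669938751607359072746832311895432, 276816312726899775825640776374010154, 315662927771441532375912994453490976, 353670228125410288039748353783137671, 382302031441082427156205989647430677, 436243787892899323970936381386153160, 466265282424713408741596156199518643, 502888737861430244729662684601352804, 566752975080720167000863281114710123, 608284755755235318706597485810670007, 640330197257025280628293169565565546, 679445842233972717219689991287037098, 710398092780262419831730328016339172, 756018156754905270267525736363150884,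 818236224536441262523317008368065935, 849430466357257999592655099384742006, 882869404782475991102902039533423954, 929845299361323741840346612286241796, 984818244535754528103549039458486304],
  [984818244535754528103549039458486304, 966320525452525976528824258081278497, 963865762392071397000440235002607650, 976316960961982021579328304245153155, 967353773476220691896094224304258564, 977863438689657147043272208375481413, 980762905923592102415168848711263814, 984410730595273362947599518361802247, 958206160778296645956695076250039848, 971306436619361610225967042137182697, 984635221869229349227314189015075338, 964689836724580759822425487602698539, 972995774861329614099124991623005740, 980941399474806231517021306183104525, 976785753633393307775986914713785518, 966428382985519933677850842757248463, 973777868917889366639298320324281744, 983471474324392686011615050344141937, 967925444935766449383540034642517618, 966076764027469841799289526701603123, 971095401860196066478724309645047028, 960911105014812914519910084451502421, 970376528677253943926236478208788726],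
  [984818244535754528103549039458486304, 979406127546954064472108661732969536, 961040365800507127670078335831627872, 958514003046972185944540219199661184, 978067364561841195374849757549307040, 982138172089052210691822206608421056, 957027029848813135324073386658943200, 978878948733303658852586261628519680, 966322906588027716923009321186874656, 972325586115739221065417273082225984, 981604076634736607234258348568449376, 957269051433009097892659915956403584, 967553480772870609904207742955164064, 972312219780997940512312180089427392, 984516541829861881360926572171923936, 957218637202174349130577184137357824, 977054559932344550151593036432741920, 982770984933398396645644298384419392, 963522565915327282213397630095538784, 978306169503741871165626954455194240, 964677764836368757597778619308261024, 957546831613642834904012259044996800],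
  [984818244535754528103549039458486304, 971634276858824201555964166036327456, 976614033393367427702127436248846368, 969836990092864160844784916676351008, 960876712068172969761991314455566368, 971622853410136150404455488998775840, 971507382333767606184253027712966688, 958197648733852205609406262905250848, 958737673665584077545624744857315360, 962202045336409287305040623467473952, 976341056328761358538396575666188320, 979649420027597132162419766341055520, 972714579227042247338050242602514464, 968582953220816220682474259189480480, 980184583779956700043102643729842208, 973125302396616786144685540391437344, 958875813528164706416642740813187104, 962200407850115911199612026189499424, 958469873185687410210736252710572064, 959828634779935706471381502768993312, 977583589199041523293229270211581984],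
  [984818244535754528103549039458486304, 983235570216166652290625956618569760, 984202951082164080105044112956360736, 968706071231490545334335149566003232, 962214477801388378070864631668377632, 973937629044781277800407686526011424, 965204860792524371368916767272634400, 961437165905032858174943321212127264, 968667844843050810684516515685173280, 976373774844191796785691538093377568, 963318691786004865387742574998358048, 976622437190422540035105018050185248, 984433695522452451222587287024404512, 962654717146601952860492594140416032, 968815149237215509205433714562598944, 967214176195332514964401156017162272, 976378136051418368472701376965216288, 966425647892489819352596262614075424, 959899622787013919534102911026628640, 971089022632499903566407712365021216],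
  [984818244535754528103549039458486304, 983141956895601025126892051911247904, 980504394422866046962412236452235296, 969836898326968551397880902883313696, 975728708050008715525885598301784096, 982125237077252311731715764534741024, 971592882964418941354553515258775584, 979416905286026856737440949975746592, 961029066359601346093702817927759904, 981818691054096003685363657089320992, 972512676110088067912772961567868960, 970452748381697609285226999098476576, 983548720921252936276249910206105632, 968621477650857569167789942210922528, 964862721552653238424309835408443424, 961365507626256404119956257276790816],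
  [984818244535754528103549039458486304, 976531636853126291160407323722221600, 972606645568131968584696805283956768]]

def baseOctad : ℕ := 8536111

def fixSteps : List (ℕ × List ℕ) := [
  (6, [2162811, 8391797]),
  (7, [5279, 262637]),
  (8, [10558, 262637]),
  (9, [18147, 21116, 99029]),
  (10, [5279, 18147]),
  (11, [10558, 36294]),
  (12, [5279]),
  (13, [10558]),
  (14, [18147]),
  (15, [36294]),
  (16, [69395]),
  (17, [133817]),
  (18, [262637]),
  (19, [525274]),
  (20, [1050548]),
  (21, [2101096]),
  (22, [])]

def allowed : List ℕ := [16777215, 8388607, 8388606, 8388604, 8388600, 8241104, 147488]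

def shiftCode : ℕ := 956302485175575353788796878166559809

def projInvCode : ℕ := 1795248432537898728475572672376535

def cubeTwistCode : ℕ := 974380510768821363662145534143076928

def mulTwoCode : ℕ := 983435072843990828779021698901151808

/-! ### Packed permutations -/

/-- Image of `i` under a packed permutation. -/
def permFn (P i : ℕ) : ℕ := (P >>> (5 * i)) &&& 31

/-- Image of a mask under a packed permutation, looking at the first `n` digits. -/
def permMaskN (P m : ℕ) : ℕ → ℕ
  | 0 => 0
  | n + 1 => if m.testBit n then 2 ^ permFn P n ||| permMaskN P m n else permMaskN P m n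

/-- Image of a mask under a packed permutation. -/
def permMask (P m : ℕ) : ℕ := permMaskN P m 24

theorem testBit_permMaskN (P m : ℕ) : ∀ n j, (permMaskN P m n).testBit j = true ↔
    ∃ i < n, m.testBit i = true ∧ permFn P i = j
  | 0, j => by simp [permMaskN]
  | n + 1, j => by
    have ih := testBit_permMaskN P m n j
    rw [permMaskN]
    constructor
    · intro h
      by_cases hn : m.testBit n = true
      · rw [if_pos hn, Nat.testBit_or, Bool.or_eq_true] at h
        rcases h with h | h
        · exact ⟨n, Nat.lt_succ_self n, hn, by simpa [Nat.testBit_two_pow] using h⟩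
        · obtain ⟨i, hi, hi'⟩ := ih.1 h; exact ⟨i, Nat.lt_succ_of_lt hi, hi'⟩
      · rw [if_neg hn] at h
        obtain ⟨i, hi, hi'⟩ := ih.1 h; exact ⟨i, Nat.lt_succ_of_lt hi, hi'⟩
    · rintro ⟨i, hi, hb, rfl⟩
      rcases Nat.lt_succ_iff_lt_or_eq.1 hi with h | rfl
      · have := ih.2 ⟨i, h, hb, rfl⟩
        split_ifs <;> simp [this]
      · simp [hb, Nat.testBit_two_pow]

/-- Whether a packed number is a permutation of the 24 indices. -/
def isPermCode (P : ℕ) : Bool :=
  ((List.range 24).all fun i => decide (permFn P i < 24)) && (permMask P fullMask == fullMask)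

/-- The map on points given by a packed number. -/
def fnPt (P : ℕ) (p : GolayPt) : GolayPt := idxPt (permFn P (ptIdx p))

open Classical in
/-- The permutation of points given by a packed number (identity if the number is not one). -/
noncomputable def permOf (P : ℕ) : Equiv.Perm GolayPt :=
  if h : Function.Bijective (fnPt P) then Equiv.ofBijective _ h else 1

theorem fullMask_testBit : ∀ i < 24, fullMask.testBit i = true := by decide +kernel

theorem fnPt_bijective {P : ℕ} (h : isPermCode P = true) : Function.Bijective (fnPt P) := by
  simp only [isPermCode, Bool.and_eq_true, List.all_eq_true, List.mem_range, decide_eq_true_eq,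
    beq_iff_eq] at h
  have hs : Function.Surjective (fnPt P) := by
    intro q
    have h2 := fullMask_testBit (ptIdx q) (ptIdx_lt q)
    rw [← h.2, permMask, testBit_permMaskN] at h2
    obtain ⟨i, hi, -, e⟩ := h2
    exact ⟨idxPt i, by rw [fnPt, ptIdx_idxPt i hi, e, idxPt_ptIdx]⟩
  exact hs.bijective_of_finite

theorem permOf_apply {P : ℕ} (h : isPermCode P = true) (p : GolayPt) :
    permOf P p = idxPt (permFn P (ptIdx p)) := by
  rw [permOf, dif_pos (fnPt_bijective h)]; rfl

theorem permFn_lt {P : ℕ} (h : isPermCode P = true) {i : ℕ} (hi : i < 24) : permFn P i < 24 := by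
  simp only [isPermCode, Bool.and_eq_true, List.all_eq_true, List.mem_range, decide_eq_true_eq] at h
  exact h.1 i hi

theorem permOf_idxPt {P : ℕ} (h : isPermCode P = true) {i : ℕ} (hi : i < 24) :
    permOf P (idxPt i) = idxPt (permFn P i) := by
  rw [permOf_apply h, ptIdx_idxPt i hi]

theorem permMask_lt {P : ℕ} (h : isPermCode P = true) (m : ℕ) : permMask P m < 2 ^ 24 := by
  apply Nat.lt_pow_two_of_testBit
  intro i hi
  by_contra hc
  obtain ⟨j, hj, -, e⟩ := (testBit_permMaskN P m 24 i).1 (by simpa [permMask] using hc)
  have := permFn_lt h hj; omega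

theorem smul_pts {P : ℕ} (h : isPermCode P = true) (m : ℕ) :
    permOf P • pts m = pts (permMask P m) := by
  ext q
  rw [Finset.smul_finset_def, Finset.mem_image, mem_pts, permMask, testBit_permMaskN]
  constructor
  · rintro ⟨p, hp, rfl⟩
    refine ⟨ptIdx p, ptIdx_lt p, mem_pts.1 hp, ?_⟩
    rw [Equiv.Perm.smul_def, permOf_apply h, ptIdx_idxPt _ (permFn_lt h (ptIdx_lt p))]
  · rintro ⟨i, hi, hb, e⟩
    refine ⟨idxPt i, by rw [mem_pts, ptIdx_idxPt i hi]; exact hb, ?_⟩
    rw [Equiv.Perm.smul_def, permOf_idxPt h hi, e, idxPt_ptIdx]

/-! ### Membership in `M24` -/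

theorem smul_support₂ (σ : Equiv.Perm GolayPt) (w : GolayPt → ZMod 2) :
    σ • support₂ w = support₂ (fun p => w (σ.symm p)) := by
  ext q
  simp only [support₂, Finset.smul_finset_def, Finset.mem_image, Finset.mem_filter, Finset.mem_univ,
    true_and, Equiv.Perm.smul_def]
  constructor
  · rintro ⟨p, hp, rfl⟩; simpa using hp
  · intro hq; exact ⟨σ.symm q, hq, by simp⟩

theorem mem_M24_of_rows (σ : Equiv.Perm GolayPt)
    (h : ∀ r ∈ rows, σ • pts r ∈ supports (golayCode : Set (GolayPt → ZMod 2))) : σ ∈ M24 := by
  let S : Submodule (ZMod 2) (GolayPt → ZMod 2) :=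
    golayCode.comap (LinearMap.funLeft (ZMod 2) (ZMod 2) σ.symm)
  have hrows : ∀ r ∈ rows, word r ∈ S := by
    intro r hr
    obtain ⟨u, hu, e⟩ := h r hr
    rw [← support₂_word, smul_support₂] at e
    show (fun p => word r (σ.symm p)) ∈ golayCode
    rw [← support₂_injective e]; exact hu
  have hC : ∀ w ∈ golayCode, w ∈ S := by
    intro w hw
    obtain ⟨m, hm, rfl⟩ := exists_codeList hw
    have : ∀ l : List ℕ, (∀ r ∈ l, word r ∈ S) → ∀ m ∈ spanList l, word m ∈ S := by
      intro l
      induction l with
      | nil => intro _ m hm; simp [spanList] at hm; simp [hm, word_zero]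
      | cons r l ih =>
        intro h m hm
        have ih' := ih fun r' hr' => h r' (List.mem_cons_of_mem r hr')
        simp only [spanList, List.mem_append, List.mem_map] at hm
        rcases hm with hm | ⟨a, ha, rfl⟩
        · exact ih' m hm
        · rw [word_xor]; exact add_mem (h r List.mem_cons_self) (ih' a ha)
    exact this rows hrows m hm
  rw [MulAction.mem_stabilizer_iff]
  have hsub : σ • supports (golayCode : Set (GolayPt → ZMod 2)) ⊆ supports golayCode := by
    rintro _ ⟨_, ⟨w, hw, rfl⟩, rfl⟩
    exact ⟨_, hC w hw, (smul_support₂ σ w).symm⟩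
  exact Set.eq_of_subset_of_ncard_le hsub (le_of_eq (Set.ncard_smul_set σ _).symm) (Set.toFinite _)

theorem smul_mem_supports {σ : Equiv.Perm GolayPt} (hσ : σ ∈ M24) {s : Finset GolayPt}
    (hs : s ∈ supports (golayCode : Set (GolayPt → ZMod 2))) :
    σ • s ∈ supports (golayCode : Set (GolayPt → ZMod 2)) := by
  rw [← MulAction.mem_stabilizer_iff.1 hσ]
  exact Set.smul_mem_smul_set hs

theorem comp_symm_mem_golayCode {σ : Equiv.Perm GolayPt} (hσ : σ ∈ M24) {w : GolayPt → ZMod 2}
    (hw : w ∈ golayCode) : (fun p => w (σ.symm p)) ∈ golayCode := by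
  obtain ⟨u, hu, e⟩ := smul_mem_supports hσ (⟨w, hw, rfl⟩ : support₂ w ∈ supports _)
  rw [smul_support₂] at e
  rw [← support₂_injective e]; exact hu

theorem card_smul_finset' (σ : Equiv.Perm GolayPt) (s : Finset GolayPt) : (σ • s).card = s.card :=
  Finset.card_smul_finset σ s

theorem smul_mem_wordsOfWeight {σ : Equiv.Perm GolayPt} (hσ : σ ∈ M24) {n : ℕ} {s : Finset GolayPt}
    (hs : s ∈ wordsOfWeight (golayCode : Set (GolayPt → ZMod 2)) n) :
    σ • s ∈ wordsOfWeight (golayCode : Set (GolayPt → ZMod 2)) n :=
  ⟨smul_mem_supports hσ hs.1, by rw [card_smul_finset', hs.2]⟩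

theorem smul_mem_octads {σ : Equiv.Perm GolayPt} (hσ : σ ∈ M24) {o : Finset GolayPt}
    (ho : o ∈ octads) : σ • o ∈ octads := smul_mem_wordsOfWeight hσ ho

/-- Test for membership of a packed permutation in `M24`. -/
def isM24Code (P : ℕ) : Bool := isPermCode P && rows.all fun r => codeTest (permMask P r)

theorem isPermCode_of_isM24Code {P : ℕ} (h : isM24Code P = true) : isPermCode P = true :=
  ((Bool.and_eq_true _ _).mp h).1

theorem permOf_mem_M24 {P : ℕ} (h : isM24Code P = true) : permOf P ∈ M24 := by
  obtain ⟨hp, hr⟩ := (Bool.and_eq_true _ _).mp h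
  refine mem_M24_of_rows _ fun r hrm => ?_
  rw [smul_pts hp]
  have := List.all_eq_true.1 hr r hrm
  exact ⟨_, (word_mem_golayCode_iff _).2 this, support₂_word _⟩

theorem levels_isM24Code : levels.all (fun l => l.all isM24Code) = true := by decide +kernel

theorem isM24Code_of_mem_level {k P : ℕ} (hP : P ∈ levels.getD k []) : isM24Code P = true := by
  by_cases hk : k < levels.length
  · rw [List.getD_eq_getElem _ _ hk] at hP
    exact List.all_eq_true.1 (List.all_eq_true.1 levels_isM24Code _ (List.getElem_mem hk)) P hP
  · rw [List.getD_eq_default _ _ (Nat.not_lt.1 hk)] at hP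
    exact absurd hP List.not_mem_nil

/-! ### The chain -/

/-- The `k`-th base point. -/
def bpt (k : ℕ) : GolayPt := idxPt (basePts.getD k 0)

/-- Elements of `M24` fixing the first `k` base points. -/
def chainSub (k : ℕ) : Subgroup (Equiv.Perm GolayPt) :=
  M24 ⊓ ⨅ j : Fin k, MulAction.stabilizer (Equiv.Perm GolayPt) (bpt j)

theorem mem_chainSub {k : ℕ} {g : Equiv.Perm GolayPt} :
    g ∈ chainSub k ↔ g ∈ M24 ∧ ∀ j < k, g (bpt j) = bpt j := by
  simp [chainSub, Subgroup.mem_iInf, Fin.forall_iff]

theorem chainSub_zero : chainSub 0 = M24 := by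
  ext g; simp [mem_chainSub]

/-- The boolean certificate for the chain. -/
def chainCheck : Bool :=
  (List.range 7).all fun k =>
    let b := basePts.getD k 0
    let imgs := (levels.getD k []).map fun P => permFn P b
    decide imgs.Nodup &&
    ((levels.getD k []).all fun P => (List.range k).all fun j => permFn P (basePts.getD j 0) == basePts.getD j 0) &&
    ((List.range 24).all fun i => !((allowed.getD k 0).testBit i) || imgs.contains i)

theorem chainCheck_true : chainCheck = true := by decide +kernel

theorem basePts_lt : ∀ k < 7, basePts.getD k 0 < 24 := by decide +kernel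

theorem level_spec {k : ℕ} (hk : k < 7) :
    ((levels.getD k []).map fun P => permOf P (bpt k)).Nodup ∧
    (∀ P ∈ levels.getD k [], permOf P ∈ chainSub k) ∧
    ∀ i < 24, (allowed.getD k 0).testBit i = true →
      ∃ P ∈ levels.getD k [], permOf P (bpt k) = idxPt i := by
  have h := List.all_eq_true.1 chainCheck_true k (List.mem_range.2 hk)
  simp only [Bool.and_eq_true, decide_eq_true_eq, List.all_eq_true, List.mem_range, beq_iff_eq,
    Bool.or_eq_true, Bool.not_eq_true', List.contains_iff_mem] at h
  obtain ⟨⟨hn, hfix⟩, hcov⟩ := h
  have hb := basePts_lt k hk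
  have ev : ∀ P ∈ levels.getD k [], permOf P (bpt k) = idxPt (permFn P (basePts.getD k 0)) :=
    fun P hP => permOf_idxPt (isPermCode_of_isM24Code (isM24Code_of_mem_level hP)) hb
  refine ⟨?_, fun P hP => mem_chainSub.2 ⟨permOf_mem_M24 (isM24Code_of_mem_level hP), fun j hj => ?_⟩, ?_⟩
  · rw [List.map_congr_left ev]
    refine (List.nodup_map_iff_inj_on ?_).2 ?_
    · exact List.Nodup.of_map _ hn
    · intro P hP Q hQ e
      have hP' := permFn_lt (isPermCode_of_isM24Code (isM24Code_of_mem_level hP)) hb
      have hQ' := permFn_lt (isPermCode_of_isM24Code (isM24Code_of_mem_level hQ)) hb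
      have := congrArg ptIdx e
      rw [ptIdx_idxPt _ hP', ptIdx_idxPt _ hQ'] at this
      exact List.inj_on_of_nodup_map hn hP hQ this
  · rw [bpt, permOf_idxPt (isPermCode_of_isM24Code (isM24Code_of_mem_level hP))
      (basePts_lt j (hj.trans hk)), hfix P hP j hj]
  · intro i hi ha
    rcases hcov i hi with h | h
    · rw [ha] at h; exact absurd h (by decide)
    · obtain ⟨P, hP, rfl⟩ := List.mem_map.1 h
      exact ⟨P, hP, ev P hP⟩

theorem baseOctad_mem : pts baseOctad ∈ octads := by
  refine ⟨(mem_supports_iff _).2 ?_, ?_⟩
  · rw [maskPts_pts (by decide +kernel)]; decide +kernel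
  · rw [card_pts]; decide +kernel

theorem card_inter_pts (a b : ℕ) : (pts a ∩ pts b).card = pop 24 (a &&& b) := by
  rw [← card_pts]; congr 1; ext p; simp [mem_pts]

theorem smul_baseOctad {k : ℕ} (hk : 5 ≤ k) {g : Equiv.Perm GolayPt} (hg : g ∈ chainSub k) :
    g • pts baseOctad = pts baseOctad := by
  obtain ⟨hgM, hfix⟩ := mem_chainSub.1 hg
  refine octad_eq_of_five (smul_mem_octads hgM baseOctad_mem) baseOctad_mem ?_
  have hsub : ((Finset.range 5).image bpt) ⊆ g • pts baseOctad ∩ pts baseOctad := by
    intro p hp
    obtain ⟨j, hj, rfl⟩ := Finset.mem_image.1 hp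
    rw [Finset.mem_range] at hj
    have hm : bpt j ∈ pts baseOctad :=
      (by decide +kernel : ∀ j < 5, bpt j ∈ pts baseOctad) j hj
    refine Finset.mem_inter.2 ⟨?_, hm⟩
    have := Finset.smul_mem_smul_finset (a := g) hm
    rwa [Equiv.Perm.smul_def, hfix j (by omega)] at this
  exact le_trans (le_of_eq (by decide +kernel)) (Finset.card_le_card hsub)

theorem image_allowed {k : ℕ} (hk : k < 7) {g : Equiv.Perm GolayPt} (hg : g ∈ chainSub k) :
    (allowed.getD k 0).testBit (ptIdx (g (bpt k))) = true := by
  obtain ⟨hgM, hfix⟩ := mem_chainSub.1 hg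
  have hne : ∀ j < k, g (bpt k) ≠ bpt j := by
    intro j hj e
    rw [← hfix j hj] at e
    have := g.injective e
    exact absurd this ((by decide +kernel : ∀ k < 7, ∀ j < k, bpt k ≠ bpt j) k hk j hj)
  by_cases h5 : k < 5
  · have key : ∀ k < 5, ∀ p : GolayPt, (∀ j < k, p ≠ bpt j) →
        (allowed.getD k 0).testBit (ptIdx p) = true := by decide +kernel
    exact key k h5 _ hne
  · have hO := smul_baseOctad (Nat.not_lt.1 h5) hg
    have hiff : g (bpt k) ∈ pts baseOctad ↔ bpt k ∈ pts baseOctad := by
      constructor
      · intro h
        rw [← hO] at h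
        exact Finset.smul_mem_smul_finset_iff (a := g) |>.1 h
      · intro h
        rw [← hO]
        exact Finset.smul_mem_smul_finset (a := g) h
    have key : ∀ k ∈ [5, 6], ∀ p : GolayPt, (∀ j < k, p ≠ bpt j) →
        baseOctad.testBit (ptIdx p) = baseOctad.testBit (ptIdx (bpt k)) →
        (allowed.getD k 0).testBit (ptIdx p) = true := by decide +kernel
    rw [mem_pts, mem_pts] at hiff
    exact key k (by simp; omega) _ hne (Bool.eq_iff_iff.2 hiff)

theorem exists_level {k : ℕ} (hk : k < 7) {g : Equiv.Perm GolayPt} (hg : g ∈ chainSub k) :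
    ∃ P ∈ levels.getD k [], (permOf P)⁻¹ * g ∈ chainSub (k + 1) := by
  obtain ⟨-, hmem, hcov⟩ := level_spec hk
  obtain ⟨P, hP, e⟩ := hcov _ (ptIdx_lt _) (image_allowed hk hg)
  rw [idxPt_ptIdx] at e
  refine ⟨P, hP, ?_⟩
  have h1 := (chainSub k).mul_mem ((chainSub k).inv_mem (hmem P hP)) hg
  obtain ⟨h2, h3⟩ := mem_chainSub.1 h1
  refine mem_chainSub.2 ⟨h2, fun j hj => ?_⟩
  rcases Nat.lt_succ_iff_lt_or_eq.1 hj with h | rfl
  · exact h3 j h
  · rw [Equiv.Perm.mul_apply, ← e, Equiv.Perm.inv_def, Equiv.symm_apply_apply]

/-! ### Nothing but the identity fixes the seven base points -/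

/-- One closure step: the listed octads all contain at least five of the points in `F`, and cut down the points outside
`F` to `x` alone. -/
def stepOk (F : ℕ) (s : ℕ × List ℕ) : Bool :=
  decide (s.1 < 24) &&
  (s.2.all fun o => decide (o < 2 ^ 24) && (codeTest o && (pop 24 o == 8 && decide (5 ≤ pop 24 (o &&& F))))) &&
  ((List.range 24).all fun i =>
    ((s.2.all fun o => o.testBit i) && !(F.testBit i)) == (i == s.1))

/-- All steps in succession, ending with every point. -/
def stepsOk : ℕ → List (ℕ × List ℕ) → Bool
  | F, [] => F == fullMask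
  | F, s :: l => stepOk F s && stepsOk (F ||| 2 ^ s.1) l

theorem stepsOk_true : stepsOk ((basePts.map (2 ^ ·)).foldr (· ||| ·) 0) fixSteps = true := by
  decide +kernel

theorem fixed_of_stepsOk {g : Equiv.Perm GolayPt} (hg : g ∈ M24) :
    ∀ (l : List (ℕ × List ℕ)) (F : ℕ), stepsOk F l = true →
      (∀ p : GolayPt, F.testBit (ptIdx p) = true → g p = p) → g = 1
  | [], F, h, hF => by
    simp only [stepsOk, beq_iff_eq] at h
    exact Equiv.ext fun p => hF p (h ▸ fullMask_testBit _ (ptIdx_lt p))
  | (x, os) :: l, F, h, hF => by
    simp only [stepsOk, stepOk, Bool.and_eq_true, decide_eq_true_eq, List.all_eq_true, List.mem_range,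
      beq_iff_eq] at h
    obtain ⟨⟨⟨hx, hos⟩, hcut⟩, hl⟩ := h
    refine fixed_of_stepsOk hg l _ hl fun p hp => ?_
    rw [Nat.testBit_or, Bool.or_eq_true] at hp
    rcases hp with hp | hp
    · exact hF p hp
    · rw [Nat.testBit_two_pow, decide_eq_true_eq] at hp
      have hxc := hcut x hx
      simp only [beq_self_eq_true, Bool.and_eq_true, List.all_eq_true, Bool.not_eq_true'] at hxc
      have hin : ∀ o ∈ os, g p ∈ pts o := by
        intro o ho
        obtain ⟨hlt, hc, h8, h5⟩ := hos o ho
        have hoct : pts o ∈ octads :=
          ⟨⟨word o, (word_mem_golayCode_iff o).2 hc, support₂_word o⟩, by rw [card_pts, h8]⟩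
        have hfix : g • pts o = pts o := by
          refine octad_eq_of_five (smul_mem_octads hg hoct) hoct (h5.trans ?_)
          rw [← card_pts]
          refine Finset.card_le_card fun q hq => ?_
          rw [mem_pts, Nat.testBit_and, Bool.and_eq_true] at hq
          refine Finset.mem_inter.2 ⟨?_, mem_pts.2 hq.1⟩
          have := Finset.smul_mem_smul_finset (a := g) (mem_pts.2 hq.1 : q ∈ pts o)
          rwa [Equiv.Perm.smul_def, hF q hq.2] at this
        rw [← hfix]
        refine Finset.smul_mem_smul_finset (a := g) (mem_pts.2 ?_)
        exact hp ▸ hxc.1 o ho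
      by_cases hF' : F.testBit (ptIdx (g p)) = true
      · have := hF _ hF'
        exact g.injective this
      · have h' := hcut (ptIdx (g p)) (ptIdx_lt _)
        have hall : ((os.all fun o => o.testBit (ptIdx (g p))) && !F.testBit (ptIdx (g p))) = true := by
          simp only [Bool.and_eq_true, List.all_eq_true, Bool.not_eq_true', Bool.not_eq_true] at hF' ⊢
          exact ⟨fun o ho => mem_pts.1 (hin o ho), hF'⟩
        rw [hall, eq_comm, beq_iff_eq] at h'
        exact ptIdx_injective (h'.trans hp)

theorem testBit_foldr_or (j : ℕ) : ∀ l : List ℕ,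
    ((l.map (2 ^ ·)).foldr (· ||| ·) 0).testBit j = true → j ∈ l
  | [], h => by simp at h
  | a :: l, h => by
    rw [List.map_cons, List.foldr_cons, Nat.testBit_or, Bool.or_eq_true] at h
    rcases h with h | h
    · rw [Nat.testBit_two_pow, decide_eq_true_eq] at h; exact h ▸ List.mem_cons_self
    · exact List.mem_cons_of_mem a (testBit_foldr_or j l h)

theorem chainSub_seven : chainSub 7 = ⊥ := by
  rw [eq_bot_iff]
  intro g hg
  obtain ⟨hgM, hfix⟩ := mem_chainSub.1 hg
  refine Subgroup.mem_bot.2 (fixed_of_stepsOk hgM fixSteps _ stepsOk_true fun p hp => ?_)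
  obtain ⟨k, hk, e⟩ := List.mem_iff_getElem.1 (testBit_foldr_or _ basePts hp)
  have e' : bpt k = p := by
    rw [bpt, List.getD_eq_getElem _ _ hk, e, idxPt_ptIdx]
  rw [← e']; exact hfix k hk

/-! ### Order and transitivity -/

theorem card_chainSub_step {k : ℕ} (hk : k < 7) :
    Nat.card (chainSub k) = (levels.getD k []).length * Nat.card (chainSub (k + 1)) := by
  obtain ⟨hn, hmem, -⟩ := level_spec hk
  have hnd : (levels.getD k []).Nodup := List.Nodup.of_map _ hn
  let L := {P : ℕ // P ∈ (levels.getD k []).toFinset}
  have hle : chainSub (k + 1) ≤ chainSub k := fun g hg =>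
    mem_chainSub.2 ⟨(mem_chainSub.1 hg).1, fun j hj => (mem_chainSub.1 hg).2 j (Nat.lt_succ_of_lt hj)⟩
  let f : L × chainSub (k + 1) → chainSub k := fun x =>
    ⟨permOf x.1.1 * x.2.1, mul_mem (hmem _ (List.mem_toFinset.1 x.1.2)) (hle x.2.2)⟩
  have hf : Function.Bijective f := by
    constructor
    · rintro ⟨⟨P, hP⟩, h⟩ ⟨⟨Q, hQ⟩, h'⟩ e
      have e' : permOf P * h.1 = permOf Q * h'.1 := congrArg Subtype.val e
      have e2 := congrArg (fun σ : Equiv.Perm GolayPt => σ (bpt k)) e'
      simp only [Equiv.Perm.mul_apply, (mem_chainSub.1 h.2).2 k (Nat.lt_succ_self k),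
        (mem_chainSub.1 h'.2).2 k (Nat.lt_succ_self k)] at e2
      have hPQ : P = Q :=
        List.inj_on_of_nodup_map hn (List.mem_toFinset.1 hP) (List.mem_toFinset.1 hQ) e2
      subst hPQ
      simp only [mul_right_inj] at e'
      exact Prod.ext rfl (Subtype.ext e')
    · rintro ⟨g, hg⟩
      obtain ⟨P, hP, h⟩ := exists_level hk hg
      exact ⟨(⟨P, List.mem_toFinset.2 hP⟩, ⟨_, h⟩), Subtype.ext (mul_inv_cancel_left _ _)⟩
  rw [← Nat.card_eq_of_bijective f hf, Nat.card_prod, Nat.card_eq_fintype_card,
    Fintype.card_coe, List.toFinset_card_of_nodup hnd]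

theorem card_chainSub : ∀ k ≤ 7, Nat.card (chainSub k) =
    (((levels.drop k).map List.length).foldr (· * ·) 1) := by
  intro k hk
  induction h : 7 - k generalizing k with
  | zero =>
    have : k = 7 := by omega
    subst this
    rw [chainSub_seven]; simp [levels]
  | succ n ih =>
    have hk' : k < 7 := by omega
    rw [card_chainSub_step hk', ih (k + 1) hk' (by omega)]
    have hl : k < levels.length := by simpa [levels] using hk'
    rw [List.drop_eq_getElem_cons hl, List.map_cons, List.foldr_cons, List.getD_eq_getElem _ _ hl]

theorem card_M24 : Nat.card M24 = 244823040 := by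
  rw [← chainSub_zero, card_chainSub 0 (by norm_num)]
  decide +kernel

theorem exists_mem_M24_bpt : ∀ k ≤ 5, ∀ x : ℕ → GolayPt, (∀ i < k, ∀ j < k, x i = x j → i = j) →
    ∃ g ∈ M24, ∀ j < k, g (bpt j) = x j
  | 0, _, x, _ => ⟨1, M24.one_mem, by simp⟩
  | k + 1, hk, x, hx => by
    obtain ⟨g, hg, hgx⟩ := exists_mem_M24_bpt k (by omega) x fun i hi j hj => hx i (by omega) j (by omega)
    have hne : ∀ j < k, g⁻¹ (x k) ≠ bpt j := by
      intro j hj e
      rw [Equiv.Perm.inv_eq_iff_eq, hgx j hj] at e
      have := hx k (Nat.lt_succ_self k) j (by omega) e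
      omega
    have key : ∀ k < 5, ∀ p : GolayPt, (∀ j < k, p ≠ bpt j) →
        (allowed.getD k 0).testBit (ptIdx p) = true := by decide +kernel
    obtain ⟨-, hmem, hcov⟩ := level_spec (k := k) (by omega)
    obtain ⟨P, hP, e⟩ := hcov _ (ptIdx_lt _) (key k (by omega) _ hne)
    rw [idxPt_ptIdx] at e
    obtain ⟨hPM, hPfix⟩ := mem_chainSub.1 (hmem P hP)
    refine ⟨g * permOf P, M24.mul_mem hg hPM, fun j hj => ?_⟩
    rcases Nat.lt_succ_iff_lt_or_eq.1 hj with h | rfl
    · rw [Equiv.Perm.mul_apply, hPfix j h, hgx j h]
    · rw [Equiv.Perm.mul_apply, e, Equiv.Perm.inv_def, Equiv.apply_symm_apply]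

theorem isMultiplyPretransitive_M24 : MulAction.IsMultiplyPretransitive M24 GolayPt 5 := by
  rw [MulAction.isMultiplyPretransitive_iff]
  intro x y
  let ext5 : (Fin 5 ↪ GolayPt) → ℕ → GolayPt := fun z i => if h : i < 5 then z ⟨i, h⟩ else none
  have hinj : ∀ z : Fin 5 ↪ GolayPt, ∀ i < 5, ∀ j < 5, ext5 z i = ext5 z j → i = j := by
    intro z i hi j hj e
    simp only [ext5, dif_pos hi, dif_pos hj] at e
    exact congrArg Fin.val (z.injective e)
  obtain ⟨g, hg, hgx⟩ := exists_mem_M24_bpt 5 le_rfl _ (hinj x)
  obtain ⟨h, hh, hhy⟩ := exists_mem_M24_bpt 5 le_rfl _ (hinj y)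
  refine ⟨⟨h * g⁻¹, M24.mul_mem hh (M24.inv_mem hg)⟩, ?_⟩
  refine Function.Embedding.ext fun i => ?_
  have h1 := hgx i.1 i.2
  have h2 := hhy i.1 i.2
  simp only [ext5, dif_pos i.2, Fin.eta] at h1 h2
  show (h * g⁻¹) (x i) = y i
  rw [Equiv.Perm.mul_apply, ← h1, Equiv.Perm.inv_def, Equiv.symm_apply_apply, h2]

theorem shift_eq : Equiv.optionCongr (Equiv.addRight (1 : ZMod 23)) = permOf shiftCode := by
  ext p : 1
  rw [permOf_apply (by decide +kernel)]
  revert p; decide +kernel

theorem projInv_eq : Cfsg.projInv = permOf projInvCode := by
  ext p : 1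
  rw [permOf_apply (by decide +kernel)]
  revert p; decide +kernel

theorem cubeTwist_eq : Cfsg.cubeTwist = permOf cubeTwistCode := by
  ext p : 1
  rw [permOf_apply (by decide +kernel), cubeTwist, Equiv.ofBijective_apply]
  revert p; decide +kernel

theorem shift_mem : Equiv.optionCongr (Equiv.addRight (1 : ZMod 23)) ∈ M24 :=
  shift_eq ▸ permOf_mem_M24 (by decide +kernel)

theorem projInv_mem : Cfsg.projInv ∈ M24 :=
  projInv_eq ▸ permOf_mem_M24 (by decide +kernel)

theorem cubeTwist_mem : Cfsg.cubeTwist ∈ M24 :=
  cubeTwist_eq ▸ permOf_mem_M24 (by decide +kernel)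

end CfsgLib.Spor
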