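/-
Octads: Steiner property, transitivity, and point stabilizers in `Cfsg.M24`.
-/
import Cfsg.Agent.Lib.Spor.M24Basic

namespace CfsgLib.Spor

open Cfsg
open scoped Pointwise

theorem octad_card {o : Finset GolayPt} (ho : o ∈ octads) : o.card = 8 := ho.2

theorem exists_octad_superset {s : Finset GolayPt} (hs : s.card = 5) : ∃ o ∈ octads, s ⊆ o := by
  let e := s.equivFinOfCardEq hs
  obtain ⟨g, hg, hgx⟩ := exists_mem_M24_bpt 5 le_rfl
    (fun i => if h : i < 5 then ((e.symm ⟨i, h⟩ : s) : GolayPt) else none)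
    (fun i hi j hj h => by
      simp only [dif_pos hi, dif_pos hj] at h
      exact congrArg Fin.val (e.symm.injective (Subtype.ext h)))
  refine ⟨g • pts baseOctad, smul_mem_octads hg baseOctad_mem, fun p hp => ?_⟩
  have h := hgx (e ⟨p, hp⟩).1 (e ⟨p, hp⟩).2
  simp only [dif_pos (e ⟨p, hp⟩).2, Fin.eta, Equiv.symm_apply_apply] at h
  rw [← h]
  exact Finset.smul_mem_smul_finset
    ((by decide +kernel : ∀ j < 5, bpt j ∈ pts baseOctad) _ (e ⟨p, hp⟩).2)

theorem isSteinerSystem_octads : IsSteinerSystem 5 8 octads := by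
  refine ⟨fun b hb => hb.2, fun s hs => ?_⟩
  obtain ⟨o, ho, hso⟩ := exists_octad_superset hs
  refine ⟨o, ⟨ho, hso⟩, fun o' ⟨ho', hso'⟩ => octad_eq_of_five ho' ho ?_⟩
  exact hs ▸ Finset.card_le_card (Finset.subset_inter hso' hso)

theorem exists_smul_baseOctad {o : Finset GolayPt} (ho : o ∈ octads) :
    ∃ g ∈ M24, g • pts baseOctad = o := by
  obtain ⟨s, hso, hs⟩ := Finset.exists_subset_card_eq (s := o) (n := 5) (by rw [ho.2]; norm_num)
  let e := s.equivFinOfCardEq hs
  obtain ⟨g, hg, hgx⟩ := exists_mem_M24_bpt 5 le_rfl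
    (fun i => if h : i < 5 then ((e.symm ⟨i, h⟩ : s) : GolayPt) else none)
    (fun i hi j hj h => by
      simp only [dif_pos hi, dif_pos hj] at h
      exact congrArg Fin.val (e.symm.injective (Subtype.ext h)))
  refine ⟨g, hg, octad_eq_of_five (smul_mem_octads hg baseOctad_mem) ho ?_⟩
  refine hs ▸ Finset.card_le_card fun p hp => Finset.mem_inter.2 ⟨?_, hso hp⟩
  have h := hgx (e ⟨p, hp⟩).1 (e ⟨p, hp⟩).2
  simp only [dif_pos (e ⟨p, hp⟩).2, Fin.eta, Equiv.symm_apply_apply] at h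
  rw [← h]
  exact Finset.smul_mem_smul_finset
    ((by decide +kernel : ∀ j < 5, bpt j ∈ pts baseOctad) _ (e ⟨p, hp⟩).2)

theorem exists_smul_octad {o o' : Finset GolayPt} (ho : o ∈ octads) (ho' : o' ∈ octads) :
    ∃ g : M24, g • o = o' := by
  obtain ⟨g, hg, rfl⟩ := exists_smul_baseOctad ho
  obtain ⟨h, hh, rfl⟩ := exists_smul_baseOctad ho'
  refine ⟨⟨h * g⁻¹, M24.mul_mem hh (M24.inv_mem hg)⟩, ?_⟩
  show (h * g⁻¹) • g • pts baseOctad = h • pts baseOctad
  rw [← mul_smul, inv_mul_cancel_right]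

/-- The subgroup of `M24` fixing a list of points has the order of the corresponding chain step. -/
theorem card_pointStabilizer {k : ℕ} (hk : k ≤ 5) (x : ℕ → GolayPt)
    (hx : ∀ i < k, ∀ j < k, x i = x j → i = j) (H : Subgroup (Equiv.Perm GolayPt))
    (hH : ∀ g, g ∈ H ↔ g ∈ M24 ∧ ∀ j < k, g (x j) = x j) :
    Nat.card H = Nat.card (chainSub k) := by
  obtain ⟨g, hg, hgx⟩ := exists_mem_M24_bpt k hk x hx
  have e : H = (chainSub k).map (MulAut.conj g).toMonoidHom := by
    ext a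
    rw [hH, Subgroup.mem_map]
    constructor
    · rintro ⟨ha, hfix⟩
      refine ⟨g⁻¹ * a * g, mem_chainSub.2 ⟨M24.mul_mem (M24.mul_mem (M24.inv_mem hg) ha) hg, fun j hj => ?_⟩, ?_⟩
      · simp only [Equiv.Perm.mul_apply, hgx j hj, hfix j hj]
        rw [Equiv.Perm.inv_eq_iff_eq, hgx j hj]
      · simp [mul_assoc]
    · rintro ⟨b, hb, rfl⟩
      obtain ⟨hbM, hbfix⟩ := mem_chainSub.1 hb
      refine ⟨M24.mul_mem (M24.mul_mem hg hbM) (M24.inv_mem hg), fun j hj => ?_⟩
      show (g * b * g⁻¹) (x j) = x j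
      rw [← hgx j hj, Equiv.Perm.mul_apply, Equiv.Perm.mul_apply, Equiv.Perm.inv_def,
        Equiv.symm_apply_apply, hbfix j hj]
  rw [e, Subgroup.card_map_of_injective (MulAut.conj g).injective]

theorem card_subgroup_M24 (K : Subgroup M24) :
    Nat.card K = Nat.card (K.map M24.subtype) :=
  (Subgroup.card_map_of_injective M24.subtype_injective).symm

theorem mem_map_stabilizer {α : Type*} [MulAction (Equiv.Perm GolayPt) α] (a : α)
    (g : Equiv.Perm GolayPt) :
    g ∈ (MulAction.stabilizer M24 a).map M24.subtype ↔ g ∈ M24 ∧ g • a = a := by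
  constructor
  · rintro ⟨⟨h, hh⟩, hfix, rfl⟩; exact ⟨hh, hfix⟩
  · rintro ⟨hg, hfix⟩; exact ⟨⟨g, hg⟩, hfix, rfl⟩

theorem card_stabilizer_point (p : GolayPt) :
    Nat.card (MulAction.stabilizer M24 p) = 10200960 := by
  rw [card_subgroup_M24, card_pointStabilizer (k := 1) (by norm_num) (fun _ => p)
    (by intros; omega) _ (fun g => ?_), card_chainSub 1 (by norm_num)]
  · decide +kernel
  · rw [mem_map_stabilizer]
    simp [Nat.lt_one_iff]

theorem card_stabilizer_two_points (p q : GolayPt) (hpq : p ≠ q) :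
    Nat.card ↥(MulAction.stabilizer M24 p ⊓ MulAction.stabilizer M24 q) = 443520 := by
  rw [card_subgroup_M24, card_pointStabilizer (k := 2) (by norm_num) (fun i => if i = 0 then p else q)
    ?_ _ (fun g => ?_), card_chainSub 2 (by norm_num)]
  · decide +kernel
  · intro i hi j hj h
    interval_cases i <;> interval_cases j <;> simp_all [hpq.symm]
  · rw [Subgroup.map_inf _ _ _ M24.subtype_injective, Subgroup.mem_inf, mem_map_stabilizer,
      mem_map_stabilizer]
    constructor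
    · rintro ⟨⟨hg, h1⟩, -, h2⟩
      exact ⟨hg, fun j hj => by interval_cases j <;> simpa using ‹_›⟩
    · rintro ⟨hg, h⟩
      exact ⟨⟨hg, by simpa using h 0 (by norm_num)⟩, hg, by simpa using h 1 (by norm_num)⟩

end CfsgLib.Spor
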