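/-
Transport of the automorphism group along an isomorphism of set systems.
-/
import Cfsg.Prelude.Def_Sporadic_a
import Mathlib.GroupTheory.GroupAction.MultipleTransitivity

set_option autoImplicit false

namespace CfsgLib.Spor

open Cfsg
open scoped Pointwise

variable {α β : Type*} [DecidableEq α] [DecidableEq β]

theorem mem_setSystemAut {B : Set (Finset α)} {g : Equiv.Perm α} :
    g ∈ setSystemAut B ↔ (fun b : Finset α => b.image g) '' B = B := Iff.rfl

theorem image_trans {B : Set (Finset α)} {C : Set (Finset β)} {e : α ≃ β}
    (he : (fun b : Finset α => b.image e) '' B = C) :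
    (fun c : Finset β => c.image e.symm) '' C = B := by
  rw [← he, Set.image_image]
  simp [Finset.image_image]

theorem conj_mem {B : Set (Finset α)} {C : Set (Finset β)} {e : α ≃ β}
    (he : (fun b : Finset α => b.image e) '' B = C) {g : Equiv.Perm α} (hg : g ∈ setSystemAut B) :
    e.permCongrHom g ∈ setSystemAut C := by
  rw [mem_setSystemAut]
  rw [mem_setSystemAut] at hg
  conv_rhs => rw [← he, ← hg]
  rw [← he, Set.image_image, Set.image_image]
  refine congrArg (fun F => F '' B) (funext fun b => ?_)
  simp [Finset.image_image, Function.comp_def]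

/-- The automorphism groups of isomorphic set systems are isomorphic. -/
noncomputable def autEquiv {B : Set (Finset α)} {C : Set (Finset β)} (e : α ≃ β)
    (he : (fun b : Finset α => b.image e) '' B = C) : setSystemAut B ≃* setSystemAut C where
  toFun g := ⟨e.permCongrHom g.1, conj_mem he g.2⟩
  invFun g := ⟨e.symm.permCongrHom g.1, conj_mem (image_trans he) g.2⟩
  left_inv g := Subtype.ext (Equiv.ext fun x => by simp)
  right_inv g := Subtype.ext (Equiv.ext fun x => by simp)
  map_mul' g h := Subtype.ext (map_mul e.permCongrHom g.1 h.1)

theorem multiplyPretransitive_of_iso {B : Set (Finset α)} {C : Set (Finset β)} (e : α ≃ β)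
    (he : (fun b : Finset α => b.image e) '' B = C) {n : ℕ}
    (h : MulAction.IsMultiplyPretransitive (setSystemAut B) α n) :
    MulAction.IsMultiplyPretransitive (setSystemAut C) β n := by
  rw [MulAction.isMultiplyPretransitive_iff] at h ⊢
  intro x y
  obtain ⟨g, hg⟩ := h (x.trans e.symm.toEmbedding) (y.trans e.symm.toEmbedding)
  refine ⟨autEquiv e he g, Function.Embedding.ext fun i => ?_⟩
  have hi := congrFun (congrArg DFunLike.coe hg) i
  have hi' : g.1 (e.symm (x i)) = e.symm (y i) := hi
  show e.permCongrHom g.1 (x i) = y i
  simp [hi']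

end CfsgLib.Spor
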