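/-
Double counting in Steiner systems and meeting numbers of two blocks.
-/
import Cfsg.Prelude.Def_Sporadic_a
import Mathlib.Data.Finset.Powerset
import Mathlib.Algebra.BigOperators.Group.Finset.Basic

set_option autoImplicit false

namespace CfsgLib.Spor.Steiner

open Cfsg Finset

variable {α : Type*} [Fintype α] [DecidableEq α] {B : Finset (Finset α)} {t k : ℕ}

/-- Sets of given size between two sets. -/
theorem card_between_sets (s b : Finset α) (m : ℕ) (hs : s ⊆ b) (hm : s.card ≤ m) :
    ((powersetCard m b).filter fun F => s ⊆ F).card = (b.card - s.card).choose (m - s.card) := by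
  rw [← card_sdiff_of_subset hs, ← card_powersetCard]
  refine card_bij' (fun F _ => F \ s) (fun T _ => T ∪ s) ?_ ?_ ?_ ?_
  · intro F hF
    obtain ⟨h1, h2⟩ := mem_filter.1 hF
    obtain ⟨h3, h4⟩ := mem_powersetCard.1 h1
    exact mem_powersetCard.2 ⟨sdiff_subset_sdiff h3 le_rfl, by rw [card_sdiff_of_subset h2, h4]⟩
  · intro T hT
    obtain ⟨h1, h2⟩ := mem_powersetCard.1 hT
    refine mem_filter.2 ⟨mem_powersetCard.2 ⟨union_subset (h1.trans sdiff_subset) hs, ?_⟩, subset_union_right⟩
    rw [card_union_of_disjoint (disjoint_of_subset_left h1 sdiff_disjoint), h2]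
    omega
  · intro F hF
    exact sdiff_union_of_subset (mem_filter.1 hF).2
  · intro T hT
    exact union_sdiff_cancel_right (disjoint_of_subset_left (mem_powersetCard.1 hT).1 sdiff_disjoint)

/-- The number of blocks through a set of at most `t` points. -/
theorem blocks_through (hk : ∀ b ∈ B, b.card = k) (hu : ∀ F : Finset α, F.card = t → ∃! b, b ∈ B ∧ F ⊆ b)
    (s : Finset α) (hs : s.card ≤ t) :
    (B.filter fun b => s ⊆ b).card * (k - s.card).choose (t - s.card) =
      (Fintype.card α - s.card).choose (t - s.card) := by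
  have h1 : ∀ b ∈ B.filter (fun b => s ⊆ b),
      ((powersetCard t b).filter fun F => s ⊆ F).card = (k - s.card).choose (t - s.card) := by
    intro b hb
    obtain ⟨hb1, hb2⟩ := mem_filter.1 hb
    rw [card_between_sets s b t hb2 hs, hk b hb1]
  rw [← smul_eq_mul, ← sum_const, ← sum_congr rfl h1, ← card_univ,
    ← card_between_sets s univ t (subset_univ _) hs, ← card_biUnion]
  · congr 1
    ext F
    simp only [mem_biUnion, mem_filter, mem_powersetCard, subset_univ, true_and]
    constructor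
    · rintro ⟨b, -, ⟨-, h5⟩, hsF⟩
      exact ⟨h5, hsF⟩
    · rintro ⟨h5, hsF⟩
      obtain ⟨b, ⟨hb, hFb⟩, -⟩ := hu F h5
      exact ⟨b, ⟨hb, hsF.trans hFb⟩, ⟨hFb, h5⟩, hsF⟩
  · intro b hb c hc hne
    refine disjoint_left.2 fun F hF hF' => hne ?_
    obtain ⟨hF1, hF5⟩ := mem_powersetCard.1 (mem_filter.1 hF).1
    obtain ⟨hF2, -⟩ := mem_powersetCard.1 (mem_filter.1 hF').1
    exact (hu F hF5).unique ⟨(mem_filter.1 hb).1, hF1⟩ ⟨(mem_filter.1 hc).1, hF2⟩

/-- Moments of the meeting numbers with a set. -/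
theorem sum_choose_meet (hk : ∀ b ∈ B, b.card = k) (hu : ∀ F : Finset α, F.card = t → ∃! b, b ∈ B ∧ F ⊆ b)
    (X : Finset α) (j : ℕ) (hj : j ≤ t) :
    (∑ c ∈ B, (c ∩ X).card.choose j) * (k - j).choose (t - j) =
      X.card.choose j * (Fintype.card α - j).choose (t - j) := by
  have e : ∀ c : Finset α, (c ∩ X).card.choose j = ((powersetCard j X).filter fun s => s ⊆ c).card := by
    intro c
    rw [← card_powersetCard]
    congr 1
    ext s
    simp only [mem_powersetCard, mem_filter, subset_inter_iff]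
    tauto
  simp only [e, card_filter]
  rw [sum_comm, sum_mul]
  have h : ∀ s ∈ powersetCard j X, (∑ c ∈ B, if s ⊆ c then 1 else 0) * (k - j).choose (t - j) =
      (Fintype.card α - j).choose (t - j) := by
    intro s hs
    have hc := (mem_powersetCard.1 hs).2
    have := blocks_through hk hu s (by omega)
    rwa [hc, card_filter] at this
  rw [sum_congr rfl h, sum_const, card_powersetCard, smul_eq_mul]

theorem meet_lt (hk : ∀ b ∈ B, b.card = k) (hu : ∀ F : Finset α, F.card = t → ∃! b, b ∈ B ∧ F ⊆ b)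
    {b c : Finset α} (hb : b ∈ B) (hc : c ∈ B) (hne : c ≠ b) : (c ∩ b).card < t := by
  by_contra h
  push Not at h
  obtain ⟨F, hF, hFc⟩ := exists_subset_card_eq h
  exact hne ((hu F hFc).unique ⟨hc, hF.trans inter_subset_left⟩ ⟨hb, hF.trans inter_subset_right⟩)

/-- Number of blocks meeting `b` in exactly `i` points, `b` excluded. -/
def meetNum (B : Finset (Finset α)) (b : Finset α) (i : ℕ) : ℕ :=
  ((B.erase b).filter fun c => (c ∩ b).card = i).card

theorem moment (hk : ∀ b ∈ B, b.card = k) (hu : ∀ F : Finset α, F.card = t → ∃! b, b ∈ B ∧ F ⊆ b)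
    {b : Finset α} (hb : b ∈ B) (j : ℕ) (hj : j ≤ t) :
    (k.choose j + ∑ i ∈ range t, meetNum B b i * i.choose j) * (k - j).choose (t - j) =
      k.choose j * (Fintype.card α - j).choose (t - j) := by
  have h := sum_choose_meet hk hu b j hj
  rw [← add_sum_erase _ _ hb, inter_self, hk b hb] at h
  rw [← h]
  congr 2
  rw [← sum_fiberwise_of_maps_to (g := fun c : Finset α => (c ∩ b).card) (t := range t) (fun c hc =>
    mem_range.2 (meet_lt hk hu hb (mem_of_mem_erase hc) (ne_of_mem_erase hc))) (fun c : Finset α => (c ∩ b).card.choose j)]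
  refine sum_congr rfl fun i _ => ?_
  rw [meetNum, ← smul_eq_mul, ← sum_const]
  exact sum_congr rfl fun c hc => by rw [(mem_filter.1 hc).2]

theorem meetNum_eq_zero {b c : Finset α} {i : ℕ} (h : meetNum B b i = 0) (hc : c ∈ B) (hne : c ≠ b) :
    (c ∩ b).card ≠ i := fun e =>
  notMem_empty c (card_eq_zero.1 h ▸ mem_filter.2 ⟨mem_erase.2 ⟨hne, hc⟩, e⟩)

theorem meet_eight (hα : Fintype.card α = 24) (hk : ∀ b ∈ B, b.card = 8)
    (hu : ∀ F : Finset α, F.card = 5 → ∃! b, b ∈ B ∧ F ⊆ b) {b : Finset α} (hb : b ∈ B) :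
    meetNum B b 0 = 30 ∧ meetNum B b 1 = 0 ∧ meetNum B b 2 = 448 ∧ meetNum B b 3 = 0 ∧ meetNum B b 4 = 280 := by
  have h0 := moment hk hu hb 0 (by omega)
  have h1 := moment hk hu hb 1 (by omega)
  have h2 := moment hk hu hb 2 (by omega)
  have h3 := moment hk hu hb 3 (by omega)
  have h4 := moment hk hu hb 4 (by omega)
  simp [hα, sum_range_succ, Nat.choose] at h0 h1 h2 h3 h4
  omega

end CfsgLib.Spor.Steiner
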