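/-
Exhaustive completion of a partial Steiner system, for verification in the kernel.
-/
import Cfsg.Agent.Lib.Spor.GolayBasic
import Cfsg.Agent.Lib.Spor.SteinerGeneral

set_option autoImplicit false

namespace CfsgLib.Spor.Search

open Cfsg Finset

/-- The subset of `Fin n` with digits `m`. -/
def mset (n m : ℕ) : Finset (Fin n) := univ.filter fun i => m.testBit i.1

/-- The number of a subset. -/
def mask {n : ℕ} (F : Finset (Fin n)) : ℕ := maskFn (fun i => decide (∃ x ∈ F, x.1 = i)) n

theorem mem_mset {n m : ℕ} {i : Fin n} : i ∈ mset n m ↔ m.testBit i.1 = true := by simp [mset]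

theorem mset_mask {n : ℕ} (F : Finset (Fin n)) : mset n (mask F) = F := by
  ext i
  rw [mem_mset, mask, testBit_maskFn]
  simp only [i.2, decide_true, Bool.true_and, decide_eq_true_eq]
  exact ⟨fun ⟨x, hx, e⟩ => Fin.ext e ▸ hx, fun h => ⟨i, h, rfl⟩⟩

theorem mask_lt {n : ℕ} (F : Finset (Fin n)) : mask F < 2 ^ n := maskFn_lt _ _

theorem mset_injOn {n a b : ℕ} (ha : a < 2 ^ n) (hb : b < 2 ^ n) (h : mset n a = mset n b) : a = b := by
  refine Nat.eq_of_testBit_eq fun i => ?_
  by_cases hi : i < n
  · have := congrArg (fun S : Finset (Fin n) => decide (⟨i, hi⟩ ∈ S)) h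
    simpa [mem_mset] using this
  · have hp : 2 ^ n ≤ 2 ^ i := Nat.pow_le_pow_right (by norm_num) (Nat.not_lt.1 hi)
    rw [Nat.testBit_eq_false_of_lt (ha.trans_le hp), Nat.testBit_eq_false_of_lt (hb.trans_le hp)]

theorem card_mset (n m : ℕ) : (mset n m).card = pop n m := by
  rw [pop, List.countP_eq_length_filter, ← List.toFinset_card_of_nodup (List.nodup_range.filter _)]
  refine Finset.card_bij (fun i _ => i.1) (fun i hi => ?_) (fun a _ b _ h => Fin.ext h) fun k hk => ?_
  · simpa using mem_mset.1 hi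
  · simp only [List.toFinset_filter, Finset.mem_filter, List.mem_toFinset, List.mem_range] at hk
    exact ⟨⟨k, hk.1⟩, mem_mset.2 hk.2, rfl⟩

theorem mset_and (n a b : ℕ) : mset n (a &&& b) = mset n a ∩ mset n b := by
  ext i; simp [mem_mset, Nat.testBit_and]

theorem subset_mset {n s b : ℕ} (h : mset n s ⊆ mset n b) (hs : s < 2 ^ n) : s &&& b = s := by
  refine mset_injOn (lt_of_le_of_lt Nat.and_le_left hs) hs ?_
  rw [mset_and, inter_eq_left.2 h]

theorem subset_of_and {n s b : ℕ} (h : s &&& b = s) : mset n s ⊆ mset n b := by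
  rw [← h, mset_and]; exact inter_subset_right

/-- All sets of `k` among `n` points, as numbers. -/
def kSets (n k : ℕ) : List ℕ := (List.range (2 ^ n)).filter fun m => pop n m == k

/-- Completions. -/
def search (n t : ℕ) : ℕ → List ℕ → List ℕ → List ℕ → List (List ℕ)
  | 0, _, _, _ => [[]]
  | _ + 1, [], _, acc => [acc]
  | f + 1, s :: rest, cand, acc => (cand.filter fun b => s &&& b == s).flatMap fun b =>
      search n t f (rest.filter fun u => !(u &&& b == u)) (cand.filter fun c => decide (pop n (c &&& b) < t)) (b :: acc)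

/-- A design given by its numbers. -/
structure IsDesign (n t k : ℕ) (D : Finset ℕ) : Prop where
  lt : ∀ d ∈ D, d < 2 ^ n
  size : ∀ d ∈ D, pop n d = k
  cover : ∀ s, s < 2 ^ n → pop n s = t → ∃ d ∈ D, s &&& d = s
  meet : ∀ d ∈ D, ∀ e ∈ D, t ≤ pop n (d &&& e) → d = e

theorem search_sound {n t k : ℕ} (htk : t ≤ k) {D : Finset ℕ} (hD : IsDesign n t k D) :
    ∀ (f : ℕ) (unc cand acc : List ℕ), (∀ a ∈ acc, a ∈ D) → (∀ d ∈ D, d ∈ acc ∨ d ∈ cand) →
      (∀ s ∈ unc, s < 2 ^ n ∧ pop n s = t ∧ ∀ a ∈ acc, ¬ s &&& a = s) →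
      (∀ s, s < 2 ^ n → pop n s = t → s ∈ unc ∨ ∃ a ∈ acc, s &&& a = s) →
      ∃ sol ∈ search n t f unc cand acc, sol = [] ∨ ∀ x, x ∈ D ↔ x ∈ sol := by
  intro f
  induction f with
  | zero => intros; exact ⟨[], by simp [search], Or.inl rfl⟩
  | succ f ih =>
    intro unc cand acc hacc hcand hunc hall
    cases unc with
    | nil =>
      refine ⟨acc, by simp [search], Or.inr fun x => ⟨fun hx => ?_, fun hx => hacc x hx⟩⟩
      obtain ⟨S, hS, hSc⟩ := exists_subset_card_eq (s := mset n x) (n := t) (by rw [card_mset, hD.size x hx]; exact htk)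
      have hs : pop n (mask S) = t := by rw [← card_mset, mset_mask, hSc]
      have hsub : mask S &&& x = mask S := subset_mset (by rwa [mset_mask]) (mask_lt S)
      obtain ⟨a, ha, hsa⟩ := (hall _ (mask_lt S) hs).resolve_left (by simp)
      have : x = a := by
        refine hD.meet x hx a (hacc a ha) ?_
        rw [← hs, ← card_mset, ← card_mset, mset_and]
        exact card_le_card (subset_inter (subset_of_and hsub) (subset_of_and hsa))
      exact this ▸ ha
    | cons s rest =>
      obtain ⟨hslt, hst, hsfree⟩ := hunc s (by simp)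
      obtain ⟨b, hb, hsb⟩ := hD.cover s hslt hst
      have hbc : b ∈ cand := (hcand b hb).resolve_left fun h => hsfree b h hsb
      obtain ⟨sol, hsol, hok⟩ := ih (rest.filter fun u => !(u &&& b == u))
        (cand.filter fun c => decide (pop n (c &&& b) < t)) (b :: acc)
        (fun a ha => (List.mem_cons.1 ha).elim (fun e => e ▸ hb) (hacc a))
        (fun d hd => by
          rcases hcand d hd with h | h
          · exact Or.inl (List.mem_cons_of_mem _ h)
          · by_cases hlt : pop n (d &&& b) < t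
            · exact Or.inr (List.mem_filter.2 ⟨h, decide_eq_true hlt⟩)
            · exact Or.inl (hD.meet d hd b hb (Nat.not_lt.1 hlt) ▸ List.mem_cons_self))
        (fun u hu => by
          obtain ⟨hu1, hu2⟩ := List.mem_filter.1 hu
          obtain ⟨h1, h2, h3⟩ := hunc u (List.mem_cons_of_mem _ hu1)
          refine ⟨h1, h2, fun a ha => ?_⟩
          rcases List.mem_cons.1 ha with rfl | ha
          · simpa using hu2
          · exact h3 a ha)
        (fun u hu1 hu2 => by
          rcases hall u hu1 hu2 with h | ⟨a, ha, h⟩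
          · by_cases hub : u &&& b = u
            · exact Or.inr ⟨b, List.mem_cons_self, hub⟩
            · refine Or.inl (List.mem_filter.2 ⟨(List.mem_cons.1 h).resolve_left ?_, by simpa using hub⟩)
              rintro rfl
              exact hub hsb
          · exact Or.inr ⟨a, List.mem_cons_of_mem _ ha, h⟩)
      refine ⟨sol, ?_, hok⟩
      rw [search]
      exact List.mem_flatMap.2 ⟨b, List.mem_filter.2 ⟨hbc, by simpa using hsb⟩, hsol⟩

/-- Completions of a seed. -/
def completions (n t k : ℕ) (seed : List ℕ) : List (List ℕ) :=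
  search n t (2 ^ n) ((kSets n t).filter fun s => seed.all fun a => !(s &&& a == s))
    ((kSets n k).filter fun c => seed.all fun a => decide (pop n (c &&& a) < t)) seed

theorem mem_kSets {n k m : ℕ} : m ∈ kSets n k ↔ m < 2 ^ n ∧ pop n m = k := by
  simp [kSets]

theorem completions_sound {n t k : ℕ} (htk : t ≤ k) {D : Finset ℕ} (hD : IsDesign n t k D) (seed : List ℕ)
    (hseed : ∀ a ∈ seed, a ∈ D) :
    ∃ sol ∈ completions n t k seed, sol = [] ∨ ∀ x, x ∈ D ↔ x ∈ sol := by
  refine search_sound htk hD _ _ _ _ hseed (fun d hd => ?_) (fun s hs => ?_) (fun s h1 h2 => ?_)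
  · by_cases h : d ∈ seed
    · exact Or.inl h
    · refine Or.inr (List.mem_filter.2 ⟨mem_kSets.2 ⟨hD.lt d hd, hD.size d hd⟩, List.all_eq_true.2 fun a ha => ?_⟩)
      refine decide_eq_true (Nat.not_le.1 fun hle => h ?_)
      exact hD.meet d hd a (hseed a ha) hle ▸ ha
  · obtain ⟨h1, h2⟩ := List.mem_filter.1 hs
    refine ⟨(mem_kSets.1 h1).1, (mem_kSets.1 h1).2, fun a ha => ?_⟩
    simpa using List.all_eq_true.1 h2 a ha
  · by_cases h : ∃ a ∈ seed, s &&& a = s
    · exact Or.inr h
    · refine Or.inl (List.mem_filter.2 ⟨mem_kSets.2 ⟨h1, h2⟩, List.all_eq_true.2 fun a ha => ?_⟩)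
      simp only [Bool.not_eq_true', beq_eq_false_iff_ne, ne_eq]
      exact fun e => h ⟨a, ha, e⟩

/-- The image of a set of digits under a list of images. -/
def mapMask (p : List ℕ) (n m : ℕ) : ℕ := maskFn (fun j => (List.range n).any fun i => m.testBit i && (p.getD i n == j)) n

/-- The two lists are mutually inverse bijections of `range n`. -/
def invPair (n : ℕ) (pq : List ℕ × List ℕ) : Bool :=
  (List.range n).all fun i => decide (pq.1.getD i n < n) && decide (pq.2.getD i n < n) &&
    (pq.2.getD (pq.1.getD i n) n == i) && (pq.1.getD (pq.2.getD i n) n == i)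

/-- The bijection of a pair of lists. -/
def permOf (n : ℕ) (pq : List ℕ × List ℕ) (h : invPair n pq = true) : Equiv.Perm (Fin n) where
  toFun i := ⟨pq.1.getD i.1 n, by
    have := List.all_eq_true.1 h i.1 (List.mem_range.2 i.2)
    simp only [Bool.and_eq_true, decide_eq_true_eq] at this
    exact this.1.1.1⟩
  invFun i := ⟨pq.2.getD i.1 n, by
    have := List.all_eq_true.1 h i.1 (List.mem_range.2 i.2)
    simp only [Bool.and_eq_true, decide_eq_true_eq] at this
    exact this.1.1.2⟩
  left_inv i := Fin.ext (by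
    have := List.all_eq_true.1 h i.1 (List.mem_range.2 i.2)
    simp only [Bool.and_eq_true, decide_eq_true_eq, beq_iff_eq] at this
    exact this.1.2)
  right_inv i := Fin.ext (by
    have := List.all_eq_true.1 h i.1 (List.mem_range.2 i.2)
    simp only [Bool.and_eq_true, decide_eq_true_eq, beq_iff_eq] at this
    exact this.2)

theorem mset_mapMask (n : ℕ) (pq : List ℕ × List ℕ) (h : invPair n pq = true) (m : ℕ) :
    mset n (mapMask pq.1 n m) = (mset n m).image (permOf n pq h) := by
  ext j
  rw [mem_mset, mapMask, testBit_maskFn, mem_image]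
  simp only [j.2, decide_true, Bool.true_and, List.any_eq_true, List.mem_range, Bool.and_eq_true, beq_iff_eq]
  constructor
  · rintro ⟨i, hi, hm, he⟩
    exact ⟨⟨i, hi⟩, mem_mset.2 hm, Fin.ext he⟩
  · rintro ⟨i, hi, rfl⟩
    exact ⟨i.1, i.2, mem_mset.1 hi, rfl⟩

/-- Every completion has a listed map into the standard system. -/
def checkUnique (n : ℕ) (sols : List (List ℕ)) (perms : List (List ℕ × List ℕ)) (K : List ℕ) : Bool :=
  sols.all fun s => !s.isEmpty && perms.any fun pq => invPair n pq && s.all fun b => K.contains (mapMask pq.1 n b)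

section bridge

variable {γ : Type*} [Fintype γ] [DecidableEq γ] {B : Finset (Finset γ)} {n t k : ℕ}

/-- The numbers of the blocks under a labelling. -/
def maskSet (e : γ ≃ Fin n) (B : Finset (Finset γ)) : Finset ℕ := B.image fun b => mask (b.image e)

theorem isDesign_maskSet (hk : ∀ b ∈ B, b.card = k) (hu : ∀ F : Finset γ, F.card = t → ∃! b, b ∈ B ∧ F ⊆ b)
    (e : γ ≃ Fin n) : IsDesign n t k (maskSet e B) := by
  have hm : ∀ {d}, d ∈ maskSet e B → ∃ b ∈ B, mask (b.image e) = d := fun hd => mem_image.1 hd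
  refine ⟨fun d hd => ?_, fun d hd => ?_, fun s hs hst => ?_, fun d hd f hf h => ?_⟩
  · obtain ⟨b, -, rfl⟩ := hm hd; exact mask_lt _
  · obtain ⟨b, hb, rfl⟩ := hm hd
    rw [← card_mset, mset_mask, card_image_of_injective _ e.injective, hk b hb]
  · obtain ⟨b, ⟨hb, hsb⟩, -⟩ := hu ((mset n s).image e.symm) (by rw [card_image_of_injective _ e.symm.injective, card_mset, hst])
    refine ⟨_, mem_image_of_mem _ hb, subset_mset (fun i hi => ?_) hs⟩
    rw [mset_mask, mem_image]
    exact ⟨_, hsb (mem_image_of_mem _ hi), e.apply_symm_apply i⟩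
  · obtain ⟨b, hb, rfl⟩ := hm hd
    obtain ⟨c, hc, rfl⟩ := hm hf
    rw [← card_mset, mset_and, mset_mask, mset_mask, ← image_inter _ _ e.injective, card_image_of_injective _ e.injective] at h
    obtain ⟨F, hF, hFc⟩ := exists_subset_card_eq h
    rw [(hu F hFc).unique ⟨hb, hF.trans inter_subset_left⟩ ⟨hc, hF.trans inter_subset_right⟩]

theorem standard_form (htk : t ≤ k) (hk : ∀ b ∈ B, b.card = k)
    (hu : ∀ F : Finset γ, F.card = t → ∃! b, b ∈ B ∧ F ⊆ b) (e : γ ≃ Fin n) (seed : List ℕ)
    (hseed : ∀ a ∈ seed, ∃ b ∈ B, b.image e = mset n a) (hlt : ∀ a ∈ seed, a < 2 ^ n)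
    (perms : List (List ℕ × List ℕ)) (K : List ℕ) (hK : K.Nodup) (hKlen : K.length ≤ B.card)
    (hcheck : checkUnique n (completions n t k seed) perms K = true) :
    ∃ f : γ ≃ Fin n, ∀ X : Finset γ, X ∈ B ↔ ∃ m ∈ K, X.image f = mset n m := by
  classical
  obtain ⟨sol, hsol, hok⟩ := completions_sound htk (isDesign_maskSet hk hu e) seed fun a ha => by
    obtain ⟨b, hb, he⟩ := hseed a ha
    refine mem_image.2 ⟨b, hb, mset_injOn (mask_lt _) (hlt a ha) ?_⟩
    rw [mset_mask, he]
  have hc := List.all_eq_true.1 hcheck sol hsol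
  simp only [Bool.and_eq_true, List.any_eq_true, List.all_eq_true, List.contains_iff_mem,
    Bool.not_eq_true'] at hc
  obtain ⟨hne, pq, -, hpq, hmap⟩ := hc
  have hiff := hok.resolve_left fun h => by simp [h] at hne
  refine ⟨e.trans (permOf n pq hpq), ?_⟩
  have himg : ∀ b ∈ B, ∃ m ∈ K, b.image (e.trans (permOf n pq hpq)) = mset n m := by
    intro b hb
    refine ⟨_, hmap _ ((hiff _).1 (mem_image_of_mem _ hb)), ?_⟩
    rw [mset_mapMask n pq hpq, mset_mask, image_image]
    rfl
  have hsub : B.image (fun b => b.image (e.trans (permOf n pq hpq))) ⊆ K.toFinset.image (mset n) := by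
    intro Y hY
    obtain ⟨b, hb, rfl⟩ := mem_image.1 hY
    obtain ⟨m, hm, he⟩ := himg b hb
    exact mem_image.2 ⟨m, List.mem_toFinset.2 hm, he.symm⟩
  have heq := eq_of_subset_of_card_le hsub (by
    rw [card_image_of_injective _ (image_injective (e.trans (permOf n pq hpq)).injective)]
    exact card_image_le.trans ((List.toFinset_card_of_nodup hK).le.trans hKlen))
  intro X
  refine ⟨fun hX => himg X hX, fun ⟨m, hm, he⟩ => ?_⟩
  have : X.image (e.trans (permOf n pq hpq)) ∈ B.image (fun b => b.image (e.trans (permOf n pq hpq))) := by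
    rw [heq, he]; exact mem_image_of_mem _ (List.mem_toFinset.2 hm)
  obtain ⟨b, hb, he'⟩ := mem_image.1 this
  rwa [← image_injective (e.trans (permOf n pq hpq)).injective he']

end bridge

end CfsgLib.Spor.Search
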