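/-
Meeting numbers in the smaller Mathieu designs.
-/
import Cfsg.Agent.Lib.Spor.SteinerGeneral

set_option autoImplicit false

namespace CfsgLib.Spor.Steiner

open Cfsg Finset

variable {α : Type*} [Fintype α] [DecidableEq α] {B : Finset (Finset α)}

theorem meet_seven (hα : Fintype.card α = 23) (hk : ∀ b ∈ B, b.card = 7)
    (hu : ∀ F : Finset α, F.card = 4 → ∃! b, b ∈ B ∧ F ⊆ b) {b : Finset α} (hb : b ∈ B) :
    meetNum B b 0 = 0 ∧ meetNum B b 1 = 112 ∧ meetNum B b 2 = 0 ∧ meetNum B b 3 = 140 := by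
  have h0 := moment hk hu hb 0 (by omega)
  have h1 := moment hk hu hb 1 (by omega)
  have h2 := moment hk hu hb 2 (by omega)
  have h3 := moment hk hu hb 3 (by omega)
  simp [hα, sum_range_succ, Nat.choose] at h0 h1 h2 h3
  omega

theorem meet_six (hα : Fintype.card α = 22) (hk : ∀ b ∈ B, b.card = 6)
    (hu : ∀ F : Finset α, F.card = 3 → ∃! b, b ∈ B ∧ F ⊆ b) {b : Finset α} (hb : b ∈ B) :
    meetNum B b 0 = 16 ∧ meetNum B b 1 = 0 ∧ meetNum B b 2 = 60 := by
  have h0 := moment hk hu hb 0 (by omega)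
  have h1 := moment hk hu hb 1 (by omega)
  have h2 := moment hk hu hb 2 (by omega)
  simp [hα, sum_range_succ, Nat.choose] at h0 h1 h2
  omega

theorem meet_twelve (hα : Fintype.card α = 12) (hk : ∀ b ∈ B, b.card = 6)
    (hu : ∀ F : Finset α, F.card = 5 → ∃! b, b ∈ B ∧ F ⊆ b) {b : Finset α} (hb : b ∈ B) :
    meetNum B b 0 = 1 ∧ meetNum B b 1 = 0 ∧ meetNum B b 2 = 45 ∧ meetNum B b 3 = 40 ∧ meetNum B b 4 = 45 := by
  have h0 := moment hk hu hb 0 (by omega)
  have h1 := moment hk hu hb 1 (by omega)
  have h2 := moment hk hu hb 2 (by omega)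
  have h3 := moment hk hu hb 3 (by omega)
  have h4 := moment hk hu hb 4 (by omega)
  simp [hα, sum_range_succ, Nat.choose] at h0 h1 h2 h3 h4
  omega

/-- Blocks through `s` other than `b`, split by their exact trace on `b`. -/
theorem through_split {t k : ℕ} (hk : ∀ b ∈ B, b.card = k) (hu : ∀ F : Finset α, F.card = t → ∃! b, b ∈ B ∧ F ⊆ b)
    {b : Finset α} (hb : b ∈ B) (s : Finset α) (hs : s ⊆ b) :
    (B.filter fun c => s ⊆ c).card = 1 + ∑ j ∈ range t, ∑ x ∈ (powersetCard j b).filter (fun x => s ⊆ x),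
      ((B.erase b).filter fun c => c ∩ b = x).card := by
  have e : B.filter (fun c => s ⊆ c) = insert b ((B.erase b).filter fun c => s ⊆ c) := by
    rw [filter_erase, insert_erase (mem_filter.2 ⟨hb, hs⟩)]
  rw [e, card_insert_of_notMem (fun h => ne_of_mem_erase (mem_filter.1 h).1 rfl), add_comm]
  congr 1
  rw [← sum_biUnion, card_eq_sum_card_fiberwise (f := fun c => c ∩ b) (s := (B.erase b).filter fun c => s ⊆ c)
    (t := (range t).biUnion fun j => (powersetCard j b).filter fun x => s ⊆ x)]
  · refine sum_congr rfl fun x hx => ?_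
    obtain ⟨j, -, hx⟩ := mem_biUnion.1 hx
    rw [filter_filter]
    refine congrArg Finset.card (filter_congr fun c _ => ?_)
    constructor
    · exact fun h => h.2
    · rintro rfl
      exact ⟨(mem_filter.1 hx).2.trans inter_subset_left, rfl⟩
  · intro c hc
    rw [mem_coe] at hc ⊢
    obtain ⟨hc1, hc2⟩ := mem_filter.1 hc
    exact mem_biUnion.2 ⟨(c ∩ b).card, mem_range.2 (meet_lt hk hu hb (mem_of_mem_erase hc1) (ne_of_mem_erase hc1)),
      mem_filter.2 ⟨mem_powersetCard.2 ⟨inter_subset_right, rfl⟩, subset_inter hc2 hs⟩⟩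
  · intro i _ j _ hij
    exact disjoint_left.2 fun x hx hx' =>
      hij ((mem_powersetCard.1 (mem_filter.1 hx).1).2.symm.trans (mem_powersetCard.1 (mem_filter.1 hx').1).2)

theorem exact_trace (hα : Fintype.card α = 12) (hk : ∀ b ∈ B, b.card = 6)
    (hu : ∀ F : Finset α, F.card = 5 → ∃! b, b ∈ B ∧ F ⊆ b) {b : Finset α} (hb : b ∈ B) (s : Finset α) (hs : s ⊆ b) :
    (s.card = 2 → ((B.erase b).filter fun c => c ∩ b = s).card = 3) ∧
    (s.card = 3 → ((B.erase b).filter fun c => c ∩ b = s).card = 2) ∧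
    (s.card = 4 → ((B.erase b).filter fun c => c ∩ b = s).card = 3) := by
  have base : ∀ x : Finset α, x ⊆ b → ∀ n, x.card = n → n ≤ 4 →
      (B.filter fun c => x ⊆ c).card * (6 - n).choose (5 - n) = (12 - n).choose (5 - n) := by
    intro x _ n hx hn
    have := blocks_through hk hu x (by omega)
    rwa [hx, hα] at this
  have low : ∀ (x : Finset α) j, j < x.card → (powersetCard j b).filter (fun y => x ⊆ y) = ∅ := by
    intro x j hj
    refine filter_eq_empty_iff.2 fun y hy h => ?_
    have := card_le_card h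
    rw [(mem_powersetCard.1 hy).2] at this
    omega
  have self : ∀ (x : Finset α), x ⊆ b → (powersetCard x.card b).filter (fun y => x ⊆ y) = {x} := by
    intro x hx
    ext y
    simp only [mem_filter, mem_powersetCard, mem_singleton]
    refine ⟨fun h => (eq_of_subset_of_card_le h.2 h.1.2.le).symm, ?_⟩
    rintro rfl
    exact ⟨⟨hx, rfl⟩, subset_rfl⟩
  have cnt : ∀ (x : Finset α) j, x ⊆ b → x.card ≤ j →
      ((powersetCard j b).filter fun y => x ⊆ y).card = (6 - x.card).choose (j - x.card) := by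
    intro x j hx hj
    rw [card_between_sets x b j hx hj, hk b hb]
  have e4 : ∀ x : Finset α, x ⊆ b → x.card = 4 → ((B.erase b).filter fun c => c ∩ b = x).card = 3 := by
    intro x hx h4
    have h := through_split hk hu hb x hx
    have hN := base x hx 4 h4 le_rfl
    simp only [sum_range_succ, sum_range_zero, sum_empty, sum_singleton, zero_add, add_zero, low x 0 (by omega), low x 1 (by omega), low x 2 (by omega), low x 3 (by omega),
      h4 ▸ self x hx] at h
    simp [Nat.choose] at hN
    omega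
  have e3 : ∀ x : Finset α, x ⊆ b → x.card = 3 → ((B.erase b).filter fun c => c ∩ b = x).card = 2 := by
    intro x hx h3
    have h := through_split hk hu hb x hx
    have hN := base x hx 3 h3 (by omega)
    have hs4 : ∑ y ∈ (powersetCard 4 b).filter (fun y => x ⊆ y), ((B.erase b).filter fun c => c ∩ b = y).card = 9 := by
      rw [sum_congr rfl (g := fun _ => 3) fun y hy => e4 y (mem_powersetCard.1 (mem_filter.1 hy).1).1
        (mem_powersetCard.1 (mem_filter.1 hy).1).2, sum_const, cnt x 4 hx (by omega), h3]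
      rfl
    simp only [sum_range_succ, sum_range_zero, sum_empty, sum_singleton, zero_add, add_zero, low x 0 (by omega), low x 1 (by omega), low x 2 (by omega),
      h3 ▸ self x hx, hs4] at h
    simp [Nat.choose] at hN
    omega
  refine ⟨fun h2 => ?_, e3 s hs, e4 s hs⟩
  have h := through_split hk hu hb s hs
  have hN := base s hs 2 h2 (by omega)
  have hs3 : ∑ y ∈ (powersetCard 3 b).filter (fun y => s ⊆ y), ((B.erase b).filter fun c => c ∩ b = y).card = 8 := by
    rw [sum_congr rfl (g := fun _ => 2) fun y hy => e3 y (mem_powersetCard.1 (mem_filter.1 hy).1).1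
      (mem_powersetCard.1 (mem_filter.1 hy).1).2, sum_const, cnt s 3 hs (by omega), h2]
    rfl
  have hs4 : ∑ y ∈ (powersetCard 4 b).filter (fun y => s ⊆ y), ((B.erase b).filter fun c => c ∩ b = y).card = 18 := by
    rw [sum_congr rfl (g := fun _ => 3) fun y hy => e4 y (mem_powersetCard.1 (mem_filter.1 hy).1).1
      (mem_powersetCard.1 (mem_filter.1 hy).1).2, sum_const, cnt s 4 hs (by omega), h2]
    rfl
  simp only [sum_range_succ, sum_range_zero, sum_empty, sum_singleton, zero_add, add_zero, low s 0 (by omega), low s 1 (by omega), h2 ▸ self s hs, hs3, hs4] at h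
  simp [Nat.choose] at hN
  omega

end CfsgLib.Spor.Steiner
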