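/-
Orbit certificates stored in packed arrays: a breadth-first tree over given generators covering a given list.
-/
import Cfsg.Agent.Lib.Spor.M24Gen

namespace CfsgLib.Spor

open Cfsg
open scoped Pointwise

/-- Value `0` is the root; every later value is the image of an earlier one under a listed generator
(a record holds `parent + 4096 * generator`). -/
def orbitCheck (act : ℕ → ℕ → ℕ) (gens : List ℕ) (root V P n : ℕ) : Bool :=
  (List.range n).all fun i =>
    if i = 0 then arrGet 24 V 0 == root
    else
      let k := arrGet 24 P i
      decide (k % 4096 < i) && (decide (k / 4096 < gens.length) &&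
        (arrGet 24 V i == act (gens.getD (k / 4096) 0) (arrGet 24 V (k % 4096))))

/-- The list, read from position `i` on, consists of the values listed by the index array `O`. -/
def coverList (V O n : ℕ) : ℕ → List ℕ → Bool
  | _, [] => true
  | i, x :: l => let j := arrGet 24 O i
    decide (j < n) && (arrGet 24 V j == x) && coverList V O n (i + 1) l

theorem exists_index_of_coverList {V O n : ℕ} : ∀ (i : ℕ) (l : List ℕ), coverList V O n i l = true →
    ∀ x ∈ l, ∃ j < n, arrGet 24 V j = x
  | _, [], _, x, hx => absurd hx List.not_mem_nil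
  | i, a :: l, h, x, hx => by
    simp only [coverList, Bool.and_eq_true, decide_eq_true_eq, beq_iff_eq] at h
    obtain ⟨⟨hj, e⟩, hl⟩ := h
    rcases List.mem_cons.1 hx with rfl | hx
    · exact ⟨_, hj, e⟩
    · exact exists_index_of_coverList (i + 1) l hl x hx

/-- Every member of the covered list has any property that the root has and the generators preserve. -/
theorem orbit_induction {act : ℕ → ℕ → ℕ} {gens : List ℕ} {root V P n O : ℕ} {L : List ℕ}
    (ho : orbitCheck act gens root V P n = true) (hc : coverList V O n 0 L = true)
    (Q : ℕ → Prop) (hroot : Q root) (hstep : ∀ g ∈ gens, ∀ x, Q x → Q (act g x)) :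
    ∀ x ∈ L, Q x := by
  have key : ∀ i < n, Q (arrGet 24 V i) := by
    intro i
    induction i using Nat.strong_induction_on with
    | _ i ih =>
      intro hi
      simp only [orbitCheck, List.all_eq_true, List.mem_range] at ho
      have h := ho i hi
      by_cases h0 : i = 0
      · subst h0; simp only [if_pos, beq_iff_eq] at h; rwa [h]
      · simp only [if_neg h0, Bool.and_eq_true, decide_eq_true_eq, beq_iff_eq] at h
        obtain ⟨hp, hg, e⟩ := h
        rw [e]
        refine hstep _ ?_ _ (ih _ hp (hp.trans hi))
        rw [List.getD_eq_getElem _ _ hg]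
        exact List.getElem_mem hg
  intro x hx
  obtain ⟨j, hj, rfl⟩ := exists_index_of_coverList 0 L hc x hx
  exact key j hj

/-- Orbit certificate for masks under packed permutations. -/
theorem exists_smul_of_orbit {gens : List ℕ} {root V P n O : ℕ} {L : List ℕ}
    (ho : orbitCheck permMask gens root V P n = true) (hc : coverList V O n 0 L = true)
    (H : Subgroup (Equiv.Perm GolayPt)) (hgens : ∀ g ∈ gens, isPermCode g = true ∧ permOf g ∈ H) :
    ∀ x ∈ L, ∃ g ∈ H, g • pts root = pts x := by
  refine orbit_induction ho hc (fun x => ∃ g ∈ H, g • pts root = pts x) ⟨1, H.one_mem, one_smul _ _⟩ ?_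
  rintro g hg x ⟨h, hh, e⟩
  exact ⟨permOf g * h, H.mul_mem (hgens g hg).2 hh, by rw [mul_smul, e, smul_pts (hgens g hg).1]⟩

/-- The masks of the code words of a given weight. -/
def weightList (w : ℕ) : List ℕ := codeList.filter fun m => pop 24 m == w

theorem mem_weightList {w : ℕ} {s : Finset GolayPt}
    (hs : s ∈ wordsOfWeight (golayCode : Set (GolayPt → ZMod 2)) w) :
    ∃ m ∈ weightList w, pts m = s := by
  rw [wordsOfWeight_eq, Finset.coe_image] at hs
  obtain ⟨m, hm, rfl⟩ := hs
  exact ⟨m, List.mem_toFinset.1 hm, rfl⟩

end CfsgLib.Spor
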