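/-
Exact orbit decompositions from packed certificates, and groups of known order from straight-line programs.
-/
import Cfsg.Agent.Lib.Spor.Orbit

namespace CfsgLib.Spor

open Cfsg
open scoped Pointwise

/-- The subgroup generated by listed packed permutations. -/
def codesClosure (gens : List ℕ) : Subgroup (Equiv.Perm GolayPt) :=
  Subgroup.closure {g | ∃ c ∈ gens, permOf c = g}

theorem codesClosure_le {gens : List ℕ} {H : Subgroup (Equiv.Perm GolayPt)}
    (h : ∀ c ∈ gens, permOf c ∈ H) : codesClosure gens ≤ H := by
  rw [codesClosure, Subgroup.closure_le]; rintro g ⟨c, hc, rfl⟩; exact h c hc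

/-- The packed identity. -/
def idPacked : ℕ := packFn (fun i => i) 0 24

theorem permOf_idPacked : permOf idPacked = 1 := by
  ext p : 1
  rw [permOf_apply (by decide +kernel), idPacked,
    permFn_packFn _ _ _ _ (ptIdx_lt p) (fun j hj => by omega), Nat.zero_add, idxPt_ptIdx]
  rfl

/-! ### A lower bound for the order -/

/-- The elements of a group fixing the first `k` listed indices. -/
def fixFirst (K : Subgroup (Equiv.Perm GolayPt)) (bs : List ℕ) (k : ℕ) : Subgroup (Equiv.Perm GolayPt) :=
  K ⊓ ⨅ j : Fin k, MulAction.stabilizer (Equiv.Perm GolayPt) (idxPt (bs.getD j 0))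

theorem mem_fixFirst {K : Subgroup (Equiv.Perm GolayPt)} {bs : List ℕ} {k : ℕ} {g : Equiv.Perm GolayPt} :
    g ∈ fixFirst K bs k ↔ g ∈ K ∧ ∀ j < k, g (idxPt (bs.getD j 0)) = idxPt (bs.getD j 0) := by
  simp [fixFirst, Subgroup.mem_iInf, Fin.forall_iff]

/-- Level `k` lists values fixing the earlier indices with distinct images of index `k`. -/
def levelsCheck (bs : List ℕ) (W n : ℕ) (targets : List (List ℕ)) : Bool :=
  (List.range bs.length).all fun k => decide (bs.getD k 0 < 24) &&
    (decide ((targets.getD k []).map fun x => permFn (arrGet 120 W x) (bs.getD k 0)).Nodup &&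
      (targets.getD k []).all fun x => decide (x < n) &&
        (List.range k).all fun j => permFn (arrGet 120 W x) (bs.getD j 0) == bs.getD j 0)

theorem le_card_of_levelsCheck {bs : List ℕ} {W n : ℕ} {targets : List (List ℕ)}
    (h : levelsCheck bs W n targets = true) (hperm : ∀ i < n, isPermCode (arrGet 120 W i) = true)
    {K : Subgroup (Equiv.Perm GolayPt)} (hmem : ∀ i < n, permOf (arrGet 120 W i) ∈ K) :
    ((List.range bs.length).map fun k => (targets.getD k []).length).prod ≤ Nat.card K := by
  simp only [levelsCheck, List.all_eq_true, List.mem_range, Bool.and_eq_true, decide_eq_true_eq,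
    beq_iff_eq] at h
  have key : ∀ d k, k + d = bs.length →
      ((List.range' k d).map fun i => (targets.getD i []).length).prod ≤ Nat.card (fixFirst K bs k) := by
    intro d
    induction d with
    | zero => intro k _; simp [Nat.one_le_iff_ne_zero, Nat.card_pos.ne']
    | succ d ih =>
      intro k hk
      obtain ⟨hb, hnd, hall⟩ := h k (by omega)
      have hmemk : ∀ x ∈ targets.getD k [], permOf (arrGet 120 W x) ∈ fixFirst K bs k := fun x hx => by
        refine mem_fixFirst.2 ⟨hmem x (hall x hx).1, fun j hj => ?_⟩
        rw [permOf_idxPt (hperm x (hall x hx).1) (h j (by omega)).1, (hall x hx).2 j hj]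
      rw [List.range'_succ, List.map_cons, List.prod_cons]
      refine le_trans (Nat.mul_le_mul_left _ (ih (k + 1) (by omega))) ?_
      let L := {x : ℕ // x ∈ (targets.getD k []).toFinset}
      have hle : fixFirst K bs (k + 1) ≤ fixFirst K bs k := fun g hg =>
        mem_fixFirst.2 ⟨(mem_fixFirst.1 hg).1, fun j hj => (mem_fixFirst.1 hg).2 j (Nat.lt_succ_of_lt hj)⟩
      let f : L × fixFirst K bs (k + 1) → fixFirst K bs k := fun p =>
        ⟨permOf (arrGet 120 W p.1.1) * p.2.1, mul_mem (hmemk _ (List.mem_toFinset.1 p.1.2)) (hle p.2.2)⟩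
      have hf : Function.Injective f := by
        rintro ⟨⟨x, hx⟩, a⟩ ⟨⟨y, hy⟩, b⟩ e
        have hx' := List.mem_toFinset.1 hx
        have hy' := List.mem_toFinset.1 hy
        have e' : permOf (arrGet 120 W x) * a.1 = permOf (arrGet 120 W y) * b.1 := congrArg Subtype.val e
        have e2 := congrArg (fun σ : Equiv.Perm GolayPt => ptIdx (σ (idxPt (bs.getD k 0)))) e'
        simp only [Equiv.Perm.mul_apply, (mem_fixFirst.1 a.2).2 k (Nat.lt_succ_self k),
          (mem_fixFirst.1 b.2).2 k (Nat.lt_succ_self k)] at e2
        rw [permOf_idxPt (hperm x (hall x hx').1) hb, permOf_idxPt (hperm y (hall y hy').1) hb,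
          ptIdx_idxPt _ (permFn_lt (hperm x (hall x hx').1) hb),
          ptIdx_idxPt _ (permFn_lt (hperm y (hall y hy').1) hb)] at e2
        have hxy : x = y := List.inj_on_of_nodup_map hnd hx' hy' e2
        subst hxy
        simp only [mul_right_inj] at e'
        exact Prod.ext rfl (Subtype.ext e')
      refine le_trans (le_of_eq ?_) (Nat.card_le_card_of_injective f hf)
      rw [Nat.card_prod, Nat.card_eq_fintype_card (α := L), Fintype.card_coe,
        List.toFinset_card_of_nodup (List.Nodup.of_map _ hnd)]
  refine le_trans ?_ (Subgroup.card_le_of_le (inf_le_left : fixFirst K bs 0 ≤ K))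
  rw [List.range_eq_range']
  exact key _ 0 (Nat.zero_add _)

/-- A group containing the listed generators, of order at most the certified one, is their closure. -/
theorem eq_codesClosure {gens bs : List ℕ} {W n ops N : ℕ} {targets : List (List ℕ)}
    (hslp : slpCheck (gens.length + 1) n W ops = true)
    (hW : (List.range (gens.length + 1)).map (arrGet 120 W) = idPacked :: gens)
    (hlev : levelsCheck bs W n targets = true)
    (hN : ((List.range bs.length).map fun k => (targets.getD k []).length).prod = N)
    {H : Subgroup (Equiv.Perm GolayPt)} (hgen : ∀ c ∈ gens, permOf c ∈ H) (hH : Nat.card H ≤ N) :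
    H = codesClosure gens := by
  refine (Subgroup.eq_of_le_of_card_ge (codesClosure_le hgen) (hH.trans ?_)).symm
  rw [← hN]
  refine le_card_of_levelsCheck hlev (isPermCode_of_slpCheck hslp) (mem_of_slpCheck hslp _ fun i hi => ?_)
  have e : (idPacked :: gens)[i]'(by simpa using hi) = arrGet 120 W i := by
    simp [← hW]
  rw [← e]
  rcases i with _ | i
  · rw [List.getElem_cons_zero, permOf_idPacked]; exact one_mem _
  · simp only [List.getElem_cons_succ]
    exact Subgroup.subset_closure ⟨_, List.getElem_mem _, rfl⟩

/-! ### Exact orbits -/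

/-- A segment: the closure array holds every image; a record names the parent and generator reaching each value. -/
def segCheck (act : ℕ → ℕ → ℕ) (tabs : List ℕ) (w V P C s len : ℕ) : Bool :=
  decide (0 < len) && (List.range len).all fun j =>
    let i := s + j
    (decide (j = 0) ||
      (let k := arrGet 24 P i
       decide (s ≤ k % 4096) && (decide (k % 4096 < i) && (decide (k / 4096 < tabs.length) &&
        (arrGet 16 C (k % 4096 * tabs.length + k / 4096) == i))))) &&
    (List.range tabs.length).all fun c =>
      let q := arrGet 16 C (i * tabs.length + c)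
      decide (s ≤ q) && (decide (q < s + len) && (act (tabs.getD c 0) (arrGet w V i) == arrGet w V q))

/-- Consecutive segments from `s` on. -/
def segsCheck (act : ℕ → ℕ → ℕ) (tabs : List ℕ) (w V P C : ℕ) : ℕ → List ℕ → Bool
  | _, [] => true
  | s, len :: l => segCheck act tabs w V P C s len && segsCheck act tabs w V P C (s + len) l

/-- The values read through the index array increase strictly. -/
def distinctCheck (w V S N : ℕ) : Bool :=
  (List.range N).all fun i => decide (arrGet 16 S i < N) &&
    (decide (i + 1 = N) || decide (arrGet w V (arrGet 16 S i) < arrGet w V (arrGet 16 S (i + 1))))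

theorem injOn_of_distinctCheck {w V S N : ℕ} (h : distinctCheck w V S N = true) :
    Set.InjOn (arrGet w V) (Set.Iio N) := by
  simp only [distinctCheck, List.all_eq_true, List.mem_range, Bool.and_eq_true, Bool.or_eq_true,
    decide_eq_true_eq] at h
  have hmono : ∀ a b, a < b → b < N → arrGet w V (arrGet 16 S a) < arrGet w V (arrGet 16 S b) := by
    intro a b hab
    induction b, Nat.succ_le_of_lt hab using Nat.le_induction with
    | base => intro hb; rcases (h a (by omega)).2 with h' | h' <;> [omega; exact h']
    | succ b hb ih =>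
      intro hb'
      rcases (h b (by omega)).2 with h' | h'
      · omega
      · exact (ih (by omega) (by omega)).trans h'
  let σ : Fin N → Fin N := fun i => ⟨arrGet 16 S i, (h i i.2).1⟩
  have hσ : Function.Injective σ := fun a b e => by
    have e' : arrGet 16 S a = arrGet 16 S b := congrArg Fin.val e
    rcases lt_trichotomy (a : ℕ) b with hl | hl | hl
    · have := hmono a b hl b.2; rw [e'] at this; omega
    · exact Fin.ext hl
    · have := hmono b a hl a.2; rw [e'] at this; omega
  intro x hx y hy e
  obtain ⟨a, ha⟩ := (Finite.injective_iff_surjective.1 hσ) ⟨x, hx⟩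
  obtain ⟨b, hb⟩ := (Finite.injective_iff_surjective.1 hσ) ⟨y, hy⟩
  have hx' : arrGet 16 S a = x := congrArg Fin.val ha
  have hy' : arrGet 16 S b = y := congrArg Fin.val hb
  rw [← hx', ← hy'] at e ⊢
  rcases lt_trichotomy (a : ℕ) b with hl | hl | hl
  · have := hmono a b hl b.2; omega
  · rw [hl]
  · have := hmono b a hl a.2; omega

/-- The start of the segment with a given number. -/
def segStart (lens : List ℕ) (k : ℕ) : ℕ := (lens.take k).sum

/-- The decoded members of a segment. -/
def segSet {β : Type*} (dec : ℕ → β) (w V : ℕ) (lens : List ℕ) (k : ℕ) : Set β :=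
  (fun i => dec (arrGet w V i)) '' Set.Ico (segStart lens k) (segStart lens k + lens.getD k 0)

theorem segCheck_of_segsCheck {act : ℕ → ℕ → ℕ} {tabs : List ℕ} {w V P C : ℕ} :
    ∀ (lens : List ℕ) (s : ℕ), segsCheck act tabs w V P C s lens = true →
      ∀ k < lens.length, segCheck act tabs w V P C (s + segStart lens k) (lens.getD k 0) = true
  | [], _, _, k, hk => absurd hk (Nat.not_lt_zero k)
  | a :: l, s, h, k, hk => by
    simp only [segsCheck, Bool.and_eq_true] at h
    rcases k with _ | k
    · simpa [segStart] using h.1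
    · have := segCheck_of_segsCheck l (s + a) h.2 k (by simpa using hk)
      simpa [segStart, Nat.add_assoc] using this

theorem segStart_add_le (lens : List ℕ) {k : ℕ} (hk : k < lens.length) :
    segStart lens k + lens.getD k 0 ≤ lens.sum := by
  rw [List.getD_eq_getElem _ _ hk, segStart, ← List.sum_take_succ _ _ hk]
  conv_rhs => rw [← List.take_append_drop (k + 1) lens, List.sum_append]
  exact Nat.le_add_right _ _

/-- The table `tabs[m]` carries out the action of the generator `gens[m]` on decoded values. -/
def ActsAs {β : Type*} [MulAction (Equiv.Perm GolayPt) β] (act : ℕ → ℕ → ℕ) (gens tabs : List ℕ)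
    (dec : ℕ → β) : Prop :=
  tabs.length = gens.length ∧ ∀ m < gens.length, ∀ x, permOf (gens.getD m 0) • dec x = dec (act (tabs.getD m 0) x)

variable {β : Type*} [MulAction (Equiv.Perm GolayPt) β] {act : ℕ → ℕ → ℕ} {gens tabs : List ℕ}
  {w V P C : ℕ} {lens : List ℕ} {dec : ℕ → β}

theorem closure_le_stabilizer_segSet (hs : segsCheck act tabs w V P C 0 lens = true)
    (hact : ActsAs act gens tabs dec) {k : ℕ} (hk : k < lens.length) :
    codesClosure gens ≤ MulAction.stabilizer (Equiv.Perm GolayPt) (segSet dec w V lens k) := by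
  refine codesClosure_le fun c hc => ?_
  rw [MulAction.mem_stabilizer_iff]
  have hsub : permOf c • segSet dec w V lens k ⊆ segSet dec w V lens k := by
    have h := segCheck_of_segsCheck lens 0 hs k hk
    rw [Nat.zero_add] at h
    simp only [segCheck, Bool.and_eq_true, List.all_eq_true, List.mem_range, decide_eq_true_eq,
      beq_iff_eq] at h
    rintro _ ⟨_, ⟨i, ⟨hi1, hi2⟩, rfl⟩, rfl⟩
    obtain ⟨m, hm, rfl⟩ := List.mem_iff_getElem.1 hc
    obtain ⟨hq1, hq2, hq3⟩ := (h.2 (i - segStart lens k) (by omega)).2 m (hact.1 ▸ hm)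
    rw [Nat.add_sub_cancel' hi1] at hq1 hq2 hq3
    refine ⟨_, ⟨hq1, hq2⟩, ?_⟩
    have := hact.2 m hm (arrGet w V i)
    rw [List.getD_eq_getElem _ _ hm, hq3] at this
    exact this.symm
  refine Set.eq_of_subset_of_ncard_le hsub (le_of_eq (Set.ncard_smul_set _ _).symm) ?_
  exact (Set.finite_Ico _ _).image _

theorem segSet_subset_orbit (hs : segsCheck act tabs w V P C 0 lens = true)
    (hact : ActsAs act gens tabs dec) {k : ℕ} (hk : k < lens.length) :
    segSet dec w V lens k ⊆ MulAction.orbit (codesClosure gens) (dec (arrGet w V (segStart lens k))) := by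
  have h := segCheck_of_segsCheck lens 0 hs k hk
  rw [Nat.zero_add] at h
  simp only [segCheck, Bool.and_eq_true, List.all_eq_true, List.mem_range, Bool.or_eq_true,
    decide_eq_true_eq, beq_iff_eq] at h
  have key : ∀ j < lens.getD k 0, dec (arrGet w V (segStart lens k + j)) ∈
      MulAction.orbit (codesClosure gens) (dec (arrGet w V (segStart lens k))) := by
    intro j
    induction j using Nat.strong_induction_on with
    | _ j ih =>
      intro hj
      rcases (h.2 j hj).1 with h0 | ⟨hp1, hp2, hp3, hp4⟩
      · subst h0; exact MulAction.mem_orbit_self _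
      · set p := arrGet 24 P (segStart lens k + j) % 4096
        set c := arrGet 24 P (segStart lens k + j) / 4096
        obtain ⟨-, -, hq3⟩ := (h.2 (p - segStart lens k) (by omega)).2 c hp3
        rw [Nat.add_sub_cancel' hp1, hp4] at hq3
        have hc : c < gens.length := hact.1 ▸ hp3
        rw [← hq3, ← hact.2 c hc, List.getD_eq_getElem _ _ hc]
        obtain ⟨q, hq⟩ := ih (p - segStart lens k) (by omega) (by omega)
        rw [Nat.add_sub_cancel' hp1] at hq
        rw [← hq]
        exact ⟨⟨_, (codesClosure gens).mul_mem (Subgroup.subset_closure ⟨_, List.getElem_mem hc, rfl⟩) q.2⟩,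
          mul_smul _ _ _⟩
  rintro _ ⟨i, ⟨hi1, hi2⟩, rfl⟩
  have := key (i - segStart lens k) (by omega)
  rwa [Nat.add_sub_cancel' hi1] at this

/-- Each segment is exactly an orbit of the closure. -/
theorem orbit_eq_segSet (hs : segsCheck act tabs w V P C 0 lens = true)
    (hact : ActsAs act gens tabs dec) {k : ℕ} (hk : k < lens.length) :
    MulAction.orbit (codesClosure gens) (dec (arrGet w V (segStart lens k))) = segSet dec w V lens k := by
  refine Set.Subset.antisymm ?_ (segSet_subset_orbit hs hact hk)
  rintro _ ⟨g, rfl⟩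
  have hg := closure_le_stabilizer_segSet hs hact hk g.2
  rw [MulAction.mem_stabilizer_iff] at hg
  rw [← hg]
  refine Set.smul_mem_smul_set ⟨_, ⟨le_rfl, ?_⟩, rfl⟩
  have h := segCheck_of_segsCheck lens 0 hs k hk
  rw [Nat.zero_add] at h
  simp only [segCheck, Bool.and_eq_true, decide_eq_true_eq] at h
  omega

omit [MulAction (Equiv.Perm GolayPt) β] in
theorem ncard_segSet (hinj : Set.InjOn (fun i => dec (arrGet w V i)) (Set.Iio lens.sum)) {k : ℕ}
    (hk : k < lens.length) : (segSet dec w V lens k).ncard = lens.getD k 0 := by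
  rw [segSet, (hinj.mono fun i hi => lt_of_lt_of_le hi.2 (segStart_add_le lens hk)).ncard_image]
  simp [← Finset.coe_Ico, Set.ncard_coe_finset]

omit [MulAction (Equiv.Perm GolayPt) β] in
/-- All the decoded values. -/
theorem iUnion_segSet : (fun i => dec (arrGet w V i)) '' Set.Iio lens.sum =
    {x | ∃ k < lens.length, x ∈ segSet dec w V lens k} := by
  have key : ∀ (l : List ℕ) (i : ℕ), i < l.sum →
      ∃ k < l.length, segStart l k ≤ i ∧ i < segStart l k + l.getD k 0 := by
    intro l
    induction l with
    | nil => intro i hi; simp at hi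
    | cons a l ih =>
      intro i hi
      by_cases h : i < a
      · exact ⟨0, by simp, by simpa [segStart] using h⟩
      · rw [List.sum_cons] at hi
        obtain ⟨k, hk, h1, h2⟩ := ih (i - a) (by omega)
        refine ⟨k + 1, by simpa using hk, ?_, ?_⟩
        · simp [segStart] at h1 ⊢; omega
        · simp [segStart] at h2 ⊢; omega
  ext x
  constructor
  · rintro ⟨i, hi, rfl⟩
    obtain ⟨k, hk, h1, h2⟩ := key lens i hi
    exact ⟨k, hk, i, ⟨h1, h2⟩, rfl⟩
  · rintro ⟨k, hk, i, hi, rfl⟩
    exact ⟨i, lt_of_lt_of_le hi.2 (segStart_add_le lens hk), rfl⟩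

end CfsgLib.Spor
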