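/-
Listed subgroups of prime power order in `Cfsg.M24`, and the conjugacy classes of elements of prime order.
-/
import Cfsg.Agent.Lib.Spor.OrbitExact

namespace CfsgLib.Spor

open Cfsg
open scoped Pointwise

theorem permOf_inj_normal {a b : ℕ} (ha : isPermCode a = true) (hb : isPermCode b = true)
    (na : permMulCode idPacked a = a) (nb : permMulCode idPacked b = b) (h : permOf a = permOf b) : a = b := by
  have key : ∀ i < 24, permFn a i = permFn b i := by
    intro i hi
    have := congrArg (fun σ : Equiv.Perm GolayPt => ptIdx (σ (idxPt i))) h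
    simpa [permOf_idxPt ha hi, permOf_idxPt hb hi, ptIdx_idxPt _ (permFn_lt ha hi),
      ptIdx_idxPt _ (permFn_lt hb hi)] using this
  rw [← na, ← nb, permMulCode, permMulCode]
  have congr_pack : ∀ (n k : ℕ) (f g : ℕ → ℕ), k + n ≤ 24 → (∀ i < 24, f i = g i) → packFn f k n = packFn g k n := by
    intro n
    induction n with
    | zero => intro k f g _ _; rfl
    | succ n ih =>
      intro k f g hk hfg
      rw [packFn, packFn, hfg k (by omega), ih (k + 1) f g (by omega) hfg]
  exact congr_pack 24 0 _ _ le_rfl fun i hi => by rw [key i hi]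

/-- One member of a list closed under left multiplication by the generators, reached from the identity. -/
def listRow (gens : List ℕ) (W Q Par n i : ℕ) : Bool :=
  isPermCode (arrGet 120 W i) && ((permMulCode idPacked (arrGet 120 W i) == arrGet 120 W i) &&
    ((decide (i = 0) ||
      (let k := arrGet 24 Par i
       decide (k % 4096 < i) && (decide (k / 4096 < gens.length) &&
        (permMulCode (gens.getD (k / 4096) 0) (arrGet 120 W (k % 4096)) == arrGet 120 W i)))) &&
    (List.range gens.length).all fun c =>
      let q := arrGet 16 Q (i * gens.length + c)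
      decide (q < n) && (permMulCode (gens.getD c 0) (arrGet 120 W i) == arrGet 120 W q)))

/-- The members from `a` up to `a + len`. -/
def listRows (gens : List ℕ) (W Q Par n a len : ℕ) : Bool :=
  (List.range len).all fun i => listRow gens W Q Par n (a + i)

/-- Generators in `M24`, a nonempty list starting with the identity, and every member verified. -/
def ListedOk (gens : List ℕ) (W Q Par n : ℕ) : Prop :=
  0 < n ∧ gens.all isM24Code = true ∧ arrGet 120 W 0 = idPacked ∧ ∀ i < n, listRow gens W Q Par n i = true

theorem listedOk_of_rows {gens : List ℕ} {W Q Par n len : ℕ} (h0 : 0 < n) (hg : gens.all isM24Code = true)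
    (hW : arrGet 120 W 0 = idPacked) (hlen : 0 < len)
    (h : ∀ j < n / len + 1, listRows gens W Q Par n (len * j) (min len (n - len * j)) = true) :
    ListedOk gens W Q Par n := by
  refine ⟨h0, hg, hW, fun i hi => ?_⟩
  have hj : i / len < n / len + 1 := Nat.lt_succ_of_le (Nat.div_le_div_right hi.le)
  have hm := Nat.mod_lt i hlen
  have he := Nat.div_add_mod i len
  have := List.all_eq_true.1 (h _ hj) (i % len) (List.mem_range.2 (by omega))
  rwa [he] at this

theorem listed_subgroup {gens : List ℕ} {W Q Par S n : ℕ} (h : ListedOk gens W Q Par n)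
    (hd : distinctCheck 120 W S n = true) :
    ∃ H : Subgroup (Equiv.Perm GolayPt), H ≤ M24 ∧ Nat.card H = n ∧
      ∀ g, g ∈ H ↔ ∃ i < n, permOf (arrGet 120 W i) = g := by
  simp only [ListedOk, listRow, Bool.and_eq_true, decide_eq_true_eq, List.all_eq_true, List.mem_range, beq_iff_eq,
    Bool.or_eq_true] at h
  obtain ⟨hn, hg, h0, hall⟩ := h
  have hp : ∀ i < n, isPermCode (arrGet 120 W i) = true := fun i hi => (hall i hi).1
  have hgp : ∀ c ∈ gens, isPermCode c = true := fun c hc => isPermCode_of_isM24Code (hg c hc)
  let L : Set (Equiv.Perm GolayPt) := (fun i => permOf (arrGet 120 W i)) '' Set.Iio n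
  have hLfin : L.Finite := (Set.finite_Iio n).image _
  have hstab : codesClosure gens ≤ MulAction.stabilizer (Equiv.Perm GolayPt) L := by
    refine codesClosure_le fun c hc => ?_
    rw [MulAction.mem_stabilizer_iff]
    refine Set.eq_of_subset_of_ncard_le ?_ (le_of_eq (Set.ncard_smul_set _ _).symm) hLfin
    rintro _ ⟨_, ⟨i, hi, rfl⟩, rfl⟩
    obtain ⟨m, hm, rfl⟩ := List.mem_iff_getElem.1 hc
    obtain ⟨hq, he⟩ := (hall i hi).2.2.2 m hm
    refine ⟨_, hq, ?_⟩
    rw [List.getD_eq_getElem _ _ hm] at he
    exact (permOf_permMulCode (hgp _ (List.getElem_mem hm)) (hp i hi) (hp _ hq) he).symm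
  refine ⟨codesClosure gens, codesClosure_le fun c hc => permOf_mem_M24 (hg c hc), ?_, ?_⟩
  swap
  · intro g
    constructor
    · intro hgm
      have := hstab hgm
      rw [MulAction.mem_stabilizer_iff] at this
      have h1 : g • (1 : Equiv.Perm GolayPt) ∈ L := by
        rw [← this]; exact Set.smul_mem_smul_set ⟨0, hn, show permOf (arrGet 120 W 0) = 1 by rw [h0, permOf_idPacked]⟩
      rw [smul_eq_mul, mul_one] at h1
      obtain ⟨i, hi, e⟩ := h1
      exact ⟨i, hi, e⟩
    · rintro ⟨i, hi, rfl⟩
      induction i using Nat.strong_induction_on with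
      | _ i ih =>
        rcases (hall i hi).2.2.1 with e | ⟨h1, h2, h3⟩
        · rw [e, h0, permOf_idPacked]; exact one_mem _
        · rw [List.getD_eq_getElem _ _ h2] at h3
          rw [← permOf_permMulCode (hgp _ (List.getElem_mem h2)) (hp _ (h1.trans hi)) (hp i hi) h3]
          exact mul_mem (Subgroup.subset_closure ⟨_, List.getElem_mem h2, rfl⟩) (ih _ h1 (h1.trans hi))
  · have e : (codesClosure gens : Set (Equiv.Perm GolayPt)) = L := by
      ext g
      constructor
      · intro hgm
        have := hstab hgm
        rw [MulAction.mem_stabilizer_iff] at this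
        have h1 : g • (1 : Equiv.Perm GolayPt) ∈ L := by
          rw [← this]; exact Set.smul_mem_smul_set ⟨0, hn, show permOf (arrGet 120 W 0) = 1 by rw [h0, permOf_idPacked]⟩
        rwa [smul_eq_mul, mul_one] at h1
      · rintro ⟨i, hi, rfl⟩
        induction i using Nat.strong_induction_on with
        | _ i ih =>
          rcases (hall i hi).2.2.1 with e | ⟨h1, h2, h3⟩
          · simp only [e, h0, permOf_idPacked]; exact one_mem _
          · rw [List.getD_eq_getElem _ _ h2] at h3
            show permOf (arrGet 120 W i) ∈ codesClosure gens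
            rw [← permOf_permMulCode (hgp _ (List.getElem_mem h2)) (hp _ (h1.trans hi)) (hp i hi) h3]
            exact mul_mem (Subgroup.subset_closure ⟨_, List.getElem_mem h2, rfl⟩) (ih _ h1 (h1.trans hi))
    rw [← SetLike.coe_sort_coe, e, Nat.card_coe_set_eq, Set.InjOn.ncard_image]
    · rw [← Finset.coe_Iio, Set.ncard_coe_finset, Nat.card_Iio]
    · intro i hi j hj eij
      exact injOn_of_distinctCheck hd hi hj
        (permOf_inj_normal (hp i hi) (hp j hj) (hall i hi).2.1 (hall j hj).2.1 eij)

theorem isPermCode_permMulCode {a b : ℕ} (ha : isPermCode a = true) (hb : isPermCode b = true) :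
    isPermCode (permMulCode a b) = true := by
  have hfn : ∀ i < 24, permFn (permMulCode a b) i = permFn a (permFn b i) := fun i hi => by
    rw [permMulCode, permFn_packFn _ _ _ _ hi (fun j hj => ?_), Nat.zero_add]
    have := permFn_lt ha (permFn_lt hb (by omega : 0 + j < 24))
    omega
  rw [isPermCode, Bool.and_eq_true]
  refine ⟨List.all_eq_true.2 fun i hi => decide_eq_true ?_, ?_⟩
  · rw [List.mem_range] at hi
    rw [hfn i hi]; exact permFn_lt ha (permFn_lt hb hi)
  · have hfull : ∀ {c : ℕ}, isPermCode c = true → permMask c fullMask = fullMask := fun {c} hc => by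
      simp only [isPermCode, Bool.and_eq_true, beq_iff_eq] at hc
      exact hc.2
    rw [beq_iff_eq]
    have : permMask (permMulCode a b) fullMask = permMask a (permMask b fullMask) := by
      refine Nat.eq_of_testBit_eq fun j => Bool.eq_iff_iff.2 ?_
      simp only [permMask, testBit_permMaskN]
      constructor
      · rintro ⟨i, hi, hb', rfl⟩
        exact ⟨permFn b i, permFn_lt hb hi, ⟨i, hi, hb', rfl⟩, (hfn i hi).symm⟩
      · rintro ⟨m, -, ⟨i, hi, hb', rfl⟩, rfl⟩
        exact ⟨i, hi, hb', hfn i hi⟩
    rw [this, hfull hb, hfull ha]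

/-- An element of `p`-power order is conjugate into a given subgroup of full `p`-part order. -/
theorem exists_conj_into {G : Type*} [Group G] {K H : Subgroup G} [Finite K] (hH : H ≤ K) {p : ℕ} [Fact p.Prime]
    (hc : Nat.card H = p ^ (Nat.card K).factorization p) {x : G} (hx : x ∈ K) {m : ℕ} (hp : orderOf x = p ^ m) :
    ∃ k ∈ K, k * x * k⁻¹ ∈ H := by
  have hcH : Nat.card (H.subgroupOf K) = p ^ (Nat.card K).factorization p := by
    rw [Nat.card_congr (Subgroup.subgroupOfEquivOfLe hH).toEquiv, hc]
  let P : Sylow p K := Sylow.ofCard (H.subgroupOf K) hcH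
  have hxp : IsPGroup p (Subgroup.zpowers (⟨x, hx⟩ : K)) :=
    IsPGroup.of_card (n := m) (by rw [Nat.card_zpowers, ← Subgroup.orderOf_coe]; exact hp)
  obtain ⟨Q, hQ⟩ := hxp.exists_le_sylow
  obtain ⟨k, hk⟩ := MulAction.exists_smul_eq K Q P
  refine ⟨k, k.2, ?_⟩
  have h1 : k * ⟨x, hx⟩ * k⁻¹ ∈ (P : Subgroup K) := by
    rw [← hk, Sylow.coe_subgroup_smul, Subgroup.mem_pointwise_smul_iff_inv_smul_mem]
    simpa [MulAut.smul_def, mul_assoc] using hQ (Subgroup.mem_zpowers _)
  rw [Sylow.coe_ofCard, Subgroup.mem_subgroupOf] at h1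
  simpa using h1

/-- Packed powers. -/
def powCode (a : ℕ) : ℕ → ℕ
  | 0 => idPacked
  | n + 1 => permMulCode a (powCode a n)

/-- Among the members `a ≤ i < a + len`, those of order dividing `p` are trivial or listed in `els`. -/
def selectCheck (p W a len : ℕ) (els : List ℕ) : Bool :=
  (List.range len).all fun i =>
    (arrGet 120 W (a + i) == idPacked) || (!(powCode (arrGet 120 W (a + i)) p == idPacked) || els.contains (a + i))

/-- The selected members are conjugated to representatives by their witnesses. -/
def witnessCheck (W C : ℕ) (els reps : List ℕ) (a len : ℕ) : Bool :=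
  (List.range len).all fun j =>
    isM24Code (arrGet 120 C (a + j)) && reps.any fun r =>
      permMulCode (arrGet 120 C (a + j)) (arrGet 120 W (els.getD (a + j) 0)) ==
        permMulCode r (arrGet 120 C (a + j))

/-- Members of order `p` are selected and witnessed. -/
def ClassesOk (p W C n : ℕ) (els reps : List ℕ) : Prop :=
  (∀ i < n, selectCheck p W i 1 els = true) ∧ ∀ j < els.length, witnessCheck W C els reps j 1 = true

theorem classesOk_of_chunks {p W C n len : ℕ} {els reps : List ℕ} (hlen : 0 < len)
    (h1 : ∀ j < n / len + 1, selectCheck p W (len * j) (min len (n - len * j)) els = true)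
    (h2 : ∀ j < els.length / len + 1, witnessCheck W C els reps (len * j) (min len (els.length - len * j)) = true) :
    ClassesOk p W C n els reps := by
  constructor
  · intro i hi
    have hm := Nat.mod_lt i hlen
    have he := Nat.div_add_mod i len
    have := List.all_eq_true.1 (h1 _ (Nat.lt_succ_of_le (Nat.div_le_div_right hi.le))) (i % len)
      (List.mem_range.2 (by omega))
    rw [he] at this
    simpa [selectCheck] using this
  · intro i hi
    have hm := Nat.mod_lt i hlen
    have he := Nat.div_add_mod i len
    have := List.all_eq_true.1 (h2 _ (Nat.lt_succ_of_le (Nat.div_le_div_right hi.le))) (i % len)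
      (List.mem_range.2 (by omega))
    rw [he] at this
    simpa [witnessCheck] using this

theorem permOf_powCode {a : ℕ} (ha : isPermCode a = true) : ∀ n, permOf (powCode a n) = permOf a ^ n ∧
    isPermCode (powCode a n) = true
  | 0 => ⟨by rw [powCode, permOf_idPacked, pow_zero], by rw [powCode]; decide +kernel⟩
  | n + 1 => by
    obtain ⟨h1, h2⟩ := permOf_powCode ha n
    have hp := ha
    have hc : isPermCode (permMulCode a (powCode a n)) = true := isPermCode_permMulCode hp h2
    exact ⟨by rw [powCode, ← permOf_permMulCode hp h2 hc rfl, h1, pow_succ'], hc⟩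

theorem permMulCode_idPacked_powCode {a : ℕ} (ha : isPermCode a = true) :
    ∀ n, permMulCode idPacked (powCode a n) = powCode a n
  | 0 => by rw [powCode]; decide +kernel
  | n + 1 => by
    have hp := ha
    have h2 := (permOf_powCode ha n).2
    rw [powCode, permMulCode, permMulCode]
    have congr_pack : ∀ (n k : ℕ) (f g : ℕ → ℕ), k + n ≤ 24 → (∀ i < 24, f i = g i) →
        packFn f k n = packFn g k n := by
      intro n
      induction n with
      | zero => intro k f g _ _; rfl
      | succ n ih =>
        intro k f g hk hfg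
        rw [packFn, packFn, hfg k (by omega), ih (k + 1) f g (by omega) hfg]
    refine congr_pack 24 0 _ _ le_rfl fun i hi => ?_
    have hlt := permFn_lt hp (permFn_lt h2 hi)
    rw [permFn_packFn _ _ _ _ hi (fun j hj => ?_), Nat.zero_add]
    · exact (by decide +kernel : ∀ j < 24, permFn idPacked j = j) _ hlt
    · have := permFn_lt hp (permFn_lt h2 (by omega : 0 + j < 24))
      omega

/-- Elements of order `p` are conjugate in `M24` to the representatives. -/
theorem exists_rep {p : ℕ} [Fact p.Prime] {gens : List ℕ} {W Q Par S n C : ℕ} {reps : List ℕ}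
    (h : ListedOk gens W Q Par n) (hd : distinctCheck 120 W S n = true)
    (hn : n = p ^ (244823040 : ℕ).factorization p) {els : List ℕ} (hclass : ClassesOk p W C n els reps)
    (hreps : reps.all isM24Code = true) {x : Equiv.Perm GolayPt} (hx : x ∈ M24) (hp : orderOf x = p) :
    ∃ r ∈ reps, ∃ k ∈ M24, k * x * k⁻¹ = permOf r := by
  obtain ⟨H, hH, hcard, hmem⟩ := listed_subgroup h hd
  obtain ⟨k, hk, hkH⟩ := exists_conj_into hH (p := p) (by rw [hcard, card_M24, hn]) hx (m := 1)
    (by rw [hp, pow_one])
  obtain ⟨i, hi, e⟩ := (hmem _).1 hkH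
  have hrow := h.2.2.2 i hi
  simp only [listRow, Bool.and_eq_true, beq_iff_eq] at hrow
  have hM : permOf (arrGet 120 W i) ∈ M24 := hH ((hmem _).2 ⟨i, hi, rfl⟩)
  have hP := hrow.1
  have h0 := hclass.1 i hi
  simp only [selectCheck, List.all_eq_true, List.mem_range, Nat.lt_one_iff, forall_eq, Nat.add_zero, Bool.or_eq_true,
    Bool.not_eq_true', beq_iff_eq, beq_eq_false_iff_ne, List.contains_iff_mem] at h0
  have ho : orderOf (permOf (arrGet 120 W i)) = p := by
    have := orderOf_injective (MulAut.conj k).toMonoidHom (MulAut.conj k).injective x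
    rw [e]; exact this.trans hp
  rcases h0 with h1 | h1 | h1
  · rw [h1, permOf_idPacked, orderOf_one] at ho
    exact absurd ho.symm (Fact.out : p.Prime).ne_one
  · exfalso
    obtain ⟨e1, e2⟩ := permOf_powCode hP p
    refine h1 (permOf_inj_normal e2 (by decide +kernel) ?_ (by decide +kernel) ?_)
    · exact permMulCode_idPacked_powCode hP p
    · rw [e1, permOf_idPacked, ← ho, pow_orderOf_eq_one]
  · obtain ⟨j, hj, hje⟩ := List.mem_iff_getElem.1 h1
    have h2 := hclass.2 j hj
    simp only [witnessCheck, List.all_eq_true, List.mem_range, Nat.lt_one_iff, forall_eq, Nat.add_zero,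
      Bool.and_eq_true, List.any_eq_true, beq_iff_eq] at h2
    obtain ⟨hC, r, hr, h1⟩ := h2
    rw [List.getD_eq_getElem _ _ hj, hje] at h1
    have hrM := List.all_eq_true.1 hreps r hr
    have hc1 := isPermCode_permMulCode (isPermCode_of_isM24Code hC) hP
    have e2 : permOf (arrGet 120 C j) * permOf (arrGet 120 W i) = permOf r * permOf (arrGet 120 C j) := by
      rw [permOf_permMulCode (isPermCode_of_isM24Code hC) hP hc1 rfl,
        permOf_permMulCode (isPermCode_of_isM24Code hrM) (isPermCode_of_isM24Code hC) hc1 h1.symm]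
    refine ⟨r, hr, permOf (arrGet 120 C j) * k, M24.mul_mem (permOf_mem_M24 hC) hk, ?_⟩
    rw [show permOf (arrGet 120 C j) * k * x * (permOf (arrGet 120 C j) * k)⁻¹ =
      permOf (arrGet 120 C j) * (k * x * k⁻¹) * (permOf (arrGet 120 C j))⁻¹ by group, ← e, e2, mul_inv_cancel_right]

end CfsgLib.Spor
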