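/-
`Cfsg.M24` as the automorphism group of the octad system; multiplications by squares.
-/
import Cfsg.Agent.Lib.Spor.M24Transitive

namespace CfsgLib.Spor

open Cfsg
open scoped Pointwise

theorem rows_octads : ∀ r ∈ rows, pop 24 r = 8 := by decide +kernel

theorem M24_eq_octad_aut : M24 = setSystemAut octads := by
  ext σ
  constructor
  · intro hσ
    rw [MulAction.mem_stabilizer_iff]
    refine Set.eq_of_subset_of_ncard_le ?_ (le_of_eq (Set.ncard_smul_set σ _).symm) (Set.toFinite _)
    rintro _ ⟨o, ho, rfl⟩
    exact smul_mem_octads hσ ho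
  · intro hσ
    refine mem_M24_of_rows σ fun r hr => ?_
    have ho : pts r ∈ octads :=
      ⟨⟨word r, word_row_mem hr, support₂_word r⟩, by rw [card_pts, rows_octads r hr]⟩
    have h := Set.smul_mem_smul_set (a := σ) ho
    rw [MulAction.mem_stabilizer_iff.1 hσ] at h
    exact h.1

theorem mulTwo_eq (v : (ZMod 23)ˣ) (hv : (v : ZMod 23) = 2) :
    Equiv.optionCongr (Units.mulLeft v) = permOf mulTwoCode := by
  ext p : 1
  rw [permOf_apply (by decide +kernel)]
  rcases p with _ | x
  · show (none : GolayPt) = _
    decide +kernel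
  · show some ((v : ZMod 23) * x) = _
    rw [hv]
    revert x; decide +kernel

theorem mulSquare_mem (u : (ZMod 23)ˣ) (hu : IsSquare u) :
    Equiv.optionCongr (Units.mulLeft u) ∈ M24 := by
  let two : (ZMod 23)ˣ := ⟨2, 12, by decide, by decide⟩
  have hpow : ∀ k : ℕ, Equiv.optionCongr (Units.mulLeft (two ^ k)) ∈ M24 := by
    intro k
    induction k with
    | zero =>
      rw [pow_zero]
      convert M24.one_mem
      ext p : 1
      rcases p with _ | x
      · rfl
      · show some (((1 : (ZMod 23)ˣ) : ZMod 23) * x) = some x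
        rw [Units.val_one, one_mul]
    | succ k ih =>
      have e : Equiv.optionCongr (Units.mulLeft (two ^ (k + 1))) =
          Equiv.optionCongr (Units.mulLeft two) * Equiv.optionCongr (Units.mulLeft (two ^ k)) := by
        ext p : 1
        rcases p with _ | x
        · rfl
        · show some (((two ^ (k + 1) : (ZMod 23)ˣ) : ZMod 23) * x) =
            some ((two : ZMod 23) * (((two ^ k : (ZMod 23)ˣ) : ZMod 23) * x))
          rw [pow_succ', Units.val_mul, mul_assoc]
      rw [e]
      refine M24.mul_mem ?_ ih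
      rw [mulTwo_eq two rfl]
      exact permOf_mem_M24 (by decide +kernel)
  obtain ⟨v, rfl⟩ := hu
  have key : ∀ x : ZMod 23, x ≠ 0 → ∃ k < 11, x * x = 2 ^ k := by decide +kernel
  haveI : Fact (Nat.Prime 23) := ⟨by norm_num⟩
  obtain ⟨k, -, hk⟩ := key v v.ne_zero
  rw [show v * v = two ^ k from Units.ext (by rw [Units.val_mul, Units.val_pow_eq_pow_val]; exact hk)]
  exact hpow k

end CfsgLib.Spor
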