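/-
Counting code words of given weight by how they meet a fixed octad or dodecad; hexads of a dodecad.
-/
import Cfsg.Agent.Lib.Spor.M12

namespace CfsgLib.Spor

open Cfsg
open scoped Pointwise

theorem ncard_weight_sep (n : ℕ) (Q : Finset GolayPt → Prop) (q : ℕ → Bool)
    (h : ∀ m ∈ weightList n, (Q (pts m) ↔ q m = true)) :
    {x | x ∈ wordsOfWeight (golayCode : Set (GolayPt → ZMod 2)) n ∧ Q x}.ncard =
      ((weightList n).filter q).length := by
  classical
  have e : {x | x ∈ wordsOfWeight (golayCode : Set (GolayPt → ZMod 2)) n ∧ Q x} =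
      ↑(((weightList n).filter q).toFinset.image pts) := by
    ext x
    simp only [Set.mem_ofPred_eq, Finset.coe_image, Set.mem_image, List.coe_toFinset, List.mem_filter]
    constructor
    · rintro ⟨hx, hQ⟩
      obtain ⟨m, hm, rfl⟩ := mem_weightList hx
      exact ⟨m, ⟨hm, (h m hm).1 hQ⟩, rfl⟩
    · rintro ⟨m, ⟨hm, hq⟩, rfl⟩
      refine ⟨?_, (h m hm).2 hq⟩
      obtain ⟨hm1, hm2⟩ := List.mem_filter.1 hm
      exact ⟨pts_mem_supports hm1, by rw [card_pts]; simpa using hm2⟩
  rw [e, Set.ncard_coe_finset, Finset.card_image_of_injOn,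
    List.toFinset_card_of_nodup (List.Nodup.filter q (show (weightList n).Nodup from codeList_nodup.filter _))]
  intro a ha b hb e'
  simp only [List.coe_toFinset, Set.mem_ofPred_eq, List.mem_filter] at ha hb
  exact eq_of_pts_eq (codeList_spec (List.mem_filter.1 ha.1).1).1
    (codeList_spec (List.mem_filter.1 hb.1).1).1 e'

theorem ncard_weight_sep_smul {g : Equiv.Perm GolayPt} (hg : g ∈ M24) (n : ℕ)
    (Q Q' : Finset GolayPt → Prop) (h : ∀ x, Q (g • x) ↔ Q' x) :
    {x | x ∈ wordsOfWeight (golayCode : Set (GolayPt → ZMod 2)) n ∧ Q x}.ncard =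
      {x | x ∈ wordsOfWeight (golayCode : Set (GolayPt → ZMod 2)) n ∧ Q' x}.ncard := by
  rw [← Set.ncard_smul_set g {x | x ∈ wordsOfWeight (golayCode : Set (GolayPt → ZMod 2)) n ∧ Q' x}]
  congr 1
  ext x
  rw [Set.mem_smul_set_iff_inv_smul_mem]
  simp only [Set.mem_ofPred_eq, ← h, smul_inv_smul]
  constructor
  · exact fun hx => ⟨smul_mem_wordsOfWeight (M24.inv_mem hg) hx.1, hx.2⟩
  · intro hx
    have := smul_mem_wordsOfWeight hg hx.1
    rw [smul_inv_smul] at this
    exact ⟨this, hx.2⟩

theorem card_inter_smul (g : Equiv.Perm GolayPt) (a b : Finset GolayPt) :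
    ((g • a) ∩ (g • b)).card = (a ∩ b).card := by
  rw [← Finset.smul_finset_inter, Finset.card_smul_finset]

/-- Weight-`n` words meeting a dodecad in `k` points. -/
theorem ncard_meet_dodecad {d : Finset GolayPt} (hd : d ∈ dodecads) (n k : ℕ) :
    {x | x ∈ wordsOfWeight (golayCode : Set (GolayPt → ZMod 2)) n ∧ (x ∩ d).card = k}.ncard =
      ((weightList n).filter fun m => pop 24 (m &&& baseDodecad) == k).length := by
  obtain ⟨g, hg, rfl⟩ := exists_smul_baseDodecad hd
  rw [ncard_weight_sep_smul hg n _ (fun x => (x ∩ pts baseDodecad).card = k) fun x => by rw [card_inter_smul]]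
  exact ncard_weight_sep n _ _ fun m _ => by simp [card_inter_pts]

theorem card_octad_inter_dodecad {d o : Finset GolayPt} (hd : d ∈ dodecads) (ho : o ∈ octads) :
    (o ∩ d).card = 2 ∨ (o ∩ d).card = 4 ∨ (o ∩ d).card = 6 := by
  obtain ⟨g, hg, rfl⟩ := exists_smul_baseDodecad hd
  obtain ⟨m, hm, e⟩ := mem_weightList (smul_mem_octads (M24.inv_mem hg) ho)
  have key : ((weightList 8).all fun m => [2, 4, 6].contains (pop 24 (m &&& baseDodecad))) = true := by
    decide +kernel
  have := List.all_eq_true.1 key m hm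
  rw [← smul_inv_smul g o, card_inter_smul, ← e, card_inter_pts]
  simpa using this

theorem dodecad_meet_cases {d d' : Finset GolayPt} (hd : d ∈ dodecads) (hd' : d' ∈ dodecads)
    (hne : d' ≠ d) :
    (d ∩ d').card = 0 ∨ (d ∩ d').card = 4 ∨ (d ∩ d').card = 6 ∨ (d ∩ d').card = 8 := by
  obtain ⟨g, hg, rfl⟩ := exists_smul_baseDodecad hd
  obtain ⟨m, hm, e⟩ := mem_weightList (smul_mem_wordsOfWeight (M24.inv_mem hg) hd')
  have key : ((weightList 12).all fun m => (m == baseDodecad) ||
      [0, 4, 6, 8].contains (pop 24 (baseDodecad &&& m))) = true := by decide +kernel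
  have := List.all_eq_true.1 key m hm
  simp only [Bool.or_eq_true, beq_iff_eq] at this
  rcases this with h | h
  · exact absurd (by rw [← smul_inv_smul g d', ← e, h]) hne
  · rw [← smul_inv_smul g d', card_inter_smul, ← e, card_inter_pts]
    simpa using h

theorem hexads_steiner {d : Finset GolayPt} (hd : d ∈ dodecads) :
    IsSteinerSystem 5 6 {h : Finset {p : GolayPt // p ∈ d} |
      ∃ o ∈ octads, (o ∩ d).card = 6 ∧ h = Finset.subtype (fun p => p ∈ d) o} := by
  refine ⟨?_, fun s hs => ?_⟩
  · rintro b ⟨o, ho, h6, rfl⟩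
    rw [Finset.card_subtype, Finset.filter_mem_eq_inter, h6]
  · let t : Finset GolayPt := s.map (Function.Embedding.subtype _)
    have htd : t ⊆ d := fun p hp => by
      obtain ⟨q, -, rfl⟩ := Finset.mem_map.1 hp; exact q.2
    have htc : t.card = 5 := by rw [Finset.card_map, hs]
    obtain ⟨o, ho, hto⟩ := exists_octad_superset htc
    have h5 : 5 ≤ (o ∩ d).card := htc ▸ Finset.card_le_card (Finset.subset_inter hto htd)
    have h6 : (o ∩ d).card = 6 := by
      rcases card_octad_inter_dodecad hd ho with h | h | h <;> omega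
    refine ⟨Finset.subtype (fun p => p ∈ d) o, ⟨⟨o, ho, h6, rfl⟩, fun q hq => ?_⟩, ?_⟩
    · exact Finset.mem_subtype.2 (hto (Finset.mem_map_of_mem _ hq))
    · rintro b ⟨⟨o', ho', -, rfl⟩, hsb⟩
      have : o' = o := by
        refine octad_eq_of_five ho' ho (htc ▸ Finset.card_le_card fun p hp => ?_)
        obtain ⟨q, hq, rfl⟩ := Finset.mem_map.1 hp
        exact Finset.mem_inter.2 ⟨Finset.mem_subtype.1 (hsb hq), hto (Finset.mem_map_of_mem _ hq)⟩
      rw [this]

theorem mem_spanList_two_pow : ∀ (l : List ℕ) (m : ℕ), (∀ i, m.testBit i = true → i ∈ l) →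
    m ∈ spanList (l.map (2 ^ ·))
  | [], m, h => by
    have : m = 0 := Nat.eq_of_testBit_eq fun i => by
      rw [Nat.zero_testBit]
      exact Bool.eq_false_iff.2 fun hi => List.not_mem_nil (h i hi)
    simp [spanList, this]
  | a :: l, m, h => by
    simp only [List.map_cons, spanList, List.mem_append, List.mem_map]
    by_cases ha : m.testBit a = true
    · refine Or.inr ⟨m ^^^ 2 ^ a, mem_spanList_two_pow l _ fun i hi => ?_, ?_⟩
      · rw [Nat.testBit_xor, Nat.testBit_two_pow] at hi
        by_cases e : a = i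
        · subst e; simp [ha] at hi
        · simp only [e, decide_false, Bool.xor_false] at hi
          rcases List.mem_cons.1 (h i hi) with rfl | h'
          · exact absurd rfl e
          · exact h'
      · rw [Nat.xor_comm, Nat.xor_assoc, Nat.xor_self, Nat.xor_zero]
    · refine Or.inl (mem_spanList_two_pow l _ fun i hi => ?_)
      rcases List.mem_cons.1 (h i hi) with rfl | h'
      · exact absurd hi ha
      · exact h'

theorem octadSubsetCheck : ((spanList (([0, 1, 2, 3, 5, 14, 17, 23] : List ℕ).map (2 ^ ·))).all fun t =>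
    (!(pop 24 t == 2) || (((weightList 8).filter fun m => baseOctad &&& m == t).length == 16)) &&
      (!(pop 24 t == 4) || (((weightList 8).filter fun m => baseOctad &&& m == t).length == 4))) = true := by
  decide +kernel

theorem octads_meeting_in {o s : Finset GolayPt} (ho : o ∈ octads) (hs : s ⊆ o) :
    (s.card = 2 → {o' | o' ∈ octads ∧ o ∩ o' = s}.ncard = 16) ∧
      (s.card = 4 → {o' | o' ∈ octads ∧ o ∩ o' = s}.ncard = 4) := by
  obtain ⟨g, hg, rfl⟩ := exists_smul_baseOctad ho
  have e : {o' | o' ∈ octads ∧ (g • pts baseOctad) ∩ o' = s}.ncard =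
      ((weightList 8).filter fun m => baseOctad &&& m == maskPts (g⁻¹ • s)).length := by
    show {o' | o' ∈ wordsOfWeight _ 8 ∧ (g • pts baseOctad) ∩ o' = s}.ncard = _
    rw [ncard_weight_sep_smul hg 8 _ (fun x => pts baseOctad ∩ x = g⁻¹ • s) fun x => by
      rw [← Finset.smul_finset_inter, smul_eq_iff_eq_inv_smul]]
    refine ncard_weight_sep 8 _ _ fun m _ => ?_
    have e : pts baseOctad ∩ pts m = pts (baseOctad &&& m) := by ext p; simp [mem_pts]
    rw [e, beq_iff_eq]
    constructor
    · intro h; rw [← h, maskPts_pts (Nat.lt_of_le_of_lt Nat.and_le_left (by decide +kernel))]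
    · intro h; rw [h, pts_maskPts]
  have hsub : maskPts (g⁻¹ • s) ∈
      spanList (([0, 1, 2, 3, 5, 14, 17, 23] : List ℕ).map (2 ^ ·)) := by
    refine mem_spanList_two_pow _ _ fun i hi => ?_
    have hi24 : i < 24 := by
      by_contra hc
      have := Nat.testBit_lt_two_pow (lt_of_lt_of_le (maskPts_lt (g⁻¹ • s))
        (Nat.pow_le_pow_right (by norm_num) (Nat.not_lt.1 hc)))
      rw [this] at hi; exact Bool.noConfusion hi
    rw [← ptIdx_idxPt i hi24, testBit_maskPts, decide_eq_true_eq, Finset.mem_inv_smul_finset_iff] at hi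
    have := mem_pts.1 ((Finset.smul_mem_smul_finset_iff g).1 (hs hi))
    rw [ptIdx_idxPt i hi24] at this
    exact (by decide +kernel : ∀ i < 24, baseOctad.testBit i = true →
      i ∈ ([0, 1, 2, 3, 5, 14, 17, 23] : List ℕ)) i hi24 this
  have h := List.all_eq_true.1 octadSubsetCheck _ hsub
  have hc : pop 24 (maskPts (g⁻¹ • s)) = s.card := by rw [← card_pts, pts_maskPts, Finset.card_smul_finset]
  simp only [hc, Bool.and_eq_true, Bool.or_eq_true, Bool.not_eq_true', beq_eq_false_iff_ne, ne_eq,
    beq_iff_eq] at h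
  rw [e]
  exact ⟨fun h2 => h.1.resolve_left (not_not.2 h2), fun h4 => h.2.resolve_left (not_not.2 h4)⟩

end CfsgLib.Spor
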