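/-
Sextets and trios: uniqueness through a tetrad, transitivity of `Cfsg.M24`, and the counts 1771 and 3795.
-/
import Cfsg.Prelude.Def_SporadicCombinatorics
import Cfsg.Agent.Lib.Spor.SextetTrioData

namespace CfsgLib.Spor

open Cfsg
open scoped Pointwise

theorem codesClosure_threeGens : codesClosure [shiftCode, projInvCode, cubeTwistCode] = M24 := by
  refine le_antisymm (codesClosure_le fun c hc => ?_) ?_
  · have key : [shiftCode, projInvCode, cubeTwistCode].all isM24Code = true := by decide +kernel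
    exact permOf_mem_M24 (List.all_eq_true.1 key c hc)
  · rw [← closure_generators, Subgroup.closure_le, shift_eq, projInv_eq, cubeTwist_eq]
    rintro g (rfl | rfl | rfl) <;> exact Subgroup.subset_closure ⟨_, by simp, rfl⟩

/-! ### Sextets -/

/-- The base sextet is six tetrads with octads as pairwise unions. -/
def isSextetCode (x : ℕ) : Bool :=
  famOk 6 x && ((famList 6 x).all (fun a => pop 24 a == 4 && (famList 6 x).all fun b =>
    decide (a = b) || (codeTest (a ||| b) && (pop 24 (a ||| b) == 8))))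

theorem famSet_mem_sextets {x : ℕ} (h : isSextetCode x = true) : famSet 6 x ∈ sextets := by
  simp only [isSextetCode, Bool.and_eq_true, List.all_eq_true, beq_iff_eq, Bool.or_eq_true,
    decide_eq_true_eq] at h
  obtain ⟨hok, h⟩ := h
  refine ⟨card_famSet hok, fun t ht => ?_, fun t ht u hu htu => ?_⟩
  · obtain ⟨m, hm, rfl⟩ := mem_famSet.1 ht
    rw [card_pts]; exact (h m hm).1
  · obtain ⟨a, ha, rfl⟩ := mem_famSet.1 ht
    obtain ⟨b, hb, rfl⟩ := mem_famSet.1 hu
    rcases (h a ha).2 b hb with e | ⟨hc, h8⟩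
    · exact absurd (congrArg pts e) htu
    · have e : pts a ∪ pts b = pts (a ||| b) := by ext p; simp [mem_pts]
      rw [e]
      exact ⟨⟨word (a ||| b), (word_mem_golayCode_iff _).2 hc, support₂_word _⟩, by rw [card_pts, h8]⟩

theorem baseSextet_mem : famSet 6 baseSextet ∈ sextets := famSet_mem_sextets (by decide +kernel)

theorem disjoint_of_mem_sextet {S : Finset (Finset GolayPt)} (hS : S ∈ sextets) {t u : Finset GolayPt}
    (ht : t ∈ S) (hu : u ∈ S) (h : t ≠ u) : Disjoint t u := by
  have h8 := octad_card (hS.2.2 t ht u hu h)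
  rw [Finset.disjoint_iff_inter_eq_empty, ← Finset.card_eq_zero]
  have := Finset.card_union_add_card_inter t u
  rw [h8, hS.2.1 t ht, hS.2.1 u hu] at this
  omega

theorem exists_mem_sextet {S : Finset (Finset GolayPt)} (hS : S ∈ sextets) (p : GolayPt) :
    ∃ t ∈ S, p ∈ t := by
  have hu : S.biUnion id = Finset.univ := by
    refine Finset.eq_univ_of_card _ ?_
    rw [Finset.card_biUnion (t := id) fun t ht u hu h => disjoint_of_mem_sextet hS ht hu h]
    simp only [id]
    rw [Finset.sum_congr rfl (fun t ht => hS.2.1 t ht), Finset.sum_const, hS.1]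
    decide +kernel
  have := hu ▸ Finset.mem_univ p
  simpa using this

theorem sextet_eq_of_mem {S S' : Finset (Finset GolayPt)} (hS : S ∈ sextets) (hS' : S' ∈ sextets)
    {t : Finset GolayPt} (ht : t ∈ S) (ht' : t ∈ S') : S = S' := by
  refine Finset.eq_of_subset_of_card_le (fun u hu => ?_) (by rw [hS.1, hS'.1])
  by_cases hut : u = t
  · exact hut ▸ ht'
  obtain ⟨q, hq⟩ : u.Nonempty := Finset.card_pos.1 (by rw [hS.2.1 u hu]; norm_num)
  obtain ⟨v, hv, hqv⟩ := exists_mem_sextet hS' q
  have hvt : v ≠ t := fun e =>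
    Finset.disjoint_left.1 (disjoint_of_mem_sextet hS hu ht hut) hq (e ▸ hqv)
  have e : t ∪ u = t ∪ v := by
    refine octad_eq_of_five (hS.2.2 t ht u hu (Ne.symm hut)) (hS'.2.2 t ht' v hv (Ne.symm hvt)) ?_
    have hqt : q ∉ t := Finset.disjoint_left.1 (disjoint_of_mem_sextet hS hu ht hut) hq
    calc 5 = (insert q t).card := by rw [Finset.card_insert_of_notMem hqt, hS.2.1 t ht]
      _ ≤ _ := Finset.card_le_card (by
          intro p hp
          rcases Finset.mem_insert.1 hp with rfl | hp
          · simp [hq, hqv]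
          · simp [hp])
  have h1 := disjoint_of_mem_sextet hS ht hu (Ne.symm hut)
  have h2 := disjoint_of_mem_sextet hS' ht' hv (Ne.symm hvt)
  have : u = v := by
    rw [← Finset.union_sdiff_cancel_left h1, e, Finset.union_sdiff_cancel_left h2]
  exact this ▸ hv

theorem smul_mem_sextets {g : Equiv.Perm GolayPt} (hg : g ∈ M24) {S : Finset (Finset GolayPt)}
    (hS : S ∈ sextets) : g • S ∈ sextets := by
  refine ⟨by rw [Finset.card_smul_finset]; exact hS.1, fun t ht => ?_, fun t ht u hu htu => ?_⟩
  · obtain ⟨t, ht', rfl⟩ := Finset.mem_smul_finset.1 ht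
    rw [Finset.card_smul_finset]; exact hS.2.1 t ht'
  · obtain ⟨t, ht', rfl⟩ := Finset.mem_smul_finset.1 ht
    obtain ⟨u, hu', rfl⟩ := Finset.mem_smul_finset.1 hu
    rw [← Finset.smul_finset_union]
    exact smul_mem_octads hg (hS.2.2 t ht' u hu' fun e => htu (by rw [e]))

/-- The tetrad of the first four base points. -/
def baseTetrad : ℕ := 8388615

theorem baseTetrad_mem : pts baseTetrad ∈ famSet 6 baseSextet :=
  mem_famSet.2 ⟨baseTetrad, by decide +kernel, rfl⟩

theorem exists_smul_baseTetrad {t : Finset GolayPt} (ht : t.card = 4) :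
    ∃ g ∈ M24, g • pts baseTetrad = t := by
  let e := t.equivFinOfCardEq ht
  obtain ⟨g, hg, hgx⟩ := exists_mem_M24_bpt 4 (by norm_num)
    (fun i => if h : i < 4 then ((e.symm ⟨i, h⟩ : t) : GolayPt) else none)
    (fun i hi j hj h => by
      simp only [dif_pos hi, dif_pos hj] at h
      exact congrArg Fin.val (e.symm.injective (Subtype.ext h)))
  refine ⟨g, hg, (Finset.eq_of_subset_of_card_le (fun p hp => ?_) ?_).symm⟩
  · have h := hgx (e ⟨p, hp⟩).1 (e ⟨p, hp⟩).2
    simp only [dif_pos (e ⟨p, hp⟩).2, Fin.eta, Equiv.symm_apply_apply] at h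
    rw [← h]
    exact Finset.smul_mem_smul_finset (a := g)
      ((by decide +kernel : ∀ j < 4, bpt j ∈ pts baseTetrad) _ (e ⟨p, hp⟩).2)
  · rw [Finset.card_smul_finset, ht, card_pts]; decide +kernel

theorem exists_smul_baseSextet {S : Finset (Finset GolayPt)} (hS : S ∈ sextets) :
    ∃ g ∈ M24, g • famSet 6 baseSextet = S := by
  obtain ⟨t, ht⟩ : S.Nonempty := Finset.card_pos.1 (by rw [hS.1]; norm_num)
  obtain ⟨g, hg, rfl⟩ := exists_smul_baseTetrad (hS.2.1 t ht)
  exact ⟨g, hg, sextet_eq_of_mem (smul_mem_sextets hg baseSextet_mem) hS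
    (Finset.smul_mem_smul_finset baseTetrad_mem) ht⟩

theorem exists_unique_sextet {t : Finset GolayPt} (ht : t.card = 4) :
    ∃! S : Finset (Finset GolayPt), S ∈ sextets ∧ t ∈ S := by
  obtain ⟨g, hg, rfl⟩ := exists_smul_baseTetrad ht
  exact ⟨_, ⟨smul_mem_sextets hg baseSextet_mem, Finset.smul_mem_smul_finset baseTetrad_mem⟩,
    fun S hS => sextet_eq_of_mem hS.1 (smul_mem_sextets hg baseSextet_mem) hS.2
      (Finset.smul_mem_smul_finset baseTetrad_mem)⟩

theorem orbit_baseSextet : MulAction.orbit M24 (famSet 6 baseSextet) = sextets := by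
  ext S
  constructor
  · rintro ⟨g, rfl⟩; exact smul_mem_sextets g.2 baseSextet_mem
  · intro hS
    obtain ⟨g, hg, e⟩ := exists_smul_baseSextet hS
    exact ⟨⟨g, hg⟩, e⟩

theorem sextets_eq_values :
    sextets = (fun i => famSet 6 (arrGet 144 sextetAllV i)) '' Set.Iio 1771 := by
  have h := orbit_eq_segSet (dec := famSet 6) sextetAll_segs
    (actsAs_famSet threeGenTabs_ok 6) (k := 0) (by decide)
  rw [show segStart sextetAllLens 0 = 0 from rfl, sextetAll_root, codesClosure_threeGens] at h
  rw [← orbit_baseSextet, h, segSet]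
  congr 1
  ext i; simp [segStart, sextetAllLens]

theorem ncard_sextets : sextets.ncard = 1771 := by
  rw [sextets_eq_values, (injOn_famSet sextetAll_distinct sextetAll_ok).ncard_image,
    ← Finset.coe_Iio, Set.ncard_coe_finset, Nat.card_Iio]

/-! ### Trios -/

theorem smul_mem_trios {g : Equiv.Perm GolayPt} (hg : g ∈ M24) {T : Finset (Finset GolayPt)}
    (hT : T ∈ trios) : g • T ∈ trios := by
  refine ⟨by rw [Finset.card_smul_finset]; exact hT.1, fun o ho => ?_, fun o ho o' ho' h => ?_⟩
  · obtain ⟨o, ho', rfl⟩ := Finset.mem_smul_finset.1 ho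
    exact smul_mem_octads hg (hT.2.1 o ho')
  · obtain ⟨o, ho1, rfl⟩ := Finset.mem_smul_finset.1 ho
    obtain ⟨o', ho2, rfl⟩ := Finset.mem_smul_finset.1 ho'
    have hd := hT.2.2 o ho1 o' ho2 fun e => h (by rw [e])
    rw [Finset.disjoint_iff_inter_eq_empty] at hd ⊢
    rw [← Finset.smul_finset_inter, hd, Finset.smul_finset_empty]

/-- For every octad disjoint from the base octad the trio of both and their complement is listed. -/
def trioThroughCheck : Bool :=
  (weightList 8).all fun a => !(a &&& baseOctad == 0) ||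
    (List.range 3795).any fun i =>
      arrGet 72 trioAllV i == packList (sortMasks [baseOctad, a, fullMask ^^^ baseOctad ^^^ a])

theorem trioThroughCheck_true : trioThroughCheck = true := by decide +kernel

theorem trio_through_baseOctad {T : Finset (Finset GolayPt)} (hT : T ∈ trios) (ho : pts baseOctad ∈ T) :
    ∃ i < 3795, T = famSet 3 (arrGet 72 trioAllV i) := by
  obtain ⟨x, y, z, hxy, hxz, hyz, rfl⟩ := Finset.card_eq_three.1 hT.1
  have key : ∀ a b : Finset GolayPt, ({pts baseOctad, a, b} : Finset (Finset GolayPt)) ∈ trios →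
      pts baseOctad ≠ a → pts baseOctad ≠ b → a ≠ b →
      ∃ i < 3795, ({pts baseOctad, a, b} : Finset (Finset GolayPt)) = famSet 3 (arrGet 72 trioAllV i) := by
    intro a b h hoa hob hab
    obtain ⟨ma, hma, rfl⟩ := mem_weightList (h.2.1 a (by simp))
    have hd : ma &&& baseOctad = 0 := by
      have := h.2.2 (pts ma) (by simp) (pts baseOctad) (by simp) (Ne.symm hoa)
      refine eq_of_pts_eq ?_ (by norm_num) ?_
      · exact Nat.lt_of_le_of_lt Nat.and_le_right (by decide +kernel)
      · ext p
        simp only [mem_pts, Nat.testBit_and, Nat.zero_testBit, Bool.and_eq_true, Bool.false_eq_true, iff_false]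
        exact fun hp => Finset.disjoint_left.1 this (mem_pts.2 hp.1) (mem_pts.2 hp.2)
    have hb : b = pts (fullMask ^^^ baseOctad ^^^ ma) := by
      have h1 := h.2.2 (pts baseOctad) (by simp) b (by simp) hob
      have h2 := h.2.2 (pts ma) (by simp) b (by simp) hab
      refine Finset.eq_of_subset_of_card_le (fun p hp => ?_) ?_
      · have n1 : ¬ p ∈ pts baseOctad := Finset.disjoint_right.1 h1 hp
        have n2 : ¬ p ∈ pts ma := Finset.disjoint_right.1 h2 hp
        rw [mem_pts] at n1 n2 ⊢
        rw [Nat.testBit_xor, Nat.testBit_xor, fullMask_testBit _ (ptIdx_lt p)]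
        simp [Bool.eq_false_iff.2 n1, Bool.eq_false_iff.2 n2]
      · rw [(h.2.1 b (by simp)).2, card_pts]
        have k8 : ((weightList 8).all fun a => !(a &&& baseOctad == 0) ||
            decide (pop 24 (fullMask ^^^ baseOctad ^^^ a) ≤ 8)) = true := by decide +kernel
        simpa [hd] using List.all_eq_true.1 k8 ma hma
    have hc := List.all_eq_true.1 trioThroughCheck_true ma hma
    simp only [hd, beq_self_eq_true, Bool.not_true, Bool.false_or, List.any_eq_true, List.mem_range,
      beq_iff_eq] at hc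
    obtain ⟨i, hi, e⟩ := hc
    refine ⟨i, hi, ?_⟩
    have hlt : ∀ m ∈ sortMasks [baseOctad, ma, fullMask ^^^ baseOctad ^^^ ma], m < 2 ^ 24 := by
      intro m hm
      rw [mem_sortMasks] at hm
      simp only [List.mem_cons, List.not_mem_nil, or_false] at hm
      rcases hm with rfl | rfl | rfl
      · decide +kernel
      · exact (codeList_spec (List.mem_filter.1 hma).1).1
      · exact Nat.xor_lt_two_pow (Nat.xor_lt_two_pow (by decide +kernel) (by decide +kernel))
          (codeList_spec (List.mem_filter.1 hma).1).1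
    have e' : famList 3 (arrGet 72 trioAllV i) = sortMasks [baseOctad, ma, fullMask ^^^ baseOctad ^^^ ma] := by
      rw [e]
      have h3 := famList_packList _ hlt
      simpa [length_sortMasks] using h3
    ext s
    rw [mem_famSet, e', hb]
    simp only [Finset.mem_insert, Finset.mem_singleton, mem_sortMasks, List.mem_cons, List.not_mem_nil, or_false]
    constructor
    · rintro (rfl | rfl | rfl) <;> exact ⟨_, by tauto, rfl⟩
    · rintro ⟨m, (rfl | rfl | rfl), rfl⟩ <;> tauto
  simp only [Finset.mem_insert, Finset.mem_singleton] at ho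
  rcases ho with e | e | e
  · subst e; exact key y z hT hxy hxz hyz
  · subst e
    rw [show ({x, pts baseOctad, z} : Finset (Finset GolayPt)) = {pts baseOctad, x, z} from
      Finset.insert_comm _ _ _] at hT ⊢
    exact key x z hT hxy.symm hyz hxz
  · subst e
    rw [show ({x, y, pts baseOctad} : Finset (Finset GolayPt)) = {pts baseOctad, x, y} by
      ext s; simp; tauto] at hT ⊢
    exact key x y hT hxz.symm hyz.symm hxy

theorem baseTrio_mem : famSet 3 baseTrio ∈ trios := by
  have h : (famOk 3 baseTrio && (famList 3 baseTrio).all fun a => codeTest a && (pop 24 a == 8 &&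
      (famList 3 baseTrio).all fun b => decide (a = b) || (a &&& b == 0))) = true := by decide +kernel
  simp only [Bool.and_eq_true, List.all_eq_true, beq_iff_eq, Bool.or_eq_true, decide_eq_true_eq] at h
  obtain ⟨hok, h⟩ := h
  refine ⟨card_famSet hok, fun o ho => ?_, fun o ho o' ho' hne => ?_⟩
  · obtain ⟨m, hm, rfl⟩ := mem_famSet.1 ho
    exact ⟨⟨word m, (word_mem_golayCode_iff _).2 (h m hm).1, support₂_word m⟩, by rw [card_pts, (h m hm).2.1]⟩
  · obtain ⟨a, ha, rfl⟩ := mem_famSet.1 ho
    obtain ⟨b, hb, rfl⟩ := mem_famSet.1 ho'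
    rcases (h a ha).2.2 b hb with e | e
    · exact absurd (congrArg pts e) hne
    · rw [Finset.disjoint_left]
      intro p hp hp'
      have : (a &&& b).testBit (ptIdx p) = true := by simp [mem_pts.1 hp, mem_pts.1 hp']
      simp [e] at this

theorem exists_smul_baseTrio {T : Finset (Finset GolayPt)} (hT : T ∈ trios) :
    ∃ g ∈ M24, g • famSet 3 baseTrio = T := by
  obtain ⟨o, ho⟩ : T.Nonempty := Finset.card_pos.1 (by rw [hT.1]; norm_num)
  obtain ⟨g, hg, rfl⟩ := exists_smul_baseOctad (hT.2.1 o ho)
  obtain ⟨i, hi, e⟩ := trio_through_baseOctad (smul_mem_trios (M24.inv_mem hg) hT)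
    (by rw [Finset.mem_inv_smul_finset_iff]; exact ho)
  have h := orbit_eq_segSet (dec := famSet 3) trioAll_segs
    (actsAs_famSet threeGenTabs_ok 3) (k := 0) (by decide)
  rw [show segStart trioAllLens 0 = 0 from rfl, trioAll_root, codesClosure_threeGens] at h
  obtain ⟨⟨k, hk⟩, e'⟩ : famSet 3 (arrGet 72 trioAllV i) ∈ MulAction.orbit M24 (famSet 3 baseTrio) :=
    h ▸ ⟨i, ⟨Nat.zero_le i, by simpa [segStart, trioAllLens] using hi⟩, rfl⟩
  refine ⟨g * k, M24.mul_mem hg hk, ?_⟩
  rw [mul_smul, show k • famSet 3 baseTrio = famSet 3 (arrGet 72 trioAllV i) from e', ← e, smul_inv_smul]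

theorem orbit_baseTrio : MulAction.orbit M24 (famSet 3 baseTrio) = trios := by
  ext T
  constructor
  · rintro ⟨g, rfl⟩; exact smul_mem_trios g.2 baseTrio_mem
  · intro hT
    obtain ⟨g, hg, e⟩ := exists_smul_baseTrio hT
    exact ⟨⟨g, hg⟩, e⟩

theorem trios_eq_values : trios = (fun i => famSet 3 (arrGet 72 trioAllV i)) '' Set.Iio 3795 := by
  have h := orbit_eq_segSet (dec := famSet 3) trioAll_segs
    (actsAs_famSet threeGenTabs_ok 3) (k := 0) (by decide)
  rw [show segStart trioAllLens 0 = 0 from rfl, trioAll_root, codesClosure_threeGens] at h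
  rw [← orbit_baseTrio, h, segSet]
  congr 1
  ext i; simp [segStart, trioAllLens]

theorem ncard_trios : trios.ncard = 3795 := by
  rw [trios_eq_values, (injOn_famSet trioAll_distinct trioAll_ok).ncard_image,
    ← Finset.coe_Iio, Set.ncard_coe_finset, Nat.card_Iio]

theorem compl_union_mem_octads {o o' : Finset GolayPt} (ho : o ∈ octads) (ho' : o' ∈ octads)
    (h : Disjoint o o') : (o ∪ o')ᶜ ∈ octads := by
  obtain ⟨⟨u, hu, rfl⟩, hc⟩ := ho
  obtain ⟨⟨v, hv, rfl⟩, hc'⟩ := ho'
  refine ⟨⟨u + v + 1, add_mem (add_mem hu hv) (Submodule.subset_span (Or.inr rfl)), ?_⟩, ?_⟩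
  · ext p
    have hp : p ∈ support₂ u → p ∉ support₂ v := fun h' => Finset.disjoint_left.1 h h'
    simp only [support₂, Finset.mem_filter, Finset.mem_univ, true_and, Finset.mem_compl,
      Finset.mem_union, Pi.add_apply, Pi.one_apply] at hp ⊢
    generalize u p = a, v p = b at hp ⊢
    revert hp; revert a b; decide
  · rw [Finset.card_compl, Finset.card_union_of_disjoint h, hc, hc']
    decide +kernel

end CfsgLib.Spor
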