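/-
The stabilizers in `Cfsg.M24` of octads, dodecads, pairs, triples, sextets, trios and complementary pairs of
dodecads: orbits and maximality.
-/
import Cfsg.Agent.Lib.Spor.SextetTrio
import Cfsg.Agent.Lib.Spor.MeetCounts
import Cfsg.Agent.Lib.Spor.Stab.Octad
import Cfsg.Agent.Lib.Spor.Stab.Dodecad
import Cfsg.Agent.Lib.Spor.Stab.Pair
import Cfsg.Agent.Lib.Spor.Stab.Triple
import Cfsg.Agent.Lib.Spor.Stab.Sextet
import Cfsg.Agent.Lib.Spor.Stab.Trio
import Cfsg.Agent.Lib.Spor.Stab.Duum

namespace CfsgLib.Spor

open Cfsg MulAction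
open scoped Pointwise

theorem ActsAs.fix {β : Type*} [MulAction (Equiv.Perm GolayPt) β] {act : ℕ → ℕ → ℕ} {gens tabs : List ℕ}
    {dec : ℕ → β} (hacts : ActsAs act gens tabs dec) {x : ℕ} (h : tabs.all (fun T => act T x == x) = true) :
    ∀ g ∈ gens, permOf g • dec x = dec x := by
  intro g hg
  obtain ⟨m, hm, rfl⟩ := List.mem_iff_getElem.1 hg
  have h1 := hacts.2 m hm x
  rw [List.getD_eq_getElem _ _ hm] at h1
  rw [h1]
  have hm' : m < tabs.length := hacts.1.symm ▸ hm
  have h2 := List.all_eq_true.1 h _ (List.getElem_mem hm')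
  rw [beq_iff_eq] at h2
  rw [List.getD_eq_getElem _ _ hm', h2]

theorem ncard_setOf_card (n : ℕ) : {s : Finset GolayPt | s.card = n}.ncard = Nat.choose 24 n := by
  have e : {s : Finset GolayPt | s.card = n} = ↑((Finset.univ : Finset GolayPt).powersetCard n) := by
    ext s; simp [Finset.mem_powersetCard]
  rw [e, Set.ncard_coe_finset, Finset.card_powersetCard, Finset.card_univ]
  congr 1

/-- All roots are octads, dodecads, or sets of the given size. -/
def rootsWeight (V : ℕ) (lens : List ℕ) (n : ℕ) (code : Bool) : Bool :=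
  (List.range lens.length).all fun k =>
    (pop 24 (arrGet 24 (arrGet 24 V (segStart lens k)) 0) == n) &&
      (!code || codeTest (arrGet 24 (arrGet 24 V (segStart lens k)) 0))

theorem root_mem_weight {V n : ℕ} {lens : List ℕ} (h : rootsWeight V lens n true = true) {k : ℕ}
    (hk : k < lens.length) :
    pts (arrGet 24 (arrGet 24 V (segStart lens k)) 0) ∈ wordsOfWeight (golayCode : Set (GolayPt → ZMod 2)) n := by
  simp only [rootsWeight, List.all_eq_true, List.mem_range, Bool.and_eq_true, beq_iff_eq, Bool.not_true,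
    Bool.false_or] at h
  obtain ⟨h1, h2⟩ := h k hk
  exact ⟨⟨word _, (word_mem_golayCode_iff _).2 h2, support₂_word _⟩, by rw [card_pts, h1]⟩

/-- The base object of a point-set certificate. -/
theorem octadStabOrb_all : octads = octadStabOrb.all := by
  refine octadStabOrb.eq_all (Set.toFinite _) ?_ (fun k hk => root_mem_weight (n := 8) (by decide +kernel) hk)
    fun g hg y hy => smul_mem_octads (octadStabSlp.closure_le_M24 hg) hy
  rw [octads, ncard_wordsOfWeight]
  decide +kernel

theorem octadStab_root_eq : octadStabOrb.root 0 = pts baseOctad := by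
  show pts (arrGet 24 (arrGet 24 octadStabV 0) 0) = _
  rw [octadStab_root]
  exact congrArg pts (by decide +kernel)

theorem orbit_baseOctad : orbit M24 (pts baseOctad) = octads := by
  ext x
  constructor
  · rintro ⟨g, rfl⟩; exact smul_mem_octads g.2 baseOctad_mem
  · intro hx; exact exists_smul_octad baseOctad_mem hx

theorem octadStab_map : (stabilizer M24 (pts baseOctad)).map M24.subtype = codesClosure octadStabGens := by
  refine octadStabSlp.stabilizer_map (m := 759) _ ?_ ?_ (by norm_num)
  · have e : pts baseOctad = pts (arrGet 24 octadStabBase 0) := congrArg pts (by decide +kernel)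
    rw [e]
    exact (actsAs_pts octadStabTabs_ok).fix (by decide +kernel)
  · rw [orbit_baseOctad, octadStabOrb_all, octadStabOrb.ncard_all]
    decide +kernel

theorem dodecadStabOrb_all : dodecads = dodecadStabOrb.all := by
  refine dodecadStabOrb.eq_all (Set.toFinite _) ?_ (fun k hk => root_mem_weight (n := 12) (by decide +kernel) hk)
    fun g hg y hy => smul_mem_wordsOfWeight (dodecadStabSlp.closure_le_M24 hg) hy
  rw [ncard_dodecads]
  decide +kernel

theorem dodecadStab_root_eq : dodecadStabOrb.root 0 = pts baseDodecad := by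
  show pts (arrGet 24 (arrGet 24 dodecadStabV 0) 0) = _
  rw [dodecadStab_root]
  exact congrArg pts (by decide +kernel)

theorem dodecadStab_map : (stabilizer M24 (pts baseDodecad)).map M24.subtype = codesClosure dodecadStabGens := by
  refine dodecadStabSlp.stabilizer_map (m := 2576) _ ?_ ?_ (by norm_num)
  · have e : pts baseDodecad = pts (arrGet 24 dodecadStabBase 0) := congrArg pts (by decide +kernel)
    rw [e]
    exact (actsAs_pts dodecadStabTabs_ok).fix (by decide +kernel)
  · rw [orbit_dodecad baseDodecad_mem, ncard_dodecads]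

theorem exists_smul_of_card {n : ℕ} (hn : n ≤ 5) {s t : Finset GolayPt} (hs : s.card = n) (ht : t.card = n) :
    ∃ g : M24, g • s = t := by
  have key : ∀ u : Finset GolayPt, u.card = n →
      ∃ g ∈ M24, g • (Finset.range n).image bpt = u := by
    intro u hu
    let e := u.equivFinOfCardEq hu
    obtain ⟨g, hg, hgx⟩ := exists_mem_M24_bpt n hn
      (fun i => if h : i < n then ((e.symm ⟨i, h⟩ : u) : GolayPt) else none)
      (fun i hi j hj h => by
        simp only [dif_pos hi, dif_pos hj] at h
        exact congrArg Fin.val (e.symm.injective (Subtype.ext h)))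
    refine ⟨g, hg, ?_⟩
    ext p
    simp only [Finset.mem_smul_finset, Finset.mem_image, Finset.mem_range]
    constructor
    · rintro ⟨_, ⟨i, hi, rfl⟩, rfl⟩
      rw [Equiv.Perm.smul_def, hgx i hi, dif_pos hi]
      exact (e.symm ⟨i, hi⟩).2
    · intro hp
      refine ⟨_, ⟨(e ⟨p, hp⟩).1, (e ⟨p, hp⟩).2, rfl⟩, ?_⟩
      rw [Equiv.Perm.smul_def, hgx _ (e ⟨p, hp⟩).2, dif_pos (e ⟨p, hp⟩).2, Fin.eta, Equiv.symm_apply_apply]
  obtain ⟨g, hg, rfl⟩ := key s hs
  obtain ⟨h, hh, rfl⟩ := key t ht
  refine ⟨⟨h * g⁻¹, M24.mul_mem hh (M24.inv_mem hg)⟩, ?_⟩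
  show (h * g⁻¹) • g • (Finset.range n).image bpt = h • (Finset.range n).image bpt
  rw [← mul_smul, inv_mul_cancel_right]

theorem orbit_of_card {n : ℕ} (hn : n ≤ 5) {s : Finset GolayPt} (hs : s.card = n) :
    orbit M24 s = {t | t.card = n} := by
  ext t
  constructor
  · rintro ⟨g, rfl⟩; exact (card_smul_finset' (g : Equiv.Perm GolayPt) s).trans hs
  · intro ht; exact exists_smul_of_card hn hs ht

theorem pairStabOrb_all : {t : Finset GolayPt | t.card = 2} = pairStabOrb.all := by
  refine pairStabOrb.eq_all (Set.toFinite _) ?_ (fun k hk => ?_) fun g hg y hy =>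
    (card_smul_finset' g y).trans hy
  · rw [ncard_setOf_card]; decide +kernel
  · have h : rootsWeight pairStabV pairStabLens 2 false = true := by decide +kernel
    simp only [rootsWeight, List.all_eq_true, List.mem_range, Bool.and_eq_true, beq_iff_eq] at h
    exact (card_pts _).trans (h k hk).1

theorem basePair_card : (pts pairStabBase).card = 2 := by rw [card_pts]; decide +kernel

theorem pairStab_root_eq : pairStabOrb.root 0 = pts pairStabBase := by
  show pts (arrGet 24 (arrGet 24 pairStabV 0) 0) = _
  rw [pairStab_root]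
  exact congrArg pts (by decide +kernel)

theorem pairStab_map : (stabilizer M24 (pts pairStabBase)).map M24.subtype = codesClosure pairStabGens := by
  refine pairStabSlp.stabilizer_map (m := 276) _ ?_ ?_ (by norm_num)
  · have e : pts pairStabBase = pts (arrGet 24 pairStabBase 0) := congrArg pts (by decide +kernel)
    rw [e]
    exact (actsAs_pts pairStabTabs_ok).fix (by decide +kernel)
  · rw [orbit_of_card (by norm_num) basePair_card, ncard_setOf_card]; decide

theorem tripleStabOrb_all : {t : Finset GolayPt | t.card = 3} = tripleStabOrb.all := by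
  refine tripleStabOrb.eq_all (Set.toFinite _) ?_ (fun k hk => ?_) fun g hg y hy =>
    (card_smul_finset' g y).trans hy
  · rw [ncard_setOf_card]; decide +kernel
  · have h : rootsWeight tripleStabV tripleStabLens 3 false = true := by decide +kernel
    simp only [rootsWeight, List.all_eq_true, List.mem_range, Bool.and_eq_true, beq_iff_eq] at h
    exact (card_pts _).trans (h k hk).1

theorem baseTriple_card : (pts tripleStabBase).card = 3 := by rw [card_pts]; decide +kernel

theorem tripleStab_root_eq : tripleStabOrb.root 0 = pts tripleStabBase := by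
  show pts (arrGet 24 (arrGet 24 tripleStabV 0) 0) = _
  rw [tripleStab_root]
  exact congrArg pts (by decide +kernel)

theorem tripleStab_map : (stabilizer M24 (pts tripleStabBase)).map M24.subtype = codesClosure tripleStabGens := by
  refine tripleStabSlp.stabilizer_map (m := 2024) _ ?_ ?_ (by norm_num)
  · have e : pts tripleStabBase = pts (arrGet 24 tripleStabBase 0) := congrArg pts (by decide +kernel)
    rw [e]
    exact (actsAs_pts tripleStabTabs_ok).fix (by decide +kernel)
  · rw [orbit_of_card (by norm_num) baseTriple_card, ncard_setOf_card]; decide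

/-- Every root of a sextet certificate is a sextet. -/
theorem sextetStabOrb_all : sextets = sextetStabOrb.all := by
  refine sextetStabOrb.eq_all (Set.toFinite _) ?_ (fun k hk => ?_)
    fun g hg y hy => smul_mem_sextets (sextetStabSlp.closure_le_M24 hg) hy
  · rw [ncard_sextets]; decide +kernel
  · have h : (List.range sextetStabLens.length).all
        (fun k => isSextetCode (arrGet 144 sextetStabV (segStart sextetStabLens k))) = true := by decide +kernel
    exact famSet_mem_sextets (List.all_eq_true.1 h k (List.mem_range.2 hk))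

theorem sextetStab_root_eq : sextetStabOrb.root 0 = famSet 6 baseSextet := by
  show famSet 6 (arrGet 144 sextetStabV 0) = _
  rw [sextetStab_root]
  exact congrArg (famSet 6) (by decide +kernel)

theorem sextetStab_map :
    (stabilizer M24 (famSet 6 baseSextet)).map M24.subtype = codesClosure sextetStabGens := by
  refine sextetStabSlp.stabilizer_map (m := 1771) _ ?_ ?_ (by norm_num)
  · exact (actsAs_famSet sextetStabTabs_ok 6).fix (by decide +kernel)
  · rw [orbit_baseSextet, ncard_sextets]

/-- The test that a packed family of three is a trio. -/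
def isTrioCode (x : ℕ) : Bool :=
  famOk 3 x && (famList 3 x).all fun a => codeTest a && (pop 24 a == 8 &&
    (famList 3 x).all fun b => decide (a = b) || (a &&& b == 0))

theorem famSet_mem_trios {x : ℕ} (h : isTrioCode x = true) : famSet 3 x ∈ trios := by
  simp only [isTrioCode, Bool.and_eq_true, List.all_eq_true, beq_iff_eq, Bool.or_eq_true,
    decide_eq_true_eq] at h
  obtain ⟨hok, h⟩ := h
  refine ⟨card_famSet hok, fun o ho => ?_, fun o ho o' ho' hne => ?_⟩
  · obtain ⟨m, hm, rfl⟩ := mem_famSet.1 ho
    exact ⟨⟨word m, (word_mem_golayCode_iff _).2 (h m hm).1, support₂_word m⟩, by rw [card_pts, (h m hm).2.1]⟩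
  · obtain ⟨a, ha, rfl⟩ := mem_famSet.1 ho
    obtain ⟨b, hb, rfl⟩ := mem_famSet.1 ho'
    rcases (h a ha).2.2 b hb with e | e
    · exact absurd (congrArg pts e) hne
    · rw [Finset.disjoint_left]
      intro p hp hp'
      have : (a &&& b).testBit (ptIdx p) = true := by simp [mem_pts.1 hp, mem_pts.1 hp']
      simp [e] at this

theorem trioStabOrb_all : trios = trioStabOrb.all := by
  refine trioStabOrb.eq_all (Set.toFinite _) ?_ (fun k hk => ?_)
    fun g hg y hy => smul_mem_trios (trioStabSlp.closure_le_M24 hg) hy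
  · rw [ncard_trios]; decide +kernel
  · have h : (List.range trioStabLens.length).all
        (fun k => isTrioCode (arrGet 72 trioStabV (segStart trioStabLens k))) = true := by decide +kernel
    exact famSet_mem_trios (List.all_eq_true.1 h k (List.mem_range.2 hk))

theorem trioStab_root_eq : trioStabOrb.root 0 = famSet 3 baseTrio := by
  show famSet 3 (arrGet 72 trioStabV 0) = _
  rw [trioStab_root]
  exact congrArg (famSet 3) (by decide +kernel)

theorem trioStab_map : (stabilizer M24 (famSet 3 baseTrio)).map M24.subtype = codesClosure trioStabGens := by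
  refine trioStabSlp.stabilizer_map (m := 3795) _ ?_ ?_ (by norm_num)
  · exact (actsAs_famSet trioStabTabs_ok 3).fix (by decide +kernel)
  · rw [orbit_baseTrio, ncard_trios]

/-! ### Complementary pairs of dodecads -/

theorem compl_mem_dodecads {d : Finset GolayPt} (hd : d ∈ dodecads) : dᶜ ∈ dodecads := by
  obtain ⟨⟨v, hv, rfl⟩, hc⟩ := hd
  refine ⟨⟨v + 1, add_mem hv (Submodule.subset_span (Or.inr rfl)), ?_⟩, ?_⟩
  · ext p
    simp only [support₂, Finset.mem_filter, Finset.mem_univ, true_and, Finset.mem_compl, Pi.add_apply,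
      Pi.one_apply]
    generalize v p = a
    revert a; decide
  · rw [Finset.card_compl, hc]; decide +kernel

theorem smul_compl' (g : Equiv.Perm GolayPt) (s : Finset GolayPt) : g • sᶜ = (g • s)ᶜ := by
  ext p
  rw [Finset.mem_compl, ← Finset.inv_smul_mem_iff, Finset.mem_compl, ← Finset.inv_smul_mem_iff]

/-- The complementary pairs of dodecads. -/
def duums : Set (Finset (Finset GolayPt)) := (fun d => ({d, dᶜ} : Finset (Finset GolayPt))) '' dodecads

theorem smul_mem_duums {g : Equiv.Perm GolayPt} (hg : g ∈ M24) {X : Finset (Finset GolayPt)} (hX : X ∈ duums) :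
    g • X ∈ duums := by
  obtain ⟨d, hd, rfl⟩ := hX
  exact ⟨g • d, smul_mem_wordsOfWeight hg hd, by
    simp only [Finset.smul_finset_insert, Finset.smul_finset_singleton, smul_compl']⟩

theorem duums_ncard_le : duums.ncard ≤ 1288 := by
  have hsub : duums ⊆ (fun d => ({d, dᶜ} : Finset (Finset GolayPt))) '' {d | d ∈ dodecads ∧ (none : GolayPt) ∈ d} := by
    rintro _ ⟨d, hd, rfl⟩
    by_cases h : (none : GolayPt) ∈ d
    · exact ⟨d, ⟨hd, h⟩, rfl⟩
    · refine ⟨dᶜ, ⟨compl_mem_dodecads hd, Finset.mem_compl.2 h⟩, ?_⟩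
      show ({dᶜ, dᶜᶜ} : Finset (Finset GolayPt)) = _
      rw [compl_compl, Finset.pair_comm]
  refine (Set.ncard_le_ncard hsub (Set.toFinite _)).trans ((Set.ncard_image_le (Set.toFinite _)).trans ?_)
  rw [dodecads, ncard_weight_sep 12 (fun d => (none : GolayPt) ∈ d) (fun m => m.testBit 23)
    (fun m _ => by rw [mem_pts]; exact Iff.rfl)]
  decide +kernel

/-- The test that a packed family of two is a complementary pair of dodecads. -/
def isDuumCode (x : ℕ) : Bool :=
  famOk 2 x && (pop 24 (arrGet 24 x 0) == 12 && (codeTest (arrGet 24 x 0) &&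
    (arrGet 24 x 1 == fullMask ^^^ arrGet 24 x 0)))

theorem pts_xor_fullMask (a : ℕ) : pts (fullMask ^^^ a) = (pts a)ᶜ := by
  ext p
  rw [Finset.mem_compl, mem_pts, mem_pts, Nat.testBit_xor, fullMask_testBit _ (ptIdx_lt p)]
  simp

theorem famSet_mem_duums {x : ℕ} (h : isDuumCode x = true) : famSet 2 x ∈ duums := by
  simp only [isDuumCode, Bool.and_eq_true, beq_iff_eq] at h
  obtain ⟨-, h12, hc, he⟩ := h
  refine ⟨pts (arrGet 24 x 0), ⟨⟨word _, (word_mem_golayCode_iff _).2 hc, support₂_word _⟩,
    by rw [card_pts, h12]⟩, ?_⟩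
  ext s
  rw [mem_famSet]
  simp only [famList, List.mem_map, List.mem_range, Finset.mem_insert, Finset.mem_singleton]
  constructor
  · rintro (rfl | rfl)
    · exact ⟨_, ⟨0, by norm_num, rfl⟩, rfl⟩
    · exact ⟨_, ⟨1, by norm_num, rfl⟩, by rw [he, pts_xor_fullMask]⟩
  · rintro ⟨_, ⟨i, hi, rfl⟩, rfl⟩
    interval_cases i
    · exact Or.inl rfl
    · exact Or.inr (by rw [he, pts_xor_fullMask])

theorem duumStabOrb_all : duums = duumStabOrb.all := by
  refine duumStabOrb.eq_all (Set.toFinite _) (duums_ncard_le.trans (by decide +kernel)) (fun k hk => ?_)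
    fun g hg y hy => smul_mem_duums (duumStabSlp.closure_le_M24 hg) hy
  have h : (List.range duumStabLens.length).all
      (fun k => isDuumCode (arrGet 48 duumStabV (segStart duumStabLens k))) = true := by decide +kernel
  exact famSet_mem_duums (List.all_eq_true.1 h k (List.mem_range.2 hk))

theorem orbit_duum {X : Finset (Finset GolayPt)} (hX : X ∈ duums) : orbit M24 X = duums := by
  ext Y
  constructor
  · rintro ⟨g, rfl⟩; exact smul_mem_duums g.2 hX
  · rintro ⟨d', hd', rfl⟩
    obtain ⟨d, hd, rfl⟩ := hX
    obtain ⟨g, rfl⟩ := exists_smul_dodecad hd hd'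
    exact ⟨g, by
      show (g : Equiv.Perm GolayPt) • ({d, dᶜ} : Finset (Finset GolayPt)) =
        ({(g : Equiv.Perm GolayPt) • d, ((g : Equiv.Perm GolayPt) • d)ᶜ} : Finset (Finset GolayPt))
      simp only [Finset.smul_finset_insert, Finset.smul_finset_singleton, smul_compl']⟩

theorem baseDuum_mem : famSet 2 duumStabBase ∈ duums := famSet_mem_duums (by decide +kernel)

theorem duumStab_root_eq : duumStabOrb.root 0 = famSet 2 duumStabBase := by
  show famSet 2 (arrGet 48 duumStabV 0) = _
  rw [duumStab_root]

theorem duumStab_map :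
    (stabilizer M24 (famSet 2 duumStabBase)).map M24.subtype = codesClosure duumStabGens := by
  refine duumStabSlp.stabilizer_map (m := 1288) _ ?_ ?_ (by norm_num)
  · exact (actsAs_famSet duumStabTabs_ok 2).fix (by decide +kernel)
  · rw [orbit_duum baseDuum_mem, duumStabOrb_all, duumStabOrb.ncard_all]
    decide +kernel

/-! ### Maximality -/

theorem isCoatom_octad {o : Finset GolayPt} (ho : o ∈ octads) : IsCoatom (stabilizer M24 o) := by
  obtain ⟨g, rfl⟩ := exists_smul_octad baseOctad_mem ho
  refine isCoatom_stabilizer_smul g (octadStabOrb.isCoatom_stabilizer _ octadStab_map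
    (orbit_baseOctad.trans octadStabOrb_all) octadStab_root_eq (m := 3) rfl (by norm_num) rfl ?_)
  decide +kernel

theorem isCoatom_duum {d : Finset GolayPt} (hd : d ∈ dodecads) :
    IsCoatom (stabilizer M24 ({d, dᶜ} : Finset (Finset GolayPt))) := by
  have hX : ({d, dᶜ} : Finset (Finset GolayPt)) ∈ orbit M24 (famSet 2 duumStabBase) :=
    orbit_duum baseDuum_mem ▸ ⟨d, hd, rfl⟩
  obtain ⟨g, hg⟩ := hX
  rw [← show g • famSet 2 duumStabBase = ({d, dᶜ} : Finset (Finset GolayPt)) from hg]
  refine isCoatom_stabilizer_smul g (duumStabOrb.isCoatom_stabilizer _ duumStab_map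
    ((orbit_duum baseDuum_mem).trans duumStabOrb_all) duumStab_root_eq (m := 2) rfl (by norm_num) rfl ?_)
  decide +kernel

theorem isCoatom_pair {s : Finset GolayPt} (hs : s.card = 2) : IsCoatom (stabilizer M24 s) := by
  obtain ⟨g, rfl⟩ := exists_smul_of_card (by norm_num) basePair_card hs
  refine isCoatom_stabilizer_smul g (pairStabOrb.isCoatom_stabilizer _ pairStab_map
    ((orbit_of_card (by norm_num) basePair_card).trans pairStabOrb_all) pairStab_root_eq (m := 2) rfl
    (by norm_num) rfl ?_)
  decide +kernel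

theorem isCoatom_triple {s : Finset GolayPt} (hs : s.card = 3) : IsCoatom (stabilizer M24 s) := by
  obtain ⟨g, rfl⟩ := exists_smul_of_card (by norm_num) baseTriple_card hs
  refine isCoatom_stabilizer_smul g (tripleStabOrb.isCoatom_stabilizer _ tripleStab_map
    ((orbit_of_card (by norm_num) baseTriple_card).trans tripleStabOrb_all) tripleStab_root_eq (m := 4) rfl
    (by norm_num) rfl ?_)
  decide +kernel

/-! ### Transport of orbits -/

/-- The orbits of a conjugate stabilizer are the translates. -/
theorem orbit_translate {β : Type*} [MulAction (Equiv.Perm GolayPt) β] {dec : ℕ → β} {gens : List ℕ}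
    (c : OrbCert dec gens) {x : β} (hK : (stabilizer M24 x).map M24.subtype = codesClosure gens) (g : M24)
    {k : ℕ} (hk : k < c.lens.length) :
    orbit (stabilizer M24 (g • x)) (g • c.root k) = g • c.seg k ∧
      (orbit (stabilizer M24 (g • x)) (g • c.root k)).ncard = c.lens.getD k 0 := by
  rw [orbit_stabilizer_smul, orbit_eq_of_map hK, c.orbit_root hk]
  exact ⟨rfl, by rw [Set.ncard_smul_set, c.ncard_seg hk]⟩

/-- Elements with equal invariant are exchanged by the conjugate stabilizer. -/
theorem exists_translate {β : Type*} [MulAction (Equiv.Perm GolayPt) β] {dec : ℕ → β} {gens : List ℕ}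
    (c : OrbCert dec gens) {x : β} (hK : (stabilizer M24 x).map M24.subtype = codesClosure gens)
    {fc : ℕ → ℕ} {f : β → ℕ} {vals : List ℕ} (hf : ∀ i < c.lens.sum, f (c.val i) = fc (arrGet c.w c.V i))
    (hsep : sepCheck fc c.w c.V c.lens vals = true) (g : M24) {y y' : β} (hy : g⁻¹ • y ∈ c.all)
    (hy' : g⁻¹ • y' ∈ c.all) (h : f (g⁻¹ • y) = f (g⁻¹ • y')) :
    ∃ k : M24, k • g • x = g • x ∧ k • y = y' := by
  obtain ⟨a, ha, e⟩ := c.exists_smul_eq hf hsep hy hy' h
  obtain ⟨b, hb, rfl⟩ := hK.symm ▸ ha
  refine ⟨g * b * g⁻¹, ?_, ?_⟩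
  · rw [mul_smul, mul_smul, inv_smul_smul, show b • x = x from hb]
  · rw [mul_smul, mul_smul]
    show g • ((b : Equiv.Perm GolayPt) • g⁻¹ • y) = y'
    rw [show (b : Equiv.Perm GolayPt) • g⁻¹ • y = g⁻¹ • y' from e, smul_inv_smul]

end CfsgLib.Spor
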