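/-
Orbits in `Cfsg.M24` relative to a fixed compound object: a certificate at one base object, a separating
invariant, and the translated statements.
-/
import Cfsg.Agent.Lib.Spor.StabFacts

namespace CfsgLib.Spor

open Cfsg MulAction
open scoped Pointwise

variable {α β : Type*} [MulAction (Equiv.Perm GolayPt) α] [MulAction (Equiv.Perm GolayPt) β]

/-- Generators fixing `x`, their orbits on `U`, and a code for an equivariant invariant. -/
structure Local (x : α) (U : Set β) (f : α → β → ℕ) {dec : ℕ → β} {gens : List ℕ} (c : OrbCert dec gens)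
    (fc : ℕ → ℕ) : Prop where
  inM24 : gens.all isM24Code = true
  fix : ∀ g ∈ gens, permOf g • x = x
  univ : U = c.all
  smulU : ∀ (g : M24), ∀ y ∈ U, g • y ∈ U
  smulf : ∀ (g : M24) (X : α) (y : β), f (g • X) (g • y) = f X y
  code : ∀ i < c.lens.sum, f x (c.val i) = fc (arrGet c.w c.V i)

/-- The value `v` occurs exactly on segment `k`. -/
def onlyIn (fc : ℕ → ℕ) (w V : ℕ) (lens : List ℕ) (v k : ℕ) : Bool :=
  decide (k < lens.length) && (List.range lens.length).all fun m =>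
    (List.range (lens.getD m 0)).all fun j => (fc (arrGet w V (segStart lens m + j)) == v) == (m == k)

/-- All values occurring. -/
def valuesIn (fc : ℕ → ℕ) (w V : ℕ) (lens L : List ℕ) : Bool :=
  (List.range lens.sum).all fun i => L.contains (fc (arrGet w V i))

/-- Generators fixing an indexed point. -/
def fixPt (gens : List ℕ) (i : ℕ) : Bool := gens.all fun g => isPermCode g && (decide (i < 24) && (permFn g i == i))

/-- Generators fixing a mask. -/
def fixMask (gens : List ℕ) (m : ℕ) : Bool := gens.all fun g => isPermCode g && (permMask g m == m)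

theorem fixPt_spec {gens : List ℕ} {i : ℕ} (h : fixPt gens i = true) : ∀ g ∈ gens, permOf g • idxPt i = idxPt i := by
  intro g hg
  simp only [fixPt, List.all_eq_true, Bool.and_eq_true, decide_eq_true_eq, beq_iff_eq] at h
  obtain ⟨h1, h2, h3⟩ := h g hg
  rw [Equiv.Perm.smul_def, permOf_idxPt h1 h2, h3]

theorem fixMask_spec {gens : List ℕ} {m : ℕ} (h : fixMask gens m = true) : ∀ g ∈ gens, permOf g • pts m = pts m := by
  intro g hg
  simp only [fixMask, List.all_eq_true, Bool.and_eq_true, beq_iff_eq] at h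
  obtain ⟨h1, h2⟩ := h g hg
  rw [smul_pts h1, h2]

namespace Local

variable {x : α} {U : Set β} {f : α → β → ℕ} {dec : ℕ → β} {gens : List ℕ} {c : OrbCert dec gens} {fc : ℕ → ℕ}

theorem closure_le (L : Local x U f c fc) : codesClosure gens ≤ (stabilizer M24 x).map M24.subtype :=
  codesClosure_le fun g hg =>
    (mem_map_stabilizer x _).2 ⟨permOf_mem_M24 (List.all_eq_true.1 L.inM24 g hg), L.fix g hg⟩

theorem mem_iff (L : Local x U f c fc) {v k : ℕ} (h : onlyIn fc c.w c.V c.lens v k = true) {y : β} :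
    y ∈ c.seg k ↔ y ∈ U ∧ f x y = v := by
  simp only [onlyIn, Bool.and_eq_true, decide_eq_true_eq, List.all_eq_true, List.mem_range, beq_iff_eq] at h
  obtain ⟨hk, h⟩ := h
  have key : ∀ m < c.lens.length, ∀ z ∈ c.seg m, (f x z = v ↔ m = k) := by
    rintro m hm _ ⟨i, ⟨h1, h2⟩, rfl⟩
    have h3 := h m hm (i - segStart c.lens m) (by omega)
    rw [Nat.add_sub_cancel' h1, Bool.eq_iff_iff, beq_iff_eq, beq_iff_eq] at h3
    show f x (c.val i) = v ↔ m = k
    rw [L.code i (lt_of_lt_of_le h2 (segStart_add_le c.lens hm))]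
    exact h3
  rw [L.univ, c.all_eq_iUnion]
  constructor
  · exact fun hy => ⟨⟨k, hk, hy⟩, (key k hk y hy).2 rfl⟩
  · rintro ⟨⟨m, hm, hy⟩, e⟩
    exact (key m hm y hy).1 e ▸ hy

theorem smulU_iff (L : Local x U f c fc) (g : M24) (y : β) : g • y ∈ U ↔ y ∈ U :=
  ⟨fun h => inv_smul_smul g y ▸ L.smulU g⁻¹ _ h, L.smulU g y⟩

theorem smul_class (L : Local x U f c fc) (g : M24) (v : ℕ) :
    g • {y | y ∈ U ∧ f x y = v} = {y | y ∈ U ∧ f (g • x) y = v} := by
  ext y
  rw [Set.mem_smul_set_iff_inv_smul_mem]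
  simp only [Set.mem_ofPred_eq, L.smulU_iff]
  rw [← L.smulf g x (g⁻¹ • y), smul_inv_smul]

theorem count (L : Local x U f c fc) {v k : ℕ} (h : onlyIn fc c.w c.V c.lens v k = true) {X : α}
    (hX : X ∈ orbit M24 x) : {y | y ∈ U ∧ f X y = v}.ncard = c.lens.getD k 0 := by
  obtain ⟨g, rfl⟩ := hX
  rw [← L.smul_class g v, Set.ncard_smul_set, ← c.ncard_seg (k := k) (by
    simp only [onlyIn, Bool.and_eq_true, decide_eq_true_eq] at h; exact h.1)]
  exact congrArg Set.ncard (Set.ext fun y => (L.mem_iff h).symm)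

theorem orbit_root_subset (L : Local x U f c fc) {v k : ℕ} (h : onlyIn fc c.w c.V c.lens v k = true) :
    {y | y ∈ U ∧ f x y = v} ⊆ orbit (stabilizer M24 x) (c.root k) := by
  intro y hy
  have hy := (L.mem_iff h).2 hy
  rw [← c.orbit_root (by simp only [onlyIn, Bool.and_eq_true, decide_eq_true_eq] at h; exact h.1)] at hy
  obtain ⟨⟨a, ha⟩, rfl⟩ := hy
  obtain ⟨b, hb, rfl⟩ := L.closure_le ha
  exact ⟨⟨b, hb⟩, rfl⟩

theorem move (L : Local x U f c fc) {v k : ℕ} (h : onlyIn fc c.w c.V c.lens v k = true) {X : α}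
    (hX : X ∈ orbit M24 x) {y y' : β} (hy : y ∈ U) (hy' : y' ∈ U) (hv : f X y = v) (hv' : f X y' = v) :
    ∃ g : M24, g • X = X ∧ g • y = y' := by
  obtain ⟨g, rfl⟩ := hX
  have hh : ∀ z ∈ U, f (g • x) z = v → g⁻¹ • z ∈ orbit (stabilizer M24 x) (c.root k) := fun z hz e =>
    L.orbit_root_subset h ⟨L.smulU g⁻¹ z hz, by rw [← L.smulf g x, smul_inv_smul]; exact e⟩
  obtain ⟨a, ha⟩ := hh y hy hv
  obtain ⟨b, hb⟩ := hh y' hy' hv'
  refine ⟨g * (b.1 * a.1⁻¹) * g⁻¹, ?_, ?_⟩
  · show (g * (b.1 * a.1⁻¹) * g⁻¹) • g • x = g • x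
    rw [mul_smul, inv_smul_smul, mul_smul, mul_smul, inv_smul_eq_iff.2 a.2.symm, show b.1 • x = x from b.2]
  · rw [mul_smul, mul_smul, mul_smul, ← show a.1 • c.root k = g⁻¹ • y from ha, inv_smul_smul,
      show b.1 • c.root k = g⁻¹ • y' from hb, smul_inv_smul]

theorem orbit_eq (L : Local x U f c fc) {v k : ℕ} (h : onlyIn fc c.w c.V c.lens v k = true) {X : α}
    (hX : X ∈ orbit M24 x) {y : β} (hy : y ∈ U) (hv : f X y = v) :
    orbit (stabilizer M24 X) y = {z | z ∈ U ∧ f X z = v} := by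
  ext z
  constructor
  · rintro ⟨a, rfl⟩
    refine ⟨L.smulU a.1 y hy, ?_⟩
    show f X (a.1 • y) = v
    have e := L.smulf a.1 X y
    rw [show a.1 • X = X from a.2] at e
    exact e.trans hv
  · rintro ⟨hz, e⟩
    obtain ⟨g, hg1, hg2⟩ := L.move h hX hy hz hv e
    exact ⟨⟨g, hg1⟩, hg2⟩

theorem ncard_orbit (L : Local x U f c fc) {v k : ℕ} (h : onlyIn fc c.w c.V c.lens v k = true) {X : α}
    (hX : X ∈ orbit M24 x) {y : β} (hy : y ∈ U) (hv : f X y = v) :
    (orbit (stabilizer M24 X) y).ncard = c.lens.getD k 0 := by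
  rw [L.orbit_eq h hX hy hv, L.count h hX]

theorem pair_mem_orbit (L : Local x U f c fc) {v k : ℕ} (h : onlyIn fc c.w c.V c.lens v k = true) {X : α}
    (hX : X ∈ orbit M24 x) {y : β} (hy : y ∈ U) (hv : f X y = v) : (X, y) ∈ orbit M24 (x, c.root k) := by
  obtain ⟨g, rfl⟩ := hX
  obtain ⟨a, ha⟩ := L.orbit_root_subset h
    ⟨L.smulU g⁻¹ y hy, show f x (g⁻¹ • y) = v by rw [← L.smulf g x, smul_inv_smul]; exact hv⟩
  refine ⟨g * a.1, Prod.ext ?_ ?_⟩
  · show (g * a.1) • x = g • x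
    rw [mul_smul, show a.1 • x = x from a.2]
  · show (g * a.1) • c.root k = y
    rw [mul_smul, show a.1 • c.root k = g⁻¹ • y from ha, smul_inv_smul]

theorem value_mem (L : Local x U f c fc) {vs : List ℕ} (h : valuesIn fc c.w c.V c.lens vs = true) {X : α}
    (hX : X ∈ orbit M24 x) {y : β} (hy : y ∈ U) : f X y ∈ vs := by
  obtain ⟨g, rfl⟩ := hX
  rw [← smul_inv_smul g y, L.smulf]
  have := L.smulU g⁻¹ y hy
  rw [L.univ] at this
  obtain ⟨i, hi, e⟩ := this
  rw [← e, L.code i hi]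
  simp only [valuesIn, List.all_eq_true, List.mem_range] at h
  simpa using h i hi

end Local

theorem stabilizer_prod_eq {G : Type*} [Group G] {γ δ : Type*} [MulAction G γ] [MulAction G δ] (X : γ) (y : δ) :
    stabilizer G (X, y) = stabilizer G X ⊓ stabilizer G y := by
  ext g; simp [Prod.ext_iff]

theorem Local.card_stab {x : α} {U : Set β} {f : α → β → ℕ} {dec : ℕ → β} {gens : List ℕ}
    {c : OrbCert dec gens} {fc : ℕ → ℕ} (L : Local x U f c fc) {v k : ℕ}
    (h : onlyIn fc c.w c.V c.lens v k = true) {X : α}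
    (hX : X ∈ orbit M24 x) {y : β} (hy : y ∈ U) (hv : f X y = v) :
    c.lens.getD k 0 * Nat.card ↥(stabilizer M24 X ⊓ stabilizer M24 y) = Nat.card (stabilizer M24 X) := by
  have e := Nat.card_congr (orbitProdStabilizerEquivGroup (stabilizer M24 X) y)
  rw [Nat.card_prod, Nat.card_coe_set_eq, L.ncard_orbit h hX hy hv] at e
  rw [← e]
  congr 1
  exact Nat.card_congr
    { toFun := fun g => ⟨⟨g.1, g.2.1⟩, g.2.2⟩
      invFun := fun g => ⟨g.1.1, g.1.2, g.2⟩
      left_inv := fun _ => rfl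
      right_inv := fun _ => rfl }

theorem card_stab_mul_orbit {γ : Type*} [MulAction (Equiv.Perm GolayPt) γ] (X : γ) :
    (orbit M24 X).ncard * Nat.card (stabilizer M24 X) = 244823040 := by
  rw [← card_M24, ← Nat.card_congr (orbitProdStabilizerEquivGroup M24 X), Nat.card_prod, Nat.card_coe_set_eq]

/-! ### Invariant codes -/

theorem smul_mem_octads_iff (g : M24) (o : Finset GolayPt) : g • o ∈ octads ↔ o ∈ octads :=
  ⟨fun h => inv_smul_smul g o ▸ smul_mem_octads (g⁻¹).2 h, fun h => smul_mem_octads g.2 h⟩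

theorem smul_mem_dodecads_iff (g : M24) (o : Finset GolayPt) : g • o ∈ dodecads ↔ o ∈ dodecads :=
  ⟨fun h => inv_smul_smul g o ▸ smul_mem_wordsOfWeight (g⁻¹).2 h, fun h => smul_mem_wordsOfWeight g.2 h⟩

theorem smul_mem_pts_iff (g : M24) (p : GolayPt) (s : Finset GolayPt) : g • p ∈ g • s ↔ p ∈ s :=
  Finset.smul_mem_smul_finset_iff g

theorem card_inter_smul_M24 (g : M24) (a b : Finset GolayPt) : (g • a ∩ g • b).card = (a ∩ b).card :=
  card_inter_smul (g : Equiv.Perm GolayPt) a b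

theorem card_smul_M24 (g : M24) (a : Finset GolayPt) : (g • a).card = a.card :=
  card_smul_finset' (g : Equiv.Perm GolayPt) a

theorem idxPt_mem_pts {i m : ℕ} (hi : i < 24) : idxPt i ∈ pts m ↔ m.testBit i = true := by
  rw [mem_pts, ptIdx_idxPt i hi]

theorem ordered_points {n : ℕ} (hn : n ≤ 5) (z : Fin n → GolayPt) (hz : Function.Injective z) :
    ∃ g : M24, ∀ j : Fin n, g • bpt j = z j := by
  obtain ⟨g, hg, hgx⟩ := exists_mem_M24_bpt n hn (fun i => if h : i < n then z ⟨i, h⟩ else none)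
    (fun i hi j hj h => by simp only [dif_pos hi, dif_pos hj] at h; exact congrArg Fin.val (hz h))
  exact ⟨⟨g, hg⟩, fun j => by
    show g (bpt j) = z j
    rw [hgx j j.2, dif_pos j.2]⟩

end CfsgLib.Spor
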