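/-
Orbits on octads, dodecads, pairs and points of stabilizers in `Cfsg.M24` of points together with an object.
-/
import Cfsg.Agent.Lib.Spor.Local
import Cfsg.Agent.Lib.Spor.Level.PointOctad
import Cfsg.Agent.Lib.Spor.Level.TwoPointsOctad
import Cfsg.Agent.Lib.Spor.Level.PointDodecad
import Cfsg.Agent.Lib.Spor.Level.TwoPointsPair
import Cfsg.Agent.Lib.Spor.Level.DodecadPoints

namespace CfsgLib.Spor

open Cfsg MulAction
open scoped Pointwise

/-- Roots of a point-set certificate have weight `n`, and are code words if `code`. -/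
def rootsOk (w V : ℕ) (lens : List ℕ) (n : ℕ) (code : Bool) : Bool :=
  (List.range lens.length).all fun k =>
    (pop 24 (arrGet 24 (arrGet w V (segStart lens k)) 0) == n) &&
      (!code || codeTest (arrGet 24 (arrGet w V (segStart lens k)) 0))

variable {gens : List ℕ} (c : OrbCert (fun x => pts (arrGet 24 x 0)) gens)

theorem univ_words (n N : ℕ) (hM : gens.all isM24Code = true)
    (hN : (wordsOfWeight (golayCode : Set (GolayPt → ZMod 2)) n).ncard = N) (hs : c.lens.sum = N)
    (hr : rootsOk c.w c.V c.lens n true = true) :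
    wordsOfWeight (golayCode : Set (GolayPt → ZMod 2)) n = c.all := by
  refine c.eq_all (Set.toFinite _) (by rw [hN, hs]) (fun k hk => ?_) fun g hg y hy =>
    smul_mem_wordsOfWeight (codesClosure_le (fun x hx => permOf_mem_M24 (List.all_eq_true.1 hM x hx)) hg) hy
  simp only [rootsOk, List.all_eq_true, List.mem_range, Bool.and_eq_true, beq_iff_eq, Bool.not_true,
    Bool.false_or] at hr
  obtain ⟨h1, h2⟩ := hr k hk
  exact ⟨⟨word _, (word_mem_golayCode_iff _).2 h2, support₂_word _⟩, (card_pts _).trans h1⟩

theorem univ_octads (hM : gens.all isM24Code = true) (hs : c.lens.sum = 759)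
    (hr : rootsOk c.w c.V c.lens 8 true = true) : octads = c.all :=
  univ_words c 8 759 hM (by rw [ncard_wordsOfWeight]; decide +kernel) hs hr

theorem univ_dodecads (hM : gens.all isM24Code = true) (hs : c.lens.sum = 2576)
    (hr : rootsOk c.w c.V c.lens 12 true = true) : dodecads = c.all :=
  univ_words c 12 2576 hM ncard_dodecads hs hr

theorem univ_card (n : ℕ) (hs : c.lens.sum = Nat.choose 24 n) (hr : rootsOk c.w c.V c.lens n false = true) :
    {s : Finset GolayPt | s.card = n} = c.all := by
  refine c.eq_all (Set.toFinite _) (by rw [ncard_setOf_card, hs]) (fun k hk => ?_) fun g hg y hy =>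
    (card_smul_finset' g y).trans hy
  simp only [rootsOk, List.all_eq_true, List.mem_range, Bool.and_eq_true, beq_iff_eq] at hr
  exact (card_pts _).trans (hr k hk).1

/-- One if the point lies in the set. -/
def has (p : GolayPt) (s : Finset GolayPt) : ℕ := if p ∈ s then 1 else 0

theorem has_pts {i : ℕ} (hi : i < 24) (m : ℕ) : has (idxPt i) (pts m) = if m.testBit i then 1 else 0 := by
  rw [has]; exact if_congr (idxPt_mem_pts hi) rfl rfl

theorem has_smul (g : M24) (p : GolayPt) (s : Finset GolayPt) : has (g • p) (g • s) = has p s :=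
  if_congr (smul_mem_pts_iff g p s) rfl rfl

theorem has_eq_one {p : GolayPt} {s : Finset GolayPt} : has p s = 1 ↔ p ∈ s := by
  unfold has; split <;> simp_all

theorem has_eq_zero {p : GolayPt} {s : Finset GolayPt} : has p s = 0 ↔ p ∉ s := by
  unfold has; split <;> simp_all

/-! ### A point -/

/-- Membership of a point. -/
def fPt : GolayPt → Finset GolayPt → ℕ := has

theorem ptOct_local : Local (idxPt 23) octads fPt ptOctOrb (fun x => if (arrGet 24 x 0).testBit 23 then 1 else 0) where
  inM24 := by decide +kernel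
  fix := fixPt_spec (by decide +kernel)
  univ := univ_octads _ (by decide +kernel) (by decide +kernel) (by decide +kernel)
  smulU g _ hy := (smul_mem_octads_iff g _).2 hy
  smulf := has_smul
  code _ _ := has_pts (by norm_num) _

theorem ptDod_local : Local (idxPt 23) dodecads fPt ptDodOrb (fun x => if (arrGet 24 x 0).testBit 23 then 1 else 0) where
  inM24 := by decide +kernel
  fix := fixPt_spec (by decide +kernel)
  univ := univ_dodecads _ (by decide +kernel) (by decide +kernel) (by decide +kernel)
  smulU g _ hy := (smul_mem_dodecads_iff g _).2 hy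
  smulf := has_smul
  code _ _ := has_pts (by norm_num) _

theorem mem_orbit_point (p : GolayPt) : p ∈ orbit M24 (idxPt 23) := by
  obtain ⟨g, hg⟩ := ordered_points (n := 1) (by norm_num) ![p] (Function.injective_of_subsingleton _)
  exact ⟨g, hg 0⟩

theorem mem_orbit_two {p q : GolayPt} (h : p ≠ q) : (p, q) ∈ orbit M24 (idxPt 23, idxPt 0) := by
  obtain ⟨g, hg⟩ := ordered_points (n := 2) (by norm_num) ![p, q] (by
    intro i j; fin_cases i <;> fin_cases j <;> simp [h, Ne.symm h])
  exact ⟨g, Prod.ext (hg 0) (hg 1)⟩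

/-- The meeting number with the fixed set, tagged by the fixed point. -/
def fPtSet (X : GolayPt × Finset GolayPt) (y : Finset GolayPt) : ℕ :=
  (X.2 ∩ y).card + 100 * (1 - has X.1 y)

/-- The same tagged by non-membership. -/
def fPtSetOut (X : GolayPt × Finset GolayPt) (y : Finset GolayPt) : ℕ :=
  (X.2 ∩ y).card + 100 * has X.1 y

theorem fPtSet_smul (g : M24) (X : GolayPt × Finset GolayPt) (y : Finset GolayPt) :
    fPtSet (g • X) (g • y) = fPtSet X y := by
  show (g • X.2 ∩ g • y).card + 100 * (1 - has (g • X.1) (g • y)) = _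
  rw [card_inter_smul_M24, has_smul]; rfl

theorem fPtSetOut_smul (g : M24) (X : GolayPt × Finset GolayPt) (y : Finset GolayPt) :
    fPtSetOut (g • X) (g • y) = fPtSetOut X y := by
  show (g • X.2 ∩ g • y).card + 100 * has (g • X.1) (g • y) = _
  rw [card_inter_smul_M24, has_smul]; rfl

theorem fix_prod {γ δ : Type*} [MulAction (Equiv.Perm GolayPt) γ] [MulAction (Equiv.Perm GolayPt) δ]
    {gens : List ℕ} {X : γ} {y : δ} (h1 : ∀ g ∈ gens, permOf g • X = X) (h2 : ∀ g ∈ gens, permOf g • y = y) :
    ∀ g ∈ gens, permOf g • (X, y) = (X, y) :=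
  fun g hg => Prod.ext (h1 g hg) (h2 g hg)

theorem ptOctIn_local : Local (idxPt 23, pts 14919680) octads fPtSet ptOctInOrb
    (fun x => pop 24 (14919680 &&& arrGet 24 x 0) + 100 * (1 - if (arrGet 24 x 0).testBit 23 then 1 else 0)) where
  inM24 := by decide +kernel
  fix := fix_prod (fixPt_spec (by decide +kernel)) (fixMask_spec (by decide +kernel))
  univ := univ_octads _ (by decide +kernel) (by decide +kernel) (by decide +kernel)
  smulU g _ hy := (smul_mem_octads_iff g _).2 hy
  smulf := fPtSet_smul
  code i _ := by simp only [fPtSet, OrbCert.val, card_inter_pts, has_pts (show 23 < 24 by norm_num)]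

theorem ptOctOut_local : Local (idxPt 23, pts 5405696) octads fPtSetOut ptOctOutOrb
    (fun x => pop 24 (5405696 &&& arrGet 24 x 0) + 100 * if (arrGet 24 x 0).testBit 23 then 1 else 0) where
  inM24 := by decide +kernel
  fix := fix_prod (fixPt_spec (by decide +kernel)) (fixMask_spec (by decide +kernel))
  univ := univ_octads _ (by decide +kernel) (by decide +kernel) (by decide +kernel)
  smulU g _ hy := (smul_mem_octads_iff g _).2 hy
  smulf := fPtSetOut_smul
  code i _ := by simp only [fPtSetOut, OrbCert.val, card_inter_pts, has_pts (show 23 < 24 by norm_num)]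

theorem ptDodIn_local : Local (idxPt 23, pts 16201472) dodecads fPtSet ptDodInOrb
    (fun x => pop 24 (16201472 &&& arrGet 24 x 0) + 100 * (1 - if (arrGet 24 x 0).testBit 23 then 1 else 0)) where
  inM24 := by decide +kernel
  fix := fix_prod (fixPt_spec (by decide +kernel)) (fixMask_spec (by decide +kernel))
  univ := univ_dodecads _ (by decide +kernel) (by decide +kernel) (by decide +kernel)
  smulU g _ hy := (smul_mem_dodecads_iff g _).2 hy
  smulf := fPtSet_smul
  code i _ := by simp only [fPtSet, OrbCert.val, card_inter_pts, has_pts (show 23 < 24 by norm_num)]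

theorem mem_orbit_ptOctIn {x : GolayPt} {o : Finset GolayPt} (ho : o ∈ octads) (hx : x ∈ o) :
    (x, o) ∈ orbit M24 (idxPt 23, pts 14919680) := by
  have e : ptOctOrb.root 0 = pts 14919680 := congrArg pts (by decide +kernel)
  exact e ▸ ptOct_local.pair_mem_orbit (v := 1) (by decide +kernel) (mem_orbit_point x) ho (has_eq_one.2 hx)

theorem mem_orbit_ptOctOut {x : GolayPt} {o : Finset GolayPt} (ho : o ∈ octads) (hx : x ∉ o) :
    (x, o) ∈ orbit M24 (idxPt 23, pts 5405696) := by
  have e : ptOctOrb.root 1 = pts 5405696 := congrArg pts (by decide +kernel)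
  exact e ▸ ptOct_local.pair_mem_orbit (v := 0) (by decide +kernel) (mem_orbit_point x) ho (has_eq_zero.2 hx)

theorem mem_orbit_ptDodIn {x : GolayPt} {d : Finset GolayPt} (hd : d ∈ dodecads) (hx : x ∈ d) :
    (x, d) ∈ orbit M24 (idxPt 23, pts 16201472) := by
  have e : ptDodOrb.root 1 = pts 16201472 := congrArg pts (by decide +kernel)
  exact e ▸ ptDod_local.pair_mem_orbit (v := 1) (by decide +kernel) (mem_orbit_point x) hd (has_eq_one.2 hx)

/-! ### Two points -/

/-- Membership of two points. -/
def fTwo (X : GolayPt × GolayPt) (y : Finset GolayPt) : ℕ := 2 * has X.1 y + has X.2 y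

theorem fTwo_smul (g : M24) (X : GolayPt × GolayPt) (y : Finset GolayPt) : fTwo (g • X) (g • y) = fTwo X y := by
  show 2 * has (g • X.1) (g • y) + has (g • X.2) (g • y) = _
  rw [has_smul, has_smul]; rfl

/-- The code of two-point membership. -/
def twoCode (m : ℕ) : ℕ := 2 * (if m.testBit 23 then 1 else 0) + if m.testBit 0 then 1 else 0

theorem fTwo_pts (m : ℕ) : fTwo (idxPt 23, idxPt 0) (pts m) = twoCode m := by
  simp only [fTwo, twoCode, has_pts (show 23 < 24 by norm_num), has_pts (show 0 < 24 by norm_num)]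

theorem twoOct_local : Local (idxPt 23, idxPt 0) octads fTwo twoOctOrb (fun x => twoCode (arrGet 24 x 0)) where
  inM24 := by decide +kernel
  fix := fix_prod (fixPt_spec (by decide +kernel)) (fixPt_spec (by decide +kernel))
  univ := univ_octads _ (by decide +kernel) (by decide +kernel) (by decide +kernel)
  smulU g _ hy := (smul_mem_octads_iff g _).2 hy
  smulf := fTwo_smul
  code i _ := fTwo_pts _

/-- Membership of two points with the meeting number. -/
def fTwoSet (X : (GolayPt × GolayPt) × Finset GolayPt) (y : Finset GolayPt) : ℕ :=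
  (X.2 ∩ y).card + 100 * fTwo X.1 y

theorem fTwoSet_smul (g : M24) (X : (GolayPt × GolayPt) × Finset GolayPt) (y : Finset GolayPt) :
    fTwoSet (g • X) (g • y) = fTwoSet X y := by
  show (g • X.2 ∩ g • y).card + 100 * fTwo (g • X.1) (g • y) = _
  rw [card_inter_smul_M24, fTwo_smul]; rfl

theorem twoOctBoth_local : Local ((idxPt 23, idxPt 0), pts 13062145) octads fTwoSet twoOctBothOrb
    (fun x => pop 24 (13062145 &&& arrGet 24 x 0) + 100 * twoCode (arrGet 24 x 0)) where
  inM24 := by decide +kernel
  fix := fix_prod (fix_prod (fixPt_spec (by decide +kernel)) (fixPt_spec (by decide +kernel)))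
    (fixMask_spec (by decide +kernel))
  univ := univ_octads _ (by decide +kernel) (by decide +kernel) (by decide +kernel)
  smulU g _ hy := (smul_mem_octads_iff g _).2 hy
  smulf := fTwoSet_smul
  code i _ := by simp only [fTwoSet, OrbCert.val, card_inter_pts, fTwo_pts]

theorem twoOctOne_local : Local ((idxPt 23, idxPt 0), pts 14919680) octads fTwoSet twoOctOneOrb
    (fun x => pop 24 (14919680 &&& arrGet 24 x 0) + 100 * twoCode (arrGet 24 x 0)) where
  inM24 := by decide +kernel
  fix := fix_prod (fix_prod (fixPt_spec (by decide +kernel)) (fixPt_spec (by decide +kernel)))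
    (fixMask_spec (by decide +kernel))
  univ := univ_octads _ (by decide +kernel) (by decide +kernel) (by decide +kernel)
  smulU g _ hy := (smul_mem_octads_iff g _).2 hy
  smulf := fTwoSet_smul
  code i _ := by simp only [fTwoSet, OrbCert.val, card_inter_pts, fTwo_pts]

theorem fTwo_eq_three {p q : GolayPt} {y : Finset GolayPt} : fTwo (p, q) y = 3 ↔ p ∈ y ∧ q ∈ y := by
  simp only [fTwo, has]; split <;> split <;> simp_all

theorem fTwo_eq_two {p q : GolayPt} {y : Finset GolayPt} : fTwo (p, q) y = 2 ↔ p ∈ y ∧ q ∉ y := by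
  simp only [fTwo, has]; split <;> split <;> simp_all

theorem mem_orbit_twoOctBoth {p q : GolayPt} (hpq : p ≠ q) {o : Finset GolayPt} (ho : o ∈ octads)
    (hp : p ∈ o) (hq : q ∈ o) : ((p, q), o) ∈ orbit M24 ((idxPt 23, idxPt 0), pts 13062145) := by
  have e : twoOctOrb.root 0 = pts 13062145 := congrArg pts (by decide +kernel)
  exact e ▸ twoOct_local.pair_mem_orbit (v := 3) (by decide +kernel) (mem_orbit_two hpq) ho
    (fTwo_eq_three.2 ⟨hp, hq⟩)

theorem mem_orbit_twoOctOne {p q : GolayPt} (hpq : p ≠ q) {o : Finset GolayPt} (ho : o ∈ octads)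
    (hp : p ∈ o) (hq : q ∉ o) : ((p, q), o) ∈ orbit M24 ((idxPt 23, idxPt 0), pts 14919680) := by
  have e : twoOctOrb.root 2 = pts 14919680 := congrArg pts (by decide +kernel)
  exact e ▸ twoOct_local.pair_mem_orbit (v := 2) (by decide +kernel) (mem_orbit_two hpq) ho
    (fTwo_eq_two.2 ⟨hp, hq⟩)

end CfsgLib.Spor
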