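/-
Membership tests and orders for the Mathieu groups as subgroups of the permutations of 24 points.
-/
import Cfsg.Prelude.Def_Spor_Mathieu
import Cfsg.Agent.Lib.Spor.M12

set_option autoImplicit false

namespace CfsgLib.Spor

open Cfsg
open scoped Pointwise

/-- The squares modulo 23 as a mask. -/
def squareMask : ℕ := maskFn (fun i => (List.range 23).any fun r => r * r % 23 == i) 24

theorem squareDodecad_eq : Spor.squareDodecad = pts squareMask := by decide +kernel

theorem squareDodecad_mem : Spor.squareDodecad ∈ dodecads := by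
  rw [squareDodecad_eq]
  refine ⟨(mem_supports_iff_codeTest _).2 ?_, ?_⟩
  · rw [maskPts_pts (by decide +kernel)]; decide +kernel
  · rw [card_pts]; decide +kernel

def inM23 (g : ℕ) : Bool := isM24Code g && (permFn g 23 == 23)

def inM22 (g : ℕ) : Bool := inM23 g && (permFn g 0 == 0)

def inM12 (g : ℕ) : Bool := isM24Code g && (permMask g squareMask == squareMask)

def inM11 (g : ℕ) : Bool := inM12 g && (permFn g 0 == 0)

theorem m24_sound {g : ℕ} (h : isM24Code g = true) : isPermCode g = true ∧ permOf g ∈ Cfsg.M24 :=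
  ⟨isPermCode_of_isM24Code h, permOf_mem_M24 h⟩

theorem fix_sound {g i : ℕ} (hg : isPermCode g = true) (hi : i < 24) (h : permFn g i = i) :
    permOf g (idxPt i) = idxPt i := by rw [permOf_idxPt hg hi, h]

theorem m23_sound {g : ℕ} (h : inM23 g = true) : isPermCode g = true ∧ permOf g ∈ Spor.M23 := by
  simp only [inM23, Bool.and_eq_true, beq_iff_eq] at h
  obtain ⟨h1, h2⟩ := m24_sound h.1
  refine ⟨h1, Subgroup.mem_inf.2 ⟨h2, ?_⟩⟩
  have := fix_sound h1 (by norm_num) h.2
  rw [show idxPt 23 = none from rfl] at this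
  exact this

theorem m22_sound {g : ℕ} (h : inM22 g = true) : isPermCode g = true ∧ permOf g ∈ Spor.M22 := by
  simp only [inM22, Bool.and_eq_true, beq_iff_eq] at h
  obtain ⟨h1, h2⟩ := m23_sound h.1
  refine ⟨h1, Subgroup.mem_inf.2 ⟨h2, ?_⟩⟩
  have := fix_sound h1 (by norm_num) h.2
  rw [show idxPt 0 = some 0 from rfl] at this
  exact this

theorem m12_sound {g : ℕ} (h : inM12 g = true) : isPermCode g = true ∧ permOf g ∈ Spor.M12 := by
  simp only [inM12, Bool.and_eq_true, beq_iff_eq] at h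
  obtain ⟨h1, h2⟩ := m24_sound h.1
  refine ⟨h1, Subgroup.mem_inf.2 ⟨h2, ?_⟩⟩
  rw [MulAction.mem_stabilizer_iff, squareDodecad_eq, smul_pts h1, h.2]

theorem m11_sound {g : ℕ} (h : inM11 g = true) : isPermCode g = true ∧ permOf g ∈ Spor.M11 := by
  simp only [inM11, Bool.and_eq_true, beq_iff_eq] at h
  obtain ⟨h1, h2⟩ := m12_sound h.1
  refine ⟨h1, Subgroup.mem_inf.2 ⟨h2, ?_⟩⟩
  have := fix_sound h1 (by norm_num) h.2
  rw [show idxPt 0 = some 0 from rfl] at this
  exact this

theorem smul_pts_fullMask (g : Equiv.Perm GolayPt) : g • pts fullMask = pts fullMask := by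
  have h : pts fullMask = Finset.univ := by
    ext p; simp [mem_pts, fullMask_testBit _ (ptIdx_lt p)]
  rw [h, Finset.smul_finset_univ]

theorem smul_squares {g : Equiv.Perm GolayPt} (hg : g ∈ Spor.M12) :
    g • pts squareMask = pts squareMask := by
  rw [← squareDodecad_eq]; exact MulAction.mem_stabilizer_iff.1 hg.2

theorem card_sporM23 : Nat.card Spor.M23 = 10200960 := by
  rw [← card_stabilizer_point none, card_subgroup_M24]
  exact Nat.card_congr (Equiv.subtypeEquivRight fun g => by rw [mem_map_stabilizer]; exact Iff.rfl)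

theorem card_sporM22 : Nat.card Spor.M22 = 443520 := by
  rw [← card_stabilizer_two_points none (some 0) (by simp), card_subgroup_M24]
  refine Nat.card_congr (Equiv.subtypeEquivRight fun g => ?_)
  rw [Subgroup.map_inf _ _ _ M24.subtype_injective, Subgroup.mem_inf, mem_map_stabilizer,
    mem_map_stabilizer]
  exact ⟨fun ⟨⟨a, b⟩, c⟩ => ⟨⟨a, b⟩, a, c⟩, fun ⟨⟨a, b⟩, _, c⟩ => ⟨⟨a, b⟩, c⟩⟩

theorem card_sporM12 : Nat.card Spor.M12 = 95040 := by
  rw [← card_stabilizer_dodecad squareDodecad_mem, card_subgroup_M24]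
  exact Nat.card_congr (Equiv.subtypeEquivRight fun g => by rw [mem_map_stabilizer]; exact Iff.rfl)

theorem card_sporM11 : Nat.card Spor.M11 = 7920 := by
  rw [← card_stabilizer_dodecad_point squareDodecad_mem (p := some 0) (by decide +kernel),
    card_subgroup_M24]
  refine Nat.card_congr (Equiv.subtypeEquivRight fun g => ?_)
  rw [Subgroup.map_inf _ _ _ M24.subtype_injective, Subgroup.mem_inf, mem_map_stabilizer,
    mem_map_stabilizer]
  exact ⟨fun ⟨⟨a, b⟩, c⟩ => ⟨⟨a, b⟩, a, c⟩, fun ⟨⟨a, b⟩, _, c⟩ => ⟨⟨a, b⟩, c⟩⟩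

end CfsgLib.Spor
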