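/-
The two-point subgroup of `Cfsg.M24` and the two classes of point stabilizers in the dodecad group.
-/
import Cfsg.Agent.Lib.Spor.LevelFacts
import Cfsg.Agent.Lib.Spor.SylowTwoMathieu
import Cfsg.Prelude.Def_Spor_Mathieu

namespace CfsgLib.Spor

open Cfsg
open scoped Pointwise

/-- An element sending the squares to the complement and 0 to the extra point. -/
def swapDodecad : ℕ := 0x620720c60b118ea4b6930548e2d9f7

/-- Elements fixing the squares and the extra point, moving every square between them. -/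
def squareMovers : List ℕ := [0xbcecea22a95c466396047c9410098d, 0xbd8af891cc9d46da1c415016682249]

theorem swapDodecad_facts : isM24Code swapDodecad = true ∧ permMask swapDodecad squareMask = fullMask ^^^ squareMask ∧
    permFn swapDodecad 0 = 23 ∧
    squareMovers.all (fun c => isM24Code c && ((permMask c squareMask == squareMask) && (permFn c 23 == 23))) = true ∧
    (List.range 24).all (fun i => !squareMask.testBit i || squareMovers.any (fun c => permFn c i != i)) = true := by
  decide +kernel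

theorem mem_M12 {g : Equiv.Perm GolayPt} : g ∈ Spor.M12 ↔ g ∈ M24 ∧ g • Spor.squareDodecad = Spor.squareDodecad := by
  rw [Spor.M12, Subgroup.mem_inf]; rfl

theorem mem_M12none {g : Equiv.Perm GolayPt} :
    g ∈ Spor.M12 ⊓ MulAction.stabilizer (Equiv.Perm GolayPt) (none : GolayPt) ↔
      (g ∈ M24 ∧ g • Spor.squareDodecad = Spor.squareDodecad) ∧ g none = none := by
  rw [Subgroup.mem_inf, mem_M12]; rfl

theorem mem_M11 {g : Equiv.Perm GolayPt} :
    g ∈ Spor.M11 ↔ (g ∈ M24 ∧ g • Spor.squareDodecad = Spor.squareDodecad) ∧ g (some 0) = some 0 := by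
  rw [Spor.M11, Subgroup.mem_inf, mem_M12]; rfl

theorem smul_compl_iff (g : Equiv.Perm GolayPt) (s : Finset GolayPt) : g • sᶜ = sᶜ ↔ g • s = s := by
  have : g • sᶜ = (g • s)ᶜ := by ext p; simp [← Finset.inv_smul_mem_iff]
  rw [this, compl_inj_iff]

theorem point_stabilizer_classes :
    Nonempty (↥(Spor.M12 ⊓ MulAction.stabilizer (Equiv.Perm GolayPt) (none : GolayPt)) ≃* ↥Spor.M11) ∧
    (¬ ∃ k ∈ Spor.M12, MulAut.conj k • Spor.M11 =
      Spor.M12 ⊓ MulAction.stabilizer (Equiv.Perm GolayPt) (none : GolayPt)) ∧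
    ∃ g ∈ M24, g • Spor.squareDodecad = Finset.univ \ Spor.squareDodecad ∧
      MulAut.conj g • Spor.M11 = Spor.M12 ⊓ MulAction.stabilizer (Equiv.Perm GolayPt) (none : GolayPt) := by
  obtain ⟨hM, hD, h0, hmov, hall⟩ := swapDodecad_facts
  have hp := isPermCode_of_isM24Code hM
  set g := permOf swapDodecad with hg
  have hgM : g ∈ M24 := permOf_mem_M24 hM
  have hgD : g • Spor.squareDodecad = Spor.squareDodecadᶜ := by
    rw [squareDodecad_eq, hg, smul_pts hp, hD]
    ext p
    simp [mem_pts, Nat.testBit_xor, fullMask_testBit _ (ptIdx_lt p)]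
  have hg0 : g (some 0) = none := by
    rw [show (some 0 : GolayPt) = idxPt 0 from rfl, hg, permOf_idxPt hp (by norm_num), h0]; rfl
  have hconj : MulAut.conj g • Spor.M11 = Spor.M12 ⊓ MulAction.stabilizer (Equiv.Perm GolayPt) (none : GolayPt) := by
    ext x
    rw [Subgroup.mem_pointwise_smul_iff_inv_smul_mem, mem_M11, mem_M12none]
    simp only [← map_inv, MulAut.smul_def, MulAut.conj_apply, inv_inv]
    refine and_congr (and_congr ⟨fun h => ?_, fun h => M24.mul_mem (M24.mul_mem (M24.inv_mem hgM) h) hgM⟩ ?_) ?_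
    · simpa [mul_assoc] using M24.mul_mem (M24.mul_mem hgM h) (M24.inv_mem hgM)
    · rw [mul_smul, mul_smul, inv_smul_eq_iff, hgD, smul_compl_iff]
    · rw [Equiv.Perm.mul_apply, Equiv.Perm.mul_apply, hg0, Equiv.Perm.inv_eq_iff_eq, hg0]
  refine ⟨?_, ?_, g, hgM, by rw [hgD, Finset.compl_eq_univ_sdiff], hconj⟩
  · rw [← hconj]
    exact ⟨(Subgroup.equivSMul (MulAut.conj g) Spor.M11).symm⟩
  · rintro ⟨k, hk, e⟩
    obtain ⟨-, hkD⟩ := mem_M12.1 hk
    have hx : k (some 0) ∈ pts squareMask := by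
      rw [← squareDodecad_eq, ← hkD]
      exact Finset.smul_mem_smul_finset (a := k) (by decide +kernel : (some 0 : GolayPt) ∈ Spor.squareDodecad)
    have hfix : ∀ y ∈ Spor.M12 ⊓ MulAction.stabilizer (Equiv.Perm GolayPt) (none : GolayPt),
        y (k (some 0)) = k (some 0) := by
      intro y hy
      rw [← e, Subgroup.mem_pointwise_smul_iff_inv_smul_mem, mem_M11] at hy
      simp only [← map_inv, MulAut.smul_def, MulAut.conj_apply, inv_inv] at hy
      have h2 := hy.2
      rw [Equiv.Perm.mul_apply, Equiv.Perm.mul_apply, Equiv.Perm.inv_eq_iff_eq] at h2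
      exact h2
    rw [mem_pts] at hx
    have := List.all_eq_true.1 hall _ (List.mem_range.2 (ptIdx_lt (k (some 0))))
    simp only [Bool.or_eq_true, Bool.not_eq_true', hx, List.any_eq_true, bne_iff_ne,
      reduceCtorEq, false_or] at this
    obtain ⟨c, hc, hne⟩ := this
    have hcf := List.all_eq_true.1 hmov c hc
    simp only [Bool.and_eq_true, beq_iff_eq] at hcf
    obtain ⟨hcM, hcD, hc23⟩ := hcf
    have hcp := isPermCode_of_isM24Code hcM
    have := hfix (permOf c) (mem_M12none.2 ⟨⟨permOf_mem_M24 hcM, by rw [squareDodecad_eq, smul_pts hcp, hcD]⟩, by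
      rw [show (none : GolayPt) = idxPt 23 from rfl, permOf_idxPt hcp (by norm_num), hc23]⟩)
    rw [← idxPt_ptIdx (k (some 0)), permOf_idxPt hcp (ptIdx_lt _)] at this
    have h' := congrArg ptIdx this
    rw [ptIdx_idxPt _ (permFn_lt hcp (ptIdx_lt _)), ptIdx_idxPt _ (ptIdx_lt _)] at h'
    exact hne h'

theorem two_point_index {g : Equiv.Perm GolayPt} (hg : g ∈ M24) (h₁ : g none = some 0) (h₂ : g (some 0) = none) :
    Spor.M22.relIndex (M24 ⊓ MulAction.stabilizer (Equiv.Perm GolayPt) ({none, some 0} : Finset GolayPt)) = 2 ∧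
    (∀ x ∈ Spor.M22, g * x * g⁻¹ ∈ Spor.M22) ∧
    ¬ ∃ h ∈ Spor.M22, ∀ x ∈ Spor.M22, g * x * g⁻¹ = h * x * h⁻¹ := by
  have mem22 : ∀ x : Equiv.Perm GolayPt, x ∈ Spor.M22 ↔ (x ∈ M24 ∧ x none = none) ∧ x (some 0) = some 0 :=
    fun x => by rw [Spor.M22, Spor.M23, Subgroup.mem_inf, Subgroup.mem_inf]; rfl
  set P := M24 ⊓ MulAction.stabilizer (Equiv.Perm GolayPt) ({none, some 0} : Finset GolayPt) with hP
  have memP : ∀ x ∈ P, x ∈ M24 ∧ (x none = none ∨ x none = some 0) ∧ (x (some 0) = none ∨ x (some 0) = some 0) := by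
    intro x hx
    rw [hP, Subgroup.mem_inf] at hx
    have hx2 : x • ({none, some 0} : Finset GolayPt) = {none, some 0} := hx.2
    have key : ∀ p, p ∈ ({none, some 0} : Finset GolayPt) → x p = none ∨ x p = some 0 := fun p hp => by
      have : x • p ∈ x • ({none, some 0} : Finset GolayPt) := Finset.smul_mem_smul_finset hp
      rw [hx2] at this
      simpa using this
    exact ⟨hx.1, key none (by simp), key (some 0) (by simp)⟩
  have hgP : g ∈ P := by
    rw [hP, Subgroup.mem_inf]
    refine ⟨hg, ?_⟩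
    show g • ({none, some 0} : Finset GolayPt) = {none, some 0}
    rw [Finset.smul_finset_insert, Finset.smul_finset_singleton, Equiv.Perm.smul_def, Equiv.Perm.smul_def, h₁, h₂,
      Finset.pair_comm]
  refine ⟨?_, fun x hx => ?_, ?_⟩
  · have e : Spor.M22.subgroupOf P = MulAction.stabilizer P (none : GolayPt) := by
      ext ⟨x, hx⟩
      rw [Subgroup.mem_subgroupOf, MulAction.mem_stabilizer_iff, mem22]
      show _ ↔ x none = none
      obtain ⟨hxM, -, h0⟩ := memP x hx
      refine ⟨fun h => h.1.2, fun h => ⟨⟨hxM, h⟩, h0.resolve_left fun hh => ?_⟩⟩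
      exact absurd (x.injective (hh.trans h.symm)) (by simp)
    rw [Subgroup.relIndex, e, MulAction.index_stabilizer]
    have : MulAction.orbit P (none : GolayPt) = {none, some 0} := by
      ext p
      constructor
      · rintro ⟨⟨x, hx⟩, rfl⟩
        exact (memP x hx).2.1
      · rintro (rfl | rfl)
        · exact MulAction.mem_orbit_self _
        · exact ⟨⟨g, hgP⟩, h₁⟩
    rw [this, Set.ncard_pair (by simp)]
  · rw [mem22] at hx ⊢
    have e1 : g⁻¹ none = some 0 := by rw [Equiv.Perm.inv_eq_iff_eq, h₂]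
    have e2 : g⁻¹ (some 0) = none := by rw [Equiv.Perm.inv_eq_iff_eq, h₁]
    refine ⟨⟨M24.mul_mem (M24.mul_mem hg hx.1.1) (M24.inv_mem hg), ?_⟩, ?_⟩
    · simp [Equiv.Perm.mul_apply, e1, hx.2, h₂]
    · simp [Equiv.Perm.mul_apply, e2, hx.1.2, h₁]
  · rintro ⟨h, hh, hall⟩
    rw [mem22] at hh
    set c := h⁻¹ * g with hc
    have hcM : c ∈ M24 := M24.mul_mem (M24.inv_mem hh.1.1) hg
    have hcomm : ∀ x ∈ Spor.M22, c * x = x * c := fun x hx => by
      calc c * x = h⁻¹ * (g * x * g⁻¹) * g := by rw [hc]; group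
        _ = h⁻¹ * (h * x * h⁻¹) * g := by rw [hall x hx]
        _ = x * c := by rw [hc]; group
    have hc0 : c none = some 0 := by rw [hc, Equiv.Perm.mul_apply, h₁, Equiv.Perm.inv_eq_iff_eq, hh.2]
    have hc1 : c (some 0) = none := by rw [hc, Equiv.Perm.mul_apply, h₂, Equiv.Perm.inv_eq_iff_eq, hh.1.2]
    have hfix : ∀ p, p ≠ none → p ≠ some 0 → c p = p := by
      intro p hp0 hp1
      by_contra hne
      have hq0 : c p ≠ none := fun e => hp1 (c.injective (e.trans hc1.symm))
      have hq1 : c p ≠ some 0 := fun e => hp0 (c.injective (e.trans hc0.symm))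
      obtain ⟨r, hr⟩ := Finset.exists_mem_notMem_of_card_lt_card
        (s := ({none, some 0, p, c p} : Finset GolayPt)) (t := Finset.univ)
        (lt_of_le_of_lt Finset.card_le_four (by decide +kernel))
      simp only [Finset.mem_univ, Finset.mem_insert, Finset.mem_singleton, true_and, not_or] at hr
      have inj : ∀ a b : GolayPt, none ≠ a → some 0 ≠ a → none ≠ b → some 0 ≠ b → a ≠ b →
          Function.Injective ![(none : GolayPt), some 0, a, b] := by
        intro a b h1 h2 h3 h4 h5 i j hij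
        fin_cases i <;> fin_cases j <;>
          simp [h1, h2, h3, h4, h5, Ne.symm h1, Ne.symm h2, Ne.symm h3, Ne.symm h4, Ne.symm h5] at hij ⊢
      obtain ⟨u, hu⟩ := ordered_points (n := 4) (by norm_num) _ (inj p (c p) hp0.symm hp1.symm hq0.symm hq1.symm
        (Ne.symm hne))
      obtain ⟨v, hv⟩ := ordered_points (n := 4) (by norm_num) _ (inj p r hp0.symm hp1.symm
        (Ne.symm hr.1) (Ne.symm hr.2.1) (Ne.symm hr.2.2.1))
      -- `v u⁻¹` fixes none, 0 and `p`, and sends `c p` to `r`
      have hx : ((v * u⁻¹ : M24) : Equiv.Perm GolayPt) ∈ Spor.M22 ∧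
          ((v * u⁻¹ : M24) : Equiv.Perm GolayPt) p = p ∧ ((v * u⁻¹ : M24) : Equiv.Perm GolayPt) (c p) = r := by
        have key : ∀ j : Fin 4, ((v * u⁻¹ : M24) : Equiv.Perm GolayPt) (![none, some 0, p, c p] j) =
            ![(none : GolayPt), some 0, p, r] j := fun j => by
          rw [← hu j, ← hv j]
          show (v * u⁻¹) • u • bpt j = v • bpt j
          rw [← mul_smul, inv_mul_cancel_right]
        exact ⟨(mem22 _).2 ⟨⟨(v * u⁻¹ : M24).2, key 0⟩, key 1⟩, key 2, key 3⟩
      obtain ⟨hxM, hxp, hxq⟩ := hx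
      have := congrArg (fun f : Equiv.Perm GolayPt => f p) (hcomm _ hxM)
      simp only [Equiv.Perm.mul_apply] at this
      rw [hxp, hxq] at this
      exact hr.2.2.2 this.symm
    -- so `c` is a transposition, which does not preserve the octads
    obtain ⟨o, ho, hno, h0o⟩ : ∃ o ∈ octads, (none : GolayPt) ∈ o ∧ (some 0 : GolayPt) ∉ o := by
      have key : ((weightList 8).any fun m => m.testBit 23 && !m.testBit 0) = true := by decide +kernel
      obtain ⟨m, hm, hb⟩ := List.any_eq_true.1 key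
      simp only [Bool.and_eq_true, Bool.not_eq_true'] at hb
      obtain ⟨hmc, hm8⟩ := List.mem_filter.1 hm
      refine ⟨pts m, ⟨pts_mem_supports hmc, by rw [card_pts]; exact beq_iff_eq.1 hm8⟩, mem_pts.2 hb.1, ?_⟩
      rw [mem_pts]
      exact fun h => absurd (h.symm.trans hb.2) (by simp)
    have hco : c • o = o := octad_eq_of_five (smul_mem_octads hcM ho) ho (by
      refine le_trans (b := (o.erase none).card) (by rw [Finset.card_erase_of_mem hno, ho.2]; norm_num)
        (Finset.card_le_card fun p hp => ?_)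
      obtain ⟨hpn, hpo⟩ := Finset.mem_erase.1 hp
      refine Finset.mem_inter.2 ⟨?_, hpo⟩
      rw [← hfix p hpn (fun e => h0o (e ▸ hpo))]
      exact Finset.smul_mem_smul_finset (a := c) hpo)
    have : c none ∈ c • o := Finset.smul_mem_smul_finset (a := c) hno
    rw [hco, hc0] at this
    exact h0o this

end CfsgLib.Spor
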