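/-
Listed data for the outer automorphisms of the Mathieu groups (generated): an element of order eleven with its
cycle, the candidates normalizing it, and octad bases of the code.
-/
set_option autoImplicit false

namespace CfsgLib.Spor.OuterAut

/-- An element of order eleven fixing the square zero and the squares as a set. -/
def cycCode : Nat := 0xa9d74291e354d928b910b86c613520

/-- Its cycle on the other eleven squares. -/
def cyc : List Nat := [1, 9, 8, 16, 3, 2, 13, 12, 18, 4, 6]

/-- A second element of the group of degree eleven, and its action on the cycle. -/
def auxCode : Nat := 0x2cd51b1a84b9e4c7b86daa16980820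

def auxMap : List Nat := [0, 4, 6, 9, 3, 5, 8, 7, 10, 1, 2]

/-- Multipliers realized in the group, with an element. -/
def goodList : List (Nat × Nat) := [(1, 0xbdab49ca307b9ac5a928398a418820), (3, 0x51cb47a22475586bda0d5ca6248c20), (4, 0x5a9d429a299bd0d3dc72b32b011020), (5, 0x3ddf4ab2232ce48b2c46535c924020), (9, 0xb2e7473622a94d251c8cba1e382420)]

/-- The other multipliers, with an element agreeing with the transported one on five points but not at the last. -/
def badList : List (Nat × Nat × Nat) := [(2, 0xac677734a853d80a2e12b10e648823, 5), (6, 0xa5dca58a64ad9063960c881ed1c829, 5), (7, 0x5ccf6701e4b94cd8d12354aa243030, 5), (8, 0x3aacbb9aac994107464da21e448c22, 5), (10, 0x8d2672a1d0aa932b5da07b16230c24, 5)]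

/-- Octads through the last point, spanning the code. -/
def octBasis : List Nat := [13062145, 9347075, 13938692, 11100169, 10170384, 11952160, 15515712, 14254209, 11731203, 12325377, 11654144, 14919680]

def octComb : List (List Nat) := [
  [13062145],
  [13062145, 9347075],
  [13938692],
  [13062145, 11100169],
  [10170384],
  [11952160],
  [15515712],
  [13062145, 14254209],
  [9347075, 11731203],
  [13062145, 12325377],
  [11654144],
  [14919680]]

/-- Octads through two points. -/
def pairBasis : List Nat := [13062145, 9347075, 11100169, 8966165, 10846245, 9506893, 14254209, 11731203, 12325377, 10630149, 15747077]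

/-- An octad through the first of the two points only. -/
def oneSide : Nat := 1302533

def pairComb : List (List Nat) := [
  [13062145],
  [13062145, 9347075],
  [13062145, 1302533],
  [13062145, 11100169],
  [8966165, 1302533],
  [10846245, 1302533],
  [13062145, 11100169, 9506893, 1302533],
  [13062145, 14254209],
  [9347075, 11731203],
  [13062145, 12325377],
  [10630149, 1302533],
  [15747077, 1302533]]

end CfsgLib.Spor.OuterAut
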