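/-
All elements of `Cfsg.M24` whose images of the seven base points pass a test, enumerated along the chain.
-/
import Cfsg.Agent.Lib.Spor.SylowList

namespace CfsgLib.Spor

open Cfsg
open scoped Pointwise

/-- The images of the first `k` base indices. -/
def baseImgs (c k : ℕ) : List ℕ := (List.range k).map fun j => permFn c (basePts.getD j 0)

/-- Products along the first `k` levels whose image prefixes pass the test. -/
def chainCands (ok : List ℕ → Bool) : ℕ → List ℕ
  | 0 => [idPacked]
  | k + 1 => (chainCands ok k).flatMap fun a =>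
      ((levels.getD k []).map fun P => permMulCode a P).filter fun c => ok (baseImgs c (k + 1))

/-- The image indices of the first `k` base points under an element. -/
def imgsOf (g : Equiv.Perm GolayPt) (k : ℕ) : List ℕ := (List.range k).map fun j => ptIdx (g (bpt j))

theorem baseImgs_eq {c : ℕ} (hc : isPermCode c = true) {k : ℕ} (hk : k ≤ 7) :
    baseImgs c k = imgsOf (permOf c) k := by
  refine List.map_congr_left fun j hj => ?_
  rw [List.mem_range] at hj
  rw [bpt, permOf_idxPt hc (basePts_lt j (by omega)), ptIdx_idxPt _ (permFn_lt hc (basePts_lt j (by omega)))]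

theorem isPermCode_chainCands (ok : List ℕ → Bool) : ∀ k, ∀ c ∈ chainCands ok k, isPermCode c = true
  | 0, c, h => by
    simp only [chainCands, List.mem_singleton] at h
    subst h; decide +kernel
  | k + 1, c, h => by
    simp only [chainCands, List.mem_flatMap, List.mem_filter, List.mem_map] at h
    obtain ⟨a, ha, ⟨P, hP, rfl⟩, -⟩ := h
    exact isPermCode_permMulCode (isPermCode_chainCands ok k a ha)
      (isPermCode_of_isM24Code (isM24Code_of_mem_level hP))

theorem exists_chainCand (ok : List ℕ → Bool) {g : Equiv.Perm GolayPt} (hg : g ∈ M24)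
    (hok : ∀ k ≤ 7, 0 < k → ok (imgsOf g k) = true) :
    ∀ k ≤ 7, ∃ c ∈ chainCands ok k, (permOf c)⁻¹ * g ∈ chainSub k := by
  intro k hk
  induction k with
  | zero => exact ⟨idPacked, by simp [chainCands], by rw [chainSub_zero, permOf_idPacked, inv_one, one_mul]; exact hg⟩
  | succ k ih =>
    obtain ⟨a, ha, hag⟩ := ih (by omega)
    obtain ⟨P, hP, hPg⟩ := exists_level (k := k) (by omega) hag
    have hPc := isPermCode_of_isM24Code (isM24Code_of_mem_level hP)
    have hac := isPermCode_chainCands ok k a ha
    have hcc := isPermCode_permMulCode hac hPc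
    have hmul : (permOf (permMulCode a P))⁻¹ * g ∈ chainSub (k + 1) := by
      rw [← permOf_permMulCode hac hPc hcc rfl, mul_inv_rev, mul_assoc]
      exact hPg
    refine ⟨_, ?_, hmul⟩
    simp only [chainCands, List.mem_flatMap, List.mem_filter, List.mem_map]
    refine ⟨a, ha, ⟨P, hP, rfl⟩, ?_⟩
    rw [baseImgs_eq hcc hk, show imgsOf (permOf (permMulCode a P)) (k + 1) = imgsOf g (k + 1) from
      List.map_congr_left fun j hj => ?_]
    · exact hok (k + 1) hk (Nat.succ_pos k)
    · rw [List.mem_range] at hj
      have := (mem_chainSub.1 hmul).2 j hj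
      rw [Equiv.Perm.mul_apply, Equiv.Perm.inv_eq_iff_eq] at this
      rw [this]

theorem exists_cand (ok : List ℕ → Bool) {g : Equiv.Perm GolayPt} (hg : g ∈ M24)
    (hok : ∀ k ≤ 7, 0 < k → ok (imgsOf g k) = true) : ∃ c ∈ chainCands ok 7, permOf c = g := by
  obtain ⟨c, hc, h⟩ := exists_chainCand ok hg hok 7 le_rfl
  rw [chainSub_seven, Subgroup.mem_bot, inv_mul_eq_one] at h
  exact ⟨c, hc, h⟩

theorem bpt_injective_seven : ∀ i < 7, ∀ j < 7, basePts.getD i 0 = basePts.getD j 0 → i = j := by decide +kernel

end CfsgLib.Spor
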