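/-
Orbits of the stabilizers in `Cfsg.M24`, for arbitrary objects of each kind.
-/
import Cfsg.Agent.Lib.Spor.StabFacts

namespace CfsgLib.Spor

open Cfsg MulAction
open scoped Pointwise

theorem card_inter_translate (g : M24) (a b : Finset GolayPt) :
    (g • a ∩ b).card = (a ∩ g⁻¹ • b).card := by
  calc (g • a ∩ b).card = (g • a ∩ g • g⁻¹ • b).card := by rw [smul_inv_smul]
    _ = _ := card_inter_smul (g : Equiv.Perm GolayPt) a (g⁻¹ • b)

theorem card_inter_arr (a m : ℕ) : (pts a ∩ pts (arrGet 24 m 0)).card = pop 24 (a &&& arrGet 24 m 0) :=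
  card_inter_pts _ _

theorem octad_pairs_one_orbit {o o' o'' : Finset GolayPt} (ho : o ∈ octads) (ho' : o' ∈ octads)
    (ho'' : o'' ∈ octads) (h : (o ∩ o').card = (o ∩ o'').card) :
    ∃ g : Equiv.Perm GolayPt, g ∈ M24 ∧ g • o = o ∧ g • o' = o'' := by
  obtain ⟨g, rfl⟩ := exists_smul_octad baseOctad_mem ho
  rw [card_inter_translate, card_inter_translate] at h
  obtain ⟨k, hk1, hk2⟩ := exists_translate octadStabOrb octadStab_map
    (f := fun y => (pts baseOctad ∩ y).card) (fc := fun x => pop 24 (baseOctad &&& arrGet 24 x 0))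
    (vals := [8, 0, 4, 2]) (fun i _ => card_inter_arr _ _) (by decide +kernel) g
    (octadStabOrb_all ▸ smul_mem_octads (g⁻¹).2 ho') (octadStabOrb_all ▸ smul_mem_octads (g⁻¹).2 ho'') h
  exact ⟨k, k.2, hk1, hk2⟩

theorem dodecad_pairs_one_orbit {d d' d'' : Finset GolayPt} (hd : d ∈ dodecads) (hd' : d' ∈ dodecads)
    (hd'' : d'' ∈ dodecads) (h : (d ∩ d').card = (d ∩ d'').card) :
    ∃ g : Equiv.Perm GolayPt, g ∈ M24 ∧ g • d = d ∧ g • d' = d'' := by
  obtain ⟨g, rfl⟩ := exists_smul_dodecad baseDodecad_mem hd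
  rw [card_inter_translate, card_inter_translate] at h
  obtain ⟨k, hk1, hk2⟩ := exists_translate dodecadStabOrb dodecadStab_map
    (f := fun y => (pts baseDodecad ∩ y).card) (fc := fun x => pop 24 (baseDodecad &&& arrGet 24 x 0))
    (vals := [12, 0, 4, 8, 6]) (fun i _ => card_inter_arr _ _) (by decide +kernel) g
    (dodecadStabOrb_all ▸ smul_mem_wordsOfWeight (g⁻¹).2 hd')
    (dodecadStabOrb_all ▸ smul_mem_wordsOfWeight (g⁻¹).2 hd'') h
  exact ⟨k, k.2, hk1, hk2⟩

/-! ### Two triples -/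

open Classical in
/-- The kind of a triple seen from another. -/
noncomputable def tripleKind (T U : Finset GolayPt) : ℕ :=
  if Disjoint T U then (if ∃ o ∈ octads, T ∪ U ⊆ o then 0 else 1) else 1 + (T ∩ U).card

/-- The same on masks. -/
def tripleKindCode (a b : ℕ) : ℕ :=
  if pop 24 (a &&& b) = 0 then
    (if (weightList 8).any (fun o => o &&& (a ||| b) == (a ||| b)) then 0 else 1)
  else 1 + pop 24 (a &&& b)

theorem pts_subset_pts {a o : ℕ} (ha : a < 2 ^ 24) : pts a ⊆ pts o ↔ o &&& a = a := by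
  constructor
  · intro h
    refine Nat.eq_of_testBit_eq fun i => ?_
    rw [Nat.testBit_and]
    by_cases hi : a.testBit i = true
    · have hi24 : i < 24 := by
        by_contra hc
        rw [Nat.testBit_lt_two_pow (lt_of_lt_of_le ha
          (Nat.pow_le_pow_right (by norm_num) (Nat.not_lt.1 hc)))] at hi
        exact Bool.noConfusion hi
      have := mem_pts.1 (h (mem_pts.2 (show a.testBit (ptIdx (idxPt i)) = true by
        rw [ptIdx_idxPt i hi24]; exact hi)))
      rw [ptIdx_idxPt i hi24] at this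
      rw [hi, this]; rfl
    · rw [Bool.not_eq_true] at hi; simp [hi]
  · intro h p hp
    rw [mem_pts] at hp ⊢
    rw [← h, Nat.testBit_and, Bool.and_eq_true] at hp
    exact hp.1

theorem pts_lor (a b : ℕ) : pts (a ||| b) = pts a ∪ pts b := by
  ext p; simp [mem_pts, Nat.testBit_or]

theorem tripleKind_pts {a b : ℕ} (ha : a < 2 ^ 24) (hb : b < 2 ^ 24) :
    tripleKind (pts a) (pts b) = tripleKindCode a b := by
  have hd : Disjoint (pts a) (pts b) ↔ pop 24 (a &&& b) = 0 := by
    rw [Finset.disjoint_iff_inter_eq_empty, ← Finset.card_eq_zero, card_inter_pts]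
  have he : (∃ o ∈ octads, pts a ∪ pts b ⊆ o) ↔
      (weightList 8).any (fun o => o &&& (a ||| b) == (a ||| b)) = true := by
    rw [List.any_eq_true, ← pts_lor]
    constructor
    · rintro ⟨o, ho, h⟩
      obtain ⟨m, hm, rfl⟩ := mem_weightList ho
      exact ⟨m, hm, beq_iff_eq.2 ((pts_subset_pts (Nat.or_lt_two_pow ha hb)).1 h)⟩
    · rintro ⟨m, hm, h⟩
      obtain ⟨h1, h2⟩ := List.mem_filter.1 hm
      exact ⟨pts m, ⟨pts_mem_supports h1, by rw [card_pts]; simpa using h2⟩,
        (pts_subset_pts (Nat.or_lt_two_pow ha hb)).2 (beq_iff_eq.1 h)⟩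
  unfold tripleKind tripleKindCode
  by_cases h1 : pop 24 (a &&& b) = 0
  · rw [if_pos (hd.2 h1), if_pos h1]
    by_cases h2 : (weightList 8).any (fun o => o &&& (a ||| b) == (a ||| b)) = true
    · rw [if_pos (he.2 h2), if_pos h2]
    · rw [if_neg (fun e => h2 (he.1 e)), if_neg h2]
  · rw [if_neg (fun e => h1 (hd.1 e)), if_neg h1, card_inter_pts]

theorem tripleKind_smul (g : M24) (T U : Finset GolayPt) : tripleKind (g • T) (g • U) = tripleKind T U := by
  have hd : Disjoint (g • T) (g • U) ↔ Disjoint T U := by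
    rw [Finset.disjoint_iff_inter_eq_empty, Finset.disjoint_iff_inter_eq_empty, ← Finset.smul_finset_inter,
      Finset.smul_finset_eq_empty]
  have he : (∃ o ∈ octads, g • T ∪ g • U ⊆ o) ↔ ∃ o ∈ octads, T ∪ U ⊆ o := by
    rw [← Finset.smul_finset_union]
    constructor
    · rintro ⟨o, ho, h⟩
      refine ⟨g⁻¹ • o, smul_mem_octads (g⁻¹).2 ho, ?_⟩
      rw [← Finset.smul_finset_subset_smul_finset_iff (a := g), smul_inv_smul]
      exact h
    · rintro ⟨o, ho, h⟩
      exact ⟨g • o, smul_mem_octads g.2 ho, Finset.smul_finset_subset_smul_finset h⟩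
  unfold tripleKind
  rw [← Finset.smul_finset_inter, show (g • (T ∩ U)).card = (T ∩ U).card from
    card_smul_finset' (g : Equiv.Perm GolayPt) (T ∩ U)]
  simp only [hd]
  classical
  exact if_congr Iff.rfl (if_congr he rfl rfl) rfl

theorem two_triples_orbits {T : Finset GolayPt} (hT : T.card = 3) :
    {U : Finset GolayPt | U.card = 3 ∧ Disjoint T U ∧ (∃ o ∈ octads, T ∪ U ⊆ o)}.ncard = 210 ∧
    {U : Finset GolayPt | U.card = 3 ∧ Disjoint T U ∧ ¬ (∃ o ∈ octads, T ∪ U ⊆ o)}.ncard = 1120 ∧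
    ∀ U U' : Finset GolayPt, U.card = 3 → U'.card = 3 → Disjoint T U → Disjoint T U' →
      ((∃ o ∈ octads, T ∪ U ⊆ o) ↔ (∃ o ∈ octads, T ∪ U' ⊆ o)) →
      ∃ g : Equiv.Perm GolayPt, g ∈ M24 ∧ g • T = T ∧ g • U = U' := by
  obtain ⟨g, rfl⟩ := exists_smul_of_card (by norm_num) baseTriple_card hT
  have hf : ∀ i < tripleStabOrb.lens.sum, tripleKind (pts tripleStabBase) (tripleStabOrb.val i) =
      tripleKindCode tripleStabBase (arrGet 24 (arrGet tripleStabOrb.w tripleStabOrb.V i) 0) :=
    fun i _ => tripleKind_pts (by decide +kernel) (arrGet_lt _ _ _)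
  have hsep : sepCheck (fun x => tripleKindCode tripleStabBase (arrGet 24 x 0)) tripleStabOrb.w tripleStabOrb.V
      tripleStabOrb.lens [4, 3, 0, 2, 1] = true := by decide +kernel
  have hall : ∀ U : Finset GolayPt, U.card = 3 ↔ g⁻¹ • U ∈ tripleStabOrb.all := fun U => by
    rw [← tripleStabOrb_all]
    exact ⟨fun h => (card_smul_finset' _ U).trans h, fun h => (card_smul_finset' _ U).symm.trans h⟩
  have hkind : ∀ U, tripleKind (pts tripleStabBase) (g⁻¹ • U) = tripleKind (g • pts tripleStabBase) U :=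
    fun U => by rw [← tripleKind_smul g, smul_inv_smul]
  have count : ∀ k < tripleStabOrb.lens.length,
      {U : Finset GolayPt | U.card = 3 ∧ tripleKind (g • pts tripleStabBase) U = [4, 3, 0, 2, 1].getD k 0}.ncard
        = tripleStabOrb.lens.getD k 0 := fun k hk => by
    rw [← tripleStabOrb.ncard_filter hf hsep hk, ← Set.ncard_smul_set g⁻¹]
    refine congrArg Set.ncard ?_
    ext U
    rw [Set.mem_smul_set_iff_inv_smul_mem, inv_inv]
    show (g • U).card = 3 ∧ _ ↔ _
    rw [hall, inv_smul_smul, tripleKind_smul]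
    rfl
  have k0 : ∀ U, Disjoint (g • pts tripleStabBase) U ∧ (∃ o ∈ octads, g • pts tripleStabBase ∪ U ⊆ o) ↔
      tripleKind (g • pts tripleStabBase) U = 0 := fun U => by
    unfold tripleKind; split <;> rename_i h
    · split <;> simp_all
    · simp [h]
  have k1 : ∀ U, Disjoint (g • pts tripleStabBase) U ∧ ¬ (∃ o ∈ octads, g • pts tripleStabBase ∪ U ⊆ o) ↔
      tripleKind (g • pts tripleStabBase) U = 1 := fun U => by
    unfold tripleKind; split <;> rename_i h
    · split <;> simp_all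
    · simp only [h, false_and, false_iff]
      intro h2
      apply h
      rw [Finset.disjoint_iff_inter_eq_empty, ← Finset.card_eq_zero]
      omega
  refine ⟨?_, ?_, fun U U' hU hU' hd hd' h => ?_⟩
  · simp only [k0]; exact count 2 (by decide)
  · simp only [k1]; exact count 4 (by decide)
  · have hk : tripleKind (g • pts tripleStabBase) U = tripleKind (g • pts tripleStabBase) U' := by
      by_cases ho : ∃ o ∈ octads, g • pts tripleStabBase ∪ U ⊆ o
      · rw [(k0 U).1 ⟨hd, ho⟩, (k0 U').1 ⟨hd', h.1 ho⟩]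
      · rw [(k1 U).1 ⟨hd, ho⟩, (k1 U').1 ⟨hd', fun e => ho (h.2 e)⟩]
    obtain ⟨k, hk1, hk2⟩ := exists_translate tripleStabOrb tripleStab_map
      (f := tripleKind (pts tripleStabBase)) hf hsep g ((hall U).1 hU) ((hall U').1 hU')
      (by rw [hkind, hkind, hk])
    exact ⟨k, k.2, hk1, hk2⟩

/-! ### Sextets and trios -/

theorem smul_sextets (g : M24) : g • sextets = sextets := by
  ext X
  rw [Set.mem_smul_set_iff_inv_smul_mem]
  exact ⟨fun h => (smul_inv_smul g X) ▸ (show g • g⁻¹ • X ∈ sextets from smul_mem_sextets g.2 h),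
    fun h => smul_mem_sextets (g⁻¹).2 h⟩

theorem smul_trios (g : M24) : g • trios = trios := by
  ext X
  rw [Set.mem_smul_set_iff_inv_smul_mem]
  exact ⟨fun h => (smul_inv_smul g X) ▸ (show g • g⁻¹ • X ∈ trios from smul_mem_trios g.2 h),
    fun h => smul_mem_trios (g⁻¹).2 h⟩

theorem OrbCert.seg_subset_all {β : Type*} [MulAction (Equiv.Perm GolayPt) β] {dec : ℕ → β} {gens : List ℕ}
    (c : OrbCert dec gens) {k : ℕ} (hk : k < c.lens.length) : c.seg k ⊆ c.all := by
  rw [c.all_eq_iUnion]; exact fun y hy => ⟨k, hk, hy⟩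

theorem OrbCert.seg_zero {β : Type*} [MulAction (Equiv.Perm GolayPt) β] {dec : ℕ → β} {gens : List ℕ}
    (c : OrbCert dec gens) (hk : 0 < c.lens.length) (h : c.lens.getD 0 0 = 1) : c.seg 0 = {c.root 0} := by
  obtain ⟨z, hz⟩ := Set.ncard_eq_one.1 ((c.ncard_seg hk).trans h)
  have h1 := c.root_mem_seg hk
  rw [hz, Set.mem_singleton_iff] at h1
  rw [hz, h1]

theorem sextet_orbits {S : Finset (Finset GolayPt)} (hS : S ∈ sextets) :
    ∃ X₁ ∈ sextets, ∃ X₂ ∈ sextets, ∃ X₃ ∈ sextets,
      (orbit (stabilizer M24 S) X₁).ncard = 90 ∧ (orbit (stabilizer M24 S) X₂).ncard = 240 ∧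
      (orbit (stabilizer M24 S) X₃).ncard = 1440 ∧
      sextets = {S} ∪ orbit (stabilizer M24 S) X₁ ∪ orbit (stabilizer M24 S) X₂ ∪ orbit (stabilizer M24 S) X₃ ∧
      IsCoatom (stabilizer M24 S) := by
  obtain ⟨g, hg, rfl⟩ := exists_smul_baseSextet hS
  lift g to M24 using hg
  have key := fun k hk => orbit_translate sextetStabOrb sextetStab_map g (k := k) hk
  have hmem : ∀ k < sextetStabOrb.lens.length, g • sextetStabOrb.root k ∈ sextets := fun k hk =>
    smul_sextets g ▸ Set.smul_mem_smul_set (sextetStabOrb_all ▸ sextetStabOrb.seg_subset_all hk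
      (sextetStabOrb.root_mem_seg hk))
  refine ⟨_, hmem 1 (by decide), _, hmem 2 (by decide), _, hmem 3 (by decide), (key 1 (by decide)).2,
    (key 2 (by decide)).2, (key 3 (by decide)).2, ?_, ?_⟩
  · show sextets = {g • famSet 6 baseSextet} ∪ orbit (stabilizer M24 (g • famSet 6 baseSextet)) _ ∪
      orbit (stabilizer M24 (g • famSet 6 baseSextet)) _ ∪ orbit (stabilizer M24 (g • famSet 6 baseSextet)) _
    rw [(key 1 (by decide)).1, (key 2 (by decide)).1, (key 3 (by decide)).1]
    rw [← Set.smul_set_singleton, ← Set.smul_set_union, ← Set.smul_set_union, ← Set.smul_set_union]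
    conv_lhs => rw [← smul_sextets g, sextetStabOrb_all, sextetStabOrb.all_eq_iUnion]
    congr 1
    rw [← sextetStab_root_eq, ← sextetStabOrb.seg_zero (by decide) rfl]
    ext y
    simp only [Set.mem_ofPred_eq, Set.mem_union, show sextetStabOrb.lens.length = 4 from rfl]
    constructor
    · rintro ⟨k, hk, hy⟩; interval_cases k <;> simp [hy]
    · rintro (((h | h) | h) | h) <;> exact ⟨_, by norm_num, h⟩
  · refine isCoatom_stabilizer_smul g (sextetStabOrb.isCoatom_stabilizer _ sextetStab_map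
      (orbit_baseSextet.trans sextetStabOrb_all) sextetStab_root_eq (m := 3) rfl (by norm_num) rfl ?_)
    decide +kernel

theorem trio_orbits {T : Finset (Finset GolayPt)} (hT : T ∈ trios) :
    ∃ X₁ ∈ trios, ∃ X₂ ∈ trios, ∃ X₃ ∈ trios, ∃ X₄ ∈ trios,
      (orbit (stabilizer M24 T) X₁).ncard = 42 ∧ (orbit (stabilizer M24 T) X₂).ncard = 56 ∧
      (orbit (stabilizer M24 T) X₃).ncard = 1008 ∧ (orbit (stabilizer M24 T) X₄).ncard = 2688 ∧
      trios = {T} ∪ orbit (stabilizer M24 T) X₁ ∪ orbit (stabilizer M24 T) X₂ ∪ orbit (stabilizer M24 T) X₃ ∪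
        orbit (stabilizer M24 T) X₄ ∧
      IsCoatom (stabilizer M24 T) := by
  obtain ⟨g, hg, rfl⟩ := exists_smul_baseTrio hT
  lift g to M24 using hg
  have key := fun k hk => orbit_translate trioStabOrb trioStab_map g (k := k) hk
  have hmem : ∀ k < trioStabOrb.lens.length, g • trioStabOrb.root k ∈ trios := fun k hk =>
    smul_trios g ▸ Set.smul_mem_smul_set (trioStabOrb_all ▸ trioStabOrb.seg_subset_all hk
      (trioStabOrb.root_mem_seg hk))
  refine ⟨_, hmem 1 (by decide), _, hmem 2 (by decide), _, hmem 3 (by decide), _, hmem 4 (by decide),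
    (key 1 (by decide)).2, (key 2 (by decide)).2, (key 3 (by decide)).2, (key 4 (by decide)).2, ?_, ?_⟩
  · show trios = {g • famSet 3 baseTrio} ∪ orbit (stabilizer M24 (g • famSet 3 baseTrio)) _ ∪
      orbit (stabilizer M24 (g • famSet 3 baseTrio)) _ ∪ orbit (stabilizer M24 (g • famSet 3 baseTrio)) _ ∪
      orbit (stabilizer M24 (g • famSet 3 baseTrio)) _
    rw [(key 1 (by decide)).1, (key 2 (by decide)).1, (key 3 (by decide)).1, (key 4 (by decide)).1]
    rw [← Set.smul_set_singleton, ← Set.smul_set_union, ← Set.smul_set_union, ← Set.smul_set_union,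
      ← Set.smul_set_union]
    conv_lhs => rw [← smul_trios g, trioStabOrb_all, trioStabOrb.all_eq_iUnion]
    congr 1
    rw [← trioStab_root_eq, ← trioStabOrb.seg_zero (by decide) rfl]
    ext y
    simp only [Set.mem_ofPred_eq, Set.mem_union, show trioStabOrb.lens.length = 5 from rfl]
    constructor
    · rintro ⟨k, hk, hy⟩; interval_cases k <;> simp [hy]
    · rintro ((((h | h) | h) | h) | h) <;> exact ⟨_, by norm_num, h⟩
  · refine isCoatom_stabilizer_smul g (trioStabOrb.isCoatom_stabilizer _ trioStab_map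
      (orbit_baseTrio.trans trioStabOrb_all) trioStab_root_eq (m := 4) rfl (by norm_num) rfl ?_)
    decide +kernel

end CfsgLib.Spor
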