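/-
Orbits of the stabilizers in `Cfsg.M24` of octads, sextets, trios, triples and complementary pairs of dodecads
on objects of another kind.
-/
import Cfsg.Agent.Lib.Spor.LevelFacts
import Cfsg.Agent.Lib.Spor.StabOrbits
import Cfsg.Agent.Lib.Spor.Level.OctadOnTrios
import Cfsg.Agent.Lib.Spor.Level.OctadOnSextets
import Cfsg.Agent.Lib.Spor.Level.SextetOnOctads
import Cfsg.Agent.Lib.Spor.Level.SextetOnTrios
import Cfsg.Agent.Lib.Spor.Level.TrioOnOctads
import Cfsg.Agent.Lib.Spor.Level.TrioOnSextets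
import Cfsg.Agent.Lib.Spor.Level.DuumOnSextets
import Cfsg.Agent.Lib.Spor.Level.TripleOnSextets

namespace CfsgLib.Spor

open Cfsg MulAction
open scoped Pointwise

theorem univ_sextets {gens : List ℕ} (c : OrbCert (famSet 6) gens) (hM : gens.all isM24Code = true)
    (hs : c.lens.sum = 1771)
    (hr : (List.range c.lens.length).all (fun k => isSextetCode (arrGet c.w c.V (segStart c.lens k))) = true) :
    sextets = c.all := by
  refine c.eq_all (Set.toFinite _) (by rw [ncard_sextets, hs]) (fun k hk => ?_) fun g hg y hy =>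
    smul_mem_sextets (codesClosure_le (fun x hx => permOf_mem_M24 (List.all_eq_true.1 hM x hx)) hg) hy
  exact famSet_mem_sextets (List.all_eq_true.1 hr k (List.mem_range.2 hk))

theorem univ_trios {gens : List ℕ} (c : OrbCert (famSet 3) gens) (hM : gens.all isM24Code = true)
    (hs : c.lens.sum = 3795)
    (hr : (List.range c.lens.length).all (fun k => isTrioCode (arrGet c.w c.V (segStart c.lens k))) = true) :
    trios = c.all := by
  refine c.eq_all (Set.toFinite _) (by rw [ncard_trios, hs]) (fun k hk => ?_) fun g hg y hy =>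
    smul_mem_trios (codesClosure_le (fun x hx => permOf_mem_M24 (List.all_eq_true.1 hM x hx)) hg) hy
  exact famSet_mem_trios (List.all_eq_true.1 hr k (List.mem_range.2 hk))

theorem smul_octads (g : M24) : g • octads = octads := by
  ext X
  rw [Set.mem_smul_set_iff_inv_smul_mem]
  exact smul_mem_octads_iff g⁻¹ X

variable {α β : Type*} [MulAction (Equiv.Perm GolayPt) α] [MulAction (Equiv.Perm GolayPt) β]

theorem split_orbits {dec : ℕ → β} {gens : List ℕ} (c : OrbCert dec gens) {x : α}
    (hK : (stabilizer M24 x).map M24.subtype = codesClosure gens) {U : Set β} (hU : U = c.all)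
    (hUg : ∀ g : M24, g • U = U) (g : M24) :
    (∀ k < c.lens.length, g • c.root k ∈ U ∧
      (orbit (stabilizer M24 (g • x)) (g • c.root k)).ncard = c.lens.getD k 0) ∧
    U = {y | ∃ k < c.lens.length, y ∈ orbit (stabilizer M24 (g • x)) (g • c.root k)} := by
  have key : ∀ k < c.lens.length, orbit (stabilizer M24 (g • x)) (g • c.root k) = g • c.seg k := fun k hk => by
    rw [orbit_stabilizer_smul, orbit_eq_of_map hK, c.orbit_root hk]
  refine ⟨fun k hk => ⟨?_, ?_⟩, ?_⟩
  · rw [← hUg g]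
    refine Set.smul_mem_smul_set ?_
    rw [hU, c.all_eq_iUnion]
    exact ⟨k, hk, c.root_mem_seg hk⟩
  · rw [key k hk, Set.ncard_smul_set, c.ncard_seg hk]
  · ext y
    simp only [Set.mem_ofPred_eq]
    conv_lhs => rw [← hUg g, hU, c.all_eq_iUnion, Set.mem_smul_set_iff_inv_smul_mem]
    constructor
    · rintro ⟨k, hk, hy⟩
      exact ⟨k, hk, by rw [key k hk, Set.mem_smul_set_iff_inv_smul_mem]; exact hy⟩
    · rintro ⟨k, hk, hy⟩
      rw [key k hk, Set.mem_smul_set_iff_inv_smul_mem] at hy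
      exact ⟨k, hk, hy⟩

theorem split_three {dec : ℕ → β} {gens : List ℕ} (c : OrbCert dec gens) {x : α}
    (hK : (stabilizer M24 x).map M24.subtype = codesClosure gens) {U : Set β} (hU : U = c.all)
    (hUg : ∀ g : M24, g • U = U) {a b d : ℕ} (hl : c.lens = [a, b, d]) {X : α} (hX : X ∈ orbit M24 x) :
    ∃ X₁ ∈ U, ∃ X₂ ∈ U, ∃ X₃ ∈ U, (orbit (stabilizer M24 X) X₁).ncard = a ∧
      (orbit (stabilizer M24 X) X₂).ncard = b ∧ (orbit (stabilizer M24 X) X₃).ncard = d ∧
      U = orbit (stabilizer M24 X) X₁ ∪ orbit (stabilizer M24 X) X₂ ∪ orbit (stabilizer M24 X) X₃ := by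
  obtain ⟨g, rfl⟩ := hX
  obtain ⟨h, e⟩ := split_orbits c hK hU hUg g
  rw [hl] at h e
  refine ⟨_, (h 0 (by simp)).1, _, (h 1 (by simp)).1, _, (h 2 (by simp)).1, (h 0 (by simp)).2,
    (h 1 (by simp)).2, (h 2 (by simp)).2, ?_⟩
  conv_lhs => rw [e]
  ext y
  simp only [Set.mem_ofPred_eq, Set.mem_union, List.length_cons, List.length_nil]
  constructor
  · rintro ⟨k, hk, hy⟩; interval_cases k <;> simp [hy]
  · rintro ((h | h) | h) <;> exact ⟨_, by norm_num, h⟩

theorem split_four {dec : ℕ → β} {gens : List ℕ} (c : OrbCert dec gens) {x : α}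
    (hK : (stabilizer M24 x).map M24.subtype = codesClosure gens) {U : Set β} (hU : U = c.all)
    (hUg : ∀ g : M24, g • U = U) {a b d e : ℕ} (hl : c.lens = [a, b, d, e]) {X : α} (hX : X ∈ orbit M24 x) :
    ∃ X₁ ∈ U, ∃ X₂ ∈ U, ∃ X₃ ∈ U, ∃ X₄ ∈ U, (orbit (stabilizer M24 X) X₁).ncard = a ∧
      (orbit (stabilizer M24 X) X₂).ncard = b ∧ (orbit (stabilizer M24 X) X₃).ncard = d ∧
      (orbit (stabilizer M24 X) X₄).ncard = e ∧
      U = orbit (stabilizer M24 X) X₁ ∪ orbit (stabilizer M24 X) X₂ ∪ orbit (stabilizer M24 X) X₃ ∪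
        orbit (stabilizer M24 X) X₄ := by
  obtain ⟨g, rfl⟩ := hX
  obtain ⟨h, hu⟩ := split_orbits c hK hU hUg g
  rw [hl] at h hu
  refine ⟨_, (h 0 (by simp)).1, _, (h 1 (by simp)).1, _, (h 2 (by simp)).1, _, (h 3 (by simp)).1,
    (h 0 (by simp)).2, (h 1 (by simp)).2, (h 2 (by simp)).2, (h 3 (by simp)).2, ?_⟩
  conv_lhs => rw [hu]
  ext y
  simp only [Set.mem_ofPred_eq, Set.mem_union, List.length_cons, List.length_nil]
  constructor
  · rintro ⟨k, hk, hy⟩; interval_cases k <;> simp [hy]
  · rintro (((h | h) | h) | h) <;> exact ⟨_, by norm_num, h⟩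

/-! ### The six pairs of kinds -/

theorem octadStabTrios_univ : trios = octadStabTriosOrb.all :=
  univ_trios _ (by decide +kernel) (by decide +kernel) (by decide +kernel)

theorem octadStabSextets_univ : sextets = octadStabSextetsOrb.all :=
  univ_sextets _ (by decide +kernel) (by decide +kernel) (by decide +kernel)

theorem octad_cross {o : Finset GolayPt} (ho : o ∈ octads) :
    (∃ X₁ ∈ trios, ∃ X₂ ∈ trios, ∃ X₃ ∈ trios, (orbit (stabilizer M24 o) X₁).ncard = 15 ∧
      (orbit (stabilizer M24 o) X₂).ncard = 420 ∧ (orbit (stabilizer M24 o) X₃).ncard = 3360 ∧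
      trios = orbit (stabilizer M24 o) X₁ ∪ orbit (stabilizer M24 o) X₂ ∪ orbit (stabilizer M24 o) X₃) ∧
    (∃ Y₁ ∈ sextets, ∃ Y₂ ∈ sextets, ∃ Y₃ ∈ sextets, (orbit (stabilizer M24 o) Y₁).ncard = 35 ∧
      (orbit (stabilizer M24 o) Y₂).ncard = 840 ∧ (orbit (stabilizer M24 o) Y₃).ncard = 896 ∧
      sextets = orbit (stabilizer M24 o) Y₁ ∪ orbit (stabilizer M24 o) Y₂ ∪ orbit (stabilizer M24 o) Y₃) := by
  have hX : o ∈ orbit M24 (pts baseOctad) := orbit_baseOctad.symm ▸ ho
  exact ⟨split_three octadStabTriosOrb octadStab_map octadStabTrios_univ smul_trios rfl hX,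
    split_three octadStabSextetsOrb octadStab_map octadStabSextets_univ smul_sextets rfl hX⟩

theorem sextet_cross {S : Finset (Finset GolayPt)} (hS : S ∈ sextets) :
    (∃ X₁ ∈ octads, ∃ X₂ ∈ octads, ∃ X₃ ∈ octads, (orbit (stabilizer M24 S) X₁).ncard = 15 ∧
      (orbit (stabilizer M24 S) X₂).ncard = 360 ∧ (orbit (stabilizer M24 S) X₃).ncard = 384 ∧
      octads = orbit (stabilizer M24 S) X₁ ∪ orbit (stabilizer M24 S) X₂ ∪ orbit (stabilizer M24 S) X₃) ∧
    (∃ Y₁ ∈ trios, ∃ Y₂ ∈ trios, ∃ Y₃ ∈ trios, ∃ Y₄ ∈ trios, (orbit (stabilizer M24 S) Y₁).ncard = 15 ∧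
      (orbit (stabilizer M24 S) Y₂).ncard = 180 ∧ (orbit (stabilizer M24 S) Y₃).ncard = 720 ∧
      (orbit (stabilizer M24 S) Y₄).ncard = 2880 ∧
      trios = orbit (stabilizer M24 S) Y₁ ∪ orbit (stabilizer M24 S) Y₂ ∪ orbit (stabilizer M24 S) Y₃ ∪
        orbit (stabilizer M24 S) Y₄) := by
  have hX : S ∈ orbit M24 (famSet 6 baseSextet) := orbit_baseSextet.symm ▸ hS
  exact ⟨split_three sextetStabOctadsOrb sextetStab_map
      (univ_octads _ (by decide +kernel) (by decide +kernel) (by decide +kernel)) smul_octads rfl hX,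
    split_four sextetStabTriosOrb sextetStab_map
      (univ_trios _ (by decide +kernel) (by decide +kernel) (by decide +kernel)) smul_trios rfl hX⟩

theorem trio_cross {T : Finset (Finset GolayPt)} (hT : T ∈ trios) :
    (∃ X₁ ∈ octads, ∃ X₂ ∈ octads, ∃ X₃ ∈ octads, (orbit (stabilizer M24 T) X₁).ncard = 3 ∧
      (orbit (stabilizer M24 T) X₂).ncard = 84 ∧ (orbit (stabilizer M24 T) X₃).ncard = 672 ∧
      octads = orbit (stabilizer M24 T) X₁ ∪ orbit (stabilizer M24 T) X₂ ∪ orbit (stabilizer M24 T) X₃) ∧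
    (∃ Y₁ ∈ sextets, ∃ Y₂ ∈ sextets, ∃ Y₃ ∈ sextets, ∃ Y₄ ∈ sextets, (orbit (stabilizer M24 T) Y₁).ncard = 7 ∧
      (orbit (stabilizer M24 T) Y₂).ncard = 84 ∧ (orbit (stabilizer M24 T) Y₃).ncard = 336 ∧
      (orbit (stabilizer M24 T) Y₄).ncard = 1344 ∧
      sextets = orbit (stabilizer M24 T) Y₁ ∪ orbit (stabilizer M24 T) Y₂ ∪ orbit (stabilizer M24 T) Y₃ ∪
        orbit (stabilizer M24 T) Y₄) := by
  have hX : T ∈ orbit M24 (famSet 3 baseTrio) := orbit_baseTrio.symm ▸ hT
  exact ⟨split_three trioStabOctadsOrb trioStab_map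
      (univ_octads _ (by decide +kernel) (by decide +kernel) (by decide +kernel)) smul_octads rfl hX,
    split_four trioStabSextetsOrb trioStab_map
      (univ_sextets _ (by decide +kernel) (by decide +kernel) (by decide +kernel)) smul_sextets rfl hX⟩

theorem duum_cross {d : Finset GolayPt} (hd : d ∈ dodecads) :
    ∃ X₁ ∈ sextets, ∃ X₂ ∈ sextets, ∃ X₃ ∈ sextets,
      (orbit (stabilizer M24 ({d, Finset.univ \ d} : Finset (Finset GolayPt))) X₁).ncard = 396 ∧
      (orbit (stabilizer M24 ({d, Finset.univ \ d} : Finset (Finset GolayPt))) X₂).ncard = 495 ∧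
      (orbit (stabilizer M24 ({d, Finset.univ \ d} : Finset (Finset GolayPt))) X₃).ncard = 880 ∧
      sextets = orbit (stabilizer M24 ({d, Finset.univ \ d} : Finset (Finset GolayPt))) X₁ ∪
        orbit (stabilizer M24 ({d, Finset.univ \ d} : Finset (Finset GolayPt))) X₂ ∪
        orbit (stabilizer M24 ({d, Finset.univ \ d} : Finset (Finset GolayPt))) X₃ := by
  have hX : ({d, Finset.univ \ d} : Finset (Finset GolayPt)) ∈ orbit M24 (famSet 2 duumStabBase) := by
    rw [orbit_duum baseDuum_mem, ← Finset.compl_eq_univ_sdiff]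
    exact ⟨d, hd, rfl⟩
  exact split_three duumStabSextetsOrb duumStab_map
    (univ_sextets _ (by decide +kernel) (by decide +kernel) (by decide +kernel)) smul_sextets rfl hX

/-! ### Sextets seen from a triple -/

open Classical in
/-- The number of tetrads of a family meeting a set. -/
noncomputable def meetNum (Y : Finset GolayPt) (S : Finset (Finset GolayPt)) : ℕ :=
  (S.filter fun t => (t ∩ Y).Nonempty).card

theorem meetNum_smul (g : M24) (Y : Finset GolayPt) (S : Finset (Finset GolayPt)) :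
    meetNum (g • Y) (g • S) = meetNum Y S := by
  classical
  unfold meetNum
  rw [← Finset.card_smul_finset (g : Equiv.Perm GolayPt) (S.filter fun t => (t ∩ Y).Nonempty)]
  congr 1
  ext t
  rw [Finset.mem_filter]
  constructor
  · rintro ⟨h1, h2⟩
    obtain ⟨u, hu, rfl⟩ := Finset.mem_smul_finset.1 h1
    exact Finset.smul_mem_smul_finset (Finset.mem_filter.2 ⟨hu, by
      rwa [← Finset.smul_finset_inter, Finset.smul_finset_nonempty] at h2⟩)
  · intro h
    obtain ⟨u, hu, rfl⟩ := Finset.mem_smul_finset.1 h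
    obtain ⟨h1, h2⟩ := Finset.mem_filter.1 hu
    exact ⟨Finset.smul_mem_smul_finset h1, by
      show (g • u ∩ g • Y).Nonempty
      rwa [← Finset.smul_finset_inter, Finset.smul_finset_nonempty]⟩

/-- The meeting number on packed families. -/
def meetCode (m x : ℕ) : ℕ := ((famList 6 x).filter fun t => (t &&& m) &&& fullMask != 0).length

theorem inter_pts_nonempty (a m : ℕ) : (pts a ∩ pts m).Nonempty ↔ ((a &&& m) &&& fullMask != 0) = true := by
  rw [bne_iff_ne]
  constructor
  · rintro ⟨p, hp⟩ h0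
    rw [Finset.mem_inter, mem_pts, mem_pts] at hp
    have := congrArg (fun n => n.testBit (ptIdx p)) h0
    simp [Nat.testBit_and, hp.1, hp.2, fullMask_testBit _ (ptIdx_lt p)] at this
  · intro h
    obtain ⟨i, hi⟩ := Nat.exists_testBit_of_ne_zero h
    rw [Nat.testBit_and, Nat.testBit_and, Bool.and_eq_true, Bool.and_eq_true] at hi
    have h24 : i < 24 := by
      by_contra hc
      have : fullMask.testBit i = false :=
        Nat.testBit_lt_two_pow (lt_of_lt_of_le (show fullMask < 2 ^ 24 by decide)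
          (Nat.pow_le_pow_right (by norm_num) (Nat.not_lt.1 hc)))
      rw [this] at hi; exact Bool.noConfusion hi.2
    exact ⟨idxPt i, by
      rw [Finset.mem_inter, idxPt_mem_pts h24, idxPt_mem_pts h24]; exact hi.1⟩

theorem meetNum_famSet {x : ℕ} (hx : famOk 6 x = true) (m : ℕ) : meetNum (pts m) (famSet 6 x) = meetCode m x := by
  classical
  obtain ⟨p, b, -⟩ := famOk_spec hx
  have e : (famSet 6 x).filter (fun t => (t ∩ pts m).Nonempty) =
      (((famList 6 x).filter fun t => (t &&& m) &&& fullMask != 0).map pts).toFinset := by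
    ext s
    simp only [Finset.mem_filter, mem_famSet, List.mem_toFinset, List.mem_map, List.mem_filter]
    constructor
    · rintro ⟨⟨a, ha, rfl⟩, h⟩
      exact ⟨a, ⟨ha, (inter_pts_nonempty a m).1 h⟩, rfl⟩
    · rintro ⟨a, ⟨ha, h⟩, rfl⟩
      exact ⟨⟨a, ha, rfl⟩, (inter_pts_nonempty a m).2 h⟩
  unfold meetNum
  rw [e, List.toFinset_card_of_nodup, List.length_map, meetCode]
  exact (List.nodup_map_iff_inj_on (p.nodup.filter _)).2 fun a ha c hc e =>
    eq_of_pts_eq (b a (List.mem_filter.1 ha).1) (b c (List.mem_filter.1 hc).1) e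

theorem tripleSextets_local : Local (pts tripleStabBase) sextets meetNum tripleStabSextetsOrb
    (meetCode tripleStabBase) where
  inM24 := by decide +kernel
  fix := fixMask_spec (by decide +kernel)
  univ := univ_sextets _ (by decide +kernel) (by decide +kernel) (by decide +kernel)
  smulU g _ hy := smul_mem_sextets g.2 hy
  smulf := meetNum_smul
  code i hi := meetNum_famSet (List.all_eq_true.1
    (show (List.range tripleStabSextetsOrb.lens.sum).all
      (fun i => famOk 6 (arrGet tripleStabSextetsOrb.w tripleStabSextetsOrb.V i)) = true by decide +kernel)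
    i (List.mem_range.2 hi)) _

theorem triple_cross {Y : Finset GolayPt} (hY : Y.card = 3) :
    {S : Finset (Finset GolayPt) | S ∈ sextets ∧ meetNum Y S = 1}.ncard = 21 ∧
    {S : Finset (Finset GolayPt) | S ∈ sextets ∧ meetNum Y S = 2}.ncard = 630 ∧
    {S : Finset (Finset GolayPt) | S ∈ sextets ∧ meetNum Y S = 3}.ncard = 1120 ∧
    ∀ S S' : Finset (Finset GolayPt), S ∈ sextets → S' ∈ sextets → meetNum Y S = meetNum Y S' →
      ∃ g ∈ M24, g • Y = Y ∧ g • S = S' := by
  have hX : Y ∈ orbit M24 (pts tripleStabBase) := by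
    rw [orbit_of_card (by norm_num) baseTriple_card]; exact hY
  refine ⟨tripleSextets_local.count (k := 0) (by decide +kernel) hX,
    tripleSextets_local.count (k := 1) (by decide +kernel) hX,
    tripleSextets_local.count (k := 2) (by decide +kernel) hX, fun S S' hS hS' h => ?_⟩
  have hm := tripleSextets_local.value_mem (vs := [1, 2, 3]) (by decide +kernel) hX hS
  have key : ∀ k, onlyIn (meetCode tripleStabBase) tripleStabSextetsOrb.w tripleStabSextetsOrb.V
      tripleStabSextetsOrb.lens (meetNum Y S) k = true → ∃ g ∈ M24, g • Y = Y ∧ g • S = S' := fun k hk => by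
    obtain ⟨g, h1, h2⟩ := tripleSextets_local.move hk hX hS hS' rfl h.symm
    exact ⟨g, g.2, h1, h2⟩
  simp only [List.mem_cons, List.not_mem_nil, or_false] at hm
  rcases hm with e | e | e
  · exact key 0 (by rw [e]; decide +kernel)
  · exact key 1 (by rw [e]; decide +kernel)
  · exact key 2 (by rw [e]; decide +kernel)

end CfsgLib.Spor
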