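/-
Pairs of octads, the disjointness graph of octads, and the pointwise stabilizer in `Cfsg.M24` of an octad.
-/
import Cfsg.Agent.Lib.Spor.CrossOrbits
import Cfsg.Agent.Lib.Spor.Level.OctadTrioChain

namespace CfsgLib.Spor

open Cfsg MulAction
open scoped Pointwise

theorem octadOct_local : Local (pts baseOctad) octads (fun o y => (o ∩ y).card) octadStabOrb
    (fun x => pop 24 (baseOctad &&& arrGet 24 x 0)) where
  inM24 := octadStabSlp.inM24
  fix := fixMask_spec (by decide +kernel)
  univ := octadStabOrb_all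
  smulU g _ hy := (smul_mem_octads_iff g _).2 hy
  smulf g o y := card_inter_smul_M24 g o y
  code _ _ := card_inter_pts _ _

theorem mem_orbit_octad {o : Finset GolayPt} (ho : o ∈ octads) : o ∈ orbit M24 (pts baseOctad) :=
  orbit_baseOctad.symm ▸ ho

theorem card_stab_octad {o : Finset GolayPt} (ho : o ∈ octads) : Nat.card (stabilizer M24 o) = 322560 := by
  have h := card_stab_mul_orbit o
  rw [orbit_eq_iff.2 (mem_orbit_octad ho), orbit_baseOctad, octadStabOrb_all, octadStabOrb.ncard_all,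
    show octadStabOrb.lens.sum = 759 by decide +kernel] at h
  omega

theorem card_two_octads {o o' : Finset GolayPt} (ho : o ∈ octads) (ho' : o' ∈ octads) :
    ((o ∩ o').card = 0 → Nat.card ↥(stabilizer M24 o ⊓ stabilizer M24 o') = 10752) ∧
    ((o ∩ o').card = 4 → Nat.card ↥(stabilizer M24 o ⊓ stabilizer M24 o') = 1152) ∧
    ((o ∩ o').card = 2 → Nat.card ↥(stabilizer M24 o ⊓ stabilizer M24 o') = 720) := by
  have hX := mem_orbit_octad ho
  refine ⟨fun h => ?_, fun h => ?_, fun h => ?_⟩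
  · have e := octadOct_local.card_stab (k := 1) (by decide +kernel) hX ho' h
    rw [card_stab_octad ho, show octadStabOrb.lens.getD 1 0 = 30 from rfl] at e; omega
  · have e := octadOct_local.card_stab (k := 2) (by decide +kernel) hX ho' h
    rw [card_stab_octad ho, show octadStabOrb.lens.getD 2 0 = 280 from rfl] at e; omega
  · have e := octadOct_local.card_stab (k := 3) (by decide +kernel) hX ho' h
    rw [card_stab_octad ho, show octadStabOrb.lens.getD 3 0 = 448 from rfl] at e; omega

/-! ### The disjointness graph -/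

theorem baseNbr_check :
    (let l := (weightList 8).filter fun a => pop 24 (baseOctad &&& a) == 0
     let r := fun k => arrGet 24 (arrGet 24 octadStabV (segStart octadStabLens k)) 0
     l.any (fun a => pop 24 (a &&& r 2) == 0) && (l.all (fun a => !(pop 24 (a &&& r 3) == 0)) &&
       l.any (fun a => pop 24 (a &&& r 3) == 4))) = true := by decide +kernel

theorem common_nbr {o o' : Finset GolayPt} (ho : o ∈ octads) (ho' : o' ∈ octads) :
    ((o ∩ o').card = 4 → ∃ c ∈ octads, (o ∩ c).card = 0 ∧ (c ∩ o').card = 0) ∧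
    ((o ∩ o').card = 2 → (∀ c ∈ octads, (o ∩ c).card = 0 → (c ∩ o').card ≠ 0) ∧
      ∃ c ∈ octads, (o ∩ c).card = 0 ∧ (c ∩ o').card = 4) := by
  have hc := baseNbr_check
  simp only [Bool.and_eq_true, List.any_eq_true, List.all_eq_true, beq_iff_eq, Bool.not_eq_true',
    beq_eq_false_iff_ne, List.mem_filter] at hc
  obtain ⟨⟨a, ⟨ha, ha1⟩, ha2⟩, hall, ⟨b, ⟨hb, hb1⟩, hb2⟩⟩ := hc
  have hmem : ∀ {m}, m ∈ weightList 8 → pts m ∈ octads := fun {m} hm =>
    ⟨pts_mem_supports (List.mem_filter.1 hm).1, by rw [card_pts]; simpa using (List.mem_filter.1 hm).2⟩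
  constructor
  · intro h
    obtain ⟨g, hg⟩ := octadOct_local.pair_mem_orbit (k := 2) (by decide +kernel) (mem_orbit_octad ho) ho' h
    obtain ⟨e1, e2⟩ := Prod.ext_iff.1 hg
    refine ⟨g • pts a, (smul_mem_octads_iff g _).2 (hmem ha), ?_, ?_⟩
    · rw [show o = g • pts baseOctad from e1.symm, card_inter_smul_M24, card_inter_pts, ha1]
    · rw [show o' = g • octadStabOrb.root 2 from e2.symm, card_inter_smul_M24]
      exact (card_inter_pts _ _).trans ha2
  · intro h
    obtain ⟨g, hg⟩ := octadOct_local.pair_mem_orbit (k := 3) (by decide +kernel) (mem_orbit_octad ho) ho' h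
    obtain ⟨e1, e2⟩ := Prod.ext_iff.1 hg
    refine ⟨fun c hc h0 h1 => ?_, g • pts b, (smul_mem_octads_iff g _).2 (hmem hb), ?_, ?_⟩
    · have hc' : g⁻¹ • c ∈ octads := (smul_mem_octads_iff g⁻¹ _).2 hc
      obtain ⟨m, hm, em⟩ := mem_weightList hc'
      have hcm : c = g • pts m := by rw [em, smul_inv_smul]
      rw [hcm, show o = g • pts baseOctad from e1.symm, card_inter_smul_M24, card_inter_pts] at h0
      rw [hcm, show o' = g • octadStabOrb.root 3 from e2.symm, card_inter_smul_M24] at h1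
      exact hall m ⟨hm, h0⟩ ((card_inter_pts _ _).symm.trans h1)
    · rw [show o = g • pts baseOctad from e1.symm, card_inter_smul_M24, card_inter_pts, hb1]
    · rw [show o' = g • octadStabOrb.root 3 from e2.symm, card_inter_smul_M24]
      exact (card_inter_pts _ _).trans hb2

theorem octad_inter_cases {o o' : Finset GolayPt} (ho : o ∈ octads) (ho' : o' ∈ octads) :
    o = o' ∨ (o ∩ o').card = 0 ∨ (o ∩ o').card = 4 ∨ (o ∩ o').card = 2 := by
  have h := octadOct_local.value_mem (vs := [8, 0, 4, 2]) (by decide +kernel) (mem_orbit_octad ho) ho'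
  simp only [List.mem_cons, List.not_mem_nil, or_false] at h
  rcases h with h | h | h | h
  · exact Or.inl (octad_eq_of_five ho ho' (by rw [h]; norm_num))
  exacts [Or.inr (Or.inl h), Or.inr (Or.inr (Or.inl h)), Or.inr (Or.inr (Or.inr h))]

theorem blockGraph_adj {b c : ↥octads} :
    (blockGraph octads).Adj b c ↔ ((b : Finset GolayPt) ∩ c).card = 0 := by
  rw [blockGraph, SimpleGraph.fromRel_adj, disjoint_comm (a := (c : Finset GolayPt)), or_self,
    Finset.disjoint_iff_inter_eq_empty, ← Finset.card_eq_zero]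
  refine ⟨fun h => h.2, fun h => ⟨fun e => ?_, h⟩⟩
  subst e
  rw [Finset.inter_self, b.2.2] at h
  exact absurd h (by norm_num)

theorem octad_graph {o o' : Finset GolayPt} (ho : o ∈ octads) (ho' : o' ∈ octads) (hne : o ≠ o') :
    (blockGraph octads).Connected ∧
      ((blockGraph octads).dist ⟨o, ho⟩ ⟨o', ho'⟩ = 1 ↔ (o ∩ o').card = 0) ∧
      ((blockGraph octads).dist ⟨o, ho⟩ ⟨o', ho'⟩ = 2 ↔ (o ∩ o').card = 4) ∧
      ((blockGraph octads).dist ⟨o, ho⟩ ⟨o', ho'⟩ = 3 ↔ (o ∩ o').card = 2) := by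
  set Γ := blockGraph octads with hΓ
  have w4 : ∀ a b : ↥octads, ((a : Finset GolayPt) ∩ b).card = 4 → ∃ p : Γ.Walk a b, p.length = 2 := by
    intro a b h
    obtain ⟨c, hc, h1, h2⟩ := (common_nbr a.2 b.2).1 h
    exact ⟨.cons (blockGraph_adj.2 h1 : Γ.Adj a ⟨c, hc⟩) (.cons (blockGraph_adj.2 h2 : Γ.Adj ⟨c, hc⟩ b) .nil),
      rfl⟩
  have w2 : ∀ a b : ↥octads, ((a : Finset GolayPt) ∩ b).card = 2 → ∃ p : Γ.Walk a b, p.length = 3 := by
    intro a b h
    obtain ⟨c, hc, h1, h2⟩ := ((common_nbr a.2 b.2).2 h).2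
    obtain ⟨p, hp⟩ := w4 ⟨c, hc⟩ b h2
    exact ⟨.cons (blockGraph_adj.2 h1 : Γ.Adj a ⟨c, hc⟩) p, by rw [SimpleGraph.Walk.length_cons, hp]⟩
  have hconn : Γ.Connected := by
    have : Nonempty ↥octads := ⟨⟨o, ho⟩⟩
    refine SimpleGraph.Connected.mk fun a b => ?_
    rcases octad_inter_cases a.2 b.2 with h | h | h | h
    · rw [Subtype.ext h]
    · exact (blockGraph_adj.2 h : Γ.Adj a b).reachable
    · obtain ⟨p, -⟩ := w4 a b h; exact p.reachable
    · obtain ⟨p, -⟩ := w2 a b h; exact p.reachable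
  have d0 : 0 < Γ.dist ⟨o, ho⟩ ⟨o', ho'⟩ :=
    (hconn.preconnected _ _).pos_dist_of_ne fun e => hne (congrArg Subtype.val e)
  have d1 : Γ.dist ⟨o, ho⟩ ⟨o', ho'⟩ = 1 ↔ (o ∩ o').card = 0 :=
    SimpleGraph.dist_eq_one_iff_adj.trans blockGraph_adj
  have h2 : Γ.dist ⟨o, ho⟩ ⟨o', ho'⟩ = 2 → ∃ c ∈ octads, (o ∩ c).card = 0 ∧ (c ∩ o').card = 0 := fun h => by
    obtain ⟨p, hp⟩ := hconn.exists_walk_length_eq_dist ⟨o, ho⟩ ⟨o', ho'⟩
    rw [h] at hp
    match p, hp with
    | .cons (v := c) e1 (.cons e2 .nil), _ => exact ⟨c.1, c.2, blockGraph_adj.1 e1, blockGraph_adj.1 e2⟩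
  rcases (octad_inter_cases ho ho').resolve_left hne with h | h | h
  · refine ⟨hconn, d1, ?_, ?_⟩ <;> rw [h] <;> have := d1.2 h <;> omega
  · obtain ⟨p, hp⟩ := w4 ⟨o, ho⟩ ⟨o', ho'⟩ h
    have := SimpleGraph.dist_le p
    have h1 : Γ.dist ⟨o, ho⟩ ⟨o', ho'⟩ ≠ 1 := fun e => by rw [d1.1 e] at h; omega
    refine ⟨hconn, d1, ?_, ?_⟩ <;> rw [h] <;> omega
  · obtain ⟨p, hp⟩ := w2 ⟨o, ho⟩ ⟨o', ho'⟩ h
    have := SimpleGraph.dist_le p
    have h1 : Γ.dist ⟨o, ho⟩ ⟨o', ho'⟩ ≠ 1 := fun e => by rw [d1.1 e] at h; omega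
    have h2' : Γ.dist ⟨o, ho⟩ ⟨o', ho'⟩ ≠ 2 := fun e => by
      obtain ⟨c, hc, e1, e2⟩ := h2 e
      exact ((common_nbr ho ho').2 h).1 c hc e1 e2
    refine ⟨hconn, d1, ?_, ?_⟩ <;> rw [h] <;> omega

/-! ### The pointwise stabilizer -/

/-- The elements fixing the first five base points, as products along the chain. -/
def fiveList : List ℕ :=
  (levels.getD 5 []).flatMap fun a => (levels.getD 6 []).map fun b => permMulCode a b

theorem fiveList_perm : fiveList.all isM24Code = true := by decide +kernel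

theorem mem_fiveList {g : Equiv.Perm GolayPt} (hg : g ∈ chainSub 5) : ∃ c ∈ fiveList, permOf c = g := by
  obtain ⟨a, ha, h6⟩ := exists_level (by norm_num) hg
  obtain ⟨b, hb, h7⟩ := exists_level (by norm_num) h6
  rw [chainSub_seven, Subgroup.mem_bot, inv_mul_eq_one] at h7
  have hc : permMulCode a b ∈ fiveList := List.mem_flatMap.2 ⟨a, ha, List.mem_map.2 ⟨b, hb, rfl⟩⟩
  refine ⟨_, hc, ?_⟩
  rw [← permOf_permMulCode (isPermCode_of_isM24Code (isM24Code_of_mem_level ha))
    (isPermCode_of_isM24Code (isM24Code_of_mem_level hb))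
    (isPermCode_of_isM24Code (List.all_eq_true.1 fiveList_perm _ hc)) rfl, h7, mul_inv_cancel_left]

/-- The packed elements fixing the base octad pointwise. -/
def octadFixList : List ℕ :=
  fiveList.filter fun c => (List.range 24).all fun i => !baseOctad.testBit i || (permFn c i == i)

theorem octadFixList_check :
    (octadFixList.length == 16 && (decide octadFixList.Nodup &&
      (octadFixList.all fun c => permMulCode c c == idPacked))) = true := by decide +kernel

/-- The pointwise stabilizer of a set of points. -/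
def ptwise (o : Finset GolayPt) : Subgroup (Equiv.Perm GolayPt) :=
  M24 ⊓ fixingSubgroup (Equiv.Perm GolayPt) (o : Set GolayPt)

theorem mem_ptwise {o : Finset GolayPt} {g : Equiv.Perm GolayPt} :
    g ∈ ptwise o ↔ g ∈ M24 ∧ ∀ p ∈ o, g p = p := by
  simp [ptwise, mem_fixingSubgroup_iff]

theorem ptwise_smul (g : Equiv.Perm GolayPt) (hg : g ∈ M24) (o : Finset GolayPt) :
    ptwise (g • o) = (ptwise o).map (MulAut.conj g).toMonoidHom := by
  ext x
  rw [Subgroup.mem_map_equiv, mem_ptwise, mem_ptwise, MulAut.conj_symm_apply]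
  constructor
  · rintro ⟨h1, h2⟩
    refine ⟨M24.mul_mem (M24.mul_mem (M24.inv_mem hg) h1) hg, fun p hp => ?_⟩
    simp only [Equiv.Perm.mul_apply]
    have e : x (g p) = g p := h2 _ (Finset.smul_mem_smul_finset (a := g) hp)
    rw [e, Equiv.Perm.inv_def, Equiv.symm_apply_apply]
  · rintro ⟨h1, h2⟩
    refine ⟨?_, fun p hp => ?_⟩
    · have := M24.mul_mem (M24.mul_mem hg h1) (M24.inv_mem hg)
      simpa [mul_assoc] using this
    · obtain ⟨q, hq, rfl⟩ := Finset.mem_smul_finset.1 hp
      have := congrArg g (h2 q hq)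
      simpa [Equiv.Perm.mul_apply] using this

theorem mem_ptwise_base {g : Equiv.Perm GolayPt} :
    g ∈ ptwise (pts baseOctad) ↔ ∃ c ∈ octadFixList, permOf c = g := by
  rw [mem_ptwise]
  constructor
  · rintro ⟨hM, hfix⟩
    obtain ⟨c, hc, rfl⟩ := mem_fiveList (g := g) (mem_chainSub.2 ⟨hM, fun j hj =>
      hfix _ ((by decide +kernel : ∀ j < 5, bpt j ∈ pts baseOctad) j hj)⟩)
    refine ⟨c, List.mem_filter.2 ⟨hc, List.all_eq_true.2 fun i hi => ?_⟩, rfl⟩
    rw [List.mem_range] at hi
    rw [Bool.or_eq_true, Bool.not_eq_true', beq_iff_eq]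
    by_cases hb : baseOctad.testBit i = true
    · right
      have h := hfix (idxPt i) ((idxPt_mem_pts hi).2 hb)
      have hp := isPermCode_of_isM24Code (List.all_eq_true.1 fiveList_perm c hc)
      rw [permOf_idxPt hp hi] at h
      have h' := congrArg ptIdx h
      rwa [ptIdx_idxPt _ (permFn_lt hp hi), ptIdx_idxPt _ hi] at h'
    · exact Or.inl (by simpa using hb)
  · rintro ⟨c, hc, rfl⟩
    obtain ⟨hc1, hc2⟩ := List.mem_filter.1 hc
    have hcM := List.all_eq_true.1 fiveList_perm c hc1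
    refine ⟨permOf_mem_M24 hcM, fun p hp => ?_⟩
    have h := List.all_eq_true.1 hc2 (ptIdx p) (List.mem_range.2 (ptIdx_lt p))
    rw [mem_pts.1 hp] at h
    rw [permOf_apply (isPermCode_of_isM24Code hcM), show permFn c (ptIdx p) = ptIdx p by simpa using h,
      idxPt_ptIdx]

theorem permOf_inj {a b : ℕ} (ha : isPermCode a = true) (hb : isPermCode b = true)
    (h : permOf a = permOf b) : ∀ i < 24, permFn a i = permFn b i := by
  intro i hi
  have := congrArg (fun σ : Equiv.Perm GolayPt => ptIdx (σ (idxPt i))) h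
  simpa [permOf_idxPt ha hi, permOf_idxPt hb hi, ptIdx_idxPt _ (permFn_lt ha hi),
    ptIdx_idxPt _ (permFn_lt hb hi)] using this

theorem octadFix_distinct : (octadFixList.all fun a => octadFixList.all fun b =>
    decide (a = b) || !((List.range 24).all fun i => permFn a i == permFn b i)) = true := by decide +kernel

theorem card_ptwise_base : Nat.card (ptwise (pts baseOctad)) = 16 := by
  have hc := octadFixList_check
  simp only [Bool.and_eq_true, beq_iff_eq, decide_eq_true_eq] at hc
  obtain ⟨hlen, hnd, -⟩ := hc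
  have e : (ptwise (pts baseOctad) : Set (Equiv.Perm GolayPt)) = ↑(octadFixList.map permOf).toFinset := by
    ext g
    simp [mem_ptwise_base]
  rw [← SetLike.coe_sort_coe, e, Nat.card_coe_set_eq, Set.ncard_coe_finset, List.toFinset_card_of_nodup,
    List.length_map, hlen]
  refine (List.nodup_map_iff_inj_on hnd).2 fun a ha b hb h => ?_
  have := List.all_eq_true.1 (List.all_eq_true.1 octadFix_distinct a ha) b hb
  rw [Bool.or_eq_true, decide_eq_true_eq] at this
  refine this.resolve_right fun h' => ?_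
  simp only [Bool.not_eq_true', List.all_eq_false, List.mem_range, beq_iff_eq] at h'
  obtain ⟨i, hi, hne⟩ := h'
  exact hne (permOf_inj (isPermCode_of_isM24Code (List.all_eq_true.1 fiveList_perm a (List.mem_filter.1 ha).1))
    (isPermCode_of_isM24Code (List.all_eq_true.1 fiveList_perm b (List.mem_filter.1 hb).1)) h i hi)

theorem ptwise_facts {o : Finset GolayPt} (ho : o ∈ octads) :
    Nat.card (ptwise o) = 16 ∧ ∀ g ∈ ptwise o, g * g = 1 := by
  obtain ⟨g, rfl⟩ := mem_orbit_octad ho
  show Nat.card (ptwise ((g : Equiv.Perm GolayPt) • pts baseOctad)) = 16 ∧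
    ∀ x ∈ ptwise ((g : Equiv.Perm GolayPt) • pts baseOctad), x * x = 1
  rw [ptwise_smul _ g.2]
  refine ⟨?_, ?_⟩
  · rw [Nat.card_congr ((ptwise _).equivMapOfInjective _ (MulAut.conj (g : Equiv.Perm GolayPt)).injective).symm.toEquiv,
      card_ptwise_base]
  · rintro _ ⟨x, hx, rfl⟩
    obtain ⟨c, hc, rfl⟩ := mem_ptwise_base.1 hx
    rw [← map_mul]
    have h := octadFixList_check
    simp only [Bool.and_eq_true, beq_iff_eq, List.all_eq_true] at h
    have hp := isPermCode_of_isM24Code (List.all_eq_true.1 fiveList_perm c (List.mem_filter.1 hc).1)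
    rw [permOf_permMulCode hp hp (by decide +kernel) (h.2.2 c hc), permOf_idPacked, map_one]

/-! ### The fifteen trios through an octad -/

/-- Weighted membership in trios through a fixed octad. -/
def fOctTrio (o : Finset GolayPt) (T : Finset (Finset GolayPt)) : ℕ := if o ∈ T then 1 else 0

theorem fOctTrio_smul (g : M24) (o : Finset GolayPt) (T : Finset (Finset GolayPt)) :
    fOctTrio (g • o) (g • T) = fOctTrio o T :=
  if_congr (Finset.smul_mem_smul_finset_iff g) rfl rfl

theorem mem_famSet_iff_code {k x m : ℕ} (hx : famOk k x = true) (hm : m < 2 ^ 24) :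
    pts m ∈ famSet k x ↔ (famList k x).contains m = true := by
  rw [List.contains_iff_mem, mem_famSet]
  constructor
  · rintro ⟨a, ha, e⟩
    exact eq_of_pts_eq ((famOk_spec hx).2.1 a ha) hm e ▸ ha
  · exact fun h => ⟨m, h, rfl⟩

theorem octTrios_local : Local (pts baseOctad) trios fOctTrio octadStabTriosOrb
    (fun x => if (famList 3 x).contains baseOctad then 1 else 0) where
  inM24 := octadStabSlp.inM24
  fix := fixMask_spec (by decide +kernel)
  univ := octadStabTrios_univ
  smulU g _ hy := smul_mem_trios g.2 hy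
  smulf := fOctTrio_smul
  code i hi := if_congr (mem_famSet_iff_code (List.all_eq_true.1
    (show (List.range octadStabTriosOrb.lens.sum).all
      (fun i => famOk 3 (arrGet octadStabTriosOrb.w octadStabTriosOrb.V i)) = true by decide +kernel)
    i (List.mem_range.2 hi)) (by decide +kernel)) rfl rfl

theorem ncard_trios_through {o : Finset GolayPt} (ho : o ∈ octads) :
    {T | T ∈ trios ∧ o ∈ T}.ncard = 15 := by
  have h := octTrios_local.count (v := 1) (k := 0) (by decide +kernel) (mem_orbit_octad ho)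
  have e : {T | T ∈ trios ∧ o ∈ T} = {y | y ∈ trios ∧ fOctTrio o y = 1} := by
    ext T; simp [fOctTrio]
  rw [e, h]; rfl

theorem orbit_sub {α β : Type*} [MulAction (Equiv.Perm GolayPt) α] [MulAction (Equiv.Perm GolayPt) β]
    {dec : ℕ → β} {gens : List ℕ} (c : OrbCert dec gens) (hM : gens.all isM24Code = true) {x : α}
    (hfix : ∀ g ∈ gens, permOf g • x = x) {k : ℕ} (hk : k < c.lens.length) :
    c.seg k ⊆ orbit (stabilizer M24 x) (c.root k) := by
  rw [← c.orbit_root hk]
  rintro _ ⟨⟨a, ha⟩, rfl⟩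
  obtain ⟨b, hb, rfl⟩ := codesClosure_le (H := (stabilizer M24 x).map M24.subtype)
    (fun g hg => (mem_map_stabilizer x _).2 ⟨permOf_mem_M24 (List.all_eq_true.1 hM g hg), hfix g hg⟩) ha
  exact ⟨⟨b, hb⟩, rfl⟩

/-- The byte table of a packed permutation. -/
def packTab (c : ℕ) : ℕ :=
  (List.range 768).foldr (fun i acc => (acc <<< 24) ||| permMask c ((i % 256) <<< (8 * (i / 256)))) 0

theorem card_stab_le {α β : Type*} [MulAction (Equiv.Perm GolayPt) α] [MulAction (Equiv.Perm GolayPt) β]
    [Finite β] {dec : ℕ → β} {gens : List ℕ} (c : OrbCert dec gens) (hM : gens.all isM24Code = true) {x : α}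
    (hfix : ∀ g ∈ gens, permOf g • x = x) {k : ℕ} (hk : k < c.lens.length) :
    c.lens.getD k 0 * Nat.card ↥(stabilizer M24 (x, c.root k)) ≤ Nat.card (stabilizer M24 x) := by
  have e := Nat.card_congr (orbitProdStabilizerEquivGroup (stabilizer M24 x) (c.root k))
  rw [Nat.card_prod, Nat.card_coe_set_eq] at e
  rw [← e, stabilizer_prod_eq]
  refine Nat.mul_le_mul ?_ (le_of_eq (Nat.card_congr
    { toFun := fun g => ⟨⟨g.1, g.2.1⟩, g.2.2⟩
      invFun := fun g => ⟨g.1.1, g.1.2, g.2⟩
      left_inv := fun _ => rfl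
      right_inv := fun _ => rfl }))
  rw [← c.ncard_seg hk]
  exact Set.ncard_le_ncard (orbit_sub c hM hfix hk) (Set.toFinite _)

theorem trio_pair_orbit {o : Finset GolayPt} (ho : o ∈ octads) {T T' : Finset (Finset GolayPt)}
    (hT : T ∈ trios) (hT' : T' ∈ trios) (h : o ∈ T) (h' : o ∈ T') (hne : T ≠ T') :
    ((o, T), T') ∈ orbit M24 ((pts baseOctad, octadStabTriosOrb.root 0), octTrio1Orb.root 1) := by
  obtain ⟨g, hg⟩ := octTrios_local.pair_mem_orbit (v := 1) (k := 0) (by decide +kernel) (mem_orbit_octad ho) hT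
    (show fOctTrio o T = 1 from if_pos h)
  obtain ⟨e1, e2⟩ := Prod.ext_iff.1 hg
  have hmem : g⁻¹ • T' ∈ octadStabTriosOrb.seg 0 := by
    refine (octTrios_local.mem_iff (v := 1) (by decide +kernel)).2 ⟨smul_mem_trios (g⁻¹).2 hT', ?_⟩
    rw [← fOctTrio_smul g, smul_inv_smul, show g • pts baseOctad = o from e1]
    exact if_pos h'
  have hall : octadStabTriosOrb.seg 0 ⊆ {octadStabTriosOrb.root 0} ∪ octTrio1Orb.seg 1 := by
    rintro _ ⟨i, hi, rfl⟩
    have hi15 : i < 15 := by
      have := hi.2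
      rw [show segStart octadStabTriosOrb.lens 0 + octadStabTriosOrb.lens.getD 0 0 = 15 from rfl] at this
      exact this
    have key : (List.range 15).all (fun i =>
        (arrGet octadStabTriosOrb.w octadStabTriosOrb.V i == arrGet octadStabTriosOrb.w octadStabTriosOrb.V 0) ||
        (List.range 14).any fun j => arrGet octTrio1Orb.w octTrio1Orb.V (1 + j) ==
          arrGet octadStabTriosOrb.w octadStabTriosOrb.V i) = true := by decide +kernel
    have := List.all_eq_true.1 key i (List.mem_range.2 hi15)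
    simp only [Bool.or_eq_true, beq_iff_eq, List.any_eq_true, List.mem_range] at this
    rcases this with e | ⟨j, hj, e⟩
    · exact Or.inl (congrArg (famSet 3) e)
    · exact Or.inr ⟨1 + j, ⟨Nat.le_add_right _ _, by
        show 1 + j < 1 + 14; omega⟩, congrArg (famSet 3) e⟩
  rcases hall hmem with e | e
  · exfalso
    refine hne ?_
    refine (show g • octadStabTriosOrb.root 0 = T from e2).symm.trans ?_
    rw [← show g⁻¹ • T' = octadStabTriosOrb.root 0 from e, smul_inv_smul]
  · obtain ⟨a, ha⟩ := orbit_sub octTrio1Orb (by decide +kernel)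
      (x := (pts baseOctad, octadStabTriosOrb.root 0)) (fix_prod (fixMask_spec (by decide +kernel))
        ((actsAs_famSet octTrio1Tabs_ok 3).fix (by decide +kernel))) (k := 1) (by decide +kernel) e
    refine ⟨g * a.1, Prod.ext ?_ ?_⟩
    · show (g * a.1) • (pts baseOctad, octadStabTriosOrb.root 0) = (o, T)
      rw [mul_smul, show a.1 • (pts baseOctad, octadStabTriosOrb.root 0) = _ from a.2]
      exact hg
    · show (g * a.1) • octTrio1Orb.root 1 = T'
      rw [mul_smul, show a.1 • octTrio1Orb.root 1 = g⁻¹ • T' from ha, smul_inv_smul]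

theorem card_kernel_le : Nat.card (stabilizer M24 ((((pts baseOctad, octadStabTriosOrb.root 0),
    octTrio1Orb.root 1), octTrio2Orb.root 3), octTrio3Orb.root 7)) ≤ 16 := by
  have a0 := octTrios_local.ncard_orbit (v := 1) (k := 0) (by decide +kernel) (mem_orbit_self _)
    (show octadStabTriosOrb.root 0 ∈ trios from octadStabTrios_univ ▸
      octadStabTriosOrb.seg_subset_all (by decide) (octadStabTriosOrb.root_mem_seg (by decide)))
    (show fOctTrio (pts baseOctad) (octadStabTriosOrb.root 0) = 1 from if_pos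
      ((mem_famSet_iff_code (k := 3) (by decide +kernel) (by decide +kernel)).2 (by decide +kernel)))
  have e0 := Nat.card_congr (orbitProdStabilizerEquivGroup (stabilizer M24 (pts baseOctad))
    (octadStabTriosOrb.root 0))
  rw [Nat.card_prod, Nat.card_coe_set_eq, a0, card_stab_octad baseOctad_mem] at e0
  have e0' : Nat.card (stabilizer M24 (pts baseOctad, octadStabTriosOrb.root 0)) =
      Nat.card (stabilizer (stabilizer M24 (pts baseOctad)) (octadStabTriosOrb.root 0)) := by
    rw [stabilizer_prod_eq]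
    exact Nat.card_congr
      { toFun := fun g => ⟨⟨g.1, g.2.1⟩, g.2.2⟩
        invFun := fun g => ⟨g.1.1, g.1.2, g.2⟩
        left_inv := fun _ => rfl
        right_inv := fun _ => rfl }
  have f1 : ∀ g ∈ octTrio1Gens, permOf g • (pts baseOctad, octadStabTriosOrb.root 0) = _ :=
    fix_prod (fixMask_spec (by decide +kernel)) ((actsAs_famSet octTrio1Tabs_ok 3).fix (by decide +kernel))
  have h1 := card_stab_le octTrio1Orb (by decide +kernel) f1 (k := 1) (by decide +kernel)
  have h2 := card_stab_le octTrio2Orb (by decide +kernel)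
    (x := ((pts baseOctad, octadStabTriosOrb.root 0), octTrio1Orb.root 1))
    (fix_prod (fix_prod (fixMask_spec (by decide +kernel)) ((actsAs_famSet octTrio2Tabs_ok 3).fix (by decide +kernel)))
      ((actsAs_famSet octTrio2Tabs_ok 3).fix (by decide +kernel))) (k := 3) (by decide +kernel)
  have h3 := card_stab_le octTrio3Orb (by decide +kernel)
    (x := (((pts baseOctad, octadStabTriosOrb.root 0), octTrio1Orb.root 1), octTrio2Orb.root 3))
    (fix_prod (fix_prod (fix_prod (fixMask_spec (by decide +kernel))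
      ((actsAs_famSet octTrio3Tabs_ok 3).fix (by decide +kernel)))
      ((actsAs_famSet octTrio3Tabs_ok 3).fix (by decide +kernel)))
      ((actsAs_famSet octTrio3Tabs_ok 3).fix (by decide +kernel))) (k := 7) (by decide +kernel)
  rw [show octadStabTriosOrb.lens.getD 0 0 = 15 from rfl, ← e0'] at e0
  rw [show octTrio1Orb.lens.getD 1 0 = 14 from rfl] at h1
  rw [show octTrio2Orb.lens.getD 3 0 = 12 from rfl] at h2
  rw [show octTrio3Orb.lens.getD 7 0 = 8 from rfl] at h3
  omega

theorem kernel_eq_ptwise {g : M24} (hg : g • pts baseOctad = pts baseOctad) :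
    (∀ T ∈ trios, pts baseOctad ∈ T → g • T = T) ↔ (g : Equiv.Perm GolayPt) ∈ ptwise (pts baseOctad) := by
  have hgen : (octadFixList.all fun c => (tabCheck c (packTab c)) &&
      (List.range 15).all fun i => famAct 3 (packTab c) (arrGet octadStabTriosOrb.w octadStabTriosOrb.V i) ==
        arrGet octadStabTriosOrb.w octadStabTriosOrb.V i) = true := by decide +kernel
  have hP : ∀ h ∈ ptwise (pts baseOctad), ∀ T ∈ trios, pts baseOctad ∈ T → h • T = T := by
    intro h hh T hT ho
    obtain ⟨c, hc, rfl⟩ := mem_ptwise_base.1 hh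
    have hT' := (octTrios_local.mem_iff (v := 1) (k := 0) (by decide +kernel)).2 ⟨hT, if_pos ho⟩
    obtain ⟨i, ⟨-, hi⟩, rfl⟩ := hT'
    have hi15 : i < 15 := hi
    have h1 := List.all_eq_true.1 hgen c hc
    simp only [Bool.and_eq_true, List.all_eq_true, List.mem_range, beq_iff_eq] at h1
    rw [smul_famSet h1.1, h1.2 i hi15]
  refine ⟨fun h => ?_, fun h T hT ho => hP _ h T hT ho⟩
  let Z := stabilizer M24 ((((pts baseOctad, octadStabTriosOrb.root 0),
    octTrio1Orb.root 1), octTrio2Orb.root 3), octTrio3Orb.root 7)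
  have hroots : ∀ x ∈ [arrGet octadStabTriosOrb.w octadStabTriosOrb.V 0, arrGet octTrio1Orb.w octTrio1Orb.V 1,
      arrGet octTrio2Orb.w octTrio2Orb.V 3, arrGet octTrio3Orb.w octTrio3Orb.V 7],
      famSet 3 x ∈ trios ∧ pts baseOctad ∈ famSet 3 x := by
    intro x hx
    have hb := List.all_eq_true.1 (show ([arrGet octadStabTriosOrb.w octadStabTriosOrb.V 0,
      arrGet octTrio1Orb.w octTrio1Orb.V 1, arrGet octTrio2Orb.w octTrio2Orb.V 3,
      arrGet octTrio3Orb.w octTrio3Orb.V 7].all fun x => isTrioCode x && (famList 3 x).contains baseOctad) = true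
      by decide +kernel) x hx
    rw [Bool.and_eq_true] at hb
    exact ⟨famSet_mem_trios hb.1, mem_famSet.2 ⟨baseOctad, by simpa using hb.2, rfl⟩⟩
  have inZ : ∀ z : M24, (z • pts baseOctad = pts baseOctad) →
      (∀ T ∈ trios, pts baseOctad ∈ T → z • T = T) → z ∈ Z := by
    intro z h0 hz
    refine Prod.ext (Prod.ext (Prod.ext (Prod.ext h0 ?_) ?_) ?_) ?_
    · exact hz _ (hroots _ List.mem_cons_self).1 (hroots _ List.mem_cons_self).2
    · exact hz _ (hroots _ (List.mem_cons_of_mem _ List.mem_cons_self)).1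
        (hroots _ (List.mem_cons_of_mem _ List.mem_cons_self)).2
    · exact hz _ (hroots _ (List.mem_cons_of_mem _ (List.mem_cons_of_mem _ List.mem_cons_self))).1
        (hroots _ (List.mem_cons_of_mem _ (List.mem_cons_of_mem _ List.mem_cons_self))).2
    · exact hz _ (hroots _ (List.mem_cons_of_mem _ (List.mem_cons_of_mem _ (List.mem_cons_of_mem _
          List.mem_cons_self)))).1
        (hroots _ (List.mem_cons_of_mem _ (List.mem_cons_of_mem _ (List.mem_cons_of_mem _ List.mem_cons_self)))).2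
  have hle : ptwise (pts baseOctad) ≤ Z.map M24.subtype := by
    intro z hz
    refine ⟨⟨z, (mem_ptwise.1 hz).1⟩, inZ _ ?_ (fun T hT ho => hP z hz T hT ho), rfl⟩
    exact Finset.eq_of_subset_of_card_le (fun p hp => by
      obtain ⟨q, hq, rfl⟩ := Finset.mem_smul_finset.1 hp
      show z q ∈ _
      rw [(mem_ptwise.1 hz).2 q hq]; exact hq) (card_smul_M24 _ _).ge
  have heq := Subgroup.eq_of_le_of_card_ge hle (by rw [← card_subgroup_M24, card_ptwise_base]; exact card_kernel_le)
  rw [heq]
  exact ⟨g, inZ g hg h, rfl⟩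

theorem octad_trios {o : Finset GolayPt} (ho : o ∈ octads) :
    {T : Finset (Finset GolayPt) | T ∈ trios ∧ o ∈ T}.ncard = 15 ∧
    (∀ T₁ T₂ T₁' T₂' : Finset (Finset GolayPt), T₁ ∈ trios → T₂ ∈ trios → T₁' ∈ trios → T₂' ∈ trios →
      o ∈ T₁ → o ∈ T₂ → o ∈ T₁' → o ∈ T₂' → T₁ ≠ T₂ → T₁' ≠ T₂' →
      ∃ g ∈ M24, g • o = o ∧ g • T₁ = T₁' ∧ g • T₂ = T₂') ∧
    ∀ g ∈ M24, g • o = o → ((∀ T ∈ trios, o ∈ T → g • T = T) ↔ ∀ p ∈ o, g p = p) := by
  refine ⟨ncard_trios_through ho, fun T₁ T₂ T₁' T₂' h1 h2 h1' h2' o1 o2 o1' o2' hne hne' => ?_, ?_⟩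
  · obtain ⟨a, ha⟩ := trio_pair_orbit ho h1 h2 o1 o2 hne
    obtain ⟨b, hb⟩ := trio_pair_orbit ho h1' h2' o1' o2' hne'
    have e : (b * a⁻¹) • ((o, T₁), T₂) = ((o, T₁'), T₂') := by
      rw [← ha, ← hb]; show (b * a⁻¹) • a • _ = b • _
      rw [mul_smul, inv_smul_smul]
    exact ⟨_, (b * a⁻¹).2, congrArg (fun z => z.1.1) e, congrArg (fun z => z.1.2) e, congrArg Prod.snd e⟩
  · intro g hgM hgo
    obtain ⟨a, ha⟩ := mem_orbit_octad ho
    have ha : a • pts baseOctad = o := ha
    let z : M24 := a⁻¹ * ⟨g, hgM⟩ * a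
    have hz : z • pts baseOctad = pts baseOctad := by
      rw [mul_smul, mul_smul, ha, show (⟨g, hgM⟩ : M24) • o = o from hgo, ← ha, inv_smul_smul]
    have hiff : (∀ T ∈ trios, o ∈ T → g • T = T) ↔ ∀ T ∈ trios, pts baseOctad ∈ T → z • T = T := by
      constructor
      · intro h T hT hb
        have := h (a • T) (smul_mem_trios a.2 hT) (ha ▸ Finset.smul_mem_smul_finset (a := a) hb)
        rw [mul_smul, mul_smul, show (⟨g, hgM⟩ : M24) • a • T = a • T from this, inv_smul_smul]
      · intro h T hT hb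
        have := h (a⁻¹ • T) (smul_mem_trios (a⁻¹).2 hT) (by
          have := Finset.smul_mem_smul_finset (a := a⁻¹) hb
          rwa [← ha, inv_smul_smul] at this)
        rw [mul_smul, mul_smul, smul_inv_smul, smul_left_cancel_iff] at this
        exact this
    rw [hiff, kernel_eq_ptwise hz]
    have e : ptwise o = (ptwise (pts baseOctad)).map (MulAut.conj (a : Equiv.Perm GolayPt)).toMonoidHom := by
      rw [← ptwise_smul _ a.2]; exact congrArg ptwise ha.symm
    have : ((z : Equiv.Perm GolayPt) ∈ ptwise (pts baseOctad)) ↔ g ∈ ptwise o := by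
      rw [e, Subgroup.mem_map_equiv, MulAut.conj_symm_apply]; rfl
    rw [this, mem_ptwise]
    exact ⟨fun h => h.2, fun h => ⟨hgM, h⟩⟩

end CfsgLib.Spor
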