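/-
Elements of order two and three of `Cfsg.M24`: classes, fixed objects, and commuting pairs.
-/
import Cfsg.Agent.Lib.Spor.ChainCands
import Cfsg.Agent.Lib.Spor.OctadGeom
import Cfsg.Agent.Lib.Spor.Level.SylowTwo
import Cfsg.Agent.Lib.Spor.Level.SylowThree

namespace CfsgLib.Spor

open Cfsg
open scoped Pointwise

theorem exists_rep_two {x : Equiv.Perm GolayPt} (hx : x ∈ M24) (h : orderOf x = 2) :
    ∃ r ∈ sylTwoReps, ∃ k ∈ M24, k * x * k⁻¹ = permOf r :=
  haveI : Fact (Nat.Prime 2) := ⟨Nat.prime_two⟩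
  exists_rep sylTwo_list sylTwo_distinct (by
    have e : (244823040 : ℕ) = 2 ^ 10 * 239085 := by norm_num
    rw [e, Nat.factorization_mul (by norm_num) (by norm_num), Finsupp.add_apply,
      Nat.Prime.factorization_pow Nat.prime_two, Finsupp.single_eq_same,
      Nat.factorization_eq_zero_of_not_dvd (by norm_num)]
    rfl) sylTwo_classes (by decide +kernel) hx h

theorem exists_rep_three {x : Equiv.Perm GolayPt} (hx : x ∈ M24) (h : orderOf x = 3) :
    ∃ r ∈ sylThreeReps, ∃ k ∈ M24, k * x * k⁻¹ = permOf r :=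
  haveI : Fact (Nat.Prime 3) := ⟨Nat.prime_three⟩
  exists_rep sylThree_list sylThree_distinct (by
    have e : (244823040 : ℕ) = 3 ^ 3 * 9067520 := by norm_num
    rw [e, Nat.factorization_mul (by norm_num) (by norm_num), Finsupp.add_apply,
      Nat.Prime.factorization_pow Nat.prime_three, Finsupp.single_eq_same,
      Nat.factorization_eq_zero_of_not_dvd (by norm_num)]
    rfl) sylThree_classes (by decide +kernel) hx h

/-- The fixed points. -/
def fixSet (g : Equiv.Perm GolayPt) : Finset GolayPt := Finset.univ.filter fun p => g p = p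

theorem fixSet_conj (k g : Equiv.Perm GolayPt) : fixSet (k * g * k⁻¹) = k • fixSet g := by
  ext p
  rw [← Finset.inv_smul_mem_iff]
  rw [fixSet, fixSet, Finset.mem_filter, Finset.mem_filter]
  simp only [Finset.mem_univ, true_and, Equiv.Perm.mul_apply, Equiv.Perm.smul_def]
  refine ⟨fun h => k.injective ?_, fun h => ?_⟩
  · rw [h]; exact (k.apply_symm_apply p).symm
  · rw [h]; exact k.apply_symm_apply p

theorem card_fixSet_conj (k g : Equiv.Perm GolayPt) : (fixSet (k * g * k⁻¹)).card = (fixSet g).card := by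
  rw [fixSet_conj, Finset.card_smul_finset]

/-- The mask of fixed indices. -/
def fixMaskOf (c : ℕ) : ℕ := maskFn (fun i => permFn c i == i) 24

theorem fixSet_permOf {c : ℕ} (hc : isPermCode c = true) : fixSet (permOf c) = pts (fixMaskOf c) := by
  ext p
  simp only [fixSet, Finset.mem_filter, Finset.mem_univ, true_and, mem_pts, fixMaskOf, testBit_maskFn,
    ptIdx_lt, decide_true, Bool.true_and, beq_iff_eq]
  rw [permOf_apply hc]
  constructor
  · intro h
    have := congrArg ptIdx h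
    rwa [ptIdx_idxPt _ (permFn_lt hc (ptIdx_lt p))] at this
  · intro h; rw [h, idxPt_ptIdx]

theorem reps_two : sylTwoReps.all (fun r => isM24Code r && ((permMulCode r r == idPacked) &&
      ((fixMaskOf r == 0) || (pop 24 (fixMaskOf r) == 8 && codeTest (fixMaskOf r))))) = true ∧
    (sylTwoReps.map fun r => pop 24 (fixMaskOf r)) = [0, 8] := by decide +kernel

theorem reps_three : sylThreeReps.all (fun r => isM24Code r && (powCode r 3 == idPacked)) = true ∧
    (sylThreeReps.map fun r => pop 24 (fixMaskOf r)) = [0, 6] := by decide +kernel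

theorem two_fix {x : Equiv.Perm GolayPt} (hx : x ∈ M24) (h : orderOf x = 2) :
    fixSet x ∈ octads ∨ fixSet x = ∅ := by
  obtain ⟨r, hr, k, hk, e⟩ := exists_rep_two hx h
  have hb := List.all_eq_true.1 reps_two.1 r hr
  simp only [Bool.and_eq_true, Bool.or_eq_true, beq_iff_eq] at hb
  obtain ⟨hM, -, hfix⟩ := hb
  have e2 : fixSet x = k⁻¹ • pts (fixMaskOf r) := by
    rw [← fixSet_permOf (isPermCode_of_isM24Code hM), ← e, fixSet_conj, inv_smul_smul]
  rw [e2]
  rcases hfix with h0 | ⟨h8, hc⟩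
  · right; rw [h0]; ext p; simp [Finset.mem_inv_smul_finset_iff, mem_pts]
  · exact Or.inl (smul_mem_octads (M24.inv_mem hk)
      ⟨⟨word _, (word_mem_golayCode_iff _).2 hc, support₂_word _⟩, by rw [card_pts, h8]⟩)

theorem conj_of_same_rep {reps : List ℕ} (hM : ∀ r ∈ reps, isM24Code r = true)
    (hn : (reps.map fun r => pop 24 (fixMaskOf r)).Nodup) {x y : Equiv.Perm GolayPt}
    (hx : ∃ r ∈ reps, ∃ k ∈ M24, k * x * k⁻¹ = permOf r) (hy : ∃ r ∈ reps, ∃ k ∈ M24, k * y * k⁻¹ = permOf r)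
    (h : (fixSet x).card = (fixSet y).card) : ∃ k ∈ M24, k * x * k⁻¹ = y := by
  obtain ⟨r, hr, k, hk, e⟩ := hx
  obtain ⟨s, hs, l, hl, e'⟩ := hy
  have hrs : r = s := by
    refine List.inj_on_of_nodup_map hn hr hs ?_
    show pop 24 (fixMaskOf r) = pop 24 (fixMaskOf s)
    rw [← card_pts, ← card_pts, ← fixSet_permOf (isPermCode_of_isM24Code (hM r hr)),
      ← fixSet_permOf (isPermCode_of_isM24Code (hM s hs)), ← e, ← e', card_fixSet_conj, card_fixSet_conj, h]
  subst hrs
  refine ⟨l⁻¹ * k, M24.mul_mem (M24.inv_mem hl) hk, ?_⟩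
  calc l⁻¹ * k * x * (l⁻¹ * k)⁻¹ = l⁻¹ * (k * x * k⁻¹) * l := by group
    _ = l⁻¹ * (l * y * l⁻¹) * l := by rw [e, e']
    _ = y := by group

theorem exists_elt_two (n : ℕ) (hn : n = 0 ∨ n = 8) :
    ∃ g ∈ M24, orderOf g = 2 ∧ (fixSet g).card = n := by
  have hm : n ∈ sylTwoReps.map fun r => pop 24 (fixMaskOf r) := by rw [reps_two.2]; simp [hn]
  obtain ⟨r, hr, e⟩ := List.mem_map.1 hm
  have hb := List.all_eq_true.1 reps_two.1 r hr
  simp only [Bool.and_eq_true, beq_iff_eq] at hb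
  obtain ⟨hM, h2, -⟩ := hb
  have hp := isPermCode_of_isM24Code hM
  have hfc : (fixSet (permOf r)).card = n := by rw [fixSet_permOf hp, card_pts, e]
  refine ⟨permOf r, permOf_mem_M24 hM, orderOf_eq_prime ?_ (fun h1 => ?_), hfc⟩
  · rw [sq, permOf_permMulCode hp hp (by decide +kernel) h2, permOf_idPacked]
  · rw [h1, show fixSet 1 = Finset.univ from Finset.filter_true_of_mem fun p _ => rfl, Finset.card_univ,
      show Fintype.card GolayPt = 24 by decide +kernel] at hfc
    omega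

theorem involution_classes :
    (∀ g ∈ M24, orderOf g = 2 → fixSet g ∈ octads ∨ ∀ p, g p ≠ p) ∧
    (∃ g ∈ M24, orderOf g = 2 ∧ fixSet g ∈ octads) ∧ (∃ g ∈ M24, orderOf g = 2 ∧ ∀ p, g p ≠ p) ∧
    ∀ g ∈ M24, ∀ h ∈ M24, orderOf g = 2 → orderOf h = 2 →
      ((∀ p, g p ≠ p) ↔ (∀ p, h p ≠ p)) → ∃ k ∈ M24, k * g * k⁻¹ = h := by
  have hfree : ∀ g : Equiv.Perm GolayPt, fixSet g = ∅ ↔ ∀ p, g p ≠ p := fun g => by
    simp [fixSet, Finset.filter_eq_empty_iff]
  refine ⟨fun g hg h => (two_fix hg h).imp_right (hfree g).1, ?_, ?_, fun g hg h hh hg2 hh2 hiff => ?_⟩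
  · obtain ⟨g, hg, h2, hc⟩ := exists_elt_two 8 (Or.inr rfl)
    exact ⟨g, hg, h2, (two_fix hg h2).resolve_right fun e => by rw [e] at hc; simp at hc⟩
  · obtain ⟨g, hg, h2, hc⟩ := exists_elt_two 0 (Or.inl rfl)
    exact ⟨g, hg, h2, (hfree g).1 (Finset.card_eq_zero.1 hc)⟩
  · refine conj_of_same_rep (fun r hr => ((Bool.and_eq_true _ _).mp (List.all_eq_true.1 reps_two.1 r hr)).1)
      (by rw [reps_two.2]; decide) (exists_rep_two hg hg2) (exists_rep_two hh hh2) ?_
    rcases two_fix hg hg2 with e | e <;> rcases two_fix hh hh2 with e' | e'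
    · rw [e.2, e'.2]
    · exact absurd ((hfree h).1 e') (fun hh' => by
        have := (hfree g).2 (hiff.2 hh'); rw [this] at e; simpa using e.2)
    · exact absurd ((hfree g).1 e) (fun hg' => by
        have := (hfree h).2 (hiff.1 hg'); rw [this] at e'; simpa using e'.2)
    · rw [e, e']

theorem three_fix {x : Equiv.Perm GolayPt} (hx : x ∈ M24) (h : orderOf x = 3) :
    (fixSet x).card = 6 ∨ (fixSet x).card = 0 := by
  obtain ⟨r, hr, k, hk, e⟩ := exists_rep_three hx h
  have hM := ((Bool.and_eq_true _ _).mp (List.all_eq_true.1 reps_three.1 r hr)).1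
  have hm : pop 24 (fixMaskOf r) ∈ [0, 6] := reps_three.2 ▸ List.mem_map.2 ⟨r, hr, rfl⟩
  rw [← card_fixSet_conj k, e, fixSet_permOf (isPermCode_of_isM24Code hM), card_pts]
  simpa [or_comm] using hm

theorem exists_elt_three (n : ℕ) (hn : n = 0 ∨ n = 6) :
    ∃ g ∈ M24, orderOf g = 3 ∧ (fixSet g).card = n := by
  have hm : n ∈ sylThreeReps.map fun r => pop 24 (fixMaskOf r) := by rw [reps_three.2]; simp [hn]
  obtain ⟨r, hr, e⟩ := List.mem_map.1 hm
  have hb := List.all_eq_true.1 reps_three.1 r hr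
  simp only [Bool.and_eq_true, beq_iff_eq] at hb
  obtain ⟨hM, h3⟩ := hb
  have hp := isPermCode_of_isM24Code hM
  haveI : Fact (Nat.Prime 3) := ⟨Nat.prime_three⟩
  have hfc : (fixSet (permOf r)).card = n := by rw [fixSet_permOf hp, card_pts, e]
  refine ⟨permOf r, permOf_mem_M24 hM, orderOf_eq_prime ?_ (fun h1 => ?_), hfc⟩
  · rw [← (permOf_powCode hp 3).1, h3, permOf_idPacked]
  · rw [h1, show fixSet 1 = Finset.univ from Finset.filter_true_of_mem fun p _ => rfl, Finset.card_univ,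
      show Fintype.card GolayPt = 24 by decide +kernel] at hfc
    omega

theorem ncard_fixed_zpowers (x : M24) :
    {p : GolayPt | ∀ y ∈ Subgroup.zpowers x, ((y : M24) : Equiv.Perm GolayPt) p = p}.ncard =
      (fixSet (x : Equiv.Perm GolayPt)).card := by
  rw [← Set.ncard_coe_finset]
  congr 1
  ext p
  simp only [fixSet, Finset.coe_filter, Finset.mem_univ, true_and, Set.mem_ofPred_eq]
  refine ⟨fun h => h x (Subgroup.mem_zpowers x), fun h y hy => ?_⟩
  have hle : Subgroup.zpowers x ≤ MulAction.stabilizer M24 p :=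
    Subgroup.zpowers_le.2 (MulAction.mem_stabilizer_iff.2 h)
  exact MulAction.mem_stabilizer_iff.1 (hle hy)

theorem subgroup_three_classes :
    (∀ X : Subgroup ↥M24, Nat.card X = 3 →
      {p : GolayPt | ∀ x ∈ X, ((x : ↥M24) : Equiv.Perm GolayPt) p = p}.ncard = 6 ∨
      {p : GolayPt | ∀ x ∈ X, ((x : ↥M24) : Equiv.Perm GolayPt) p = p}.ncard = 0) ∧
    (∃ X : Subgroup ↥M24, Nat.card X = 3 ∧
      {p : GolayPt | ∀ x ∈ X, ((x : ↥M24) : Equiv.Perm GolayPt) p = p}.ncard = 6) ∧
    (∃ X : Subgroup ↥M24, Nat.card X = 3 ∧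
      {p : GolayPt | ∀ x ∈ X, ((x : ↥M24) : Equiv.Perm GolayPt) p = p}.ncard = 0) ∧
    ∀ X Y : Subgroup ↥M24, Nat.card X = 3 → Nat.card Y = 3 →
      {p : GolayPt | ∀ x ∈ X, ((x : ↥M24) : Equiv.Perm GolayPt) p = p}.ncard =
        {p : GolayPt | ∀ x ∈ Y, ((x : ↥M24) : Equiv.Perm GolayPt) p = p}.ncard →
      ∃ k : ↥M24, MulAut.conj k • X = Y := by
  have gen : ∀ X : Subgroup ↥M24, Nat.card X = 3 → ∃ x : M24, X = Subgroup.zpowers x ∧
      orderOf (x : Equiv.Perm GolayPt) = 3 := by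
    intro X hX
    haveI : Fact (Nat.Prime 3) := ⟨Nat.prime_three⟩
    have : IsCyclic X := isCyclic_of_prime_card hX
    obtain ⟨x, hx⟩ := (Subgroup.isCyclic_iff_exists_zpowers_eq_top X).1 this
    refine ⟨x, hx.symm, ?_⟩
    rw [Subgroup.orderOf_coe, ← Nat.card_zpowers, hx, hX]
  have mk : ∀ n, (n = 0 ∨ n = 6) → ∃ X : Subgroup ↥M24, Nat.card X = 3 ∧
      {p : GolayPt | ∀ x ∈ X, ((x : ↥M24) : Equiv.Perm GolayPt) p = p}.ncard = n := by
    intro n hn
    obtain ⟨g, hg, h3, hc⟩ := exists_elt_three n hn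
    refine ⟨Subgroup.zpowers ⟨g, hg⟩, ?_, (ncard_fixed_zpowers _).trans hc⟩
    rw [Nat.card_zpowers, ← Subgroup.orderOf_coe]; exact h3
  refine ⟨fun X hX => ?_, mk 6 (Or.inr rfl), mk 0 (Or.inl rfl), fun X Y hX hY h => ?_⟩
  · obtain ⟨x, rfl, h3⟩ := gen X hX
    rw [ncard_fixed_zpowers]
    exact three_fix x.2 h3
  · obtain ⟨x, rfl, hx3⟩ := gen X hX
    obtain ⟨y, rfl, hy3⟩ := gen Y hY
    rw [ncard_fixed_zpowers, ncard_fixed_zpowers] at h
    obtain ⟨k, hk, e⟩ := conj_of_same_rep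
      (fun r hr => ((Bool.and_eq_true _ _).mp (List.all_eq_true.1 reps_three.1 r hr)).1)
      (by rw [reps_three.2]; decide) (exists_rep_three x.2 hx3) (exists_rep_three y.2 hy3) h
    refine ⟨⟨k, hk⟩, ?_⟩
    show (Subgroup.zpowers x).map (MulAut.conj (⟨k, hk⟩ : M24)).toMonoidHom = _
    rw [MonoidHom.map_zpowers]
    exact congrArg Subgroup.zpowers (Subtype.ext e)

/-! ### Fixed objects -/

theorem ncard_fixed_conj {β : Type*} [MulAction (Equiv.Perm GolayPt) β] {U : Set β}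
    (hU : ∀ g ∈ M24, ∀ y ∈ U, g • y ∈ U) {k : Equiv.Perm GolayPt} (hk : k ∈ M24) (g : Equiv.Perm GolayPt) :
    {y | y ∈ U ∧ (k * g * k⁻¹) • y = y}.ncard = {y | y ∈ U ∧ g • y = y}.ncard := by
  rw [← Set.ncard_smul_set k {y | y ∈ U ∧ g • y = y}]
  congr 1
  ext y
  rw [Set.mem_smul_set_iff_inv_smul_mem]
  simp only [Set.mem_ofPred_eq, mul_smul]
  constructor
  · rintro ⟨h1, h2⟩; exact ⟨hU _ (M24.inv_mem hk) y h1, smul_left_cancel k (by rw [h2, smul_inv_smul])⟩
  · rintro ⟨h1, h2⟩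
    exact ⟨smul_inv_smul k y ▸ hU k hk _ h1, by rw [h2, smul_inv_smul]⟩

/-- Fixed code words of a weight. -/
def fixWords (n c : ℕ) : ℕ := ((weightList n).filter fun m => permMask c m == m).length

theorem ncard_fixed_words {c : ℕ} (hc : isPermCode c = true) (n : ℕ) :
    {o | o ∈ wordsOfWeight (golayCode : Set (GolayPt → ZMod 2)) n ∧ permOf c • o = o}.ncard = fixWords n c := by
  refine ncard_weight_sep n (fun o => permOf c • o = o) (fun m => permMask c m == m) fun m hm => ?_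
  rw [smul_pts hc, beq_iff_eq]
  exact ⟨fun h => eq_of_pts_eq (permMask_lt hc m) (codeList_spec (List.mem_filter.1 hm).1).1 h, fun h => by rw [h]⟩

/-- Fixed members of a family certificate. -/
def fixFams (k w V N c : ℕ) : ℕ :=
  ((List.range N).filter fun i => famAct k (packTab c) (arrGet w V i) == arrGet w V i).length

theorem ncard_fixed_fams {k : ℕ} {gens : List ℕ} (o : OrbCert (famSet k) gens) {U : Set (Finset (Finset GolayPt))}
    (hU : U = o.all) (hok : famAllOk k o.w o.V o.lens.sum = true) {c : ℕ} (hc : tabCheck c (packTab c) = true)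
    (hcl : ((List.range o.lens.sum).all fun i => famOk k (famAct k (packTab c) (arrGet o.w o.V i))) = true) :
    {S | S ∈ U ∧ permOf c • S = S}.ncard = fixFams k o.w o.V o.lens.sum c := by
  simp only [famAllOk, List.all_eq_true, List.mem_range] at hok hcl
  have e : {S | S ∈ U ∧ permOf c • S = S} = o.val '' ↑((List.range o.lens.sum).filter fun i =>
      famAct k (packTab c) (arrGet o.w o.V i) == arrGet o.w o.V i).toFinset := by
    ext S
    simp only [hU, OrbCert.all, Set.mem_ofPred_eq, Set.mem_image, List.coe_toFinset, List.mem_filter,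
      List.mem_range, beq_iff_eq, Set.mem_Iio]
    constructor
    · rintro ⟨⟨i, hi, rfl⟩, h⟩
      refine ⟨i, ⟨hi, ?_⟩, rfl⟩
      rw [OrbCert.val, smul_famSet hc] at h
      exact famSet_injective (hcl i hi) (hok i hi) h
    · rintro ⟨i, ⟨hi, h⟩, rfl⟩
      exact ⟨⟨i, hi, rfl⟩, by rw [OrbCert.val, smul_famSet hc, h]⟩
  rw [e, Set.InjOn.ncard_image, Set.ncard_coe_finset, List.toFinset_card_of_nodup (List.nodup_range.filter _),
    fixFams]
  exact o.inj.mono fun i hi => by
    simp only [List.coe_toFinset, Set.mem_ofPred_eq, List.mem_filter, List.mem_range] at hi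
    exact hi.1

end CfsgLib.Spor
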