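/-
Subgroups of the Mathieu groups having the order of a point stabilizer are point stabilizers.
-/
import Mathlib
import Cfsg.Agent.Lib.Spor.ElementClasses
import Cfsg.Agent.Lib.Spor.M24Transitive
import Cfsg.Agent.Lib.Spor.M12
import Cfsg.Agent.Lib.Spor.StabFacts

set_option autoImplicit false

namespace CfsgLib.Spor.PointSub

open Cfsg MulAction
open scoped Pointwise

/-! ### Fixed points of elements of prime order -/

theorem card_univ_pts : (Finset.univ : Finset GolayPt).card = 24 := by decide +kernel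

/-- The points of `S` fixed by `x`. -/
def fixIn (x : Equiv.Perm GolayPt) (S : Finset GolayPt) : Finset GolayPt := S.filter fun q => x q = q

theorem mem_fixIn {x : Equiv.Perm GolayPt} {S : Finset GolayPt} {q : GolayPt} :
    q ∈ fixIn x S ↔ q ∈ S ∧ x q = q := Finset.mem_filter

theorem mem_fixSet {x : Equiv.Perm GolayPt} {q : GolayPt} : q ∈ fixSet x ↔ x q = q := by
  simp [fixSet]

theorem fixIn_subset (x : Equiv.Perm GolayPt) (S : Finset GolayPt) : fixIn x S ⊆ fixSet x :=
  fun _ hq => mem_fixSet.2 (mem_fixIn.1 hq).2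

theorem invariant_iff {x : Equiv.Perm GolayPt} {S : Finset GolayPt} (hS : ∀ q ∈ S, x q ∈ S) (q : GolayPt) :
    x q ∈ S ↔ q ∈ S := by
  refine ⟨fun h => ?_, hS q⟩
  have e : S.map x.toEmbedding = S :=
    Finset.eq_of_subset_of_card_le (fun r hr => by
      obtain ⟨s, hs, rfl⟩ := Finset.mem_map.1 hr
      exact hS s hs) (by rw [Finset.card_map])
  rw [← e] at h
  obtain ⟨s, hs, h'⟩ := Finset.mem_map.1 h
  exact x.injective h' ▸ hs

/-- On an invariant set a `p`-element fixes as many points as the set has, modulo `p`. -/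
theorem card_modEq {p : ℕ} [hp : Fact p.Prime] {x : Equiv.Perm GolayPt} (hx : x ^ p = 1)
    (S : Finset GolayPt) (hS : ∀ q ∈ S, x q ∈ S) : S.card % p = (fixIn x S).card % p := by
  classical
  let σ : Equiv.Perm {q // q ∈ S} := x.subtypePerm fun q => invariant_iff hS q
  have hσ : σ ^ p ^ 1 = 1 := by
    rw [pow_one, Equiv.Perm.subtypePerm_pow]
    ext q
    simp [hx]
  have h := Equiv.Perm.card_compl_support_modEq hσ
  rw [Fintype.card_coe] at h
  have e : σ.supportᶜ.map (Function.Embedding.subtype _) = fixIn x S := by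
    ext q
    simp [mem_fixIn, σ, and_comm]
  rw [← e, Finset.card_map]
  exact h.symm

/-- An element of prime order at least five fixes at most four points. -/
theorem fix_le_four {p : ℕ} [hp : Fact p.Prime] (hp5 : 5 ≤ p) {x : Equiv.Perm GolayPt} (hx : x ∈ M24)
    (ho : orderOf x = p) : (fixSet x).card ≤ 4 := by
  by_contra h5
  obtain ⟨t, ht, htc⟩ := Finset.exists_subset_card_eq (show 5 ≤ (fixSet x).card by omega)
  let e := t.equivFinOfCardEq htc
  let z : ℕ → GolayPt := fun i => if h : i < 5 then ((e.symm ⟨i, h⟩ : t) : GolayPt) else none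
  have hz : ∀ i < 5, z i ∈ fixSet x := fun i hi => by
    simp only [z, dif_pos hi]
    exact ht (e.symm ⟨i, hi⟩).2
  let K : Subgroup (Equiv.Perm GolayPt) := M24 ⊓ ⨅ j : Fin 5, stabilizer (Equiv.Perm GolayPt) (z j)
  have hK : Nat.card K = Nat.card (chainSub 5) :=
    card_pointStabilizer le_rfl z (fun i hi j hj h => by
      simp only [z, dif_pos hi, dif_pos hj] at h
      exact congrArg Fin.val (e.symm.injective (Subtype.ext h))) K
      fun g => by simp [K, Subgroup.mem_iInf, Fin.forall_iff]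
  have hxK : x ∈ K := by
    simp only [K, Subgroup.mem_inf, Subgroup.mem_iInf, mem_stabilizer_iff]
    exact ⟨hx, fun j => mem_fixSet.1 (hz j j.2)⟩
  have h48 : Nat.card (chainSub 5) = 48 := by
    rw [card_chainSub 5 (by norm_num)]; decide +kernel
  have hd : p ∣ 48 := by
    rw [← ho, ← h48, ← hK]
    exact Subgroup.orderOf_dvd_natCard K hxK
  have h3 : p ∣ 2 ^ 4 * 3 := hd
  rcases (Nat.Prime.dvd_mul hp.out).1 h3 with h | h
  · have := Nat.le_of_dvd (by norm_num) (hp.out.dvd_of_dvd_pow h); omega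
  · have := Nat.le_of_dvd (by norm_num) h; omega

theorem pow_orderOf_self {p : ℕ} {x : Equiv.Perm GolayPt} (ho : orderOf x = p) : x ^ p = 1 :=
  ho ▸ pow_orderOf_eq_one x

theorem fix_card {p : ℕ} [hp : Fact p.Prime] (hp5 : 5 ≤ p) {x : Equiv.Perm GolayPt} (hx : x ∈ M24)
    (ho : orderOf x = p) : (fixSet x).card = 24 % p := by
  have h := card_modEq (pow_orderOf_self ho) Finset.univ fun q _ => Finset.mem_univ _
  rw [card_univ_pts] at h
  have e : fixIn x Finset.univ = fixSet x := by ext q; simp [mem_fixIn, mem_fixSet]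
  rw [e] at h
  have h4 := fix_le_four hp5 hx ho
  rw [h, Nat.mod_eq_of_lt (by omega)]

theorem fix_le_eight {g : Equiv.Perm GolayPt} (hg : g ∈ M24) (h1 : g ≠ 1) : (fixSet g).card ≤ 8 := by
  set p := (orderOf g).minFac
  have hne : orderOf g ≠ 1 := fun h => h1 (orderOf_eq_one_iff.1 h)
  haveI hp : Fact p.Prime := ⟨Nat.minFac_prime hne⟩
  have hpos : 0 < orderOf g := orderOf_pos g
  set x := g ^ (orderOf g / p) with hxdef
  have hdvd : p ∣ orderOf g := Nat.minFac_dvd _
  have ho : orderOf x = p := orderOf_pow_orderOf_div hpos.ne' hdvd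
  have hx : x ∈ M24 := M24.pow_mem hg _
  have hsub : fixSet g ⊆ fixSet x := fun q hq => by
    rw [mem_fixSet] at hq ⊢
    exact Equiv.Perm.pow_apply_eq_self_of_apply_eq_self hq _
  refine (Finset.card_le_card hsub).trans ?_
  rcases Nat.lt_or_ge p 5 with h | h
  · have h2 := hp.out.two_le
    have h4 : p ≠ 4 := fun e => absurd (e ▸ hp.out) (by norm_num)
    rcases (show p = 2 ∨ p = 3 by omega) with e | e
    · rcases two_fix hx (e ▸ ho) with h | h
      · exact h.2.le
      · rw [h]; simp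
    · rcases three_fix hx (e ▸ ho) with h | h <;> omega
  · exact (fix_le_four h hx ho).trans (by norm_num)

/-- An element of prime order in a subgroup of order divisible by that prime. -/
theorem exists_order {H : Subgroup (Equiv.Perm GolayPt)} (p : ℕ) [Fact p.Prime] (h : p ∣ Nat.card H) :
    ∃ x ∈ H, orderOf x = p := by
  obtain ⟨x, hx⟩ := exists_prime_orderOf_dvd_card' p h
  exact ⟨x, x.2, by rw [Subgroup.orderOf_coe]; exact hx⟩

/-! ### Orbits -/

open Classical in
/-- The orbit of a point as a finite set. -/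
noncomputable def orbitF (H : Subgroup (Equiv.Perm GolayPt)) (a : GolayPt) : Finset GolayPt :=
  Finset.univ.filter fun q => ∃ h ∈ H, h a = q

theorem mem_orbitF {H : Subgroup (Equiv.Perm GolayPt)} {a q : GolayPt} :
    q ∈ orbitF H a ↔ ∃ h ∈ H, h a = q := by
  classical simp [orbitF]

theorem self_mem_orbitF (H : Subgroup (Equiv.Perm GolayPt)) (a : GolayPt) : a ∈ orbitF H a :=
  mem_orbitF.2 ⟨1, H.one_mem, rfl⟩

theorem orbitF_closed {H : Subgroup (Equiv.Perm GolayPt)} {a : GolayPt} {x : Equiv.Perm GolayPt}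
    (hx : x ∈ H) : ∀ q ∈ orbitF H a, x q ∈ orbitF H a := fun q hq => by
  obtain ⟨h, hh, rfl⟩ := mem_orbitF.1 hq
  exact mem_orbitF.2 ⟨x * h, H.mul_mem hx hh, rfl⟩

theorem compl_orbitF_closed {H : Subgroup (Equiv.Perm GolayPt)} {a : GolayPt} {x : Equiv.Perm GolayPt}
    (hx : x ∈ H) {U : Finset GolayPt} (hU : ∀ q ∈ U, x q ∈ U) :
    ∀ q ∈ U \ orbitF H a, x q ∈ U \ orbitF H a := fun q hq => by
  rw [Finset.mem_sdiff] at hq ⊢
  exact ⟨hU q hq.1, fun h => hq.2 ((invariant_iff (orbitF_closed hx) q).1 h)⟩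

theorem card_orbitF (H : Subgroup (Equiv.Perm GolayPt)) (a : GolayPt) :
    (orbitF H a).card * Nat.card ↥(H ⊓ stabilizer (Equiv.Perm GolayPt) a) = Nat.card H := by
  have h := Nat.card_congr (orbitProdStabilizerEquivGroup H a)
  rw [Nat.card_prod] at h
  have e1 : Nat.card (orbit H a) = (orbitF H a).card := by
    rw [Nat.card_coe_set_eq, ← Set.ncard_coe_finset]
    congr 1
    ext q
    rw [Finset.mem_coe, mem_orbitF, mem_orbit_iff]
    exact ⟨fun ⟨g, hg⟩ => ⟨g, g.2, hg⟩, fun ⟨g, hg, e⟩ => ⟨⟨g, hg⟩, e⟩⟩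
  have e2 : stabilizer H a = (H ⊓ stabilizer (Equiv.Perm GolayPt) a).subgroupOf H := by
    ext g
    simp [Subgroup.mem_subgroupOf]
    rfl
  rw [e1, e2, Nat.card_congr (Subgroup.subgroupOfEquivOfLe inf_le_left).toEquiv] at h
  exact h

theorem fixed_of_orbitF_one {H : Subgroup (Equiv.Perm GolayPt)} {a : GolayPt} (h : (orbitF H a).card = 1) :
    ∀ g ∈ H, g a = a := fun g hg => by
  obtain ⟨b, hb⟩ := Finset.card_eq_one.1 h
  have h1 := self_mem_orbitF H a
  have h2 := orbitF_closed hg a h1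
  rw [hb, Finset.mem_singleton] at h1 h2
  rw [h2, ← h1]

theorem orbitF_subset {H : Subgroup (Equiv.Perm GolayPt)} {a : GolayPt} {U : Finset GolayPt}
    (ha : a ∈ U) (hU : ∀ g ∈ H, ∀ q ∈ U, g q ∈ U) : orbitF H a ⊆ U := fun q hq => by
  obtain ⟨g, hg, rfl⟩ := mem_orbitF.1 hq
  exact hU g hg a ha

theorem mem_inf_stab {H : Subgroup (Equiv.Perm GolayPt)} {a : GolayPt} {g : Equiv.Perm GolayPt} :
    g ∈ H ⊓ stabilizer (Equiv.Perm GolayPt) a ↔ g ∈ H ∧ g a = a := by
  simp [Subgroup.mem_inf]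

theorem card_stab {H : Subgroup (Equiv.Perm GolayPt)} {a : GolayPt} {n m : ℕ} (h : (orbitF H a).card = n)
    (hc : Nat.card H = n * m) (hn : 0 < n) : Nat.card ↥(H ⊓ stabilizer (Equiv.Perm GolayPt) a) = m := by
  have := card_orbitF H a
  rw [h, hc] at this
  exact Nat.eq_of_mul_eq_mul_left hn this

/-- With `t` a set of fixed points of `x` and the total number known, a set disjoint from `t` has few fixed
points. -/
theorem fixIn_card_le {x : Equiv.Perm GolayPt} {S t : Finset GolayPt} (ht : ∀ q ∈ t, x q = q)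
    (hd : Disjoint t S) : (fixIn x S).card + t.card ≤ (fixSet x).card := by
  have hd' : Disjoint (fixIn x S) t := hd.symm.mono_left (Finset.filter_subset _ _)
  rw [← Finset.card_union_of_disjoint hd']
  exact Finset.card_le_card (Finset.union_subset (fixIn_subset x S) fun q hq => mem_fixSet.2 (ht q hq))

/-! ### Degree 24 -/

theorem commuting_involution {K : Subgroup (Equiv.Perm GolayPt)} (hK : Nat.card K = 40) :
    ∃ t ∈ K, ∃ y ∈ K, orderOf t = 2 ∧ orderOf y = 5 ∧ t * y = y * t := by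
  haveI : Fact (Nat.Prime 5) := ⟨by norm_num⟩
  haveI : Fact (Nat.Prime 2) := ⟨Nat.prime_two⟩
  let P : Sylow 5 K := default
  have hP : Nat.card P = 5 := by
    rw [P.card_eq_multiplicity, hK, show (40 : ℕ) = 5 * 8 from rfl, Nat.factorization_mul (by norm_num)
      (by norm_num), Finsupp.add_apply, Nat.Prime.factorization_self (by norm_num),
      Nat.factorization_eq_zero_of_not_dvd (by norm_num)]
    norm_num
  have hn : Nat.card (Sylow 5 K) = 1 := by
    have h1 := card_sylow_modEq_one 5 K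
    have h2 : Nat.card (Sylow 5 K) ∣ 8 := by
      have h3 := P.card_dvd_index
      have h4 := (P : Subgroup K).card_mul_index
      rw [show Nat.card (P : Subgroup K) = 5 from hP, hK] at h4
      rwa [show (P : Subgroup K).index = 8 by omega] at h3
    have h4 : ∀ n : ℕ, n ≤ 8 → n ∣ 8 → n % 5 = 1 → n = 1 := by decide
    exact h4 _ (Nat.le_of_dvd (by norm_num) h2) h2 h1
  haveI : Subsingleton (Sylow 5 K) := (Nat.card_eq_one_iff_unique.1 hn).1
  haveI : (P : Subgroup K).Normal := Sylow.normal_of_subsingleton P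
  haveI : IsCyclic (P : Subgroup K) := isCyclic_of_prime_card hP
  let f : K →* MulAut (P : Subgroup K) := MulAut.conjNormal
  have hf : Nat.card f.range ≤ 4 := by
    have h := IsCyclic.card_mulAut (P : Subgroup K)
    rw [show Nat.card (P : Subgroup K) = 5 from hP] at h
    have h' := Subgroup.card_le_card_group f.range
    rw [h, show Nat.totient 5 = 4 by decide] at h'
    exact h'
  have hmul := f.ker.card_mul_index
  rw [hK, Subgroup.index_ker] at hmul
  have hge : 10 ≤ Nat.card f.ker := by nlinarith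
  have hdk : Nat.card f.ker ∣ 40 := hK ▸ f.ker.card_subgroup_dvd_card
  have hev : ∀ n : ℕ, n ≤ 40 → 10 ≤ n → n ∣ 40 → 2 ∣ n := by decide
  obtain ⟨t, ht⟩ := exists_prime_orderOf_dvd_card' (G := f.ker) 2
    (hev _ (Nat.le_of_dvd (by norm_num) hdk) hge hdk)
  obtain ⟨y, hy⟩ := exists_prime_orderOf_dvd_card' (G := (P : Subgroup K)) 5 (by rw [show Nat.card (P : Subgroup K) = 5 from hP])
  refine ⟨((t : K) : Equiv.Perm GolayPt), (t : K).2, ((y : K) : Equiv.Perm GolayPt), (y : K).2, ?_, ?_, ?_⟩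
  · rw [Subgroup.orderOf_coe, Subgroup.orderOf_coe, ht]
  · rw [Subgroup.orderOf_coe, Subgroup.orderOf_coe, hy]
  · have h := DFunLike.congr_fun (MonoidHom.mem_ker.1 t.2) y
    have h' := congrArg (fun z : (P : Subgroup K) => ((z : K) : Equiv.Perm GolayPt)) h
    simp only [f, MulAut.conjNormal_apply, MulAut.one_apply, Subgroup.coe_mul, Subgroup.coe_inv] at h'
    exact mul_inv_eq_iff_eq_mul.1 h'

/-- A subgroup of the order of a point stabilizer fixes a point. -/
theorem fixes_point_24 {H : Subgroup (Equiv.Perm GolayPt)} (hH : H ≤ M24) (hc : Nat.card H = 10200960) :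
    ∃ u, ∀ g ∈ H, g u = u := by
  haveI : Fact (Nat.Prime 23) := ⟨by norm_num⟩
  haveI : Fact (Nat.Prime 11) := ⟨by norm_num⟩
  haveI : Fact (Nat.Prime 7) := ⟨by norm_num⟩
  haveI : Fact (Nat.Prime 5) := ⟨by norm_num⟩
  obtain ⟨c, hcH, hco⟩ := exists_order (H := H) 23 (by rw [hc]; norm_num)
  obtain ⟨u, hu⟩ := Finset.card_eq_one.1 (fix_card (by norm_num) (hH hcH) hco)
  refine ⟨u, fixed_of_orbitF_one ?_⟩
  have hcu : c u = u := mem_fixSet.1 (by rw [hu]; exact Finset.mem_singleton_self u)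
  have h1 := card_modEq (pow_orderOf_self hco) _ (orbitF_closed (a := u) hcH)
  have e : fixIn c (orbitF H u) = {u} := by
    ext q
    rw [mem_fixIn, Finset.mem_singleton]
    refine ⟨fun h => ?_, fun h => by subst h; exact ⟨self_mem_orbitF H q, hcu⟩⟩
    have : q ∈ fixSet c := mem_fixSet.2 h.2
    rwa [hu, Finset.mem_singleton] at this
  rw [e, Finset.card_singleton] at h1
  have h24 : (orbitF H u).card ≤ 24 := card_univ_pts ▸ Finset.card_le_univ _
  by_contra hne
  have hs : (orbitF H u).card = 24 := by omega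
  -- stabilizer of one point
  set H1 := H ⊓ stabilizer (Equiv.Perm GolayPt) u
  have c1 : Nat.card H1 = 425040 := card_stab hs (by rw [hc]) (by norm_num)
  have hH1 : H1 ≤ M24 := inf_le_left.trans hH
  have f1 : ∀ g ∈ H1, g u = u := fun g hg => (mem_inf_stab.1 hg).2
  obtain ⟨c', hc'H, hc'o⟩ := exists_order (H := H1) 23 (by rw [c1]; norm_num)
  obtain ⟨v, hv⟩ : ∃ v, v ≠ u := exists_ne u
  have hS2 : orbitF H1 v ⊆ Finset.univ.erase u := orbitF_subset (by simp [hv]) fun g hg q hq => by
    simp only [Finset.mem_erase, Finset.mem_univ, and_true] at hq ⊢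
    exact fun e => hq (g.injective (e.trans (f1 g hg).symm))
  have hs2 : (orbitF H1 v).card = 23 := by
    have h := card_modEq (pow_orderOf_self hc'o) _ (orbitF_closed (a := v) hc'H)
    have hle := fixIn_card_le (x := c') (S := orbitF H1 v) (t := {u})
      (fun q hq => by rw [Finset.mem_singleton] at hq; rw [hq]; exact f1 _ hc'H)
      (Finset.disjoint_singleton_left.2 fun h => by simpa using hS2 h)
    rw [fix_card (by norm_num) (hH1 hc'H) hc'o, Finset.card_singleton] at hle
    have hle2 := Finset.card_le_card hS2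
    rw [Finset.card_erase_of_mem (Finset.mem_univ u), card_univ_pts] at hle2
    have hpos := Finset.card_pos.2 ⟨_, self_mem_orbitF H1 v⟩
    omega
  set H2 := H1 ⊓ stabilizer (Equiv.Perm GolayPt) v
  have c2 : Nat.card H2 = 18480 := card_stab hs2 (by rw [c1]) (by norm_num)
  have hH2 : H2 ≤ M24 := inf_le_left.trans hH1
  have f2 : ∀ g ∈ H2, ∀ q ∈ ({u, v} : Finset GolayPt), g q = q := fun g hg q hq => by
    simp only [Finset.mem_insert, Finset.mem_singleton] at hq
    rcases hq with rfl | rfl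
    exacts [f1 g (mem_inf_stab.1 hg).1, (mem_inf_stab.1 hg).2]
  have k2 : ({u, v} : Finset GolayPt).card = 2 := Finset.card_pair hv.symm
  obtain ⟨w, -, hw⟩ := Finset.exists_mem_notMem_of_card_lt_card
    (s := ({u, v} : Finset GolayPt)) (t := Finset.univ) (by rw [k2, card_univ_pts]; norm_num)
  have sub : ∀ (K : Subgroup (Equiv.Perm GolayPt)) (t : Finset GolayPt) (a : GolayPt), a ∉ t →
      (∀ g ∈ K, ∀ q ∈ t, g q = q) → orbitF K a ⊆ tᶜ := fun K t a ha hfix =>
    orbitF_subset (Finset.mem_compl.2 ha) fun g hg q hq => Finset.mem_compl.2 fun h =>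
      Finset.mem_compl.1 hq (by
        have := hfix g hg (g q) h
        exact g.injective this ▸ h)
  have hS3 := sub H2 _ w hw f2
  have hd3 : Disjoint ({u, v} : Finset GolayPt) (orbitF H2 w) :=
    Finset.disjoint_left.2 fun q hq h => Finset.mem_compl.1 (hS3 h) hq
  obtain ⟨Q, hQH, hQo⟩ := exists_order (H := H2) 11 (by rw [c2]; norm_num)
  obtain ⟨R, hRH, hRo⟩ := exists_order (H := H2) 7 (by rw [c2]; norm_num)
  have hs3 : (orbitF H2 w).card = 22 := by
    have hq1 := card_modEq (pow_orderOf_self hQo) _ (orbitF_closed (a := w) hQH)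
    have hq2 := fixIn_card_le (fun q hq => f2 Q hQH q hq) hd3
    rw [fix_card (by norm_num) (hH2 hQH) hQo, k2] at hq2
    have hr1 := card_modEq (pow_orderOf_self hRo) _ (orbitF_closed (a := w) hRH)
    have hr2 := fixIn_card_le (fun q hq => f2 R hRH q hq) hd3
    rw [fix_card (by norm_num) (hH2 hRH) hRo, k2] at hr2
    have hle := Finset.card_le_card hS3
    rw [Finset.card_compl, k2, ← Finset.card_univ, card_univ_pts] at hle
    have hpos := Finset.card_pos.2 ⟨_, self_mem_orbitF H2 w⟩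
    omega
  set H3 := H2 ⊓ stabilizer (Equiv.Perm GolayPt) w
  have c3 : Nat.card H3 = 840 := card_stab hs3 (by rw [c2]) (by norm_num)
  have hH3 : H3 ≤ M24 := inf_le_left.trans hH2
  have f3 : ∀ g ∈ H3, ∀ q ∈ insert w ({u, v} : Finset GolayPt), g q = q := fun g hg q hq => by
    rcases Finset.mem_insert.1 hq with rfl | hq
    exacts [(mem_inf_stab.1 hg).2, f2 g (mem_inf_stab.1 hg).1 q hq]
  have k3 : (insert w ({u, v} : Finset GolayPt)).card = 3 := by rw [Finset.card_insert_of_notMem hw, k2]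
  obtain ⟨z, -, hz⟩ := Finset.exists_mem_notMem_of_card_lt_card
    (s := insert w ({u, v} : Finset GolayPt)) (t := Finset.univ) (by rw [k3, card_univ_pts]; norm_num)
  have hS4 := sub H3 _ z hz f3
  have hd4 : Disjoint (insert w ({u, v} : Finset GolayPt)) (orbitF H3 z) :=
    Finset.disjoint_left.2 fun q hq h => Finset.mem_compl.1 (hS4 h) hq
  obtain ⟨R', hR'H, hR'o⟩ := exists_order (H := H3) 7 (by rw [c3]; norm_num)
  obtain ⟨P, hPH, hPo⟩ := exists_order (H := H3) 5 (by rw [c3]; norm_num)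
  have hs4 : (orbitF H3 z).card = 21 := by
    have hq1 := card_modEq (pow_orderOf_self hR'o) _ (orbitF_closed (a := z) hR'H)
    have hq2 := fixIn_card_le (fun q hq => f3 R' hR'H q hq) hd4
    rw [fix_card (by norm_num) (hH3 hR'H) hR'o, k3] at hq2
    have hr1 := card_modEq (pow_orderOf_self hPo) _ (orbitF_closed (a := z) hPH)
    have hr2 := fixIn_card_le (fun q hq => f3 P hPH q hq) hd4
    rw [fix_card (by norm_num) (hH3 hPH) hPo, k3] at hr2
    have hle := Finset.card_le_card hS4
    rw [Finset.card_compl, k3, ← Finset.card_univ, card_univ_pts] at hle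
    have hpos := Finset.card_pos.2 ⟨_, self_mem_orbitF H3 z⟩
    have : (orbitF H3 z).card = 7 ∨ (orbitF H3 z).card = 14 ∨ (orbitF H3 z).card = 21 := by omega
    rcases this with e | e | e <;> simp only [e] at hr1 ⊢ <;> omega
  set H4 := H3 ⊓ stabilizer (Equiv.Perm GolayPt) z
  have c4 : Nat.card H4 = 40 := card_stab hs4 (by rw [c3]) (by norm_num)
  obtain ⟨t, htH, y, hyH, hto, hyo, hty⟩ := commuting_involution c4
  have hM : H4 ≤ M24 := inf_le_left.trans hH3
  set F := insert z (insert w ({u, v} : Finset GolayPt))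
  have f4 : ∀ g ∈ H4, ∀ q ∈ F, g q = q := fun g hg q hq => by
    rcases Finset.mem_insert.1 hq with rfl | hq
    exacts [(mem_inf_stab.1 hg).2, f3 g (mem_inf_stab.1 hg).1 q hq]
  have k4 : F.card = 4 := by rw [Finset.card_insert_of_notMem hz, k3]
  have hy4 : fixSet y = F := (Finset.eq_of_subset_of_card_le (fun q hq => mem_fixSet.2 (f4 y hyH q hq))
    (by rw [fix_card (by norm_num) (hM hyH) hyo, k4])).symm
  have ht8 : (fixSet t).card = 8 := by
    rcases two_fix (hM htH) hto with h | h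
    · exact h.2
    · have : z ∈ fixSet t := mem_fixSet.2 (f4 t htH z (Finset.mem_insert_self _ _))
      rw [h] at this
      simp at this
  have hinv : ∀ q ∈ fixSet t, y q ∈ fixSet t := fun q hq => by
    rw [mem_fixSet] at hq ⊢
    have := Equiv.Perm.ext_iff.1 hty q
    simp only [Equiv.Perm.mul_apply] at this
    rw [this, hq]
  have h5 := card_modEq (pow_orderOf_self hyo) _ hinv
  have e5 : fixIn y (fixSet t) = F := by
    ext q
    rw [mem_fixIn, mem_fixSet (x := t)]
    refine ⟨fun h => hy4 ▸ mem_fixSet.2 h.2, fun h => ⟨f4 t htH q h, f4 y hyH q h⟩⟩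
  rw [e5, k4, ht8] at h5
  norm_num at h5

/-! ### Degree 23 -/

/-- A subgroup of the order of a two-point stabilizer fixing a point fixes a second one. -/
theorem fixes_point_23 {H : Subgroup (Equiv.Perm GolayPt)} (hH : H ≤ M24) {a : GolayPt}
    (ha : ∀ g ∈ H, g a = a) (hc : Nat.card H = 443520) : ∃ u, u ≠ a ∧ ∀ g ∈ H, g u = u := by
  haveI : Fact (Nat.Prime 11) := ⟨by norm_num⟩
  haveI : Fact (Nat.Prime 7) := ⟨by norm_num⟩
  obtain ⟨Q, hQH, hQo⟩ := exists_order (H := H) 11 (by rw [hc]; norm_num)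
  obtain ⟨R, hRH, hRo⟩ := exists_order (H := H) 7 (by rw [hc]; norm_num)
  have hQ2 : (fixSet Q).card = 2 := fix_card (by norm_num) (hH hQH) hQo
  obtain ⟨x, hx, hxa⟩ := Finset.exists_mem_notMem_of_card_lt_card
    (s := ({a} : Finset GolayPt)) (t := fixSet Q) (by simp [hQ2])
  rw [Finset.mem_singleton] at hxa
  refine ⟨x, hxa, fixed_of_orbitF_one ?_⟩
  set U := Finset.univ.erase a
  have hU : ∀ g ∈ H, ∀ q ∈ U, g q ∈ U := fun g hg q hq => by
    simp only [U, Finset.mem_erase, Finset.mem_univ, and_true] at hq ⊢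
    exact fun e => hq (g.injective (e.trans (ha g hg).symm))
  have hS : orbitF H x ⊆ U := orbitF_subset (by simp [U, hxa]) hU
  have hUc : U.card = 23 := by
    rw [Finset.card_erase_of_mem (Finset.mem_univ a), card_univ_pts]
  have hdis : ∀ V : Finset GolayPt, V ⊆ U → Disjoint ({a} : Finset GolayPt) V := fun V hV =>
    Finset.disjoint_singleton_left.2 fun h => by simpa [U] using hV h
  have h1 := card_modEq (pow_orderOf_self hQo) _ (orbitF_closed (a := x) hQH)
  have h2 : 0 < (fixIn Q (orbitF H x)).card :=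
    Finset.card_pos.2 ⟨x, mem_fixIn.2 ⟨self_mem_orbitF H x, mem_fixSet.1 hx⟩⟩
  have h3 := fixIn_card_le (x := Q) (fun q hq => by rw [Finset.mem_singleton] at hq; rw [hq]; exact ha Q hQH)
    (hdis _ hS)
  rw [hQ2, Finset.card_singleton] at h3
  have hle := Finset.card_le_card hS
  have hdvd : (orbitF H x).card ∣ 443520 := hc ▸ ⟨_, (card_orbitF H x).symm⟩
  have h23 : (orbitF H x).card ≠ 23 := fun e => by rw [e] at hdvd; norm_num at hdvd
  by_contra hne
  have h12 : (orbitF H x).card = 12 := by omega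
  have hT := card_modEq (pow_orderOf_self hRo) _ (compl_orbitF_closed (a := x) hRH (hU R hRH))
  have hT2 := fixIn_card_le (x := R) (fun q hq => by rw [Finset.mem_singleton] at hq; rw [hq]; exact ha R hRH)
    (hdis (U \ orbitF H x) Finset.sdiff_subset)
  rw [fix_card (by norm_num) (hH hRH) hRo, Finset.card_singleton] at hT2
  rw [Finset.card_sdiff_of_subset hS, hUc, h12] at hT
  omega

/-! ### Degree 22 -/

/-- A large subgroup of order divisible by 5 and 7 but not 11 fixing two points fixes a third one. -/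
theorem fixes_third {n : ℕ} {H : Subgroup (Equiv.Perm GolayPt)} (hH : H ≤ M24) {a b : GolayPt} (hab : a ≠ b)
    (ha : ∀ g ∈ H, g a = a) (hb : ∀ g ∈ H, g b = b) (hc : Nat.card H = n) (h7 : 7 ∣ n) (h5 : 5 ∣ n)
    (h11 : ¬ 11 ∣ n) (hbig : 5040 < n) :
    ∃ u, u ≠ a ∧ u ≠ b ∧ ∀ g ∈ H, g u = u := by
  haveI : Fact (Nat.Prime 7) := ⟨by norm_num⟩
  haveI : Fact (Nat.Prime 5) := ⟨by norm_num⟩
  obtain ⟨R, hRH, hRo⟩ := exists_order (H := H) 7 (hc ▸ h7)
  obtain ⟨P, hPH, hPo⟩ := exists_order (H := H) 5 (hc ▸ h5)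
  have hR3 : (fixSet R).card = 3 := fix_card (by norm_num) (hH hRH) hRo
  have k2 : ({a, b} : Finset GolayPt).card = 2 := Finset.card_pair hab
  obtain ⟨x, hx, hxt⟩ := Finset.exists_mem_notMem_of_card_lt_card
    (s := ({a, b} : Finset GolayPt)) (t := fixSet R) (by rw [k2, hR3]; norm_num)
  simp only [Finset.mem_insert, Finset.mem_singleton, not_or] at hxt
  refine ⟨x, hxt.1, hxt.2, fixed_of_orbitF_one ?_⟩
  have hfix : ∀ g ∈ H, ∀ q ∈ ({a, b} : Finset GolayPt), g q = q := fun g hg q hq => by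
    simp only [Finset.mem_insert, Finset.mem_singleton] at hq
    rcases hq with rfl | rfl
    exacts [ha g hg, hb g hg]
  set U := ({a, b} : Finset GolayPt)ᶜ
  have hU : ∀ g ∈ H, ∀ q ∈ U, g q ∈ U := fun g hg q hq => Finset.mem_compl.2 fun h =>
    Finset.mem_compl.1 hq (g.injective (hfix g hg (g q) h) ▸ h)
  have hUc : U.card = 22 := by rw [Finset.card_compl, k2, ← Finset.card_univ, card_univ_pts]
  have hS : orbitF H x ⊆ U := orbitF_subset (Finset.mem_compl.2 (by simp [hxt.1, hxt.2])) hU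
  have hdis : ∀ V : Finset GolayPt, V ⊆ U → Disjoint ({a, b} : Finset GolayPt) V := fun V hV =>
    Finset.disjoint_left.2 fun q hq h => Finset.mem_compl.1 (hV h) hq
  have h1 := card_modEq (pow_orderOf_self hRo) _ (orbitF_closed (a := x) hRH)
  have h2 : 0 < (fixIn R (orbitF H x)).card :=
    Finset.card_pos.2 ⟨x, mem_fixIn.2 ⟨self_mem_orbitF H x, mem_fixSet.1 hx⟩⟩
  have h3 := fixIn_card_le (x := R) (hfix R hRH) (hdis _ hS)
  rw [hR3, k2] at h3
  have hdvd : (orbitF H x).card ∣ n := hc ▸ ⟨_, (card_orbitF H x).symm⟩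
  have h22 : (orbitF H x).card ≠ 22 := fun e => h11 ((by norm_num : (11 : ℕ) ∣ 22).trans (e ▸ hdvd))
  have hle := Finset.card_le_card hS
  by_contra hne
  have hcases : (orbitF H x).card = 8 ∨ (orbitF H x).card = 15 := by omega
  set T := U \ orbitF H x
  have hT : T.card = 22 - (orbitF H x).card := by rw [Finset.card_sdiff_of_subset hS, hUc]
  rcases hcases with h8 | h15
  · have hp1 := card_modEq (pow_orderOf_self hPo) _ (compl_orbitF_closed (a := x) hPH (hU P hPH))
    have hp2 := fixIn_card_le (x := P) (S := T) (hfix P hPH) (hdis _ Finset.sdiff_subset)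
    rw [fix_card (by norm_num) (hH hPH) hPo, k2] at hp2
    simp only [T, h8] at hp1 hp2 hT
    rw [hT] at hp1
    omega
  · have hinv : ∀ g ∈ H, ∀ q, g q ∈ T ↔ q ∈ T := fun g hg =>
      invariant_iff (compl_orbitF_closed (a := x) hg (hU g hg))
    let f : H →* Equiv.Perm {q // q ∈ T} :=
      { toFun := fun g => (g : Equiv.Perm GolayPt).subtypePerm (hinv g g.2)
        map_one' := by ext q; rfl
        map_mul' := fun g h => by ext q; rfl }
    have hinj : Function.Injective f := by
      rw [injective_iff_map_eq_one]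
      intro g hg
      by_contra h1
      have hne1 : (g : Equiv.Perm GolayPt) ≠ 1 := fun e => h1 (Subtype.ext e)
      have hsub : ({a, b} : Finset GolayPt) ∪ T ⊆ fixSet (g : Equiv.Perm GolayPt) := fun q hq => by
        rw [mem_fixSet]
        rcases Finset.mem_union.1 hq with hq | hq
        · exact hfix g g.2 q hq
        · exact congrArg Subtype.val (Equiv.Perm.ext_iff.1 hg ⟨q, hq⟩)
      have := (Finset.card_le_card hsub).trans (fix_le_eight (hH g.2) hne1)
      rw [Finset.card_union_of_disjoint (hdis _ Finset.sdiff_subset), k2] at this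
      simp only [T, h15] at this hT
      omega
    have h := Nat.card_le_card_of_injective f hinj
    rw [hc, Nat.card_perm, Nat.card_eq_fintype_card, Fintype.card_coe, hT, h15] at h
    norm_num [Nat.factorial] at h
    omega

/-- A subgroup of the order of a three-point stabilizer fixing two points fixes a third one. -/
theorem fixes_point_22 {H : Subgroup (Equiv.Perm GolayPt)} (hH : H ≤ M24) {a b : GolayPt} (hab : a ≠ b)
    (ha : ∀ g ∈ H, g a = a) (hb : ∀ g ∈ H, g b = b) (hc : Nat.card H = 20160) :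
    ∃ u, u ≠ a ∧ u ≠ b ∧ ∀ g ∈ H, g u = u :=
  fixes_third hH hab ha hb hc (by norm_num) (by norm_num) (by norm_num) (by norm_num)

/-! ### Inside the stabilizer of a dodecad -/

theorem smul_mem_dod {d : Finset GolayPt} {g : Equiv.Perm GolayPt} (hgd : g • d = d) :
    ∀ q ∈ d, g q ∈ d := fun q hq => by
  have : g • q ∈ g • d := Finset.smul_mem_smul_finset hq
  rwa [hgd] at this

theorem smul_mem_compl {d : Finset GolayPt} {g : Equiv.Perm GolayPt} (hgd : g • d = d) :
    ∀ q ∈ dᶜ, g q ∈ dᶜ := fun q hq => Finset.mem_compl.2 fun h =>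
  Finset.mem_compl.1 hq ((invariant_iff (smul_mem_dod hgd) q).1 h)

/-- Five fixed points in a fixed dodecad force the identity. -/
theorem eq_one_of_five_le {g : Equiv.Perm GolayPt} (hg : g ∈ M24) {d : Finset GolayPt} (hd : d ∈ dodecads)
    (hgd : g • d = d) (h : 5 ≤ (fixIn g d).card) : g = 1 := by
  obtain ⟨t, ht, htc⟩ := Finset.exists_subset_card_eq h
  let e := t.equivFinOfCardEq htc
  refine eq_one_of_five hg hd hgd ⟨fun i => (e.symm i : GolayPt), fun i j h => e.symm.injective (Subtype.ext h)⟩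
    (fun i => (mem_fixIn.1 (ht (e.symm i).2)).1) fun i => (mem_fixIn.1 (ht (e.symm i).2)).2

theorem fix_dod {p : ℕ} [hp : Fact p.Prime] (hp2 : 3 ≤ p) {x : Equiv.Perm GolayPt} (hx : x ∈ M24)
    (ho : orderOf x = p) {d : Finset GolayPt} (hd : d ∈ dodecads) (hxd : x • d = d) :
    (fixIn x d).card % p = 12 % p ∧ (fixIn x dᶜ).card % p = 12 % p ∧ (fixIn x d).card ≤ 4 ∧
      (fixIn x dᶜ).card ≤ 4 ∧ (fixIn x d).card + (fixIn x dᶜ).card = (fixSet x).card := by
  have hne : x ≠ 1 := fun e => by rw [e, orderOf_one] at ho; omega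
  have hd' := compl_mem_dodecads hd
  have hxd' : x • dᶜ = dᶜ := by
    ext q
    rw [← Finset.inv_smul_mem_iff, Finset.mem_compl, Finset.mem_compl, Finset.inv_smul_mem_iff, hxd]
  refine ⟨?_, ?_, ?_, ?_, ?_⟩
  · rw [← card_modEq (pow_orderOf_self ho) d (smul_mem_dod hxd), hd.2]
  · rw [← card_modEq (pow_orderOf_self ho) dᶜ (smul_mem_compl hxd), hd'.2]
  · by_contra h; exact hne (eq_one_of_five_le hx hd hxd (by omega))
  · by_contra h; exact hne (eq_one_of_five_le hx hd' hxd' (by omega))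
  · have hdis : Disjoint (fixIn x d) (fixIn x dᶜ) :=
      (disjoint_compl_right (a := d)).mono (Finset.filter_subset _ _) (Finset.filter_subset _ _)
    rw [← Finset.card_union_of_disjoint hdis]
    congr 1
    ext q
    simp only [Finset.mem_union, mem_fixIn, mem_fixSet, Finset.mem_compl]
    tauto

/-- A subgroup of order 660 of a dodecad-and-point stabilizer fixes a point outside the dodecad. -/
theorem fixes_outside {L : Subgroup (Equiv.Perm GolayPt)} (hL : L ≤ M24) {d : Finset GolayPt}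
    (hd : d ∈ dodecads) (hLd : ∀ g ∈ L, g • d = d) {a : GolayPt} (ha : a ∈ d) (hLa : ∀ g ∈ L, g a = a)
    (hc : Nat.card L = 660) : ∃ y ∈ dᶜ, ∀ g ∈ L, g y = y := by
  haveI : Fact (Nat.Prime 11) := ⟨by norm_num⟩
  haveI : Fact (Nat.Prime 3) := ⟨by norm_num⟩
  obtain ⟨Q, hQH, hQo⟩ := exists_order (H := L) 11 (by rw [hc]; norm_num)
  obtain ⟨-, hq2, -, hq4, -⟩ := fix_dod (by norm_num) (hL hQH) hQo hd (hLd Q hQH)
  obtain ⟨y, hy⟩ := Finset.card_eq_one.1 (show (fixIn Q dᶜ).card = 1 by omega)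
  have hy' := mem_fixIn.1 (show y ∈ fixIn Q dᶜ by rw [hy]; exact Finset.mem_singleton_self y)
  refine ⟨y, hy'.1, fixed_of_orbitF_one ?_⟩
  have hS : orbitF L y ⊆ dᶜ := orbitF_subset hy'.1 fun g hg => smul_mem_compl (hLd g hg)
  have h1 := card_modEq (pow_orderOf_self hQo) _ (orbitF_closed (a := y) hQH)
  have h2 : (fixIn Q (orbitF L y)).card ≤ 1 := by
    refine le_of_le_of_eq (Finset.card_le_card fun q hq => ?_) (hy ▸ Finset.card_singleton y)
    exact mem_fixIn.2 ⟨hS (mem_fixIn.1 hq).1, (mem_fixIn.1 hq).2⟩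
  have h3 : 0 < (fixIn Q (orbitF L y)).card :=
    Finset.card_pos.2 ⟨y, mem_fixIn.2 ⟨self_mem_orbitF L y, hy'.2⟩⟩
  have hle := Finset.card_le_card hS
  rw [(compl_mem_dodecads hd).2] at hle
  by_contra hne
  have h12 : (orbitF L y).card = 12 := by omega
  have hall : orbitF L y = dᶜ := Finset.eq_of_subset_of_card_le hS (by rw [(compl_mem_dodecads hd).2, h12])
  obtain ⟨t, htH, hto⟩ := exists_order (H := L) 3 (by rw [hc]; norm_num)
  obtain ⟨ht1, ht2, ht3, ht4, ht5⟩ := fix_dod (le_refl 3) (hL htH) hto hd (hLd t htH)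
  have hta : 0 < (fixIn t d).card := Finset.card_pos.2 ⟨a, mem_fixIn.2 ⟨ha, hLa t htH⟩⟩
  have h6 := three_fix (hL htH) hto
  obtain ⟨z, hz⟩ := Finset.card_pos.1 (show 0 < (fixIn t dᶜ).card by omega)
  obtain ⟨hzd, htz⟩ := mem_fixIn.1 hz
  rw [← hall] at hzd
  obtain ⟨g, hg, rfl⟩ := mem_orbitF.1 hzd
  have hcy := card_orbitF L y
  rw [h12, hc] at hcy
  have hmem : g⁻¹ * t * g ∈ L ⊓ stabilizer (Equiv.Perm GolayPt) y := by
    refine mem_inf_stab.2 ⟨L.mul_mem (L.mul_mem (L.inv_mem hg) htH) hg, ?_⟩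
    rw [Equiv.Perm.mul_apply, Equiv.Perm.mul_apply, htz, Equiv.Perm.inv_def, Equiv.symm_apply_apply]
  have ho' : orderOf (g⁻¹ * t * g) = 3 := by
    have := (MulAut.conj g⁻¹).orderOf_eq t
    simp only [MulAut.conj_apply, inv_inv] at this
    rw [this, hto]
  have h55 : Nat.card ↥(L ⊓ stabilizer (Equiv.Perm GolayPt) y) = 55 := by omega
  have hd3 := orderOf_dvd_natCard (⟨_, hmem⟩ : ↥(L ⊓ stabilizer (Equiv.Perm GolayPt) y))
  rw [Subgroup.orderOf_mk, ho', h55] at hd3
  norm_num at hd3

/-- The stabilizer of a dodecad, two points in it and a point outside moves every other point outside. -/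
theorem moves_outside {d : Finset GolayPt} (hd : d ∈ dodecads) {x z y w : GolayPt} (hx : x ∈ d) (hz : z ∈ d)
    (hxz : x ≠ z) (hy : y ∈ dᶜ) (hw : w ∈ dᶜ) (hyw : y ≠ w) (K : Subgroup (Equiv.Perm GolayPt)) (hK : K ≤ M24)
    (hKd : ∀ g ∈ K, g • d = d) (hKx : ∀ g ∈ K, g x = x) (hKz : ∀ g ∈ K, g z = z) (hKy : ∀ g ∈ K, g y = y)
    (hc : Nat.card K = 60) : ∃ g ∈ K, g w ≠ w := by
  by_contra hKw
  push Not at hKw
  haveI : Fact (Nat.Prime 5) := ⟨by norm_num⟩
  haveI : Fact (Nat.Prime 3) := ⟨by norm_num⟩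
  rw [Finset.mem_compl] at hy hw
  obtain ⟨t, htH, hto⟩ := exists_order (H := K) 3 (by rw [hc]; norm_num)
  obtain ⟨P, hPH, hPo⟩ := exists_order (H := K) 5 (by rw [hc]; norm_num)
  obtain ⟨ht1, -, ht3, -, -⟩ := fix_dod (le_refl 3) (hK htH) hto hd (hKd t htH)
  set A : Finset GolayPt := {x, z}
  have hA : A.card = 2 := Finset.card_pair hxz
  have hAd : A ⊆ d := Finset.insert_subset hx (Finset.singleton_subset_iff.2 hz)
  have hfA : ∀ g ∈ K, ∀ q ∈ A, g q = q := fun g hg q hq => by
    simp only [A, Finset.mem_insert, Finset.mem_singleton] at hq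
    rcases hq with rfl | rfl
    exacts [hKx g hg, hKz g hg]
  have hAle : A.card ≤ (fixIn t d).card :=
    Finset.card_le_card fun q hq => mem_fixIn.2 ⟨hAd hq, hfA t htH q hq⟩
  have ht : (fixIn t d).card = 3 := by omega
  obtain ⟨q, hq, hqA⟩ := Finset.exists_mem_notMem_of_card_lt_card (s := A) (t := fixIn t d) (by omega)
  obtain ⟨hqd, htq⟩ := mem_fixIn.1 hq
  simp only [A, Finset.mem_insert, Finset.mem_singleton, not_or] at hqA
  set B : Finset GolayPt := {x, z, y, w}
  have hfB : ∀ g ∈ K, ∀ r ∈ B, g r = r := fun g hg r hr => by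
    simp only [B, Finset.mem_insert, Finset.mem_singleton] at hr
    rcases hr with rfl | rfl | rfl | rfl
    exacts [hKx g hg, hKz g hg, hKy g hg, hKw g hg]
  have hne : ∀ r s : GolayPt, r ∈ d → s ∉ d → r ≠ s := fun r s h1 h2 e => h2 (e ▸ h1)
  have hB : B.card = 4 := by
    simp [B, hxz, hne x y hx hy, hne x w hx hw, hne z y hz hy, hne z w hz hw, hyw]
  have hqB : q ∉ B := by
    simp [B, hqA.1, hqA.2, hne q y hqd hy, hne q w hqd hw]
  obtain ⟨o, ho, hsub⟩ := exists_octad_superset (s := insert q B) (by rw [Finset.card_insert_of_notMem hqB, hB])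
  have hBo : B ⊆ o := (Finset.subset_insert _ _).trans hsub
  have hqo : q ∈ o := hsub (Finset.mem_insert_self _ _)
  -- the element of order three fixes the octad
  have hto' : t • o = o := octad_eq_of_five (smul_mem_octads (hK htH) ho) ho (by
    rw [show 5 = (insert q B).card by rw [Finset.card_insert_of_notMem hqB, hB]]
    refine Finset.card_le_card fun r hr => Finset.mem_inter.2 ⟨?_, hsub hr⟩
    have htr : t r = r := by
      rcases Finset.mem_insert.1 hr with rfl | hr
      exacts [htq, hfB t htH r hr]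
    rw [← htr]
    exact Finset.smul_mem_smul_finset (hsub hr))
  set C := (o ∩ d) \ A
  have hCeven : C.card % 2 = 0 := by
    obtain ⟨⟨v, hv, rfl⟩, -⟩ := ho
    obtain ⟨⟨v', hv', rfl⟩, -⟩ := hd
    have h0 := golayCode_self_orthogonal hv hv'
    have e : ∀ i, v i * v' i = if i ∈ support₂ v ∩ support₂ v' then 1 else 0 := fun i => by
      have hh : ∀ a : ZMod 2, a = 0 ∨ a = 1 := by decide
      rcases hh (v i) with h | h <;> rcases hh (v' i) with h' | h' <;>
        simp [h, h', support₂]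
    rw [Finset.sum_congr rfl fun i _ => e i, Finset.sum_boole, Finset.filter_mem_eq_inter, Finset.univ_inter,
      ZMod.natCast_eq_zero_iff_even, Nat.even_iff] at h0
    have hsubA : A ⊆ support₂ v ∩ support₂ v' := Finset.subset_inter
      (fun r hr => hBo (by simp only [A, B, Finset.mem_insert, Finset.mem_singleton] at hr ⊢; tauto)) hAd
    show ((support₂ v ∩ support₂ v') \ A).card % 2 = 0
    rw [Finset.card_sdiff_of_subset hsubA, hA]
    omega
  have hqC : q ∈ C := Finset.mem_sdiff.2 ⟨Finset.mem_inter.2 ⟨hqo, hqd⟩, by simp [A, hqA.1, hqA.2]⟩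
  -- the five images of the octad under the element of order five
  have hPM := hK hPH
  have hfixP : fixSet P = B := (Finset.eq_of_subset_of_card_le (fun r hr => mem_fixSet.2 (hfB P hPH r hr))
    (by rw [fix_card (le_refl 5) hPM hPo, hB])).symm
  let oi : ℕ → Finset GolayPt := fun i => (P ^ i) • o
  have hoi : ∀ i, oi i ∈ octads := fun i => smul_mem_octads (M24.pow_mem hPM i) ho
  have hBi : ∀ i, B ⊆ oi i := fun i r hr => by
    have : (P ^ i) r = r := Equiv.Perm.pow_apply_eq_self_of_apply_eq_self (hfB P hPH r hr) i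
    rw [← this]
    exact Finset.smul_mem_smul_finset (hBo hr)
  have hdist : ∀ i < 5, ∀ j < 5, oi i = oi j → i = j := by
    intro i hi j hj e
    by_contra hij
    have hd5 : ∃ k, 0 < k ∧ k < 5 ∧ (P ^ k) • o = o := by
      rcases Nat.lt_or_ge i j with h | h
      · refine ⟨j - i, by omega, by omega, ?_⟩
        have : P ^ j = P ^ i * P ^ (j - i) := by rw [← pow_add]; congr 1; omega
        simp only [oi, this, mul_smul] at e
        exact (smul_left_cancel _ e).symm
      · refine ⟨i - j, by omega, by omega, ?_⟩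
        have : P ^ i = P ^ j * P ^ (i - j) := by rw [← pow_add]; congr 1; omega
        simp only [oi, this, mul_smul] at e
        exact smul_left_cancel _ e
    obtain ⟨k, hk0, hk5, hk⟩ := hd5
    have hPk : orderOf (P ^ k) = 5 := by
      rw [orderOf_pow' _ hk0.ne', hPo, Nat.Coprime.gcd_eq_one (by interval_cases k <;> decide), Nat.div_one]
    have hrest : ∀ r ∈ o \ B, (P ^ k) r ∈ o \ B := fun r hr => by
      rw [Finset.mem_sdiff] at hr ⊢
      refine ⟨?_, fun h => hr.2 ?_⟩
      · rw [← hk]; exact Finset.smul_mem_smul_finset hr.1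
      · have := hfB _ (K.pow_mem hPH k) _ h
        exact (P ^ k).injective this ▸ h
    have h5 := card_modEq (pow_orderOf_self hPk) _ hrest
    rw [Finset.card_sdiff_of_subset hBo, hB, ho.2] at h5
    have he : fixIn (P ^ k) (o \ B) = ∅ := Finset.eq_empty_of_forall_notMem fun r hr => by
      obtain ⟨hr1, hr2⟩ := mem_fixIn.1 hr
      have hle := fix_card (le_refl 5) (M24.pow_mem hPM k) hPk
      have hsubB : B ⊆ fixSet (P ^ k) := fun s hs => mem_fixSet.2 (hfB _ (K.pow_mem hPH k) s hs)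
      have hBeq := Finset.eq_of_subset_of_card_le hsubB (by rw [hle, hB])
      exact (Finset.mem_sdiff.1 hr1).2 (hBeq ▸ mem_fixSet.2 hr2)
    rw [he] at h5
    simp at h5
  let Ci : ℕ → Finset GolayPt := fun i => (oi i ∩ d) \ A
  have hCi : ∀ i, (Ci i).card = C.card := fun i => by
    have e : Ci i = (P ^ i) • C := by
      have hPd : (P ^ i) • d = d := hKd _ (K.pow_mem hPH i)
      have hPA : (P ^ i) • A = A := by
        ext r
        rw [← Finset.inv_smul_mem_iff]
        constructor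
        · intro h
          have := hfA _ (K.pow_mem hPH i) _ h
          simp only [Equiv.Perm.smul_def, Equiv.Perm.inv_def, Equiv.apply_symm_apply] at this h
          exact this.symm ▸ h
        · intro h
          have := hfA _ (K.pow_mem hPH i) _ h
          rw [Equiv.Perm.smul_def, show (P ^ i)⁻¹ r = r by rw [Equiv.Perm.inv_eq_iff_eq, this]]
          exact h
      simp only [Ci, C, oi]
      rw [Finset.smul_finset_sdiff, Finset.smul_finset_inter, hPd, hPA]
    rw [e, Finset.card_smul_finset]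
  have hCdisj : ∀ i ∈ Finset.range 5, ∀ j ∈ Finset.range 5, i ≠ j → Disjoint (Ci i) (Ci j) := by
    intro i hi j hj hij
    rw [Finset.mem_range] at hi hj
    refine Finset.disjoint_left.2 fun r h1 h2 => hij (hdist i hi j hj ?_)
    simp only [Ci, Finset.mem_sdiff, Finset.mem_inter] at h1 h2
    have hrB : r ∉ B := by
      simp only [B, A, Finset.mem_insert, Finset.mem_singleton, not_or] at h1 ⊢
      exact ⟨h1.2.1, h1.2.2, hne r y h1.1.2 hy, hne r w h1.1.2 hw⟩
    refine octad_eq_of_five (hoi i) (hoi j) ?_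
    rw [show 5 = (insert r B).card by rw [Finset.card_insert_of_notMem hrB, hB]]
    exact Finset.card_le_card fun s hs => by
      rcases Finset.mem_insert.1 hs with rfl | hs
      · exact Finset.mem_inter.2 ⟨h1.1.1, h2.1.1⟩
      · exact Finset.mem_inter.2 ⟨hBi i hs, hBi j hs⟩
  have hten : 5 * C.card ≤ 10 := by
    have h := Finset.card_le_card (show (Finset.range 5).biUnion Ci ⊆ d \ A from fun r hr => by
      simp only [Finset.mem_biUnion, Ci, Finset.mem_sdiff, Finset.mem_inter] at hr ⊢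
      obtain ⟨i, -, h⟩ := hr
      exact ⟨h.1.2, h.2⟩)
    rw [Finset.card_biUnion hCdisj, Finset.card_sdiff_of_subset hAd, hd.2, hA,
      Finset.sum_congr rfl fun i _ => hCi i, Finset.sum_const, Finset.card_range, smul_eq_mul] at h
    exact h
  have hC2 : C.card = 2 := by
    have := Finset.card_pos.2 ⟨q, hqC⟩
    omega
  -- the element of order three fixes both points of `C`
  have hCinv : ∀ r ∈ C, t r ∈ C := fun r hr => by
    simp only [C, Finset.mem_sdiff, Finset.mem_inter] at hr ⊢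
    refine ⟨⟨?_, smul_mem_dod (hKd t htH) r hr.1.2⟩, fun h => hr.2 ?_⟩
    · rw [← hto']; exact Finset.smul_mem_smul_finset hr.1.1
    · exact t.injective (hfA t htH _ h) ▸ h
  have hfC := card_modEq (pow_orderOf_self hto) C hCinv
  have hdisj : fixIn t C ∪ A ⊆ fixIn t d := Finset.union_subset
    (fun r hr => mem_fixIn.2 ⟨(Finset.mem_inter.1 (Finset.mem_sdiff.1 (mem_fixIn.1 hr).1).1).2, (mem_fixIn.1 hr).2⟩)
    (fun r hr => mem_fixIn.2 ⟨hAd hr, hfA t htH r hr⟩)
  have hle := Finset.card_le_card hdisj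
  have hd' : Disjoint (fixIn t C) A :=
    (Finset.sdiff_disjoint.mono_left (Finset.filter_subset _ _))
  rw [Finset.card_union_of_disjoint hd', hA, ht] at hle
  omega

/-- A subgroup of the order of a point stabilizer of a dodecad stabilizer fixes a point. -/
theorem fixes_point_12 {H : Subgroup (Equiv.Perm GolayPt)} (hH : H ≤ M24) {d : Finset GolayPt}
    (hd : d ∈ dodecads) (hHd : ∀ g ∈ H, g • d = d) (hc : Nat.card H = 7920) : ∃ u, ∀ g ∈ H, g u = u := by
  haveI : Fact (Nat.Prime 11) := ⟨by norm_num⟩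
  obtain ⟨Q, hQH, hQo⟩ := exists_order (H := H) 11 (by rw [hc]; norm_num)
  obtain ⟨hq1, hq2, hq3, hq4, -⟩ := fix_dod (by norm_num) (hH hQH) hQo hd (hHd Q hQH)
  obtain ⟨x, hx⟩ := Finset.card_eq_one.1 (show (fixIn Q d).card = 1 by omega)
  obtain ⟨y, hy⟩ := Finset.card_eq_one.1 (show (fixIn Q dᶜ).card = 1 by omega)
  have hx' := mem_fixIn.1 (show x ∈ fixIn Q d by rw [hx]; exact Finset.mem_singleton_self x)
  have hy' := mem_fixIn.1 (show y ∈ fixIn Q dᶜ by rw [hy]; exact Finset.mem_singleton_self y)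
  by_contra hno
  push Not at hno
  -- both orbits are full
  have full : ∀ (D : Finset GolayPt) (p : GolayPt), D.card = 12 → p ∈ D → fixIn Q D = {p} →
      (∀ g ∈ H, ∀ q ∈ D, g q ∈ D) → orbitF H p = D := by
    intro D p hD hp hfix hinv
    have hS := orbitF_subset hp hinv
    have h1 := card_modEq (pow_orderOf_self hQo) _ (orbitF_closed (a := p) hQH)
    have e : fixIn Q (orbitF H p) = {p} := by
      refine Finset.Subset.antisymm (hfix ▸ Finset.filter_subset_filter _ hS) ?_
      rw [Finset.singleton_subset_iff]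
      exact mem_fixIn.2 ⟨self_mem_orbitF H p,
        (mem_fixIn.1 (show p ∈ fixIn Q D by rw [hfix]; exact Finset.mem_singleton_self p)).2⟩
    rw [e, Finset.card_singleton] at h1
    have hne : (orbitF H p).card ≠ 1 := fun e1 => by
      obtain ⟨g, hg, hgp⟩ := hno p
      exact hgp (fixed_of_orbitF_one e1 g hg)
    have hle := Finset.card_le_card hS
    exact Finset.eq_of_subset_of_card_le hS (by omega)
  have hOx := full d x hd.2 hx'.1 hx fun g hg => smul_mem_dod (hHd g hg)
  have hOy := full dᶜ y (compl_mem_dodecads hd).2 hy'.1 hy fun g hg => smul_mem_compl (hHd g hg)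
  have c1 : Nat.card ↥(H ⊓ stabilizer (Equiv.Perm GolayPt) x) = 660 := by
    have := card_orbitF H x; rw [hOx, hd.2, hc] at this; omega
  have c2 : Nat.card ↥(H ⊓ stabilizer (Equiv.Perm GolayPt) y) = 660 := by
    have := card_orbitF H y; rw [hOy, (compl_mem_dodecads hd).2, hc] at this; omega
  obtain ⟨y', hy'd, hfixy⟩ := fixes_outside (inf_le_left.trans hH) hd (fun g hg => hHd g (mem_inf_stab.1 hg).1)
    hx'.1 (fun g hg => (mem_inf_stab.1 hg).2) c1
  have hQx : Q ∈ H ⊓ stabilizer (Equiv.Perm GolayPt) x := mem_inf_stab.2 ⟨hQH, hx'.2⟩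
  have e : y' = y := by
    have : y' ∈ fixIn Q dᶜ := mem_fixIn.2 ⟨hy'd, hfixy Q hQx⟩
    rwa [hy, Finset.mem_singleton] at this
  subst e
  have hle : H ⊓ stabilizer (Equiv.Perm GolayPt) x ≤ H ⊓ stabilizer (Equiv.Perm GolayPt) y' :=
    fun g hg => mem_inf_stab.2 ⟨(mem_inf_stab.1 hg).1, hfixy g hg⟩
  have heq := Subgroup.eq_of_le_of_card_ge hle (by rw [c1, c2])
  -- a second point
  obtain ⟨z, hz, hzx⟩ := Finset.exists_mem_ne (show 1 < d.card by rw [hd.2]; norm_num) x
  have hzO : z ∈ orbitF H x := hOx.symm ▸ hz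
  obtain ⟨h, hh, hhx⟩ := mem_orbitF.1 hzO
  have hw : h y' ≠ y' := fun e => by
    have : h ∈ H ⊓ stabilizer (Equiv.Perm GolayPt) x := heq.symm ▸ mem_inf_stab.2 ⟨hh, e⟩
    exact hzx (hhx ▸ (mem_inf_stab.1 this).2)
  set H1 := H ⊓ stabilizer (Equiv.Perm GolayPt) x
  have hS1 : orbitF H1 z ⊆ d.erase x := orbitF_subset (Finset.mem_erase.2 ⟨hzx, hz⟩) fun g hg q hq => by
    rw [Finset.mem_erase] at hq ⊢
    exact ⟨fun e => hq.1 (g.injective (e.trans (mem_inf_stab.1 hg).2.symm)),
      smul_mem_dod (hHd g (mem_inf_stab.1 hg).1) q hq.2⟩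
  have hs1 : (orbitF H1 z).card = 11 := by
    have h1 := card_modEq (pow_orderOf_self hQo) _ (orbitF_closed (a := z) hQx)
    have e : fixIn Q (orbitF H1 z) = ∅ := Finset.eq_empty_of_forall_notMem fun q hq => by
      obtain ⟨h1, h2⟩ := mem_fixIn.1 hq
      have := Finset.mem_erase.1 (hS1 h1)
      have hq' : q ∈ fixIn Q d := mem_fixIn.2 ⟨this.2, h2⟩
      rw [hx, Finset.mem_singleton] at hq'
      exact this.1 hq'
    rw [e, Finset.card_empty] at h1
    have hle := Finset.card_le_card hS1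
    rw [Finset.card_erase_of_mem hx'.1, hd.2] at hle
    have hpos := Finset.card_pos.2 ⟨_, self_mem_orbitF H1 z⟩
    omega
  have c3 : Nat.card ↥(H1 ⊓ stabilizer (Equiv.Perm GolayPt) z) = 60 := by
    have := card_orbitF H1 z; rw [hs1, c1] at this; omega
  have hwd : h y' ∈ dᶜ := smul_mem_compl (hHd h hh) y' hy'.1
  obtain ⟨g, hg, hgw⟩ := moves_outside hd hx'.1 hz hzx.symm hy'.1 hwd hw.symm
    (H1 ⊓ stabilizer (Equiv.Perm GolayPt) z) ((inf_le_left.trans inf_le_left).trans hH)
    (fun g hg => hHd g (mem_inf_stab.1 (mem_inf_stab.1 hg).1).1)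
    (fun g hg => (mem_inf_stab.1 (mem_inf_stab.1 hg).1).2) (fun g hg => (mem_inf_stab.1 hg).2)
    (fun g hg => hfixy g (mem_inf_stab.1 hg).1) c3
  obtain ⟨hg1, hgz⟩ := mem_inf_stab.1 hg
  have hconj : h⁻¹ * g * h ∈ H1 := by
    refine mem_inf_stab.2 ⟨H.mul_mem (H.mul_mem (H.inv_mem hh) (mem_inf_stab.1 hg1).1) hh, ?_⟩
    rw [Equiv.Perm.mul_apply, Equiv.Perm.mul_apply, hhx, hgz, Equiv.Perm.inv_eq_iff_eq, hhx]
  have := hfixy _ hconj
  rw [Equiv.Perm.mul_apply, Equiv.Perm.mul_apply, Equiv.Perm.inv_eq_iff_eq] at this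
  exact hgw this

/-- A subgroup of order 720 fixing a dodecad and a point of it fixes a second point of it. -/
theorem fixes_point_11 {H : Subgroup (Equiv.Perm GolayPt)} (hH : H ≤ M24) {d : Finset GolayPt}
    (hd : d ∈ dodecads) (hHd : ∀ g ∈ H, g • d = d) {a : GolayPt} (ha : a ∈ d) (hHa : ∀ g ∈ H, g a = a)
    (hc : Nat.card H = 720) : ∃ u ∈ d, u ≠ a ∧ ∀ g ∈ H, g u = u := by
  haveI : Fact (Nat.Prime 5) := ⟨by norm_num⟩
  obtain ⟨P, hPH, hPo⟩ := exists_order (H := H) 5 (by rw [hc]; norm_num)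
  obtain ⟨hp1, -, hp3, -, -⟩ := fix_dod (by norm_num) (hH hPH) hPo hd (hHd P hPH)
  have hP2 : (fixIn P d).card = 2 := by omega
  obtain ⟨x, hx, hxa⟩ := Finset.exists_mem_notMem_of_card_lt_card (s := ({a} : Finset GolayPt))
    (t := fixIn P d) (by simp [hP2])
  rw [Finset.mem_singleton] at hxa
  obtain ⟨hxd, hPx⟩ := mem_fixIn.1 hx
  refine ⟨x, hxd, hxa, fixed_of_orbitF_one ?_⟩
  set U := d.erase a
  have hU : ∀ g ∈ H, ∀ q ∈ U, g q ∈ U := fun g hg q hq => by
    rw [Finset.mem_erase] at hq ⊢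
    exact ⟨fun e => hq.1 (g.injective (e.trans (hHa g hg).symm)), smul_mem_dod (hHd g hg) q hq.2⟩
  have hS : orbitF H x ⊆ U := orbitF_subset (Finset.mem_erase.2 ⟨hxa, hxd⟩) hU
  have hUc : U.card = 11 := by rw [Finset.card_erase_of_mem ha, hd.2]
  have h1 := card_modEq (pow_orderOf_self hPo) _ (orbitF_closed (a := x) hPH)
  have e : fixIn P (orbitF H x) = {x} := by
    refine (Finset.eq_of_subset_of_card_le
      (Finset.singleton_subset_iff.2 (mem_fixIn.2 ⟨self_mem_orbitF H x, hPx⟩)) ?_).symm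
    have : insert a (fixIn P (orbitF H x)) ⊆ fixIn P d := Finset.insert_subset
      (mem_fixIn.2 ⟨ha, hHa P hPH⟩)
      (fun q hq => mem_fixIn.2 ⟨(Finset.mem_erase.1 (hS (mem_fixIn.1 hq).1)).2, (mem_fixIn.1 hq).2⟩)
    have hle := Finset.card_le_card this
    rw [Finset.card_insert_of_notMem fun h => by simpa [U] using hS (mem_fixIn.1 h).1, hP2] at hle
    rw [Finset.card_singleton]
    omega
  rw [e, Finset.card_singleton] at h1
  have hle := Finset.card_le_card hS
  have hdvd : (orbitF H x).card ∣ 720 := hc ▸ ⟨_, (card_orbitF H x).symm⟩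
  have h11 : (orbitF H x).card ≠ 11 := fun e => by rw [e] at hdvd; norm_num at hdvd
  by_contra hne
  have h6 : (orbitF H x).card = 6 := by omega
  set T := U \ orbitF H x
  have hT : T.card = 5 := by rw [Finset.card_sdiff_of_subset hS, hUc, h6]
  have hinv : ∀ g ∈ H, ∀ q, g q ∈ T ↔ q ∈ T := fun g hg =>
    invariant_iff (compl_orbitF_closed (a := x) hg (hU g hg))
  let f : H →* Equiv.Perm {q // q ∈ T} :=
    { toFun := fun g => (g : Equiv.Perm GolayPt).subtypePerm (hinv g g.2)
      map_one' := by ext q; rfl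
      map_mul' := fun g h => by ext q; rfl }
  have hinj : Function.Injective f := by
    rw [injective_iff_map_eq_one]
    intro g hg
    have hsub : insert a T ⊆ fixIn (g : Equiv.Perm GolayPt) d := fun q hq => by
      rcases Finset.mem_insert.1 hq with rfl | hq
      · exact mem_fixIn.2 ⟨ha, hHa g g.2⟩
      · exact mem_fixIn.2 ⟨(Finset.mem_erase.1 (Finset.sdiff_subset hq)).2,
          congrArg Subtype.val (Equiv.Perm.ext_iff.1 hg ⟨q, hq⟩)⟩
    have := Finset.card_le_card hsub
    rw [Finset.card_insert_of_notMem fun h => by simpa [U] using Finset.sdiff_subset h, hT] at this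
    exact Subtype.ext (eq_one_of_five_le (hH g.2) hd (hHd g g.2) (by omega))
  have h := Nat.card_le_card_of_injective f hinj
  rw [hc, Nat.card_perm, Nat.card_eq_fintype_card, Fintype.card_coe, hT] at h
  norm_num [Nat.factorial] at h

end CfsgLib.Spor.PointSub
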