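/-
Automorphisms of the Mathieu groups: each one is induced by a permutation of the points, and the normalizers are
known.
-/
import Mathlib
import Cfsg.Agent.Lib.Spor.PointSubgroups
import Cfsg.Agent.Lib.Spor.MathieuPairs
import Cfsg.Agent.Lib.Spor.M24Aut
import Cfsg.Agent.Lib.Spor.OuterAutData
import Cfsg.Prelude.Def_KGroupFacts

set_option autoImplicit false

namespace CfsgLib.Spor.OuterAut

open Cfsg MulAction PointSub
open scoped Pointwise

/-! ### Automorphisms from permutations -/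

/-- An automorphism matching the stabilizer of `a` with that of `b` is induced by a permutation. -/
theorem exists_perm {G : Subgroup (Equiv.Perm GolayPt)} (O : Finset GolayPt)
    (hO : ∀ g ∈ G, ∀ q ∈ O, g q ∈ O) (φ : MulAut G) {a b : GolayPt} (ha : a ∈ O) (hb : b ∈ O)
    (htr : ∀ q ∈ O, ∃ g : G, (g : Equiv.Perm GolayPt) a = q)
    (htr' : ∀ q ∈ O, ∃ g : G, (g : Equiv.Perm GolayPt) b = q)
    (h : ∀ g : G, (g : Equiv.Perm GolayPt) a = a → (φ g : Equiv.Perm GolayPt) b = b) :
    ∃ π : Equiv.Perm GolayPt, (∀ q ∉ O, π q = q) ∧ (∀ q ∈ O, π q ∈ O) ∧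
      ∀ g : G, ∀ q ∈ O, (φ g : Equiv.Perm GolayPt) (π q) = π ((g : Equiv.Perm GolayPt) q) := by
  classical
  let f : GolayPt → GolayPt := fun q =>
    if hq : q ∈ O then (φ (htr q hq).choose : Equiv.Perm GolayPt) b else q
  have hf : ∀ g : G, f ((g : Equiv.Perm GolayPt) a) = (φ g : Equiv.Perm GolayPt) b := by
    intro g
    have hq : (g : Equiv.Perm GolayPt) a ∈ O := hO g g.2 a ha
    simp only [f, dif_pos hq]
    set k := (htr _ hq).choose
    have hk : (k : Equiv.Perm GolayPt) a = (g : Equiv.Perm GolayPt) a := (htr _ hq).choose_spec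
    have h1 : ((k⁻¹ * g : G) : Equiv.Perm GolayPt) a = a := by
      rw [Subgroup.coe_mul, Equiv.Perm.mul_apply, ← hk, Subgroup.coe_inv, Equiv.Perm.inv_def,
        Equiv.symm_apply_apply]
    have h2 := h _ h1
    rw [map_mul, map_inv, Subgroup.coe_mul, Equiv.Perm.mul_apply, Subgroup.coe_inv,
      Equiv.Perm.inv_eq_iff_eq] at h2
    exact h2.symm
  have hmaps : ∀ q ∈ O, f q ∈ O := fun q hq => by
    simp only [f, dif_pos hq]
    exact hO _ (φ _).2 b hb
  have hsurj : Function.Surjective f := by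
    intro r
    by_cases hr : r ∈ O
    · obtain ⟨k, hk⟩ := htr' r hr
      exact ⟨((φ.symm k : G) : Equiv.Perm GolayPt) a, by rw [hf, MulEquiv.apply_symm_apply, hk]⟩
    · exact ⟨r, by simp only [f, dif_neg hr]⟩
  refine ⟨Equiv.ofBijective f ⟨Finite.injective_iff_surjective.2 hsurj, hsurj⟩, fun q hq => ?_, hmaps, ?_⟩
  · show f q = q
    simp only [f, dif_neg hq]
  · intro g q hq
    obtain ⟨k, rfl⟩ := htr q hq
    show (φ g : Equiv.Perm GolayPt) (f _) = f _
    rw [hf, ← Equiv.Perm.mul_apply, ← Subgroup.coe_mul, ← map_mul, ← Equiv.Perm.mul_apply, ← Subgroup.coe_mul, hf]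

/-- The image of a point stabilizer. -/
theorem exists_image {G : Subgroup (Equiv.Perm GolayPt)} (φ : MulAut G) (a : GolayPt) :
    ∃ H : Subgroup (Equiv.Perm GolayPt), H ≤ G ∧
      Nat.card H = Nat.card ↥(G ⊓ stabilizer (Equiv.Perm GolayPt) a) ∧
      ∀ g : G, (g : Equiv.Perm GolayPt) a = a → (φ g : Equiv.Perm GolayPt) ∈ H := by
  refine ⟨((((G ⊓ stabilizer (Equiv.Perm GolayPt) a).subgroupOf G)).map φ.toMonoidHom).map G.subtype,
    Subgroup.map_subtype_le _, ?_, fun g hg => ?_⟩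
  · rw [Subgroup.card_map_of_injective G.subtype_injective]
    rw [Subgroup.card_map_of_injective (f := φ.toMonoidHom) φ.injective]
    exact Nat.card_congr (Subgroup.subgroupOfEquivOfLe inf_le_left).toEquiv
  · exact ⟨φ g, ⟨g, Subgroup.mem_subgroupOf.2 (mem_inf_stab.2 ⟨g.2, hg⟩), rfl⟩, rfl⟩

theorem mem_inn {G : Subgroup (Equiv.Perm GolayPt)} (φ : MulAut G) {π : Equiv.Perm GolayPt} (hπ : π ∈ G)
    (h : ∀ g : G, (φ g : Equiv.Perm GolayPt) * π = π * g) : φ ∈ Inn G := by
  refine ⟨⟨π, hπ⟩, ?_⟩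
  ext g : 2
  simp only [MulAut.conj_apply, Subgroup.coe_mul, Subgroup.coe_inv]
  rw [← h g, mul_inv_cancel_right]

/-- Conjugation by a normalizing element. -/
def conjAut {G : Subgroup (Equiv.Perm GolayPt)} (k : Equiv.Perm GolayPt)
    (h : ∀ x ∈ G, k * x * k⁻¹ ∈ G) (h' : ∀ x ∈ G, k⁻¹ * x * k ∈ G) : MulAut G where
  toFun x := ⟨k * x * k⁻¹, h _ x.2⟩
  invFun x := ⟨k⁻¹ * x * k, h' _ x.2⟩
  left_inv x := Subtype.ext (by simp [mul_assoc])
  right_inv x := Subtype.ext (by simp [mul_assoc])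
  map_mul' x y := Subtype.ext (by simp [mul_assoc])

theorem out_card_one {G : Type*} [Group G] (h : ∀ φ : MulAut G, φ ∈ Inn G) : Nat.card (Out G) = 1 := by
  change (Inn G).index = 1
  rw [Subgroup.index_eq_one, eq_top_iff]
  exact fun φ _ => h φ

theorem out_card_two {G : Type*} [Group G] {σ : MulAut G} (hσ : σ ∉ Inn G)
    (h : ∀ φ : MulAut G, φ ∈ Inn G ∨ φ * σ ∈ Inn G) : Nat.card (Out G) = 2 := by
  change (Inn G).index = 2
  refine Subgroup.index_eq_two_iff.2 ⟨σ, fun b => ?_⟩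
  rcases h b with hb | hb
  · exact Or.inr ⟨hb, fun hc => hσ ((Subgroup.mul_mem_cancel_left _ hb).1 hc)⟩
  · exact Or.inl ⟨hb, fun hc => hσ ((Subgroup.mul_mem_cancel_left _ hc).1 hb)⟩

/-! ### Transitivity -/

theorem exists_map {n : ℕ} (hn : n ≤ 5) (x y : Fin n → GolayPt) (hx : Function.Injective x)
    (hy : Function.Injective y) : ∃ g ∈ M24, ∀ i, g (x i) = y i := by
  obtain ⟨g, hg⟩ := ordered_points hn x hx
  obtain ⟨k, hk⟩ := ordered_points hn y hy
  refine ⟨((k * g⁻¹ : M24) : Equiv.Perm GolayPt), (k * g⁻¹ : M24).2, fun i => ?_⟩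
  show (k * g⁻¹ : M24) • x i = y i
  rw [← hg i, mul_smul, inv_smul_smul, hk]

theorem exists_map_two (p q r : GolayPt) (hp : p ≠ q) (hr : p ≠ r) : ∃ g ∈ M24, g p = p ∧ g q = r := by
  obtain ⟨g, hg, h⟩ := exists_map (n := 2) (by norm_num) ![p, q] ![p, r]
    (by intro i j; fin_cases i <;> fin_cases j <;> simp [hp, hp.symm])
    (by intro i j; fin_cases i <;> fin_cases j <;> simp [hr, hr.symm])
  exact ⟨g, hg, h 0, h 1⟩

theorem exists_map_three (p s q r : GolayPt) (hps : p ≠ s) (hp : p ≠ q) (hr : p ≠ r) (hsq : s ≠ q) (hsr : s ≠ r) :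
    ∃ g ∈ M24, g p = p ∧ g s = s ∧ g q = r := by
  obtain ⟨g, hg, h⟩ := exists_map (n := 3) (by norm_num) ![p, s, q] ![p, s, r]
    (by intro i j; fin_cases i <;> fin_cases j <;> simp [hp, hp.symm, hps, hps.symm, hsq, hsq.symm])
    (by intro i j; fin_cases i <;> fin_cases j <;> simp [hr, hr.symm, hps, hps.symm, hsr, hsr.symm])
  exact ⟨g, hg, h 0, h 1, h 2⟩

theorem mem_M23 {g : Equiv.Perm GolayPt} : g ∈ Spor.M23 ↔ g ∈ M24 ∧ g none = none := by
  rw [Spor.M23]; exact mem_inf_stab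

theorem mem_M22 {g : Equiv.Perm GolayPt} :
    g ∈ Spor.M22 ↔ g ∈ M24 ∧ g none = none ∧ g (some 0) = some 0 := by
  rw [Spor.M22, mem_inf_stab, mem_M23, and_assoc]

theorem card_M23 : Nat.card Spor.M23 = 10200960 := by
  have h := card_orbitF M24 none
  have e : orbitF M24 none = Finset.univ := by
    refine Finset.eq_univ_of_forall fun q => mem_orbitF.2 ?_
    obtain ⟨g, hg, h⟩ := exists_map (n := 1) (by norm_num) ![none] ![q] (Function.injective_of_subsingleton _)
      (Function.injective_of_subsingleton _)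
    exact ⟨g, hg, h 0⟩
  rw [e, card_univ_pts, card_M24] at h
  have e' : Spor.M23 = M24 ⊓ stabilizer (Equiv.Perm GolayPt) (none : GolayPt) := rfl
  rw [e']; omega

theorem orbitF_M23 {a : GolayPt} (ha : a ≠ none) : orbitF Spor.M23 a = Finset.univ.erase none := by
  refine Finset.Subset.antisymm (orbitF_subset (by simp [ha]) fun g hg q hq => ?_) fun q hq => ?_
  · simp only [Finset.mem_erase, Finset.mem_univ, and_true] at hq ⊢
    exact fun e => hq (g.injective (e.trans (mem_M23.1 hg).2.symm))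
  · simp only [Finset.mem_erase, Finset.mem_univ, and_true] at hq
    obtain ⟨g, hg, h1, h2⟩ := exists_map_two none a q ha.symm (Ne.symm hq)
    exact mem_orbitF.2 ⟨g, mem_M23.2 ⟨hg, h1⟩, h2⟩

theorem card_M22 : Nat.card Spor.M22 = 443520 := by
  have h := card_orbitF Spor.M23 (some 0)
  rw [orbitF_M23 (by simp), Finset.card_erase_of_mem (Finset.mem_univ _), card_univ_pts, card_M23] at h
  have e' : Spor.M22 = Spor.M23 ⊓ stabilizer (Equiv.Perm GolayPt) (some 0 : GolayPt) := rfl
  rw [e']; omega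

/-! ### Octads as fixed point sets, and the code -/

theorem exists_involution {o : Finset GolayPt} (ho : o ∈ octads) :
    ∃ t ∈ M24, orderOf t = 2 ∧ fixSet t = o := by
  obtain ⟨-, ⟨g, hg, hg2, hgo⟩, -, -⟩ := involution_classes
  obtain ⟨k, hk⟩ := exists_smul_octad hgo ho
  refine ⟨(k : Equiv.Perm GolayPt) * g * (k : Equiv.Perm GolayPt)⁻¹,
    M24.mul_mem (M24.mul_mem k.2 hg) (M24.inv_mem k.2), ?_, ?_⟩
  · have := (MulAut.conj (k : Equiv.Perm GolayPt)).orderOf_eq g
    simp only [MulAut.conj_apply] at this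
    rw [this, hg2]
  · rw [fixSet_conj]; exact hk

/-- A permutation conjugating an involution with fixed points into `M24` carries its octad to an octad. -/
theorem smul_octad_of_conj {π t t' : Equiv.Perm GolayPt} (ht' : t' ∈ M24) (h2 : orderOf t = 2)
    (h : t' * π = π * t) {o : Finset GolayPt} (ho : o ∈ octads) (hfix : fixSet t = o) : π • o ∈ octads := by
  have e : t' = π * t * π⁻¹ := by rw [← h, mul_inv_cancel_right]
  have hord : orderOf t' = 2 := by
    have := (MulAut.conj π).orderOf_eq t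
    simp only [MulAut.conj_apply] at this
    rw [e, this, h2]
  rw [← hfix, ← fixSet_conj, ← e]
  rcases two_fix ht' hord with h' | h'
  · exact h'
  · exfalso
    rw [e, fixSet_conj, hfix] at h'
    have := congrArg Finset.card h'
    rw [Finset.card_smul_finset, ho.2, Finset.card_empty] at this
    norm_num at this

/-- The words carried into the code by a permutation. -/
def pull (σ : Equiv.Perm GolayPt) : Submodule (ZMod 2) (GolayPt → ZMod 2) :=
  golayCode.comap (LinearMap.funLeft (ZMod 2) (ZMod 2) σ.symm)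

theorem word_mem_pull {σ : Equiv.Perm GolayPt} {m : ℕ} :
    word m ∈ pull σ ↔ σ • pts m ∈ supports (golayCode : Set (GolayPt → ZMod 2)) := by
  show (fun p => word m (σ.symm p)) ∈ golayCode ↔ _
  rw [← support₂_word, smul_support₂]
  exact ⟨fun h => ⟨_, h, rfl⟩, fun ⟨u, hu, e⟩ => support₂_injective e ▸ hu⟩

theorem word_foldr_mem {S : Submodule (ZMod 2) (GolayPt → ZMod 2)} :
    ∀ l : List ℕ, (∀ m ∈ l, word m ∈ S) → word (l.foldr (· ^^^ ·) 0) ∈ S
  | [], _ => by simp [word_zero]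
  | a :: l, h => by
    rw [List.foldr_cons, word_xor]
    exact add_mem (h a List.mem_cons_self) (word_foldr_mem l fun m hm => h m (List.mem_cons_of_mem a hm))

theorem mem_M24_of_span {σ : Equiv.Perm GolayPt} (L : List ℕ) (comb : List (List ℕ))
    (hc : comb.map (fun l => l.foldr (· ^^^ ·) 0) = rows) (hs : comb.all (fun l => l.all L.contains) = true)
    (h : ∀ m ∈ L, σ • pts m ∈ supports (golayCode : Set (GolayPt → ZMod 2))) : σ ∈ M24 := by
  refine mem_M24_of_rows σ fun r hr => word_mem_pull.1 ?_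
  rw [← hc] at hr
  obtain ⟨l, hl, rfl⟩ := List.mem_map.1 hr
  refine word_foldr_mem l fun m hm => word_mem_pull.2 (h m ?_)
  exact List.contains_iff_mem.1 (List.all_eq_true.1 (List.all_eq_true.1 hs l hl) m hm)

theorem octBasis_ok : octComb.map (fun l => l.foldr (· ^^^ ·) 0) = rows ∧
    octComb.all (fun l => l.all octBasis.contains) = true ∧
    octBasis.all (fun m => codeTest m && (pop 24 m == 8) && m.testBit 23) = true := by decide +kernel

theorem pairBasis_ok : pairComb.map (fun l => l.foldr (· ^^^ ·) 0) = rows ∧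
    pairComb.all (fun l => l.all (pairBasis ++ [oneSide]).contains) = true ∧
    pairBasis.all (fun m => codeTest m && (pop 24 m == 8) && m.testBit 23 && m.testBit 0) = true ∧
    codeTest oneSide = true ∧ oneSide.testBit 0 = true ∧ oneSide.testBit 23 = false := by decide +kernel

theorem pts_octad {m : ℕ} (h1 : codeTest m = true) (h2 : pop 24 m = 8) : pts m ∈ octads :=
  ⟨⟨word m, (word_mem_golayCode_iff m).2 h1, support₂_word m⟩, by rw [card_pts, h2]⟩

theorem none_eq : (none : GolayPt) = idxPt 23 := rfl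

theorem zero_eq : (some 0 : GolayPt) = idxPt 0 := by simp [idxPt]

theorem mem_pts_idx {m i : ℕ} (hi : i < 24) : idxPt i ∈ pts m ↔ m.testBit i = true := by
  rw [mem_pts, ptIdx_idxPt i hi]

/-! ### Degrees 24 and 23 -/

theorem inner_M24 (φ : MulAut M24) : φ ∈ Inn M24 := by
  obtain ⟨H, hH, hc, hmem⟩ := exists_image φ none
  have hc' : Nat.card H = 10200960 := by rw [hc]; exact card_M23
  obtain ⟨u, hu⟩ := fixes_point_24 hH hc'
  have htr : ∀ p q : GolayPt, ∃ g : M24, (g : Equiv.Perm GolayPt) p = q := fun p q => by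
    obtain ⟨g, hg, h⟩ := exists_map (n := 1) (by norm_num) ![p] ![q] (Function.injective_of_subsingleton _)
      (Function.injective_of_subsingleton _)
    exact ⟨⟨g, hg⟩, h 0⟩
  obtain ⟨π, -, -, hπ⟩ := exists_perm Finset.univ (fun g _ q _ => Finset.mem_univ _) φ
    (Finset.mem_univ none) (Finset.mem_univ u) (fun q _ => htr none q) (fun q _ => htr u q)
    fun g hg => hu _ (hmem g hg)
  have hcomm : ∀ g : M24, (φ g : Equiv.Perm GolayPt) * π = π * g :=
    fun g => Equiv.ext fun q => hπ g q (Finset.mem_univ q)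
  refine mem_inn φ (mem_M24_of_rows π fun r hr => ?_) hcomm
  have ho : pts r ∈ octads := ⟨⟨word r, word_row_mem hr, support₂_word r⟩, by rw [card_pts, rows_octads r hr]⟩
  obtain ⟨t, ht, ht2, htf⟩ := exists_involution ho
  exact (smul_octad_of_conj (φ ⟨t, ht⟩).2 ht2 (hcomm ⟨t, ht⟩) ho htf).1

theorem inner_M23 (φ : MulAut Spor.M23) : φ ∈ Inn Spor.M23 := by
  obtain ⟨H, hH, hc, hmem⟩ := exists_image φ (some 0)
  have hH24 : H ≤ M24 := fun g hg => (mem_M23.1 (hH hg)).1
  have hc' : Nat.card H = 443520 := by rw [hc]; exact card_M22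
  obtain ⟨u, hu0, hu⟩ := fixes_point_23 hH24 (fun g hg => (mem_M23.1 (hH hg)).2) hc'
  set O := Finset.univ.erase (none : GolayPt)
  have htr : ∀ a : GolayPt, a ≠ none → ∀ q ∈ O, ∃ g : Spor.M23, (g : Equiv.Perm GolayPt) a = q := by
    intro a ha q hq
    simp only [O] at hq
    rw [← orbitF_M23 ha] at hq
    obtain ⟨g, hg, e⟩ := mem_orbitF.1 hq
    exact ⟨⟨g, hg⟩, e⟩
  obtain ⟨π, hπ0, -, hπ⟩ := exists_perm O (fun g hg q hq => by
      simp only [O, Finset.mem_erase, Finset.mem_univ, and_true] at hq ⊢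
      exact fun e => hq (g.injective (e.trans (mem_M23.1 hg).2.symm)))
    φ (a := some 0) (b := u) (by simp [O]) (by simp [O, hu0]) (htr _ (by simp)) (htr u hu0)
    fun g hg => hu _ (hmem g hg)
  have hπn : π none = none := hπ0 none (by simp [O])
  have hcomm : ∀ g : Spor.M23, (φ g : Equiv.Perm GolayPt) * π = π * g := fun g => Equiv.ext fun q => by
    by_cases hq : q = none
    · simp [hq, Equiv.Perm.mul_apply, hπn, (mem_M23.1 g.2).2, (mem_M23.1 (φ g).2).2]
    · exact hπ g q (by simp [O, hq])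
  obtain ⟨hb1, hb2, hb3⟩ := octBasis_ok
  refine mem_inn φ (mem_M23.2 ⟨mem_M24_of_span octBasis octComb hb1 hb2 fun m hm => ?_, hπn⟩) hcomm
  have h := List.all_eq_true.1 hb3 m hm
  simp only [Bool.and_eq_true, beq_iff_eq] at h
  obtain ⟨⟨h1, h2⟩, h3⟩ := h
  have ho := pts_octad h1 h2
  obtain ⟨t, ht, ht2, htf⟩ := exists_involution ho
  have htn : t none = none := mem_fixSet.1 (by rw [htf, none_eq, mem_pts_idx (by norm_num)]; exact h3)
  exact (smul_octad_of_conj (mem_M23.1 (φ ⟨t, mem_M23.2 ⟨ht, htn⟩⟩).2).1 ht2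
    (hcomm ⟨t, mem_M23.2 ⟨ht, htn⟩⟩) ho htf).1

/-! ### Degree 22 -/

/-- The transposition of the two fixed points. -/
def pairSwap : Equiv.Perm GolayPt := Equiv.swap none (some 0)

/-- The word of the pair. -/
def pairMask : ℕ := 8388609

theorem pairMask_ok : (pairBasis.all fun m => pop 24 (m &&& pairMask) % 2 == 0) = true ∧
    pop 24 (oneSide &&& pairMask) % 2 = 1 ∧
    (List.range 24).all (fun i => pairMask.testBit i == (i == 0 || i == 23)) = true := by decide +kernel

theorem dot_comp (σ : Equiv.Perm GolayPt) (v w : GolayPt → ZMod 2) :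
    ∑ p, v (σ p) * w (σ p) = ∑ p, v p * w p := Equiv.sum_comp σ fun p => v p * w p

theorem dotWord_foldr (w : GolayPt → ZMod 2) :
    ∀ l : List ℕ, (∀ m ∈ l, dotWord m w = 0) → dotWord (l.foldr (· ^^^ ·) 0) w = 0
  | [], _ => by simp [dotWord_apply, word_zero]
  | a :: l, h => by
    rw [List.foldr_cons, dotWord_apply, word_xor]
    simp only [Pi.add_apply, add_mul, Finset.sum_add_distrib]
    have h1 := h a List.mem_cons_self
    have h2 := dotWord_foldr w l fun m hm => h m (List.mem_cons_of_mem a hm)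
    rw [dotWord_apply] at h1 h2
    rw [h1, h2, add_zero]

theorem mem_code_of_dot {w : GolayPt → ZMod 2} (h : ∀ m ∈ pairBasis, dotWord m w = 0)
    (h0 : dotWord oneSide w = 0) : w ∈ golayCode := by
  obtain ⟨m, hm, rfl⟩ := exists_codeList_of_dot (w := w) fun r hr => by
    rw [← pairBasis_ok.1] at hr
    obtain ⟨l, hl, rfl⟩ := List.mem_map.1 hr
    refine dotWord_foldr w l fun m hm => ?_
    have := List.contains_iff_mem.1 (List.all_eq_true.1 (List.all_eq_true.1 pairBasis_ok.2.1 l hl) m hm)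
    rcases List.mem_append.1 this with h' | h'
    · exact h m h'
    · rw [List.mem_singleton] at h'; exact h' ▸ h0
  exact (codeList_spec hm).2

theorem pair_octad {π : Equiv.Perm GolayPt} {φ : MulAut Spor.M22}
    (hcomm : ∀ g : Spor.M22, (φ g : Equiv.Perm GolayPt) * π = π * g) (m : ℕ) (hm : m ∈ pairBasis) :
    π • pts m ∈ octads := by
  have h := List.all_eq_true.1 pairBasis_ok.2.2.1 m hm
  simp only [Bool.and_eq_true, beq_iff_eq] at h
  obtain ⟨⟨⟨h1, h2⟩, h23⟩, h0⟩ := h
  have ho := pts_octad h1 h2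
  obtain ⟨t, ht, ht2, htf⟩ := exists_involution ho
  have htn : t none = none := mem_fixSet.1 (by rw [htf, none_eq, mem_pts_idx (by norm_num)]; exact h23)
  have ht0 : t (some 0) = some 0 := mem_fixSet.1 (by rw [htf, zero_eq, mem_pts_idx (by norm_num)]; exact h0)
  exact smul_octad_of_conj (mem_M22.1 (φ ⟨t, mem_M22.2 ⟨ht, htn, ht0⟩⟩).2).1 ht2
    (hcomm ⟨t, mem_M22.2 ⟨ht, htn, ht0⟩⟩) ho htf

theorem normalizer_M22 {π : Equiv.Perm GolayPt} (hn : π none = none) (h0 : π (some 0) = some 0)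
    {φ : MulAut Spor.M22} (hcomm : ∀ g : Spor.M22, (φ g : Equiv.Perm GolayPt) * π = π * g) :
    π ∈ M24 ∨ pairSwap * π ∈ M24 := by
  have hinv : ∀ g : Spor.M22, (φ.symm g : Equiv.Perm GolayPt) * π⁻¹ = π⁻¹ * g := fun g => by
    have h := hcomm (φ.symm g)
    rw [MulEquiv.apply_symm_apply] at h
    rw [mul_inv_eq_iff_eq_mul, mul_assoc, h, inv_mul_cancel_left]
  set w : GolayPt → ZMod 2 := fun p => word oneSide (π.symm p)
  have hone := (word_mem_golayCode_iff oneSide).2 pairBasis_ok.2.2.2.1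
  have hperp : ∀ m ∈ pairBasis, dotWord m w = 0 := fun m hm => by
    rw [dotWord_apply, ← dot_comp π]
    simp only [w, Equiv.symm_apply_apply]
    refine golayCode_self_orthogonal ?_ hone
    have h := word_mem_pull.2 (pair_octad (π := π⁻¹) (φ := φ.symm) hinv m hm).1
    exact h
  have hbasis : ∀ m ∈ pairBasis, π • pts m ∈ supports (golayCode : Set (GolayPt → ZMod 2)) :=
    fun m hm => (pair_octad hcomm m hm).1
  have hmk : ∀ σ : Equiv.Perm GolayPt, (∀ m ∈ pairBasis, σ • pts m ∈ supports (golayCode : Set (GolayPt → ZMod 2))) →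
      (fun p => word oneSide (σ.symm p)) ∈ golayCode → σ ∈ M24 := fun σ hσ h1 =>
    mem_M24_of_span (pairBasis ++ [oneSide]) pairComb pairBasis_ok.1 pairBasis_ok.2.1 fun m hm => by
      rcases List.mem_append.1 hm with h' | h'
      · exact hσ m h'
      · rw [List.mem_singleton] at h'; subst h'
        exact word_mem_pull.1 h1
  rcases (by decide : ∀ z : ZMod 2, z = 0 ∨ z = 1) (dotWord oneSide w) with hs | hs
  · exact Or.inl (hmk π hbasis (mem_code_of_dot hperp hs))
  · right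
    have hw : w + word pairMask ∈ golayCode := by
      refine mem_code_of_dot (fun m hm => ?_) ?_
      · rw [map_add, hperp m hm, zero_add, dot_word_word, ZMod.natCast_eq_zero_iff_even, Nat.even_iff]
        exact beq_iff_eq.1 (List.all_eq_true.1 pairMask_ok.1 m hm)
      · rw [map_add, hs, dot_word_word, ← ZMod.natCast_mod, pairMask_ok.2.1]
        decide
    refine hmk _ (fun m hm => ?_) ?_
    · rw [mul_smul]
      have e : pairSwap • (π • pts m) = π • pts m := by
        have h := List.all_eq_true.1 pairBasis_ok.2.2.1 m hm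
        simp only [Bool.and_eq_true, beq_iff_eq] at h
        have h1 : (none : GolayPt) ∈ π • pts m := by
          rw [← hn]; refine Finset.smul_mem_smul_finset ?_
          rw [none_eq, mem_pts_idx (by norm_num)]; exact h.1.2
        have h2 : (some 0 : GolayPt) ∈ π • pts m := by
          rw [← h0]; refine Finset.smul_mem_smul_finset ?_
          rw [zero_eq, mem_pts_idx (by norm_num)]; exact h.2
        ext p
        rw [← Finset.inv_smul_mem_iff, pairSwap, Equiv.swap_inv, Equiv.Perm.smul_def]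
        rcases eq_or_ne p none with rfl | hp1
        · simp [h1, h2]
        rcases eq_or_ne p (some 0) with rfl | hp2
        · simp [h1, h2]
        rw [Equiv.swap_apply_of_ne_of_ne hp1 hp2]
      rw [e]; exact hbasis m hm
    · have e : (fun p => word oneSide ((pairSwap * π).symm p)) = w + word pairMask := by
        funext p
        have hsym : (pairSwap * π).symm p = π.symm (Equiv.swap none (some 0) p) := rfl
        rw [hsym, Pi.add_apply]
        have hbit : ∀ q : GolayPt, word pairMask q = if q = none ∨ q = some 0 then 1 else 0 := by decide +kernel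
        have b0 : word oneSide (some 0 : GolayPt) = 1 := by decide +kernel
        have b1 : word oneSide (none : GolayPt) = 0 := by decide +kernel
        have e0 : π.symm (some 0) = some 0 := by rw [Equiv.symm_apply_eq, h0]
        have e1 : π.symm none = none := by rw [Equiv.symm_apply_eq, hn]
        rcases eq_or_ne p none with rfl | hp1
        · simp [w, hbit, e0, e1, b0, b1]
        rcases eq_or_ne p (some 0) with rfl | hp2
        · simp [w, hbit, e0, e1, b0, b1]; decide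
        simp [w, hbit, hp1, hp2, Equiv.swap_apply_of_ne_of_ne hp1 hp2]
      rw [e]; exact hw

theorem out_M22 : Nat.card (Out Spor.M22) = 2 := by
  have hP : Cfsg.projInv ∈ M24 := projInv_mem
  set k := Cfsg.projInv
  have k1 : k none = some 0 := rfl
  have k2 : k (some 0) = none := rfl
  obtain ⟨-, hnorm, hout⟩ := two_point_index hP k1 k2
  have i1 : k⁻¹ none = some 0 := by rw [Equiv.Perm.inv_eq_iff_eq, k2]
  have i2 : k⁻¹ (some 0) = none := by rw [Equiv.Perm.inv_eq_iff_eq, k1]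
  have hnorm' : ∀ x ∈ Spor.M22, k⁻¹ * x * k ∈ Spor.M22 := fun x hx => by
    obtain ⟨h1, h2, h3⟩ := mem_M22.1 hx
    refine mem_M22.2 ⟨M24.mul_mem (M24.mul_mem (M24.inv_mem hP) h1) hP, ?_, ?_⟩
    · rw [Equiv.Perm.mul_apply, Equiv.Perm.mul_apply, k1, h3, i2]
    · rw [Equiv.Perm.mul_apply, Equiv.Perm.mul_apply, k2, h2, i1]
  refine out_card_two (σ := conjAut k hnorm hnorm') ?_ fun φ => ?_
  · rintro ⟨h, e⟩
    refine hout ⟨h, h.2, fun x hx => ?_⟩
    have := congrArg (fun ψ : MulAut Spor.M22 => (ψ ⟨x, hx⟩ : Equiv.Perm GolayPt)) e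
    simpa [conjAut] using this.symm
  obtain ⟨a, ha, ha'⟩ : ∃ a : GolayPt, a ≠ none ∧ a ≠ some 0 := ⟨some 1, by simp, by decide +kernel⟩
  set O := (Finset.univ.erase (none : GolayPt)).erase (some 0)
  have hmemO : ∀ {q : GolayPt}, q ∈ O ↔ q ≠ some 0 ∧ q ≠ none := fun {q} => by simp [O]
  have htr : ∀ p : GolayPt, p ∈ O → ∀ q ∈ O, ∃ g : Spor.M22, (g : Equiv.Perm GolayPt) p = q := by
    intro p hp q hq
    rw [hmemO] at hp hq
    obtain ⟨g, hg, h1, h2, h3⟩ := exists_map_three none (some 0) p q (by simp) hp.2.symm hq.2.symm hp.1.symm hq.1.symm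
    exact ⟨⟨g, mem_M22.2 ⟨hg, h1, h2⟩⟩, h3⟩
  have hO : ∀ g ∈ Spor.M22, ∀ q ∈ O, g q ∈ O := fun g hg q hq => by
    obtain ⟨-, h2, h3⟩ := mem_M22.1 hg
    rw [hmemO] at hq ⊢
    exact ⟨fun e => hq.1 (g.injective (e.trans h3.symm)), fun e => hq.2 (g.injective (e.trans h2.symm))⟩
  have haO : a ∈ O := hmemO.2 ⟨ha', ha⟩
  have cstab : Nat.card ↥(Spor.M22 ⊓ stabilizer (Equiv.Perm GolayPt) a) = 20160 := by
    have h := card_orbitF Spor.M22 a
    have e : orbitF Spor.M22 a = O := Finset.Subset.antisymm (orbitF_subset haO hO) fun q hq => by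
      obtain ⟨g, hg⟩ := htr a haO q hq
      exact mem_orbitF.2 ⟨g, g.2, hg⟩
    have hOc : O.card = 22 := by
      rw [Finset.card_erase_of_mem (by simp), Finset.card_erase_of_mem (Finset.mem_univ _), card_univ_pts]
    rw [e, hOc, card_M22] at h
    omega
  obtain ⟨H, hH, hc, hmem⟩ := exists_image φ a
  obtain ⟨u, hu1, hu2, hu⟩ := fixes_point_22 (fun g hg => (mem_M22.1 (hH hg)).1) (a := none) (b := some 0)
    (by simp) (fun g hg => (mem_M22.1 (hH hg)).2.1) (fun g hg => (mem_M22.1 (hH hg)).2.2) (hc.trans cstab)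
  have huO : u ∈ O := hmemO.2 ⟨hu2, hu1⟩
  obtain ⟨π, hπ0, -, hπ⟩ := exists_perm O hO φ haO huO (htr a haO) (htr u huO) fun g hg => hu _ (hmem g hg)
  have hn : π none = none := hπ0 _ (by simp [O])
  have h0 : π (some 0) = some 0 := hπ0 _ (by simp [O])
  have hcomm : ∀ g : Spor.M22, (φ g : Equiv.Perm GolayPt) * π = π * g := fun g => Equiv.ext fun q => by
    by_cases hq : q ∈ O
    · exact hπ g q hq
    · rw [hmemO] at hq
      rcases not_and_or.1 hq with h | h <;> rw [not_not] at h <;> subst h <;>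
        simp [Equiv.Perm.mul_apply, hn, h0, (mem_M22.1 g.2).2.1, (mem_M22.1 g.2).2.2,
          (mem_M22.1 (φ g).2).2.1, (mem_M22.1 (φ g).2).2.2]
  rcases normalizer_M22 hn h0 hcomm with h | h
  · exact Or.inl (mem_inn φ (mem_M22.2 ⟨h, hn, h0⟩) hcomm)
  · right
    refine mem_inn _ (π := pairSwap * π * k) (mem_M22.2 ⟨M24.mul_mem h hP, ?_, ?_⟩) fun g => ?_
    · simp [Equiv.Perm.mul_apply, k1, h0, pairSwap]
    · simp [Equiv.Perm.mul_apply, k2, hn, pairSwap]
    · have hs : ∀ x ∈ Spor.M22, x * pairSwap = pairSwap * x := fun x hx => by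
        obtain ⟨-, h2, h3⟩ := mem_M22.1 hx
        rw [pairSwap, ← mul_inv_eq_iff_eq_mul, ← Equiv.swap_apply_apply, h2, h3]
      have h1 := hcomm (conjAut k hnorm hnorm' g)
      show ((φ (conjAut k hnorm hnorm' g) : Spor.M22) : Equiv.Perm GolayPt) * (pairSwap * π * k) = _
      rw [← mul_assoc, ← mul_assoc, hs _ (φ _).2, mul_assoc pairSwap, h1]
      show pairSwap * (π * (k * g * k⁻¹)) * k = pairSwap * π * k * g
      simp [mul_assoc]

/-! ### Degrees 12 and 11 -/

/-- Membership in the group of degree eleven, for packed permutations. -/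
def m11Code (P : ℕ) : Bool := isM24Code P && (permMask P squareMask == squareMask) && (permFn P 0 == 0)

/-- The points of the cycle. -/
def cp (i : ℕ) : GolayPt := idxPt (cyc.getD (i % 11) 0)

def eIdx (i : ℕ) : ℕ := cyc.getD (i % 11) 0

theorem cyc_ok : (m11Code cycCode && m11Code auxCode &&
      (List.range 11).all (fun i => (permFn cycCode (eIdx i) == eIdx (i + 1)) && decide (eIdx i < 24) &&
        squareMask.testBit (eIdx i) && (eIdx i != 0) &&
        (permFn auxCode (eIdx i) == eIdx (auxMap.getD i 0))) &&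
      (List.range 24).all (fun j => !squareMask.testBit j || (j == 0) || (List.range 11).any (fun i => eIdx i == j)) &&
      decide (((List.range 11).map eIdx).Nodup)) = true := by decide +kernel

theorem good_ok : (goodList.all fun x => m11Code x.2 &&
      (List.range 11).all (fun i => permFn x.2 (eIdx i) == eIdx (x.1 * i))) = true := by decide +kernel

theorem bad_ok : (badList.all fun x => isM24Code x.2.1 && (permMask x.2.1 squareMask == squareMask) &&
      decide (x.2.2 < 11) &&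
      (List.range 5).all (fun i => permFn x.2.1 (eIdx (x.1 * i)) == eIdx (x.1 * auxMap.getD i 0)) &&
      (permFn x.2.1 (eIdx (x.1 * x.2.2)) != eIdx (x.1 * auxMap.getD x.2.2 0))) = true := by decide +kernel

theorem multipliers_cover : ((List.range 11).all fun k =>
    (k == 0) || goodList.any (fun x => x.1 == k) || badList.any (fun x => x.1 == k)) = true := by decide +kernel

theorem eIdx_lt (i : ℕ) : eIdx i < 24 := by
  have h := cyc_ok
  simp only [Bool.and_eq_true, List.all_eq_true, List.mem_range, decide_eq_true_eq] at h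
  have := (h.1.1.2 (i % 11) (Nat.mod_lt _ (by norm_num))).1.1.1.2
  rwa [eIdx, Nat.mod_mod] at this

theorem cp_mod (i : ℕ) : cp (i % 11) = cp i := by rw [cp, cp, Nat.mod_mod]

theorem cp_mem (i : ℕ) : cp i ∈ Spor.squareDodecad ∧ cp i ≠ some 0 := by
  have h := cyc_ok
  simp only [Bool.and_eq_true, List.all_eq_true, List.mem_range, bne_iff_ne] at h
  have h' := h.1.1.2 (i % 11) (Nat.mod_lt _ (by norm_num))
  simp only [eIdx, Nat.mod_mod] at h'
  refine ⟨?_, fun e => h'.1.2 ?_⟩
  · rw [squareDodecad_eq]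
    exact (mem_pts_idx (eIdx_lt i)).2 h'.1.1.2
  · have e2 := congrArg ptIdx e
    rw [zero_eq, ptIdx_idxPt 0 (by norm_num)] at e2
    exact (ptIdx_idxPt _ (eIdx_lt i)).symm.trans e2

theorem cp_surj {q : GolayPt} (hq : q ∈ Spor.squareDodecad) (hq0 : q ≠ some 0) : ∃ i < 11, cp i = q := by
  have h := cyc_ok
  simp only [Bool.and_eq_true, List.all_eq_true, List.mem_range] at h
  have h' := h.1.2 (ptIdx q) (ptIdx_lt q)
  rw [squareDodecad_eq, mem_pts] at hq
  simp only [hq, Bool.not_true, Bool.false_or, Bool.or_eq_true, beq_iff_eq, List.any_eq_true,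
    List.mem_range] at h'
  rcases h' with h' | ⟨i, hi, e⟩
  · exact absurd (by rw [← idxPt_ptIdx q, h', ← zero_eq]) hq0
  · exact ⟨i, hi, by rw [cp, ← eIdx, e, idxPt_ptIdx]⟩

theorem cp_inj {i j : ℕ} (h : cp i = cp j) : i % 11 = j % 11 := by
  have hok := cyc_ok
  simp only [Bool.and_eq_true, decide_eq_true_eq] at hok
  have e : eIdx i = eIdx j := by
    have := congrArg ptIdx h
    rwa [cp, cp, ← eIdx, ← eIdx, ptIdx_idxPt _ (eIdx_lt i), ptIdx_idxPt _ (eIdx_lt j)] at this
  refine List.inj_on_of_nodup_map hok.2 (List.mem_range.2 (Nat.mod_lt _ (by norm_num)))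
    (List.mem_range.2 (Nat.mod_lt _ (by norm_num))) ?_
  simp only [eIdx, Nat.mod_mod] at e ⊢
  exact e

theorem mem_M11_of_code {P : ℕ} (h : m11Code P = true) : permOf P ∈ Spor.M11 := by
  simp only [m11Code, Bool.and_eq_true, beq_iff_eq] at h
  obtain ⟨⟨h1, h2⟩, h3⟩ := h
  have hp := isPermCode_of_isM24Code h1
  refine mem_M11.2 ⟨⟨permOf_mem_M24 h1, ?_⟩, ?_⟩
  · rw [squareDodecad_eq, smul_pts hp, h2]
  · rw [zero_eq, permOf_idxPt hp (by norm_num), h3]

theorem code_cp {P : ℕ} (hP : isPermCode P = true) {i j : ℕ} (h : permFn P (eIdx i) = eIdx j) :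
    permOf P (cp i) = cp j := by
  rw [cp, ← eIdx, permOf_idxPt hP (eIdx_lt i), h]; rfl

theorem cyc_mem : permOf cycCode ∈ Spor.M11 := by
  have h := cyc_ok
  simp only [Bool.and_eq_true] at h
  exact mem_M11_of_code h.1.1.1.1

theorem aux_mem : permOf auxCode ∈ Spor.M11 := by
  have h := cyc_ok
  simp only [Bool.and_eq_true] at h
  exact mem_M11_of_code h.1.1.1.2

theorem isPermCode_of_m11 {P : ℕ} (h : m11Code P = true) : isPermCode P = true := by
  simp only [m11Code, Bool.and_eq_true] at h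
  exact isPermCode_of_isM24Code h.1.1

theorem cyc_apply (i : ℕ) : permOf cycCode (cp i) = cp (i + 1) := by
  have h := cyc_ok
  simp only [Bool.and_eq_true, List.all_eq_true, List.mem_range, beq_iff_eq] at h
  have h' := (h.1.1.2 (i % 11) (Nat.mod_lt _ (by norm_num))).1.1.1.1
  rw [← cp_mod i]
  have e : cp (i + 1) = cp (i % 11 + 1) := by rw [← cp_mod, ← cp_mod (i % 11 + 1), Nat.mod_add_mod]
  rw [e]
  exact code_cp (isPermCode_of_m11 h.1.1.1.1) h'

theorem cyc_pow_apply (n i : ℕ) : (permOf cycCode ^ n) (cp i) = cp (i + n) := by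
  induction n with
  | zero => rfl
  | succ n ih => rw [pow_succ', Equiv.Perm.mul_apply, ih, cyc_apply, add_assoc]

theorem aux_apply {i : ℕ} (hi : i < 11) : permOf auxCode (cp i) = cp (auxMap.getD i 0) := by
  have h := cyc_ok
  simp only [Bool.and_eq_true, List.all_eq_true, List.mem_range, beq_iff_eq] at h
  exact code_cp (isPermCode_of_m11 h.1.1.1.2) (h.1.1.2 i hi).2

theorem zero_mem_dod : (some 0 : GolayPt) ∈ Spor.squareDodecad := by
  rw [squareDodecad_eq]; decide +kernel

theorem cyc_pow_zero (n : ℕ) : (permOf cycCode ^ n) (some 0) = some 0 :=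
  Equiv.Perm.pow_apply_eq_self_of_apply_eq_self (mem_M11.1 cyc_mem).2 n

theorem cyc_pow_eleven : permOf cycCode ^ 11 = 1 := by
  refine eq_one_of_five_le (M24.pow_mem (mem_M11.1 cyc_mem).1.1 11) squareDodecad_mem ?_ ?_
  · have := (mem_M12.1 ((inf_le_left : Spor.M11 ≤ Spor.M12) (Spor.M11.pow_mem cyc_mem 11))).2
    exact this
  · have e : fixIn (permOf cycCode ^ 11) Spor.squareDodecad = Spor.squareDodecad := by
      refine Finset.filter_true_of_mem fun q hq => ?_
      rcases eq_or_ne q (some 0) with rfl | h0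
      · exact cyc_pow_zero 11
      · obtain ⟨i, -, rfl⟩ := cp_surj hq h0
        rw [cyc_pow_apply, ← cp_mod, Nat.add_mod_right, cp_mod]
    rw [e, squareDodecad_mem.2]; norm_num

theorem orderOf_cyc : orderOf (permOf cycCode) = 11 := by
  haveI : Fact (Nat.Prime 11) := ⟨by norm_num⟩
  refine orderOf_eq_prime cyc_pow_eleven fun h => ?_
  have := cyc_apply 0
  rw [h, Equiv.Perm.one_apply] at this
  have h' := cp_inj this
  norm_num at h'

/-- Two elements preserving the dodecad that agree at five of its points coincide. -/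
theorem eq_of_agree {x y : Equiv.Perm GolayPt} (hx : x ∈ Spor.M12) (hy : y ∈ Spor.M12) (s : Finset GolayPt)
    (hs : s ⊆ Spor.squareDodecad) (hc : 5 ≤ s.card) (h : ∀ q ∈ s, x q = y q) : x = y := by
  have hm : y⁻¹ * x ∈ Spor.M12 := Spor.M12.mul_mem (Spor.M12.inv_mem hy) hx
  refine (inv_mul_eq_one.1 (eq_one_of_five_le (mem_M12.1 hm).1 squareDodecad_mem (mem_M12.1 hm).2 ?_)).symm
  refine hc.trans (Finset.card_le_card fun q hq => mem_fixIn.2 ⟨hs hq, ?_⟩)
  rw [Equiv.Perm.mul_apply, Equiv.Perm.inv_eq_iff_eq, h q hq]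

/-- An automorphism induced on the dodecad by a permutation is inner, for a group between those of degree 11
and 12. -/
theorem inner_of_normalizing {G : Subgroup (Equiv.Perm GolayPt)} (hG : G ≤ Spor.M12) (hG11 : Spor.M11 ≤ G)
    (hdiv : ¬ 11 ^ 2 ∣ Nat.card G) (φ : MulAut G) (π : Equiv.Perm GolayPt)
    (hπD : ∀ q ∈ Spor.squareDodecad, π q ∈ Spor.squareDodecad)
    (hπ : ∀ g : G, ∀ q ∈ Spor.squareDodecad,
      (φ g : Equiv.Perm GolayPt) (π q) = π ((g : Equiv.Perm GolayPt) q)) : φ ∈ Inn G := by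
  haveI : Fact (Nat.Prime 11) := ⟨by norm_num⟩
  set D := Spor.squareDodecad
  set c : G := ⟨permOf cycCode, hG11 cyc_mem⟩
  have hc : orderOf c = 11 := by rw [← Subgroup.orderOf_coe]; exact orderOf_cyc
  have h11 : 11 ∣ Nat.card G := hc ▸ orderOf_dvd_natCard c
  have hf : (Nat.card G).factorization 11 = 1 := by
    refine le_antisymm ?_ ?_
    · by_contra h
      exact hdiv ((pow_dvd_pow 11 (by omega)).trans (Nat.ordProj_dvd _ 11))
    · exact (Nat.Prime.factorization_pos_of_dvd (by norm_num) Nat.card_pos.ne' h11)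
  have hcard : ∀ x : G, orderOf x = 11 →
      Nat.card (Subgroup.zpowers x) = 11 ^ (Nat.card G).factorization 11 := fun x hx => by
    rw [hf, pow_one, Nat.card_zpowers, hx]
  have hc' : orderOf (φ c) = 11 := by rw [φ.orderOf_eq, hc]
  obtain ⟨g, hg⟩ := MulAction.exists_smul_eq G (Sylow.ofCard _ (hcard c hc)) (Sylow.ofCard _ (hcard _ hc'))
  have hmem : φ c ∈ (Subgroup.zpowers c).map (MulAut.conj g).toMonoidHom := by
    have h := congrArg (fun P : Sylow 11 G => (P : Subgroup G)) hg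
    simp only [Sylow.coe_subgroup_smul, Sylow.coe_ofCard] at h
    have h' : φ c ∈ MulAut.conj g • Subgroup.zpowers c := h ▸ Subgroup.mem_zpowers _
    exact h'
  obtain ⟨y, hy, hgy⟩ := hmem
  obtain ⟨k0, rfl⟩ := (mem_powers_iff_mem_zpowers (x := c)).2 hy
  set k := k0 % 11
  have hgy' : φ c = g * c ^ k * g⁻¹ := by
    rw [← hgy, show k = k0 % orderOf c by rw [hc], pow_mod_orderOf]
    rfl
  set π1 := (g : Equiv.Perm GolayPt)⁻¹ * π
  set cc := permOf cycCode
  have hgD : ∀ x ∈ G, ∀ q ∈ D, x q ∈ D := fun x hx => smul_mem_dod (mem_M12.1 (hG hx)).2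
  have hconj : ∀ q ∈ D, (cc ^ k) (π1 q) = π1 (cc q) := fun q hq => by
    have h := hπ c q hq
    rw [hgy', Subgroup.coe_mul, Subgroup.coe_mul, Subgroup.coe_inv, Subgroup.coe_pow, Equiv.Perm.mul_apply,
      Equiv.Perm.mul_apply] at h
    show (cc ^ k) ((g : Equiv.Perm GolayPt)⁻¹ (π q)) = (g : Equiv.Perm GolayPt)⁻¹ (π (cc q))
    exact ((Equiv.Perm.inv_eq_iff_eq).2 h.symm).symm
  have hπ1D : ∀ q ∈ D, π1 q ∈ D := fun q hq => hgD _ (G.inv_mem g.2) _ (hπD q hq)
  have hk0 : k ≠ 0 := fun h0 => by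
    rw [h0, pow_zero, mul_one, mul_inv_cancel] at hgy'
    rw [hgy', orderOf_one] at hc'
    norm_num at hc'
  have hk11 : k < 11 := Nat.mod_lt _ (by norm_num)
  have hzero : π1 (some 0) = some 0 := by
    by_contra hne
    obtain ⟨i, -, hi⟩ := cp_surj (hπ1D _ zero_mem_dod) hne
    have h := hconj _ zero_mem_dod
    rw [(mem_M11.1 cyc_mem).2, ← hi, cyc_pow_apply] at h
    have := cp_inj h
    omega
  have hne1 : π1 (cp 0) ≠ some 0 := fun h => (cp_mem 0).2 (π1.injective (h.trans hzero.symm))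
  obtain ⟨j, -, hj⟩ := cp_surj (hπ1D _ (cp_mem 0).1) hne1
  have hact : ∀ i, π1 (cp i) = cp (j + k * i) := by
    intro i
    induction i with
    | zero => rw [mul_zero, add_zero, hj]
    | succ i ih =>
      rw [← cyc_apply, ← hconj _ (cp_mem i).1, ih, cyc_pow_apply, add_assoc, ← Nat.mul_succ]
  set K : G := g * c ^ j
  set π2 := (cc ^ j)⁻¹ * π1
  have hπ2 : ∀ i, π2 (cp i) = cp (k * i) := fun i => by
    show (cc ^ j)⁻¹ (π1 (cp i)) = _
    rw [Equiv.Perm.inv_eq_iff_eq, hact, cyc_pow_apply, add_comm]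
  have hπ20 : π2 (some 0) = some 0 := by
    show (cc ^ j)⁻¹ (π1 (some 0)) = _
    rw [Equiv.Perm.inv_eq_iff_eq, hzero, cyc_pow_zero]
  have hKeq : π = (K : Equiv.Perm GolayPt) * π2 := by
    show π = (g : Equiv.Perm GolayPt) * cc ^ j * ((cc ^ j)⁻¹ * ((g : Equiv.Perm GolayPt)⁻¹ * π))
    group
  have hψ : ∀ x : G, ∀ q ∈ D,
      ((K⁻¹ * φ x * K : G) : Equiv.Perm GolayPt) (π2 q) = π2 ((x : Equiv.Perm GolayPt) q) := fun x q hq => by
    have h := hπ x q hq
    rw [hKeq, Equiv.Perm.mul_apply, Equiv.Perm.mul_apply] at h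
    rw [Subgroup.coe_mul, Subgroup.coe_mul, Subgroup.coe_inv, Equiv.Perm.mul_apply, Equiv.Perm.mul_apply,
      Equiv.Perm.inv_eq_iff_eq]
    exact h
  have hcov := List.all_eq_true.1 multipliers_cover k (List.mem_range.2 hk11)
  simp only [Bool.or_eq_true, List.any_eq_true, beq_iff_eq, hk0, false_or] at hcov
  rcases hcov with ⟨⟨k', n⟩, hmemn, hkk⟩ | ⟨⟨k', h, f⟩, hmemh, hkk⟩ <;> simp only at hkk <;> subst hkk
  · have hok := List.all_eq_true.1 good_ok _ hmemn
    simp only [Bool.and_eq_true, List.all_eq_true, List.mem_range, beq_iff_eq] at hok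
    have hN := mem_M11_of_code hok.1
    set N : G := ⟨permOf n, hG11 hN⟩
    have hagree : ∀ q ∈ D, π2 q = permOf n q := fun q hq => by
      rcases eq_or_ne q (some 0) with rfl | h0
      · rw [hπ20, (mem_M11.1 hN).2]
      · obtain ⟨i, hi, rfl⟩ := cp_surj hq h0
        rw [hπ2, code_cp (isPermCode_of_m11 hok.1) (hok.2 i hi)]
    refine ⟨K * N, MulEquiv.ext fun x => ?_⟩
    rw [MulAut.conj_apply]
    have e : K⁻¹ * φ x * K = N * x * N⁻¹ := by
      refine Subtype.ext (eq_of_agree (hG (K⁻¹ * φ x * K).2) (hG (N * x * N⁻¹).2) D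
        subset_rfl (by rw [squareDodecad_mem.2]; norm_num) fun q hq => ?_)
      have hq' : (N : Equiv.Perm GolayPt)⁻¹ q ∈ D := hgD _ (G.inv_mem N.2) q hq
      have h := hψ x _ hq'
      rw [hagree _ hq', hagree _ (hgD _ x.2 _ hq'), show permOf n ((N : Equiv.Perm GolayPt)⁻¹ q) = q from
        Equiv.apply_symm_apply _ q] at h
      rw [h]
      rfl
    calc K * N * x * (K * N)⁻¹ = K * (N * x * N⁻¹) * K⁻¹ := by group
      _ = φ x := by rw [← e]; group
  · exfalso
    have hok := List.all_eq_true.1 bad_ok _ hmemh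
    simp only [Bool.and_eq_true, List.all_eq_true, List.mem_range, beq_iff_eq, decide_eq_true_eq, bne_iff_ne] at hok
    obtain ⟨⟨⟨⟨hM, hD⟩, hf11⟩, hfive⟩, hne⟩ := hok
    have hp := isPermCode_of_isM24Code hM
    have hH12 : permOf h ∈ Spor.M12 := mem_M12.2 ⟨permOf_mem_M24 hM, by rw [squareDodecad_eq, smul_pts hp, hD]⟩
    set A : G := ⟨permOf auxCode, hG11 aux_mem⟩
    have hval : ∀ i < 11, ((K⁻¹ * φ A * K : G) : Equiv.Perm GolayPt) (cp (k * i)) = cp (k * auxMap.getD i 0) :=
      fun i hi => by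
        rw [← hπ2 i, hψ A _ (cp_mem i).1, show (A : Equiv.Perm GolayPt) (cp i) = _ from aux_apply hi, hπ2]
    have e : ((K⁻¹ * φ A * K : G) : Equiv.Perm GolayPt) = permOf h := by
      refine eq_of_agree (hG (K⁻¹ * φ A * K).2) hH12 ((Finset.range 5).image fun i => cp (k * i)) ?_ ?_ ?_
      · intro q hq
        obtain ⟨i, -, rfl⟩ := Finset.mem_image.1 hq
        exact (cp_mem _).1
      · rw [Finset.card_image_of_injOn, Finset.card_range]
        intro a ha b hb hab
        simp only [Finset.coe_range, Set.mem_Iio] at ha hb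
        have := cp_inj hab
        interval_cases k <;> omega
      · intro q hq
        obtain ⟨i, hi, rfl⟩ := Finset.mem_image.1 hq
        rw [Finset.mem_range] at hi
        rw [hval i (by omega), code_cp hp (hfive i hi)]
    have h6 := hval f hf11
    rw [e, cp, ← eIdx, permOf_idxPt hp (eIdx_lt _), cp, ← eIdx] at h6
    have := congrArg ptIdx h6
    rw [ptIdx_idxPt _ (permFn_lt hp (eIdx_lt _)), ptIdx_idxPt _ (eIdx_lt _)] at this
    exact hne this

theorem card_M12 : Nat.card Spor.M12 = 95040 := by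
  have h := card_stabilizer_dodecad squareDodecad_mem
  rw [card_subgroup_M24] at h
  have e : (stabilizer M24 Spor.squareDodecad).map M24.subtype = Spor.M12 := by
    ext g
    rw [mem_map_stabilizer, mem_M12]
  rwa [e] at h

theorem orbitF_M12_zero : orbitF Spor.M12 (some 0) = Spor.squareDodecad := by
  refine Finset.Subset.antisymm (orbitF_subset zero_mem_dod fun g hg => smul_mem_dod (mem_M12.1 hg).2) fun q hq => ?_
  obtain ⟨g, hg, hgd, hgq⟩ := exists_mem_stabilizer_map_point squareDodecad_mem zero_mem_dod hq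
  exact mem_orbitF.2 ⟨g, mem_M12.2 ⟨hg, hgd⟩, hgq⟩

theorem card_M11 : Nat.card Spor.M11 = 7920 := by
  have h := card_orbitF Spor.M12 (some 0)
  rw [orbitF_M12_zero, squareDodecad_mem.2, card_M12] at h
  have e' : Spor.M11 = Spor.M12 ⊓ stabilizer (Equiv.Perm GolayPt) (some 0 : GolayPt) := rfl
  rw [e']; omega

theorem inner_M11 (φ : MulAut Spor.M11) : φ ∈ Inn Spor.M11 := by
  set D := Spor.squareDodecad
  set O := D.erase (some 0)
  have hO : ∀ g ∈ Spor.M11, ∀ q ∈ O, g q ∈ O := fun g hg q hq => by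
    rw [Finset.mem_erase] at hq ⊢
    exact ⟨fun e => hq.1 (g.injective (e.trans (mem_M11.1 hg).2.symm)),
      smul_mem_dod (mem_M11.1 hg).1.2 q hq.2⟩
  have htr : ∀ p : GolayPt, p ∈ O → ∀ q ∈ O, ∃ g : Spor.M11, (g : Equiv.Perm GolayPt) p = q := by
    intro p hp q hq
    rw [Finset.mem_erase] at hp hq
    obtain ⟨i, hi, rfl⟩ := cp_surj hp.2 hp.1
    obtain ⟨j, hj, rfl⟩ := cp_surj hq.2 hq.1
    refine ⟨⟨_, Spor.M11.pow_mem cyc_mem (j + 11 - i)⟩, ?_⟩
    show (permOf cycCode ^ (j + 11 - i)) (cp i) = cp j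
    rw [cyc_pow_apply, ← cp_mod, ← cp_mod j]
    congr 1
    omega
  have haO : cp 0 ∈ O := Finset.mem_erase.2 ⟨(cp_mem 0).2, (cp_mem 0).1⟩
  obtain ⟨H, hH, hc, hmem⟩ := exists_image φ (cp 0)
  have cstab : Nat.card ↥(Spor.M11 ⊓ stabilizer (Equiv.Perm GolayPt) (cp 0)) = 720 := by
    have h := card_orbitF Spor.M11 (cp 0)
    have e : orbitF Spor.M11 (cp 0) = O := Finset.Subset.antisymm (orbitF_subset haO hO) fun q hq => by
      obtain ⟨g, hg⟩ := htr _ haO q hq
      exact mem_orbitF.2 ⟨g, g.2, hg⟩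
    rw [e, Finset.card_erase_of_mem zero_mem_dod, squareDodecad_mem.2, card_M11] at h
    omega
  obtain ⟨u, huD, hu0, hu⟩ := fixes_point_11 (fun g hg => (mem_M11.1 (hH hg)).1.1) squareDodecad_mem
    (fun g hg => (mem_M11.1 (hH hg)).1.2) zero_mem_dod (fun g hg => (mem_M11.1 (hH hg)).2) (hc.trans cstab)
  have huO : u ∈ O := Finset.mem_erase.2 ⟨hu0, huD⟩
  obtain ⟨π, hπ0, hπO, hπ⟩ := exists_perm O hO φ haO huO (htr _ haO) (htr u huO) fun g hg => hu _ (hmem g hg)
  have hz : π (some 0) = some 0 := hπ0 _ (by simp [O])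
  refine inner_of_normalizing (G := Spor.M11) inf_le_left le_rfl (by rw [card_M11]; norm_num) φ π (fun q hq => ?_)
    fun g q hq => ?_
  · rcases eq_or_ne q (some 0) with rfl | h0
    · rw [hz]; exact hq
    · exact (Finset.mem_erase.1 (hπO q (Finset.mem_erase.2 ⟨h0, hq⟩))).2
  · rcases eq_or_ne q (some 0) with rfl | h0
    · rw [hz, (mem_M11.1 g.2).2, (mem_M11.1 (φ g).2).2, hz]
    · exact hπ g q (Finset.mem_erase.2 ⟨h0, hq⟩)

theorem out_M12 : Nat.card (Out Spor.M12) = 2 := by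
  obtain ⟨hM, hD, h0, -, -⟩ := swapDodecad_facts
  have hp := isPermCode_of_isM24Code hM
  set k := permOf swapDodecad
  have hkM : k ∈ M24 := permOf_mem_M24 hM
  set D := Spor.squareDodecad
  have hkD : k • D = Dᶜ := by
    rw [show D = pts squareMask from squareDodecad_eq, smul_pts hp, hD]
    ext p
    simp [mem_pts, Nat.testBit_xor, fullMask_testBit _ (ptIdx_lt p)]
  have hk0 : k (some 0) = none := by
    rw [zero_eq, permOf_idxPt hp (by norm_num), h0]; rfl
  have hDc : k • Dᶜ = D := by rw [smul_compl', hkD, compl_compl]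
  have hnorm : ∀ x ∈ Spor.M12, k * x * k⁻¹ ∈ Spor.M12 := fun x hx => by
    obtain ⟨h1, h2⟩ := mem_M12.1 hx
    refine mem_M12.2 ⟨M24.mul_mem (M24.mul_mem hkM h1) (M24.inv_mem hkM), ?_⟩
    rw [mul_smul, mul_smul, show k⁻¹ • D = Dᶜ from inv_smul_eq_iff.2 hDc.symm, smul_compl', h2, hDc]
  have hnorm' : ∀ x ∈ Spor.M12, k⁻¹ * x * k ∈ Spor.M12 := fun x hx => by
    obtain ⟨h1, h2⟩ := mem_M12.1 hx
    refine mem_M12.2 ⟨M24.mul_mem (M24.mul_mem (M24.inv_mem hkM) h1) hkM, ?_⟩
    rw [mul_smul, mul_smul, hkD, smul_compl', h2, inv_smul_eq_iff, hkD]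
  obtain ⟨⟨eq⟩, hnot, -⟩ := point_stabilizer_classes
  refine out_card_two (σ := conjAut k hnorm hnorm') ?_ fun φ => ?_
  · rintro ⟨h, e⟩
    refine hnot ⟨h, h.2, Subgroup.eq_of_le_of_card_ge ?_ ?_⟩
    · rintro x ⟨y, hy, rfl⟩
      have hy12 : y ∈ Spor.M12 := (inf_le_left : Spor.M11 ≤ Spor.M12) hy
      have e' := congrArg (fun ψ : MulAut Spor.M12 => (ψ ⟨y, hy12⟩ : Equiv.Perm GolayPt)) e
      simp only [MulAut.conj_apply, Subgroup.coe_mul, Subgroup.coe_inv, conjAut] at e'
      show (MulAut.conj (h : Equiv.Perm GolayPt)) y ∈ _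
      rw [MulAut.conj_apply, show (h : Equiv.Perm GolayPt) * y * (h : Equiv.Perm GolayPt)⁻¹ = k * y * k⁻¹ from e']
      refine mem_M12none.2 ⟨mem_M12.1 (hnorm y hy12), ?_⟩
      rw [Equiv.Perm.mul_apply, Equiv.Perm.mul_apply, show k⁻¹ none = some 0 by
        rw [Equiv.Perm.inv_eq_iff_eq, hk0], (mem_M11.1 hy).2, hk0]
    · rw [Nat.card_congr (Subgroup.equivSMul (MulAut.conj (h : Equiv.Perm GolayPt)) Spor.M11).symm.toEquiv,
        Nat.card_congr eq.toEquiv]
  obtain ⟨H, hH, hc, hmem⟩ := exists_image φ (some 0)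
  obtain ⟨u, hu⟩ := fixes_point_12 (fun g hg => (mem_M12.1 (hH hg)).1) squareDodecad_mem
    (fun g hg => (mem_M12.1 (hH hg)).2) (hc.trans card_M11)
  have htr : ∀ p : GolayPt, p ∈ D → ∀ q ∈ D, ∃ g : Spor.M12, (g : Equiv.Perm GolayPt) p = q := by
    intro p hp' q hq
    obtain ⟨g, hg, hgd, hgq⟩ := exists_mem_stabilizer_map_point squareDodecad_mem hp' hq
    exact ⟨⟨g, mem_M12.2 ⟨hg, hgd⟩⟩, hgq⟩
  have hdiv : ¬ 11 ^ 2 ∣ Nat.card Spor.M12 := by rw [card_M12]; norm_num
  have key : ∀ (ψ : MulAut Spor.M12) (b : GolayPt), b ∈ D →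
      (∀ g : Spor.M12, (g : Equiv.Perm GolayPt) (some 0) = some 0 → (ψ g : Equiv.Perm GolayPt) b = b) →
      ψ ∈ Inn Spor.M12 := by
    intro ψ b hb hψ
    obtain ⟨π, -, hπD, hπ⟩ := exists_perm D (fun g hg => smul_mem_dod (mem_M12.1 hg).2) ψ zero_mem_dod hb
      (htr _ zero_mem_dod) (htr b hb) hψ
    exact inner_of_normalizing le_rfl inf_le_left hdiv ψ π hπD hπ
  by_cases huD : u ∈ D
  · exact Or.inl (key φ u huD fun g hg => hu _ (hmem g hg))
  · right
    have hku : k u ∈ D := by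
      rw [← hDc]; exact Finset.smul_mem_smul_finset (Finset.mem_compl.2 huD)
    have h1 : conjAut k hnorm hnorm' * φ ∈ Inn Spor.M12 := key _ (k u) hku fun g hg => by
      show (k * (φ g : Equiv.Perm GolayPt) * k⁻¹) (k u) = k u
      rw [Equiv.Perm.mul_apply, Equiv.Perm.mul_apply, Equiv.Perm.inv_def, Equiv.symm_apply_apply, hu _ (hmem g hg)]
    exact (Subgroup.Normal.mem_comm inferInstance h1 : φ * conjAut k hnorm hnorm' ∈ Inn Spor.M12)

end CfsgLib.Spor.OuterAut
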