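/-
Certificates for the fusion of a Sylow 2-subgroup of a permutation group on the 24 points.
-/
import Cfsg.Agent.Lib.Spor.OrbitExact
import Cfsg.Agent.Lib.Fusion.System.SimpleGroupCriterion
import Cfsg.Agent.Lib.Coprime.Action
import Cfsg.Agent.Lib.Coprime.Solvable
import Cfsg.Agent.Lib.Coprime.PGroupFrattini
import Cfsg.Agent.Lib.CFun.IndexP

set_option autoImplicit false

namespace CfsgLib.Spor

open Cfsg
open scoped Pointwise

/-! ### Data and checks -/

/-- A listing of a 2-group of order `2 ^ n` with `d` generators modulo squares, and its fusion data. -/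
structure TwoCert where
  n : ℕ
  d : ℕ
  z : ℕ
  E : ℕ
  ord : ℕ
  tbl : ℕ
  sq : List (List (ℕ × ℕ × ℕ))
  X : ℕ
  masks : List (ℕ × ℕ)
  ukey : List ℕ
  U : List ℕ
  W : List (ℕ × ℕ × ℕ × ℕ)

namespace TwoCert

variable (C : TwoCert)

def size : ℕ := 2 ^ C.n

def el (k : ℕ) : ℕ := arrGet 120 C.E k

def elemsCheck : Bool :=
  ((List.range C.size).all fun k =>
    isPermCode (C.el k) && (packFn (permFn (C.el k)) 0 24 == C.el k)) &&
  (distinctCheck 120 C.E C.ord C.size && ((C.el 0 == idPacked) && decide (C.d ≤ C.n)))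

def mulCheck : Bool :=
  (List.range C.n).all fun j => (List.range C.size).all fun k =>
    (let m := arrGet 16 C.tbl (j * C.size + k)
     decide (m < C.size) && (permMulCode (C.el (2 ^ j)) (C.el k) == C.el m)) &&
    (!(k % 2 ^ (j + 1) == 2 ^ j) || arrGet 16 C.tbl (j * C.size + (k - 2 ^ j)) == k)

def sqChain (target : ℕ) : ℕ → List (ℕ × ℕ × ℕ) → Bool
  | acc, [] => acc == target
  | acc, (k, q, acc') :: l =>
    decide (k < C.size) && (decide (q < C.size) && (decide (acc' < C.size) &&
      ((permMulCode (C.el k) (C.el k) == C.el q) &&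
        ((permMulCode (C.el acc) (C.el q) == C.el acc') && sqChain target acc' l))))

def sqCheck : Bool :=
  (List.range (C.n - C.d)).all fun i => C.sqChain (2 ^ (C.d + i)) 0 (C.sq.getD i [])

def fixMask (P : ℕ) : ℕ := maskFn (fun i => permFn P i == i) 24

def fixCount (i : ℕ) : ℕ := (List.range C.size).countP fun k => permFn (C.el k) i == i

def sig (k : ℕ) : List ℕ := C.masks.map fun cm => pop 24 (fixMask (C.el k) &&& cm.2)

def commCount (k : ℕ) : ℕ :=
  C.U.countP fun u => permMulCode (C.el k) (C.el u) == permMulCode (C.el u) (C.el k)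

def maskCheck : Bool :=
  (C.masks.all fun cm => cm.2 == maskFn (fun i => C.X.testBit i && (C.fixCount i == cm.1)) 24) &&
  (C.U == (List.range C.size).filter fun k => C.sig k == C.ukey)

def repCheck : Bool :=
  (List.range C.d).all fun j => (List.range C.size).all fun k =>
    (k % 2 ^ C.d == 2 ^ j) || !((C.sig k == C.sig (2 ^ j)) && (C.commCount k == C.commCount (2 ^ j)))

def centerCheck : Bool :=
  (List.range C.size).all fun k => (k == 0) || ((k == C.z) ||
    (List.range C.n).any fun j =>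
      !(permMulCode (C.el k) (C.el (2 ^ j)) == permMulCode (C.el (2 ^ j)) (C.el k)))

def chainGo (memb : ℕ → Bool) : List ℕ → List (ℕ × ℕ × ℕ × ℕ) → Bool
  | known, [] => (List.range C.n).all fun j => known.contains (2 ^ j)
  | known, (w, g, a, b) :: l =>
    decide (w < C.size) && (known.contains a &&
      ((if g == 0 then known.contains b && (permMulCode (C.el a) (C.el b) == C.el w)
        else memb g && (permMulCode g (C.el a) == permMulCode (C.el w) g)) &&
      chainGo memb (w :: known) l))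

def chainCheck (memb : ℕ → Bool) : Bool := C.chainGo memb [C.z] C.W

end TwoCert

/-! ### Packed equalities -/

theorem packFn_congr {f g : ℕ → ℕ} : ∀ n k, (∀ i < n, f (k + i) = g (k + i)) →
    packFn f k n = packFn g k n
  | 0, _, _ => rfl
  | n + 1, k, h => by
    rw [packFn, packFn, packFn_congr (f := f) (g := g) n (k + 1) fun i hi => by
      rw [show k + 1 + i = k + (i + 1) by omega]; exact h (i + 1) (by omega),
      show f k = g k from h 0 (Nat.succ_pos n)]

theorem permFn_eq_of_permOf_eq {a b : ℕ} (ha : isPermCode a = true) (hb : isPermCode b = true)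
    (h : permOf a = permOf b) {i : ℕ} (hi : i < 24) : permFn a i = permFn b i := by
  have e := congrArg (fun σ : Equiv.Perm GolayPt => ptIdx (σ (idxPt i))) h
  simpa only [permOf_idxPt ha hi, permOf_idxPt hb hi, ptIdx_idxPt _ (permFn_lt ha hi),
    ptIdx_idxPt _ (permFn_lt hb hi)] using e

theorem permFn_permMulCode {a b : ℕ} (ha : isPermCode a = true) (hb : isPermCode b = true) {i : ℕ}
    (hi : i < 24) : permFn (permMulCode a b) i = permFn a (permFn b i) := by
  rw [permMulCode, permFn_packFn _ _ _ _ hi, Nat.zero_add]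
  intro j hj
  have := permFn_lt ha (permFn_lt hb (by omega : 0 + j < 24))
  omega

theorem permMulCode_eq_iff {a b c e : ℕ} (ha : isPermCode a = true) (hb : isPermCode b = true)
    (hc : isPermCode c = true) (he : isPermCode e = true) :
    permMulCode a b = permMulCode c e ↔ permOf a * permOf b = permOf c * permOf e := by
  constructor
  · intro h
    ext p : 1
    rw [Equiv.Perm.mul_apply, Equiv.Perm.mul_apply, permOf_apply hb, permOf_apply he,
      permOf_idxPt ha (permFn_lt hb (ptIdx_lt p)), permOf_idxPt hc (permFn_lt he (ptIdx_lt p)),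
      ← permFn_permMulCode ha hb (ptIdx_lt p), h, permFn_permMulCode hc he (ptIdx_lt p)]
  · intro h
    refine packFn_congr 24 0 fun i hi => ?_
    rw [Nat.zero_add]
    have e' := congrArg (fun σ : Equiv.Perm GolayPt => ptIdx (σ (idxPt i))) h
    simpa only [Equiv.Perm.mul_apply, permOf_idxPt hb hi, permOf_idxPt he hi,
      permOf_idxPt ha (permFn_lt hb hi), permOf_idxPt hc (permFn_lt he hi),
      ptIdx_idxPt _ (permFn_lt ha (permFn_lt hb hi)),
      ptIdx_idxPt _ (permFn_lt hc (permFn_lt he hi))] using e'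

theorem permOf_fix_iff {a : ℕ} (ha : isPermCode a = true) {p : GolayPt} :
    permOf a p = p ↔ permFn a (ptIdx p) = ptIdx p := by
  rw [permOf_apply ha]
  constructor
  · intro h
    have := congrArg ptIdx h
    rwa [ptIdx_idxPt _ (permFn_lt ha (ptIdx_lt p))] at this
  · intro h; rw [h, idxPt_ptIdx]

theorem countP_range (N : ℕ) (f : ℕ → Bool) :
    (List.range N).countP f = ((Finset.range N).filter fun k => f k = true).card := by
  simp [List.countP_eq_length_filter, Finset.card, Finset.filter, Finset.range, Multiset.range]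

theorem exists_low_bit (k : ℕ) : ∀ j, k % 2 ^ j ≠ 0 → ∃ i < j, k % 2 ^ (i + 1) = 2 ^ i
  | 0, h => absurd (Nat.mod_one k) h
  | j + 1, h => by
    by_cases h0 : k % 2 ^ j = 0
    · refine ⟨j, Nat.lt_succ_self j, ?_⟩
      rw [Nat.mod_pow_succ, h0] at h ⊢
      rcases Nat.mod_two_eq_zero_or_one (k / 2 ^ j) with e | e <;> rw [e] at h ⊢ <;> simp_all
    · obtain ⟨i, hi, e⟩ := exists_low_bit k j h0
      exact ⟨i, Nat.lt_succ_of_lt hi, e⟩

/-! ### Soundness -/

/-- The hypotheses: the checks, and how the data sits in `G`. -/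
structure TwoCert.Valid (C : TwoCert) (memb : ℕ → Bool) (G : Subgroup (Equiv.Perm GolayPt)) :
    Prop where
  elems : C.elemsCheck = true
  mul : C.mulCheck = true
  sqs : C.sqCheck = true
  mask : C.maskCheck = true
  reps : C.repCheck = true
  center : C.centerCheck = true
  chain : C.chainCheck memb = true
  gens : (List.range C.n).all (fun j => memb (C.el (2 ^ j))) = true
  hz : C.z < C.size
  hn : 0 < C.n
  sound : ∀ g, memb g = true → isPermCode g = true ∧ permOf g ∈ G
  hX : ∀ g ∈ G, g • pts C.X = pts C.X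

namespace TwoCert.Valid

variable {C : TwoCert} {memb : ℕ → Bool} {G : Subgroup (Equiv.Perm GolayPt)}

theorem d_le (h : C.Valid memb G) : C.d ≤ C.n := by
  have := h.elems
  simp only [elemsCheck, Bool.and_eq_true, decide_eq_true_eq] at this
  exact this.2.2.2

theorem perm (h : C.Valid memb G) {k : ℕ} (hk : k < C.size) : isPermCode (C.el k) = true := by
  have := h.elems
  simp only [elemsCheck, Bool.and_eq_true, List.all_eq_true, List.mem_range] at this
  exact (this.1 k hk).1

theorem permOf_zero (h : C.Valid memb G) : permOf (C.el 0) = 1 := by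
  have := h.elems
  simp only [elemsCheck, Bool.and_eq_true, beq_iff_eq] at this
  rw [this.2.2.1, permOf_idPacked]

theorem pow_lt (h : C.Valid memb G) {j : ℕ} (hj : j < C.n) : 2 ^ j < C.size :=
  Nat.pow_lt_pow_right (by norm_num) hj

theorem injOn (h : C.Valid memb G) {a b : ℕ} (ha : a < C.size) (hb : b < C.size)
    (e : permOf (C.el a) = permOf (C.el b)) : a = b := by
  have := h.elems
  simp only [elemsCheck, Bool.and_eq_true, List.all_eq_true, List.mem_range, beq_iff_eq] at this
  refine injOn_of_distinctCheck this.2.1 ha hb ?_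
  show C.el a = C.el b
  rw [← (this.1 a ha).2, ← (this.1 b hb).2]
  refine packFn_congr 24 0 fun i hi => ?_
  rw [Nat.zero_add]
  exact permFn_eq_of_permOf_eq (h.perm ha) (h.perm hb) e hi

theorem step (h : C.Valid memb G) {j k : ℕ} (hj : j < C.n) (hk : k < C.size) :
    ∃ m < C.size, permOf (C.el (2 ^ j)) * permOf (C.el k) = permOf (C.el m) := by
  have := h.mul
  simp only [mulCheck, List.all_eq_true, List.mem_range, Bool.and_eq_true, decide_eq_true_eq,
    beq_iff_eq] at this
  obtain ⟨⟨hm, e⟩, -⟩ := this j hj k hk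
  exact ⟨_, hm, permOf_permMulCode (h.perm (h.pow_lt hj)) (h.perm hk) (h.perm hm) e⟩

theorem decomp (h : C.Valid memb G) {i k : ℕ} (hi : i < C.n) (hk : k < C.size)
    (e : k % 2 ^ (i + 1) = 2 ^ i) :
    permOf (C.el k) = permOf (C.el (2 ^ i)) * permOf (C.el (k - 2 ^ i)) := by
  have := h.mul
  simp only [mulCheck, List.all_eq_true, List.mem_range, Bool.and_eq_true, decide_eq_true_eq,
    beq_iff_eq, Bool.or_eq_true, Bool.not_eq_true'] at this
  have hk' : k - 2 ^ i < C.size := lt_of_le_of_lt (Nat.sub_le _ _) hk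
  obtain ⟨⟨hm, e'⟩, -⟩ := this i hi _ hk'
  have e'' : arrGet 16 C.tbl (i * C.size + (k - 2 ^ i)) = k := by
    rcases (this i hi k hk).2 with hb | hb
    · simp [e] at hb
    · exact hb
  rw [e''] at e'
  exact (permOf_permMulCode (h.perm (h.pow_lt hi)) (h.perm hk') (h.perm hk) e').symm

theorem le_self {i k : ℕ} (e : k % 2 ^ (i + 1) = 2 ^ i) : 2 ^ i ≤ k := e ▸ Nat.mod_le _ _

/-- Induction along the decomposition. -/
theorem induction (h : C.Valid memb G) (P : ℕ → Prop) (h0 : P 0)
    (hs : ∀ i k, i < C.n → k < C.size → k % 2 ^ (i + 1) = 2 ^ i → P (k - 2 ^ i) → P k) :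
    ∀ k < C.size, P k := by
  intro k
  induction k using Nat.strong_induction_on with
  | _ k ih =>
    intro hk
    by_cases hk0 : k = 0
    · exact hk0 ▸ h0
    obtain ⟨i, hi, e⟩ := exists_low_bit k C.n (by rwa [Nat.mod_eq_of_lt (show k < 2 ^ C.n from hk)])
    have := le_self e
    have hp : 0 < 2 ^ i := Nat.two_pow_pos i
    exact hs i k hi hk e (ih _ (by omega) (by omega))

/-- The listed elements form a subgroup. -/
theorem mul_mem (h : C.Valid memb G) {a b : ℕ} (ha : a < C.size) (hb : b < C.size) :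
    ∃ c < C.size, permOf (C.el a) * permOf (C.el b) = permOf (C.el c) := by
  refine h.induction (fun a => ∀ b < C.size, ∃ c < C.size,
    permOf (C.el a) * permOf (C.el b) = permOf (C.el c)) ?_ ?_ a ha b hb
  · intro b hb; exact ⟨b, hb, by rw [h.permOf_zero, one_mul]⟩
  · intro i k hi hk e ih b hb
    obtain ⟨c, hc, ec⟩ := ih b hb
    obtain ⟨m, hm, em⟩ := h.step hi hc
    exact ⟨m, hm, by rw [h.decomp hi hk e, mul_assoc, ec, em]⟩

/-- The listed subgroup. -/
def grp (h : C.Valid memb G) : Subgroup (Equiv.Perm GolayPt) where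
  carrier := {x | ∃ k < C.size, permOf (C.el k) = x}
  one_mem' := ⟨0, Nat.two_pow_pos _, h.permOf_zero⟩
  mul_mem' := by
    rintro _ _ ⟨a, ha, rfl⟩ ⟨b, hb, rfl⟩
    obtain ⟨c, hc, e⟩ := h.mul_mem ha hb
    exact ⟨c, hc, e.symm⟩
  inv_mem' := by
    rintro _ ⟨a, ha, rfl⟩
    have key : ∀ r, ∃ c < C.size, permOf (C.el c) = permOf (C.el a) ^ r := by
      intro r
      induction r with
      | zero => exact ⟨0, Nat.two_pow_pos _, by rw [pow_zero, h.permOf_zero]⟩
      | succ r ih =>
        obtain ⟨c, hc, e⟩ := ih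
        obtain ⟨c', hc', e'⟩ := h.mul_mem hc ha
        exact ⟨c', hc', by rw [pow_succ, ← e, e']⟩
    obtain ⟨c, hc, e⟩ := key (orderOf (permOf (C.el a)) - 1)
    refine ⟨c, hc, e.trans (eq_inv_of_mul_eq_one_left ?_)⟩
    rw [← pow_succ, Nat.sub_add_cancel (orderOf_pos _), pow_orderOf_eq_one]

theorem mem_G (h : C.Valid memb G) : ∀ k < C.size, permOf (C.el k) ∈ G := by
  refine h.induction _ (h.permOf_zero ▸ one_mem G) fun i k hi hk e ih => ?_
  have hg := List.all_eq_true.1 h.gens i (List.mem_range.2 hi)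
  rw [h.decomp hi hk e]
  exact G.mul_mem (h.sound _ hg).2 ih

theorem grp_le (h : C.Valid memb G) : h.grp ≤ G := by
  rintro _ ⟨k, hk, rfl⟩; exact h.mem_G k hk

theorem card_grp (h : C.Valid memb G) : Nat.card h.grp = C.size := by
  let f : Fin C.size → h.grp := fun k => ⟨permOf (C.el k), k, k.2, rfl⟩
  have hf : Function.Bijective f := by
    refine ⟨fun a b e => Fin.ext (h.injOn a.2 b.2 (congrArg Subtype.val e)), ?_⟩
    rintro ⟨_, k, hk, rfl⟩; exact ⟨⟨k, hk⟩, rfl⟩
  rw [← Nat.card_eq_of_bijective f hf, Nat.card_fin]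

/-- The subgroup inside `G`. -/
abbrev syl (h : C.Valid memb G) : Subgroup G := h.grp.subgroupOf G

/-- A listed element in `G`. -/
noncomputable def q (h : C.Valid memb G) (k : ℕ) : G :=
  if hk : k < C.size then ⟨permOf (C.el k), h.mem_G k hk⟩ else 1

theorem coe_q (h : C.Valid memb G) {k : ℕ} (hk : k < C.size) :
    ((h.q k : G) : Equiv.Perm GolayPt) = permOf (C.el k) := by rw [q, dif_pos hk]

theorem q_mem (h : C.Valid memb G) {k : ℕ} (hk : k < C.size) : h.q k ∈ h.syl := by
  rw [Subgroup.mem_subgroupOf, h.coe_q hk]; exact ⟨k, hk, rfl⟩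

theorem exists_q (h : C.Valid memb G) {x : G} (hx : x ∈ h.syl) :
    ∃ k < C.size, h.q k = x := by
  obtain ⟨k, hk, e⟩ := (Subgroup.mem_subgroupOf.1 hx)
  exact ⟨k, hk, Subtype.ext ((h.coe_q hk).trans e)⟩

theorem q_zero (h : C.Valid memb G) : h.q 0 = 1 :=
  Subtype.ext ((h.coe_q (Nat.two_pow_pos _)).trans h.permOf_zero)

theorem q_decomp (h : C.Valid memb G) {i k : ℕ} (hi : i < C.n) (hk : k < C.size)
    (e : k % 2 ^ (i + 1) = 2 ^ i) : h.q k = h.q (2 ^ i) * h.q (k - 2 ^ i) := by
  apply Subtype.ext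
  rw [Subgroup.coe_mul, h.coe_q hk, h.coe_q (h.pow_lt hi),
    h.coe_q (lt_of_le_of_lt (Nat.sub_le _ _) hk), h.decomp hi hk e]

theorem q_mul_eq (h : C.Valid memb G) {a b c : ℕ} (ha : a < C.size) (hb : b < C.size)
    (hc : c < C.size) (e : permMulCode (C.el a) (C.el b) = C.el c) : h.q a * h.q b = h.q c := by
  apply Subtype.ext
  rw [Subgroup.coe_mul, h.coe_q ha, h.coe_q hb, h.coe_q hc,
    permOf_permMulCode (h.perm ha) (h.perm hb) (h.perm hc) e]

theorem isPGroup_syl (h : C.Valid memb G) : IsPGroup 2 h.syl :=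
  IsPGroup.of_card (n := C.n) (by
    rw [Nat.card_congr (Subgroup.subgroupOfEquivOfLe h.grp_le).toEquiv, h.card_grp, size])

/-- A listed element as an element of the subgroup. -/
noncomputable def e (h : C.Valid memb G) (k : ℕ) : h.syl :=
  if hk : k < C.size then ⟨h.q k, h.q_mem hk⟩ else 1

theorem coe_e (h : C.Valid memb G) {k : ℕ} (hk : k < C.size) : ((h.e k : h.syl) : G) = h.q k := by
  rw [e, dif_pos hk]

theorem e_zero (h : C.Valid memb G) : h.e 0 = 1 := by
  apply Subtype.ext
  rw [h.coe_e (Nat.two_pow_pos _), h.q_zero, Subgroup.coe_one]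

theorem e_decomp (h : C.Valid memb G) {i k : ℕ} (hi : i < C.n) (hk : k < C.size)
    (he : k % 2 ^ (i + 1) = 2 ^ i) : h.e k = h.e (2 ^ i) * h.e (k - 2 ^ i) := by
  apply Subtype.ext
  rw [Subgroup.coe_mul, h.coe_e hk, h.coe_e (h.pow_lt hi),
    h.coe_e (lt_of_le_of_lt (Nat.sub_le _ _) hk), h.q_decomp hi hk he]

/-- Generators past the first `d` are products of squares, so any map of the subgroup sends them
into the Frattini subgroup. -/
theorem map_high_mem (h : C.Valid memb G) (φ : h.syl →* h.syl) {j : ℕ} (hd : C.d ≤ j)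
    (hj : j < C.n) : φ (h.e (2 ^ j)) ∈ frattini h.syl := by
  haveI : Fact (Nat.Prime 2) := ⟨Nat.prime_two⟩
  have key : ∀ (l : List (ℕ × ℕ × ℕ)) (t acc : ℕ), acc < C.size → φ (h.e acc) ∈ frattini h.syl →
      C.sqChain t acc l = true → φ (h.e t) ∈ frattini h.syl := by
    intro l
    induction l with
    | nil => intro t acc _ hacc hc; simp only [sqChain, beq_iff_eq] at hc; exact hc ▸ hacc
    | cons a l ih =>
      obtain ⟨k, q, acc'⟩ := a
      intro t acc hlt hacc hc
      simp only [sqChain, Bool.and_eq_true, decide_eq_true_eq, beq_iff_eq] at hc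
      obtain ⟨hk, hq, ha', e1, e2, hrest⟩ := hc
      refine ih t acc' ha' ?_ hrest
      have e3 : h.e acc' = h.e acc * h.e k ^ 2 := by
        apply Subtype.ext
        rw [Subgroup.coe_mul, pow_two, Subgroup.coe_mul, h.coe_e hk, h.coe_e hlt, h.coe_e ha',
          h.q_mul_eq hk hk hq e1, h.q_mul_eq hlt hq ha' e2]
      rw [e3, map_mul, map_pow]
      exact Subgroup.mul_mem _ hacc (CfsgLib.Coprime.pow_mem_frattini h.isPGroup_syl _)
  have hs := h.sqs
  simp only [sqCheck, List.all_eq_true, List.mem_range] at hs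
  have := hs (j - C.d) (by omega)
  rw [show C.d + (j - C.d) = j by omega] at this
  exact key _ _ 0 (Nat.two_pow_pos _) (by rw [h.e_zero, map_one]; exact one_mem _) this

/-- Modulo the Frattini subgroup only the index modulo `2 ^ d` matters. -/
theorem residue (h : C.Valid memb G) : ∀ k < C.size,
    h.e k * (h.e (k % 2 ^ C.d))⁻¹ ∈ frattini h.syl := by
  refine h.induction _ ?_ fun i k hi hk e ih => ?_
  · rw [Nat.zero_mod, mul_inv_cancel]; exact one_mem _
  have hle := le_self e
  rcases Nat.lt_or_ge i C.d with hid | hid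
  · have hr : k % 2 ^ C.d % 2 ^ (i + 1) = 2 ^ i := by
      rw [Nat.mod_mod_of_dvd _ (pow_dvd_pow 2 hid)]; exact e
    have hrlt : k % 2 ^ C.d < C.size :=
      lt_of_lt_of_le (Nat.mod_lt _ (Nat.two_pow_pos _)) (Nat.pow_le_pow_right (by norm_num) h.d_le)
    have hsub : (k - 2 ^ i) % 2 ^ C.d = k % 2 ^ C.d - 2 ^ i := by
      have h1 := le_self hr
      conv_lhs => rw [← Nat.div_add_mod k (2 ^ C.d),
        show 2 ^ C.d * (k / 2 ^ C.d) + k % 2 ^ C.d - 2 ^ i =
          (k % 2 ^ C.d - 2 ^ i) + 2 ^ C.d * (k / 2 ^ C.d) by omega]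
      rw [Nat.add_mul_mod_self_left]
      exact Nat.mod_eq_of_lt (lt_of_le_of_lt (Nat.sub_le _ _) (Nat.mod_lt _ (Nat.two_pow_pos _)))
    rw [h.e_decomp hi hk e, h.e_decomp hi hrlt hr, ← hsub]
    have hn : (frattini h.syl).Normal := inferInstance
    have := hn.conj_mem _ ih (h.e (2 ^ i))
    convert this using 1; group
  · have hsub : (k - 2 ^ i) % 2 ^ C.d = k % 2 ^ C.d := by
      obtain ⟨u, hu⟩ := pow_dvd_pow 2 hid
      conv_rhs => rw [show k = (k - 2 ^ i) + 2 ^ C.d * u by omega, Nat.add_mul_mod_self_left]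
    rw [h.e_decomp hi hk e, mul_assoc]
    rw [hsub] at ih
    exact Subgroup.mul_mem _ (h.map_high_mem (MonoidHom.id _) hid hi) ih

/-! ### Invariants under normalising elements -/

/-- The index of a conjugate. -/
theorem exists_sigma (h : C.Valid memb G) {g : G} (hg : g ∈ Subgroup.normalizer (h.syl : Set G)) :
    ∃ σ : ℕ → ℕ, (∀ k < C.size, σ k < C.size ∧
      permOf (C.el (σ k)) = (g : Equiv.Perm GolayPt) * permOf (C.el k) * (g : Equiv.Perm GolayPt)⁻¹) ∧
      (Finset.range C.size).image σ = Finset.range C.size ∧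
      Set.InjOn σ (Finset.range C.size : Set ℕ) := by
  have hmem : ∀ k < C.size, ∃ m < C.size,
      permOf (C.el m) = (g : Equiv.Perm GolayPt) * permOf (C.el k) * (g : Equiv.Perm GolayPt)⁻¹ := by
    intro k hk
    have := (Subgroup.mem_normalizer_iff.1 hg (h.q k)).1 (h.q_mem hk)
    obtain ⟨m, hm, e⟩ := h.exists_q this
    refine ⟨m, hm, ?_⟩
    rw [← h.coe_q hm, e, Subgroup.coe_mul, Subgroup.coe_mul, Subgroup.coe_inv, h.coe_q hk]
  choose! σ hσ using hmem
  have hinj : Set.InjOn σ (Finset.range C.size : Set ℕ) := by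
    intro a ha b hb e
    rw [Finset.coe_range, Set.mem_Iio] at ha hb
    refine h.injOn ha hb ?_
    have := (hσ a ha).2
    rw [e, (hσ b hb).2] at this
    exact (mul_left_cancel (mul_right_cancel this)).symm
  refine ⟨σ, hσ, ?_, hinj⟩
  refine Finset.eq_of_subset_of_card_le (fun x hx => ?_) (le_of_eq (Finset.card_image_of_injOn hinj).symm)
  obtain ⟨k, hk, rfl⟩ := Finset.mem_image.1 hx
  exact Finset.mem_range.2 (hσ k (Finset.mem_range.1 hk)).1

theorem card_filter_sigma {N : ℕ} {σ : ℕ → ℕ} (him : (Finset.range N).image σ = Finset.range N)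
    (hinj : Set.InjOn σ (Finset.range N : Set ℕ)) {P Q : ℕ → Prop} [DecidablePred P] [DecidablePred Q]
    (hPQ : ∀ k < N, P k ↔ Q (σ k)) :
    ((Finset.range N).filter P).card = ((Finset.range N).filter Q).card := by
  conv_rhs => rw [← him, Finset.filter_image]
  rw [Finset.card_image_of_injOn (hinj.mono fun x hx => (Finset.mem_filter.1 hx).1)]
  exact congrArg Finset.card (Finset.filter_congr fun k hk => hPQ k (Finset.mem_range.1 hk))

theorem pts_fixMask (h : C.Valid memb G) {k : ℕ} (hk : k < C.size) {p : GolayPt} :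
    p ∈ pts (fixMask (C.el k)) ↔ permOf (C.el k) p = p := by
  rw [mem_pts, fixMask, testBit_maskFn, permOf_fix_iff (h.perm hk)]
  simp [ptIdx_lt]

theorem fixCount_eq (h : C.Valid memb G) {g : G} (hg : g ∈ Subgroup.normalizer (h.syl : Set G))
    (p : GolayPt) :
    C.fixCount (ptIdx ((g : Equiv.Perm GolayPt) p)) = C.fixCount (ptIdx p) := by
  obtain ⟨σ, hσ, him, hinj⟩ := h.exists_sigma hg
  rw [fixCount, fixCount, countP_range, countP_range]
  refine (card_filter_sigma him hinj fun k hk => ?_).symm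
  simp only [beq_iff_eq]
  rw [← permOf_fix_iff (h.perm hk), ← permOf_fix_iff (h.perm (hσ k hk).1), (hσ k hk).2]
  simp

theorem sig_eq (h : C.Valid memb G) {g : G} (hg : g ∈ Subgroup.normalizer (h.syl : Set G))
    {k m : ℕ} (hk : k < C.size) (hm : m < C.size)
    (e : permOf (C.el m) = (g : Equiv.Perm GolayPt) * permOf (C.el k) * (g : Equiv.Perm GolayPt)⁻¹) :
    C.sig m = C.sig k := by
  refine List.map_congr_left fun cm hcm => ?_
  have hmask := h.mask
  simp only [maskCheck, Bool.and_eq_true, List.all_eq_true, beq_iff_eq] at hmask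
  have hmem : ∀ p, p ∈ pts cm.2 ↔ (p ∈ pts C.X ∧ C.fixCount (ptIdx p) = cm.1) := by
    intro p
    rw [mem_pts, hmask.1 cm hcm, testBit_maskFn, mem_pts]
    simp [ptIdx_lt]
  rw [← card_inter_pts, ← card_inter_pts, ← Finset.card_smul_finset (g : Equiv.Perm GolayPt)
    (pts (fixMask (C.el k)) ∩ pts cm.2), Finset.smul_finset_inter]
  congr 1
  ext p
  rw [Finset.mem_inter, Finset.mem_inter, ← Finset.inv_smul_mem_iff, ← Finset.inv_smul_mem_iff,
    h.pts_fixMask hm, h.pts_fixMask hk, hmem, hmem, Equiv.Perm.smul_def]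
  have hX : p ∈ pts C.X ↔ (g : Equiv.Perm GolayPt)⁻¹ p ∈ pts C.X := by
    conv_lhs => rw [← h.hX g g.2]
    rw [← Finset.inv_smul_mem_iff]
    rfl
  have hcnt : C.fixCount (ptIdx p) = C.fixCount (ptIdx ((g : Equiv.Perm GolayPt)⁻¹ p)) := by
    conv_lhs => rw [show p = (g : Equiv.Perm GolayPt) ((g : Equiv.Perm GolayPt)⁻¹ p) by simp]
    rw [h.fixCount_eq hg]
  rw [hX, hcnt, e, Equiv.Perm.mul_apply, Equiv.Perm.mul_apply]
  constructor
  · rintro ⟨h1, h2⟩
    refine ⟨(g : Equiv.Perm GolayPt).injective ?_, h2⟩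
    simpa using h1
  · rintro ⟨h1, h2⟩
    refine ⟨?_, h2⟩
    rw [h1]; simp

theorem commCount_eq (h : C.Valid memb G) {g : G} (hg : g ∈ Subgroup.normalizer (h.syl : Set G))
    {k m : ℕ} (hk : k < C.size) (hm : m < C.size)
    (e : permOf (C.el m) = (g : Equiv.Perm GolayPt) * permOf (C.el k) * (g : Equiv.Perm GolayPt)⁻¹) :
    C.commCount m = C.commCount k := by
  obtain ⟨σ, hσ, him, hinj⟩ := h.exists_sigma hg
  have hmask := h.mask
  simp only [maskCheck, Bool.and_eq_true, List.all_eq_true, beq_iff_eq] at hmask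
  rw [commCount, commCount, hmask.2, List.countP_filter, List.countP_filter, countP_range,
    countP_range]
  refine (card_filter_sigma him hinj fun u hu => ?_).symm
  simp only [Bool.and_eq_true, beq_iff_eq]
  have hu' := (hσ u hu).1
  rw [h.sig_eq hg hu hu' (hσ u hu).2]
  refine and_congr_left fun _ => ?_
  rw [permMulCode_eq_iff (h.perm hk) (h.perm hu) (h.perm hu) (h.perm hk),
    permMulCode_eq_iff (h.perm hm) (h.perm hu') (h.perm hu') (h.perm hm), e, (hσ u hu).2]
  generalize (g : Equiv.Perm GolayPt) = γ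
  generalize permOf (C.el k) = x
  generalize permOf (C.el u) = y
  constructor
  · intro hxy
    calc γ * x * γ⁻¹ * (γ * y * γ⁻¹) = γ * (x * y) * γ⁻¹ := by group
      _ = γ * (y * x) * γ⁻¹ := by rw [hxy]
      _ = γ * y * γ⁻¹ * (γ * x * γ⁻¹) := by group
  · intro hxy
    calc x * y = γ⁻¹ * (γ * x * γ⁻¹ * (γ * y * γ⁻¹)) * γ := by group
      _ = γ⁻¹ * (γ * y * γ⁻¹ * (γ * x * γ⁻¹)) * γ := by rw [hxy]
      _ = y * x := by group

/-- Normalising elements act trivially modulo the Frattini subgroup. -/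
theorem trivial_mod_frattini (h : C.Valid memb G) {g : G}
    (hg : g ∈ Subgroup.normalizer (h.syl : Set G)) :
    ∀ x ∈ h.syl, g * x * g⁻¹ * x⁻¹ ∈ (frattini h.syl).map h.syl.subtype := by
  let φ : h.syl →* h.syl := (CfsgLib.Fusion.conjAut g hg).toMonoidHom
  have hφ : ∀ y : h.syl, ((φ y : h.syl) : G) = g * (y : G) * g⁻¹ := fun y => rfl
  suffices hkey : ∀ k < C.size, φ (h.e k) * (h.e k)⁻¹ ∈ frattini h.syl by
    intro x hx
    obtain ⟨k, hk, rfl⟩ := h.exists_q hx
    refine ⟨_, hkey k hk, ?_⟩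
    rw [map_mul, map_inv, Subgroup.coe_subtype, hφ, h.coe_e hk]
  refine h.induction _ ?_ fun i k hi hk e ih => ?_
  · rw [h.e_zero, map_one]; simp
  have hgen : φ (h.e (2 ^ i)) * (h.e (2 ^ i))⁻¹ ∈ frattini h.syl := by
    rcases Nat.lt_or_ge i C.d with hid | hid
    · obtain ⟨σ, hσ, -, -⟩ := h.exists_sigma hg
      have hi' := h.pow_lt hi
      obtain ⟨hlt, he⟩ := hσ _ hi'
      have hr := h.reps
      simp only [repCheck, List.all_eq_true, List.mem_range, Bool.or_eq_true, beq_iff_eq,
        Bool.not_eq_true', Bool.and_eq_false_iff, beq_eq_false_iff_ne] at hr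
      have hres : σ (2 ^ i) % 2 ^ C.d = 2 ^ i := by
        rcases hr i hid _ hlt with hr | hr | hr
        · exact hr
        · exact absurd (h.sig_eq hg hi' hlt he) hr
        · exact absurd (h.commCount_eq hg hi' hlt he) hr
      have hφe : φ (h.e (2 ^ i)) = h.e (σ (2 ^ i)) := by
        apply Subtype.ext
        rw [hφ, h.coe_e hi', h.coe_e hlt]
        apply Subtype.ext
        rw [Subgroup.coe_mul, Subgroup.coe_mul, Subgroup.coe_inv, h.coe_q hi', h.coe_q hlt, he]
      rw [hφe]
      have := h.residue _ hlt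
      rwa [hres] at this
    · exact Subgroup.mul_mem _ (h.map_high_mem φ hid hi)
        (Subgroup.inv_mem _ (h.map_high_mem (MonoidHom.id _) hid hi))
  rw [h.e_decomp hi hk e, map_mul]
  have hn : (frattini h.syl).Normal := inferInstance
  have := Subgroup.mul_mem _ hgen (hn.conj_mem _ ih (h.e (2 ^ i)))
  convert this using 1; group

/-- The fusion data. -/
theorem hasSimpleData (h : C.Valid memb G) (P : Sylow 2 G) (hP : (P : Subgroup G) = h.syl) :
    CfsgLib.Fusion.HasSimpleData (P : Subgroup G) := by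
  haveI : Fact (Nat.Prime 2) := ⟨Nat.prime_two⟩
  rw [hP]
  refine ⟨fun hb => ?_, fun g hg => ?_, fun T hT hne hcl => ?_⟩
  · have h1 := Nat.card_congr (Subgroup.subgroupOfEquivOfLe h.grp_le).toEquiv
    rw [show h.grp.subgroupOf G = ⊥ from hb, Subgroup.card_bot, h.card_grp, size] at h1
    exact absurd h1 (Nat.one_lt_two_pow h.hn.ne').ne
  · obtain ⟨a, b, rfl, ha, hb, ⟨r, har⟩, hbo⟩ := CfsgLib.CFun.exists_parts (p := 2) g
    have ha' := Subgroup.zpowers_le.2 hg ha
    have hb' := Subgroup.zpowers_le.2 hg hb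
    refine Subgroup.mul_mem _ (Subgroup.mem_sup_left ?_) (Subgroup.mem_sup_right ?_)
    · have hpg : IsPGroup 2 (Subgroup.zpowers a) := CfsgLib.Fusion.isPGroup_zpowers_of_pow har
      have h1 : Subgroup.zpowers a ⊓ Subgroup.normalizer ((P : Subgroup G) : Set G) =
          Subgroup.zpowers a ⊓ (P : Subgroup G) := hpg.inf_normalizer_sylow P
      rw [hP] at h1
      have h2 : a ∈ Subgroup.zpowers a ⊓ Subgroup.normalizer (h.syl : Set G) :=
        Subgroup.mem_inf.2 ⟨Subgroup.mem_zpowers a, ha'⟩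
      rw [h1] at h2
      exact h2.2
    · have hle : Subgroup.zpowers b ≤ Subgroup.centralizer (h.syl : Set G) := by
        refine CfsgLib.Coprime.le_centralizer_of_trivial_on_frattini_quotient
          (Subgroup.zpowers_le.2 hb') ?_ fun x hx y hy =>
            h.trivial_mod_frattini (Subgroup.zpowers_le.2 hb' hx) y hy
        obtain ⟨s, hs⟩ := IsPGroup.iff_card.1
          (h.isPGroup_syl.to_subgroup (frattini h.syl))
        rw [Nat.card_zpowers, hs]
        exact Nat.Coprime.pow_right s hbo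
      exact hle (Subgroup.mem_zpowers b)
  · haveI : Group.IsNilpotent h.syl := h.isPGroup_syl.isNilpotent
    haveI : (T.subgroupOf h.syl).Normal := ⟨fun x hx y => hcl _ hx (y : G) (by
      have := (y * x * y⁻¹).2
      simpa using this)⟩
    have hne' : T.subgroupOf h.syl ≠ ⊥ := fun hb => hne (by
      rw [Subgroup.subgroupOf_eq_bot] at hb
      exact (disjoint_self.1 (hb.mono_right hT) : T = ⊥))
    obtain ⟨c, hc, hc1⟩ := (Subgroup.bot_or_exists_ne_one _).resolve_left
      (CfsgLib.Coprime.nilpotent_inf_center_ne_bot _ hne')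
    obtain ⟨k, hk, ek⟩ := h.exists_q c.2
    have hkT : h.q k ∈ T := ek ▸ (Subgroup.mem_inf.1 hc).1
    have hk0 : k ≠ 0 := by
      rintro rfl
      exact hc1 (Subtype.ext (ek.symm.trans h.q_zero))
    have hz : h.q C.z ∈ T := by
      have hcen := h.center
      simp only [centerCheck, List.all_eq_true, List.mem_range, Bool.or_eq_true, beq_iff_eq,
        List.any_eq_true, Bool.not_eq_true', beq_eq_false_iff_ne] at hcen
      rcases hcen k hk with e | e | ⟨j, hj, hne2⟩
      · exact absurd e hk0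
      · exact e ▸ hkT
      · refine absurd ?_ hne2
        have hj' := h.pow_lt hj
        rw [permMulCode_eq_iff (h.perm hk) (h.perm hj') (h.perm hj') (h.perm hk), ← h.coe_q hk,
          ← h.coe_q hj', ← Subgroup.coe_mul, ← Subgroup.coe_mul, ek]
        have := Subgroup.mem_center_iff.1 (Subgroup.mem_inf.1 hc).2 ⟨h.q (2 ^ j), h.q_mem hj'⟩
        exact congrArg (fun v : h.syl => ((v : G) : Equiv.Perm GolayPt)) this.symm
    have hgo : ∀ (l : List (ℕ × ℕ × ℕ × ℕ)) (known : List ℕ),
        (∀ a ∈ known, a < C.size ∧ h.q a ∈ T) → C.chainGo memb known l = true →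
        ∀ j < C.n, h.q (2 ^ j) ∈ T := by
      intro l
      induction l with
      | nil =>
        intro known hkn hgo j hj
        simp only [chainGo, List.all_eq_true, List.mem_range, List.contains_iff_mem] at hgo
        exact (hkn _ (hgo j hj)).2
      | cons s l ih =>
        obtain ⟨w, γ, a, b⟩ := s
        intro known hkn hgo
        simp only [chainGo, Bool.and_eq_true, decide_eq_true_eq, List.contains_iff_mem] at hgo
        obtain ⟨hw, haK, hst, hrest⟩ := hgo
        refine ih (w :: known) ?_ hrest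
        intro u hu
        rcases List.mem_cons.1 hu with hu | hu
        · subst hu
          refine ⟨hw, ?_⟩
          obtain ⟨ha, haT⟩ := hkn a haK
          split_ifs at hst with h0
          · simp only [Bool.and_eq_true, List.contains_iff_mem, beq_iff_eq] at hst
            obtain ⟨hb, e⟩ := hst
            obtain ⟨hb', hbT⟩ := hkn b hb
            rw [← h.q_mul_eq ha hb' hw e]
            exact T.mul_mem haT hbT
          · simp only [Bool.and_eq_true, beq_iff_eq] at hst
            obtain ⟨hγ, e⟩ := hst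
            obtain ⟨hγp, hγG⟩ := h.sound γ hγ
            rw [permMulCode_eq_iff hγp (h.perm ha) (h.perm hw) hγp] at e
            have e2 : (⟨permOf γ, hγG⟩ : G) * h.q a * (⟨permOf γ, hγG⟩ : G)⁻¹ = h.q u := by
              apply Subtype.ext
              rw [Subgroup.coe_mul, Subgroup.coe_mul, Subgroup.coe_inv, h.coe_q ha, h.coe_q hw, e,
                mul_inv_cancel_right]
            rw [← e2]
            exact hcl _ haT _ (e2.symm ▸ h.q_mem hw)
        · exact hkn u hu
    have hgens := hgo C.W [C.z] (by simp only [List.mem_singleton]; rintro a rfl; exact ⟨h.hz, hz⟩)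
      h.chain
    intro x hx
    obtain ⟨m, hm, rfl⟩ := h.exists_q hx
    refine h.induction (fun m => h.q m ∈ T) (h.q_zero ▸ one_mem T) (fun i k hi hk e ih => ?_) m hm
    rw [h.q_decomp hi hk e]
    exact T.mul_mem (hgens i hi) ih

/-- Simplicity of the 2-fusion system from a certificate. -/
theorem isSimple (h : C.Valid memb G) {r : ℕ} (hG : Nat.card G = C.size * r) (hr : r % 2 = 1)
    (S : Sylow 2 G) : (Cfsg.groupFusionSystem (S : Subgroup G)).IsSimple 2 := by
  haveI : Fact (Nat.Prime 2) := ⟨Nat.prime_two⟩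
  have hcard : Nat.card h.syl = C.size := by
    rw [Nat.card_congr (Subgroup.subgroupOfEquivOfLe h.grp_le).toEquiv, h.card_grp]
  have hidx : ¬ 2 ∣ h.syl.index := by
    have h1 := h.syl.card_mul_index
    rw [hcard, hG] at h1
    rw [Nat.eq_of_mul_eq_mul_left (Nat.two_pow_pos _) h1]
    omega
  exact CfsgLib.Fusion.isSimple_group_of_data (h.isPGroup_syl.toSylow hidx)
    (h.hasSimpleData _ rfl) S

end TwoCert.Valid

end CfsgLib.Spor
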