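/-
A simplicity criterion: a simple subgroup containing a Sylow normalizer of prime order.
-/
import Mathlib

namespace CfsgLib.Spor

open Subgroup
open scoped Pointwise

variable {G : Type*} [Group G] [Finite G]

theorem card_modEq_one_of_fixfree {p : ℕ} [Fact p.Prime] {P Q : Subgroup G} (hP : IsPGroup p P)
    (hnorm : ∀ x ∈ P, ∀ q ∈ Q, x * q * x⁻¹ ∈ Q)
    (hfree : ∀ q ∈ Q, (∀ x ∈ P, x * q * x⁻¹ = q) → q = 1) : Nat.card Q % p = 1 := by
  letI : MulAction P Q :=
    { smul := fun x q => ⟨x.1 * q.1 * x.1⁻¹, hnorm x.1 x.2 q.1 q.2⟩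
      one_smul := fun q => Subtype.ext (show 1 * q.1 * 1⁻¹ = q.1 by simp)
      mul_smul := fun x y q => Subtype.ext (show x.1 * y.1 * q.1 * (x.1 * y.1)⁻¹ = x.1 * (y.1 * q.1 * y.1⁻¹) * x.1⁻¹ by
        group) }
  have h := hP.card_modEq_card_fixedPoints (α := Q)
  have e : MulAction.fixedPoints P Q = {1} := by
    ext q
    rw [MulAction.mem_fixedPoints, Set.mem_singleton_iff]
    constructor
    · exact fun hq => Subtype.ext (hfree q q.2 fun x hx => congrArg Subtype.val (hq ⟨x, hx⟩))
    · rintro rfl x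
      exact Subtype.ext (show x.1 * 1 * x.1⁻¹ = 1 by simp)
  rw [e, Nat.card_coe_set_eq, Set.ncard_singleton] at h
  exact (show Nat.card Q % p = 1 % p from h).trans (Nat.mod_eq_of_lt (Fact.out : p.Prime).one_lt)

/-- A prime power part of a fixed-point-free normal subgroup is congruent to one. -/
theorem pPart_modEq_one {p q : ℕ} [hp : Fact p.Prime] [Fact q.Prime] {P N : Subgroup G} [N.Normal] (hP : IsPGroup p P)
    (hcop : ¬ p ∣ Nat.card N) (hfree : ∀ n ∈ N, (∀ x ∈ P, x * n * x⁻¹ = n) → n = 1) :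
    q ^ (Nat.card N).factorization q % p = 1 := by
  letI : MulAction P (Sylow q N) := MulAction.compHom _ ((MulAut.conjNormal (H := N)).comp P.subtype)
  obtain ⟨Q, hQ⟩ : (MulAction.fixedPoints P (Sylow q N)).Nonempty := by
    refine hP.nonempty_fixed_point_of_prime_not_dvd_card _ fun hd => hcop ?_
    exact hd.trans (Sylow.card_dvd_index (default : Sylow q N) |>.trans (Subgroup.index_dvd_card _))
  have hsmul : ∀ (x : P) (n : N), n ∈ Q → MulAut.conjNormal (x : G) n ∈ Q := fun x n hn => by
    have e : MulAut.conjNormal (H := N) (x : G) • Q = Q := hQ x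
    have h := Subgroup.smul_mem_pointwise_smul n (MulAut.conjNormal (H := N) (x : G)) (Q : Subgroup N) hn
    rw [← Sylow.pointwise_smul_def, e] at h
    exact h
  rw [← Q.card_eq_multiplicity, ← Subgroup.card_map_of_injective (K := (Q : Subgroup N)) N.subtype_injective]
  refine card_modEq_one_of_fixfree hP ?_ fun n hn h => hfree n (Subgroup.map_subtype_le _ hn) h
  rintro x hx _ ⟨n, hn, rfl⟩
  exact ⟨_, hsmul ⟨x, hx⟩ n hn, MulAut.conjNormal_apply _ _⟩

/-- A simple subgroup containing the normalizer of one of its subgroups of prime order, Sylow in the group. -/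
theorem isSimpleGroup_of_sylow_normalizer {p : ℕ} [hp : Fact p.Prime] {K P : Subgroup G} (hK : IsSimpleGroup K)
    (hPK : P ≤ K) (hPcard : Nat.card P = p) (hsyl : ¬ p * p ∣ Nat.card G)
    (hnorm : Subgroup.normalizer (P : Set G) ≤ K)
    (hrest : ∀ N : Subgroup G, N.Normal → N ⊓ K = ⊥ → Nat.card N * Nat.card K ∣ Nat.card G →
      (∀ q : ℕ, q.Prime → q ^ (Nat.card N).factorization q % p = 1) → N = ⊥) :
    IsSimpleGroup G := by
  haveI := hK
  haveI : Nontrivial G := (K.subtype_injective).nontrivial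
  have hP : IsPGroup p P := IsPGroup.of_card (n := 1) (by rw [hPcard, pow_one])
  have hcent : ∀ g : G, (∀ x ∈ P, x * g * x⁻¹ = g) → g ∈ K := fun g hg => by
    refine hnorm (Subgroup.mem_normalizer_iff.2 fun x => ?_)
    have hc : ∀ y ∈ P, g * y * g⁻¹ = y := fun y hy => by
      have := hg y hy
      calc g * y * g⁻¹ = (y * g * y⁻¹) * y * g⁻¹ := by rw [this]
        _ = y := by group
    refine ⟨fun hx => (hc x hx).symm ▸ hx, fun hx => ?_⟩
    have e := hc _ hx
    have : x = g * x * g⁻¹ := by
      calc x = g⁻¹ * (g * x * g⁻¹) * g := by group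
        _ = g⁻¹ * (g * (g * x * g⁻¹) * g⁻¹) * g := by rw [e]
        _ = g * x * g⁻¹ := by group
    rwa [this]
  refine { eq_bot_or_eq_top_of_normal := fun N hN => ?_ }
  rcases hK.eq_bot_or_eq_top_of_normal (N.subgroupOf K) (hN.comap _) with hb | ht
  · left
    have hNK : N ⊓ K = ⊥ := by
      rw [eq_bot_iff]
      intro x hx
      have : (⟨x, hx.2⟩ : K) ∈ N.subgroupOf K := hx.1
      rw [hb, Subgroup.mem_bot] at this
      exact congrArg Subtype.val this
    have hcopr : Nat.card N * Nat.card K ∣ Nat.card G := by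
      have h1 : Nat.card (N ⊔ K : Subgroup G) = Nat.card N * Nat.card K := by
        rw [← Nat.card_prod]
        refine (Nat.card_congr (Equiv.ofBijective
          (fun z : N × K => (⟨(z.1 : G) * z.2, mul_mem (Subgroup.mem_sup_left z.1.2) (Subgroup.mem_sup_right z.2.2)⟩ :
            (N ⊔ K : Subgroup G))) ⟨fun z w h => ?_, fun g => ?_⟩)).symm
        · exact Subgroup.mul_injective_of_disjoint (disjoint_iff.2 hNK) (congrArg Subtype.val h)
        · have hg : (g : G) ∈ ((N : Set G) * (K : Set G)) := by rw [← Subgroup.normal_mul]; exact g.2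
          obtain ⟨n, hn, k, hk, e⟩ := hg
          exact ⟨(⟨n, hn⟩, ⟨k, hk⟩), Subtype.ext e⟩
      exact h1 ▸ Subgroup.card_subgroup_dvd_card _
    have hpN : ¬ p ∣ Nat.card N := fun hd => by
      refine hsyl ((Nat.mul_dvd_mul hd ?_).trans hcopr)
      exact hPcard ▸ Subgroup.card_dvd_of_le hPK
    refine hrest N hN hNK hcopr fun q hq => ?_
    haveI := Fact.mk hq
    refine pPart_modEq_one hP hpN fun n hn h => ?_
    have : n ∈ N ⊓ K := ⟨hn, hcent n h⟩
    rwa [hNK, Subgroup.mem_bot] at this
  · right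
    have hKN : K ≤ N := fun x hx => by
      have : (⟨x, hx⟩ : K) ∈ N.subgroupOf K := ht ▸ Subgroup.mem_top _
      exact this
    have hfac : Nat.card P = p ^ (Nat.card G).factorization p := by
      have h1 : p ∣ Nat.card G := hPcard ▸ Subgroup.card_subgroup_dvd_card P
      have h0 : Nat.card G ≠ 0 := Nat.card_pos.ne'
      have hle : (Nat.card G).factorization p ≤ 1 := by
        by_contra hc
        exact hsyl ((pow_two p) ▸ (hp.out.pow_dvd_iff_le_factorization h0).2 (by omega))
      have hge := (hp.out.pow_dvd_iff_le_factorization (k := 1) h0).1 (by rwa [pow_one])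
      rw [hPcard, show (Nat.card G).factorization p = 1 by omega, pow_one]
    have hNn : N ⊔ Subgroup.normalizer (P : Set G) = ⊤ := by
      rw [sup_comm]
      exact Sylow.normalizer_sup_eq_top' (Sylow.ofCard P hfac) (hPK.trans hKN)
    rwa [sup_eq_left.2 (hnorm.trans hKN)] at hNn

end CfsgLib.Spor
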