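/-
Elementary facts about large extraspecial subgroups and fixed cosets.
-/
import Cfsg.Prelude.Def_MonsterType
import Cfsg.Prelude.Def_SporadicB
import Cfsg.Agent.Lib.PGroup.Basic

set_option autoImplicit false

namespace CfsgLib.Spor.LargeQ

open Subgroup MulAction

variable {G : Type*} [Group G] [Finite G]

theorem exists_involution_center {G : Type*} [Group G] [Finite G] (P : Sylow 2 G)
    (h : (P : Subgroup G) ≠ ⊥) :
    ∃ t ∈ (P : Subgroup G), orderOf t = 2 ∧ ∀ x ∈ (P : Subgroup G), x * t = t * x := by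
  haveI : Fact (Nat.Prime 2) := ⟨Nat.prime_two⟩
  haveI : Nontrivial ↥(P : Subgroup G) := (Subgroup.nontrivial_iff_ne_bot _).2 h
  haveI : Nontrivial (center ↥(P : Subgroup G)) := P.isPGroup'.center_nontrivial
  obtain ⟨n, hn, hc⟩ := (P.isPGroup'.to_subgroup (center ↥(P : Subgroup G))).exists_card_eq.imp fun n hn =>
    And.intro n.zero_le hn
  obtain ⟨t, ht⟩ := exists_prime_orderOf_dvd_card' (G := center ↥(P : Subgroup G)) 2 (by
    rw [hc]; refine dvd_pow_self 2 fun h0 => ?_
    subst h0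
    exact Finite.one_lt_card.ne' hc)
  refine ⟨((t : ↥(P : Subgroup G)) : G), SetLike.coe_mem _, ?_, fun x hx => ?_⟩
  · rw [Subgroup.orderOf_coe, Subgroup.orderOf_coe, ht]
  · exact congrArg Subtype.val (Subgroup.mem_center_iff.1 t.2 ⟨x, hx⟩)

theorem exists_twoCentral (h : Even (Nat.card G)) : ∃ t : G, Cfsg.IsTwoCentralInvolution t := by
  haveI : Fact (Nat.Prime 2) := ⟨Nat.prime_two⟩
  obtain ⟨P⟩ : Nonempty (Sylow 2 G) := inferInstance
  obtain ⟨t, ht, h2, hc⟩ := exists_involution_center P (P.ne_bot_of_dvd_card (even_iff_two_dvd.1 h))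
  exact ⟨t, h2, P, ht, hc⟩

/-- An involution centralising a Sylow subgroup lies in it. -/
theorem mem_of_centralizes (P : Sylow 2 G) {u : G} (hu : orderOf u = 2)
    (hc : (P : Subgroup G) ≤ centralizer ({u} : Set G)) : u ∈ (P : Subgroup G) := by
  haveI : Fact (Nat.Prime 2) := ⟨Nat.prime_two⟩
  have hP : P.toSubgroup ⊔ zpowers u = P.toSubgroup := by
    refine P.is_maximal' ?_ le_sup_left
    refine P.isPGroup'.to_sup_of_normal_left' (IsPGroup.of_card (n := 1) (by rw [Nat.card_zpowers, hu, pow_one])) ?_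
    refine zpowers_le.2 (mem_normalizer_iff.2 fun x => ?_)
    constructor <;> intro hx
    · have := mem_centralizer_singleton_iff.1 (hc hx)
      rwa [← this, mul_inv_cancel_right]
    · have := mem_centralizer_singleton_iff.1 (hc hx)
      have e : x = u * x * u⁻¹ := by
        have h1 : u * x * u⁻¹ * u = u * (u * x * u⁻¹) := this
        rw [inv_mul_cancel_right] at h1
        exact mul_left_cancel h1
      rwa [e]
  exact hP ▸ mem_sup_right (mem_zpowers u)

theorem large_two_central (z : G) (hz : orderOf z = 2) (Q : Subgroup G)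
    (hQC : Q ≤ centralizer ({z} : Set G)) (hQ2 : IsPGroup 2 Q) (hZ : Nat.card (center Q) = 2)
    (hlarge : centralizer (Q : Set G) ≤ Q) :
    (∃ P : Sylow 2 G, (P : Subgroup G) ≤ centralizer ({z} : Set G)) ∧ ∀ u : G, orderOf u = 2 →
      (∃ P : Sylow 2 G, (P : Subgroup G) ≤ centralizer ({u} : Set G)) → IsConj z u := by
  haveI : Fact (Nat.Prime 2) := ⟨Nat.prime_two⟩
  have huniq : ∀ u : G, orderOf u = 2 → (∀ q ∈ Q, q * u = u * q) → u = z := by
    intro u hu hc
    have hm : ∀ v : G, (∀ q ∈ Q, q * v = v * q) → ∃ h : v ∈ Q, (⟨v, h⟩ : Q) ∈ center Q := fun v hv =>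
      ⟨hlarge (mem_centralizer_iff.2 fun q hq => hv q hq), mem_center_iff.2 fun q => Subtype.ext (hv q q.2)⟩
    obtain ⟨hu1, hu2⟩ := hm u hc
    obtain ⟨hz1, hz2⟩ := hm z fun q hq => mem_centralizer_singleton_iff.1 (hQC hq)
    have hzne : (⟨⟨z, hz1⟩, hz2⟩ : center Q) ≠ 1 := fun e => by
      have : z = 1 := congrArg (fun c : center Q => ((c : Q) : G)) e
      rw [this, orderOf_one] at hz; omega
    have hune : (⟨⟨u, hu1⟩, hu2⟩ : center Q) ≠ 1 := fun e => by
      have : u = 1 := congrArg (fun c : center Q => ((c : Q) : G)) e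
      rw [this, orderOf_one] at hu; omega
    obtain ⟨x, y, -, hxy⟩ := Nat.card_eq_two_iff.1 hZ
    have hm' : ∀ c : center Q, c = x ∨ c = y := fun c => by
      have := hxy ▸ Set.mem_univ c; simpa using this
    have e : (⟨⟨u, hu1⟩, hu2⟩ : center Q) = ⟨⟨z, hz1⟩, hz2⟩ := by
      rcases hm' ⟨⟨u, hu1⟩, hu2⟩ with a | a <;> rcases hm' ⟨⟨z, hz1⟩, hz2⟩ with b | b <;>
        rcases hm' 1 with c | c <;>
        first | exact a.trans b.symm | exact absurd (a.trans c.symm) hune | exact absurd (b.trans c.symm) hzne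
    exact congrArg (fun c : center Q => ((c : Q) : G)) e
  obtain ⟨P, hP⟩ := hQ2.exists_le_sylow
  have hzQ : z ∈ (P : Subgroup G) := hP (hlarge (mem_centralizer_iff.2 fun q hq =>
    mem_centralizer_singleton_iff.1 (hQC hq)))
  obtain ⟨t, -, ht2, htc⟩ := exists_involution_center P fun e => by
    rw [e, mem_bot] at hzQ; rw [hzQ, orderOf_one] at hz; omega
  have e := huniq t ht2 fun q hq => htc q (hP hq)
  subst e
  refine ⟨⟨P, fun x hx => mem_centralizer_singleton_iff.2 (htc x hx)⟩, fun u hu ⟨P', hP'⟩ => ?_⟩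
  obtain ⟨g, rfl⟩ := MulAction.exists_smul_eq G P P'
  have hmem : ∀ x ∈ (P : Subgroup G), g * x * g⁻¹ ∈ ((g • P : Sylow 2 G) : Subgroup G) := fun x hx =>
    ⟨x, hx, rfl⟩
  have := huniq (g⁻¹ * u * g) (by
      rw [show g⁻¹ * u * g = (MulAut.conj g⁻¹) u by simp, MulEquiv.orderOf_eq, hu]) fun q hq => by
    have h1 := mem_centralizer_singleton_iff.1 (hP' (hmem q (hP hq)))
    calc q * (g⁻¹ * u * g) = g⁻¹ * (g * q * g⁻¹ * u) * g := by group
      _ = g⁻¹ * (u * (g * q * g⁻¹)) * g := by rw [h1]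
      _ = g⁻¹ * u * g * q := by group
  exact isConj_iff.2 ⟨g, by rw [← this]; group⟩

theorem exists_central_involution {Q : Subgroup G} (hE : Cfsg.IsExtraspecial 2 Q) :
    ∃ z : G, orderOf z = 2 ∧ ∀ x, x ∈ (center Q).map Q.subtype ↔ x = 1 ∨ x = z := by
  have hc : Nat.card ((center Q).map Q.subtype) = 2 :=
    ((Nat.card_congr ((center Q).equivMapOfInjective _ Q.subtype_injective).toEquiv).symm).trans hE.2
  haveI : Fact (Nat.Prime 2) := ⟨Nat.prime_two⟩
  obtain ⟨w, hw⟩ := exists_prime_orderOf_dvd_card' (G := ((center Q).map Q.subtype : Subgroup G)) 2 (by rw [hc])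
  have hw1 : w ≠ 1 := fun e => by rw [e, orderOf_one] at hw; omega
  refine ⟨w, by rw [Subgroup.orderOf_coe, hw], fun x => ⟨fun hx => ?_, ?_⟩⟩
  · obtain ⟨a, b, -, hab⟩ := Nat.card_eq_two_iff.1 hc
    have hm : ∀ c, c = a ∨ c = b := fun c => by have := hab ▸ Set.mem_univ c; simpa using this
    rcases hm ⟨x, hx⟩ with e | e <;> rcases hm w with f | f <;> rcases hm 1 with g | g <;>
      first
        | exact Or.inr (congrArg Subtype.val (e.trans f.symm))
        | exact Or.inl (congrArg Subtype.val (e.trans g.symm))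
        | exact absurd (f.trans g.symm) hw1
  · rintro (rfl | rfl)
    · exact one_mem _
    · exact w.2

theorem large_of_le_pCore (Q : Subgroup G) (hL1 : Cfsg.IsExtraspecial 2 Q)
    (hL2 : centralizer (Q : Set G) = (center Q).map Q.subtype)
    (hL3 : centralizer (((center Q).map Q.subtype : Subgroup G) : Set G) ≤ normalizer (Q : Set G))
    (hZ : (center Q).map Q.subtype ≤ Cfsg.pCore 2 G) : Cfsg.IsLargeExtraspecial Q := by
  refine ⟨hL1, hL2, hL3, fun K hK hQK => ?_⟩
  haveI : Fact (Nat.Prime 2) := ⟨Nat.prime_two⟩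
  have htriv : ∀ P : Subgroup G, IsPGroup 2 P → ∀ x ∈ K, x ∈ P → x = 1 := by
    intro P hP x hx hxP
    obtain ⟨k, hk⟩ := IsPGroup.iff_orderOf.1 hP ⟨x, hxP⟩
    rw [← Subgroup.orderOf_coe] at hk
    have h := orderOf_dvd_natCard (⟨x, hx⟩ : K)
    rw [← Subgroup.orderOf_coe, hk] at h
    have hk0 : k = 0 := by
      by_contra h0
      exact (Nat.not_even_iff_odd.2 hK) (even_iff_two_dvd.2 ((dvd_pow_self 2 h0).trans h))
    rw [hk0, pow_zero] at hk
    exact orderOf_eq_one_iff.1 hk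
  have hN : (Cfsg.pCore 2 G).Normal :=
    ⟨fun n hn g => by
      have : (Cfsg.pCore 2 G).map (MulAut.conj g).toMonoidHom ≤ Cfsg.pCore 2 G := by
        rw [map_le_iff_le_comap]
        refine sSup_le fun N hNN x hx => mem_comap.2 (le_sSup hNN ?_)
        exact hNN.1.conj_mem x hx g
      exact this ⟨n, hn, rfl⟩⟩
  have hQ2 : IsPGroup 2 Q := hL1.1.1
  have hKC : ∀ k ∈ K, ∀ q ∈ Q, k * q = q * k := by
    intro k hk q hq
    have hkN : k ∈ normalizer (Q : Set G) := hL3 (mem_centralizer_iff.2 fun z hz => by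
      obtain ⟨z', -, rfl⟩ := id hz
      have h := htriv _ (CfsgLib.PGroup.isPGroup_pCore 2 G) (k * (z' : G) * k⁻¹ * (z' : G)⁻¹) (by
        rw [mul_assoc k, mul_assoc k]
        exact mul_mem hk ((mem_normalizer_iff.1 (hQK z'.2) k⁻¹).1 (inv_mem hk)))
        (mul_mem (hN.conj_mem _ (hZ hz) k) (inv_mem (hZ hz)))
      exact ((eq_mul_inv_iff_mul_eq.1 (mul_inv_eq_one.1 h).symm)).symm ▸ rfl)
    have h := htriv _ hQ2 (k * q * k⁻¹ * q⁻¹) (by
      rw [mul_assoc k, mul_assoc k]
      exact mul_mem hk ((mem_normalizer_iff.1 (hQK hq) k⁻¹).1 (inv_mem hk)))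
      (mul_mem ((mem_normalizer_iff.1 hkN q).1 hq) (inv_mem hq))
    exact mul_inv_eq_iff_eq_mul.1 (mul_inv_eq_one.1 h)
  refine (eq_bot_iff_forall _).2 fun k hk => htriv _ hQ2 k hk ?_
  have : k ∈ centralizer (Q : Set G) := mem_centralizer_iff.2 fun q hq => (hKC k hk q hq).symm
  rw [hL2] at this
  exact map_subtype_le _ this

theorem sup_normalizer (Q : Subgroup G) (hQ : Cfsg.IsLargeExtraspecial Q) (L : Subgroup G) [L.Normal]
    (hQL : Q ≤ L) : L ⊔ normalizer (Q : Set G) = ⊤ := by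
  haveI : Fact (Nat.Prime 2) := ⟨Nat.prime_two⟩
  obtain ⟨hE, hc, hn, -⟩ := hQ
  obtain ⟨z, hz2, hz⟩ := exists_central_involution hE
  obtain ⟨P, hP⟩ := (hE.1.1.comap_subtype (K := L)).exists_le_sylow
  have hzQ : z ∈ Q := map_subtype_le _ ((hz z).2 (Or.inr rfl))
  have hP' : ∀ q (hq : q ∈ Q), (⟨q, hQL hq⟩ : L) ∈ (P : Subgroup L) := fun q hq => hP hq
  obtain ⟨t, htP, ht2, htc⟩ := exists_involution_center P fun e => by
    have := hP' z hzQ
    rw [e, mem_bot] at this
    rw [show z = 1 from congrArg Subtype.val this, orderOf_one] at hz2; omega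
  have hcenter : ∀ v : L, orderOf v = 2 → (∀ x ∈ (P : Subgroup L), x * v = v * x) → (v : G) = z := by
    intro v hv hvc
    have : (v : G) ∈ centralizer (Q : Set G) :=
      mem_centralizer_iff.2 fun q hq => congrArg Subtype.val (hvc ⟨q, hQL hq⟩ (hP' q hq))
    rw [hc, hz] at this
    refine this.resolve_left fun e => ?_
    rw [← Subgroup.orderOf_coe, e, orderOf_one] at hv; omega
  rw [eq_top_iff, ← P.normalizer_sup_eq_top, sup_comm]
  refine sup_le_sup le_rfl (le_trans ?_ hn)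
  intro g hg
  have hconj : g * z * g⁻¹ = z := by
    have hgt : g * (t : G) * g⁻¹ ∈ L := ‹L.Normal›.conj_mem _ t.2 g
    have e : ((⟨_, hgt⟩ : L) : G) = z := by
      refine hcenter _ ?_ fun x hx => ?_
      · rw [← Subgroup.orderOf_coe]
        show orderOf (MulAut.conj g (t : G)) = 2
        rw [MulEquiv.orderOf_eq, Subgroup.orderOf_coe, ht2]
      · have hx' : (x : G) ∈ (P : Subgroup L).map L.subtype := ⟨x, hx, rfl⟩
        obtain ⟨y, hy, hyx⟩ := (mem_normalizer_iff'.1 hg (g⁻¹ * (x : G))).2 (by simpa using hx')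
        have h1 := congrArg Subtype.val (htc y hy)
        refine Subtype.ext ?_
        show (x : G) * (g * (t : G) * g⁻¹) = g * (t : G) * g⁻¹ * (x : G)
        have hxy : (x : G) = g * (y : G) * g⁻¹ := by
          have : (y : G) = g⁻¹ * (x : G) * g := hyx
          rw [this]; group
        rw [hxy]
        calc g * (y : G) * g⁻¹ * (g * (t : G) * g⁻¹) = g * ((y : G) * (t : G)) * g⁻¹ := by group
          _ = g * ((t : G) * (y : G)) * g⁻¹ := by rw [show (y : G) * t = t * y from h1]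
          _ = _ := by group
    rw [← hcenter t ht2 htc] at *
    exact e
  refine mem_centralizer_iff.2 fun x hx => ?_
  rcases (hz x).1 hx with rfl | rfl
  · simp
  · exact (mul_inv_eq_iff_eq_mul.1 hconj).symm

end CfsgLib.Spor.LargeQ
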