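/-
A criterion for large extraspecial subgroups through a noncentral involution.
-/
import Cfsg.Agent.Lib.Spor.LargeExtraBasic
import Cfsg.Agent.Lib.Coprime.Core
import Cfsg.Agent.Lib.PGroup.ExtraspecialClassify
import Mathlib.GroupTheory.FixedPointFree

set_option autoImplicit false

namespace CfsgLib.Spor.LargeQ

open Subgroup
open scoped commutatorElement

variable {G : Type*} [Group G] [Finite G]

theorem eq_one_of_odd_mem {P K : Subgroup G} (hP : IsPGroup 2 P) (hK : Odd (Nat.card K)) {x : G} (hx : x ∈ K)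
    (hxP : x ∈ P) : x = 1 := by
  obtain ⟨k, hk⟩ := IsPGroup.iff_orderOf.1 hP ⟨x, hxP⟩
  rw [← Subgroup.orderOf_coe] at hk
  have h := orderOf_dvd_natCard (⟨x, hx⟩ : K)
  rw [← Subgroup.orderOf_coe, hk] at h
  have hk0 : k = 0 := by
    by_contra h0
    exact (Nat.not_even_iff_odd.2 hK) (even_iff_two_dvd.2 ((dvd_pow_self 2 h0).trans h))
  rw [hk0, pow_zero] at hk
  exact orderOf_eq_one_iff.1 hk

/-- An involution with trivial fixed points on a subgroup it normalises inverts it. -/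
theorem inverts {K : Subgroup G} {b : G} (hb : b * b = 1) (hn : ∀ k ∈ K, b * k * b⁻¹ ∈ K)
    (hfpf : ∀ k ∈ K, b * k = k * b → k = 1) : ∀ k ∈ K, b * k * b⁻¹ = k⁻¹ := by
  have hbi : b⁻¹ = b := inv_eq_of_mul_eq_one_right hb
  let φ : K → K := fun k => ⟨b * k * b⁻¹, hn k k.2⟩
  let ψ : K →* K := MonoidHom.mk' φ fun x y => Subtype.ext (show b * ((x : G) * y) * b⁻¹ = b * x * b⁻¹ * (b * y * b⁻¹) by group)
  have h1 : MonoidHom.FixedPointFree ψ := fun k hk => Subtype.ext (hfpf k k.2 (mul_inv_eq_iff_eq_mul.1 (congrArg Subtype.val hk)))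
  have h2 : Function.Involutive ψ := fun k => Subtype.ext (show b * (b * (k : G) * b⁻¹) * b⁻¹ = k by
    rw [hbi, show b * (b * (k : G) * b) * b = (b * b) * k * (b * b) by group, hb, one_mul, mul_one])
  intro k hk
  exact congrArg Subtype.val (congrFun (h1.coe_eq_inv_of_involutive h2) ⟨k, hk⟩)

theorem large_of_involution (Q : Subgroup G) (hL1 : Cfsg.IsExtraspecial 2 Q)
    (hL2 : centralizer (Q : Set G) = (center Q).map Q.subtype)
    (hL3 : centralizer (((center Q).map Q.subtype : Subgroup G) : Set G) ≤ normalizer (Q : Set G))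
    (b : G) (hbQ : b ∈ Q) (hbZ : b ∉ (center Q).map Q.subtype) (hb : orderOf b = 2)
    (hZ : (center Q).map Q.subtype ≤ (Cfsg.pCore 2 (centralizer ({b} : Set G))).map (centralizer ({b} : Set G)).subtype) :
    Cfsg.IsLargeExtraspecial Q := by
  refine ⟨hL1, hL2, hL3, fun K hK hQK => ?_⟩
  haveI : Fact (Nat.Prime 2) := ⟨Nat.prime_two⟩
  obtain ⟨z, hz2, hz⟩ := exists_central_involution hL1
  have hzQ : z ∈ Q := map_subtype_le _ ((hz z).2 (Or.inr rfl))
  have hnorm : ∀ q ∈ Q, ∀ k ∈ K, q * k * q⁻¹ ∈ K := fun q hq k hk => (mem_normalizer_iff.1 (hQK hq) k).1 hk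
  have hQ2 : IsPGroup 2 Q := hL1.1.1
  -- elements of K commuting with z are trivial
  have hCz : ∀ k ∈ K, k * z = z * k → k = 1 := by
    intro k hk hkz
    have hkN : k ∈ normalizer (Q : Set G) := hL3 (mem_centralizer_iff.2 fun w hw => by
      rcases (hz w).1 hw with rfl | rfl
      · simp
      · exact hkz.symm)
    refine eq_one_of_odd_mem hQ2 hK hk ?_
    have hmem : k ∈ centralizer (Q : Set G) := mem_centralizer_iff.2 fun q hq => by
      have h := eq_one_of_odd_mem hQ2 hK (x := k * q * k⁻¹ * q⁻¹) (by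
        rw [mul_assoc k, mul_assoc k]
        exact mul_mem hk (hnorm q hq _ (inv_mem hk))) (mul_mem ((mem_normalizer_iff.1 hkN q).1 hq) (inv_mem hq))
      exact (mul_inv_eq_iff_eq_mul.1 (mul_inv_eq_one.1 h)).symm
    rw [hL2] at hmem
    exact map_subtype_le _ hmem
  have hCb : ∀ k ∈ K, b * k = k * b → k = 1 := by
    intro k hk hkb
    refine hCz k hk ?_
    obtain ⟨z', hz', e⟩ := hZ ((hz z).2 (Or.inr rfl))
    let k' : centralizer ({b} : Set G) := ⟨k, mem_centralizer_singleton_iff.2 hkb.symm⟩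
    have hmem : k' * z' * k'⁻¹ * z'⁻¹ ∈ Cfsg.pCore 2 (centralizer ({b} : Set G)) := by
      refine mul_mem ?_ (inv_mem hz')
      have hmap : (Cfsg.pCore 2 (centralizer ({b} : Set G))).map (MulAut.conj k').toMonoidHom ≤
          Cfsg.pCore 2 (centralizer ({b} : Set G)) := by
        rw [map_le_iff_le_comap]
        exact sSup_le fun N hN x hx => mem_comap.2 (le_sSup hN (hN.1.conj_mem x hx k'))
      exact hmap ⟨z', hz', rfl⟩
    have e' : ((k' * z' * k'⁻¹ * z'⁻¹ : centralizer ({b} : Set G)) : G) = k * z * k⁻¹ * z⁻¹ := by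
      show k * (z' : G) * k⁻¹ * (z' : G)⁻¹ = _
      rw [show (z' : G) = z from e]
    have h := eq_one_of_odd_mem ((CfsgLib.PGroup.isPGroup_pCore 2 _).map (centralizer ({b} : Set G)).subtype) hK
      (x := k * z * k⁻¹ * z⁻¹) (by
        rw [mul_assoc k, mul_assoc k]
        exact mul_mem hk (hnorm z hzQ _ (inv_mem hk))) ⟨_, hmem, e'⟩
    exact mul_inv_eq_iff_eq_mul.1 (mul_inv_eq_one.1 h)
  -- a conjugate of b
  obtain ⟨h, hhQ, hh⟩ : ∃ h ∈ Q, h * b * h⁻¹ = z * b := by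
    by_contra hcon
    push Not at hcon
    refine hbZ ⟨⟨b, hbQ⟩, mem_center_iff.2 fun q => Subtype.ext ?_, rfl⟩
    have hc : ((q : G) * b * (q : G)⁻¹ * b⁻¹) ∈ (center Q).map Q.subtype :=
      ⟨⁅q, ⟨b, hbQ⟩⁆, (CfsgLib.PGroup.smallCenter_of_extraspecial hL1).1.comm_mem q ⟨b, hbQ⟩, rfl⟩
    rcases (hz _).1 hc with e | e
    · exact mul_inv_eq_iff_eq_mul.1 (mul_inv_eq_one.1 e)
    · exact absurd (mul_inv_eq_iff_eq_mul.1 e) (hcon q q.2)
  have hb2 : b * b = 1 := by rw [← pow_two, ← hb, pow_orderOf_eq_one]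
  have i1 := inverts hb2 (fun k hk => hnorm b hbQ k hk) hCb
  have i2 := inverts (b := z * b) (K := K)
    (by rw [← hh, show h * b * h⁻¹ * (h * b * h⁻¹) = h * (b * b) * h⁻¹ by group, hb2]; group)
    (fun k hk => hnorm _ (mul_mem hzQ hbQ) k hk) (fun k hk e => by
      rw [← hh] at e
      have h1 := hCb (h⁻¹ * k * h) (by simpa using hnorm h⁻¹ (inv_mem hhQ) k hk) (by
        calc b * (h⁻¹ * k * h) = h⁻¹ * (h * b * h⁻¹ * k) * h := by group
          _ = h⁻¹ * (k * (h * b * h⁻¹)) * h := by rw [e]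
          _ = h⁻¹ * k * h * b := by group)
      calc k = h * (h⁻¹ * k * h) * h⁻¹ := by group
        _ = 1 := by rw [h1]; group)
  refine (eq_bot_iff_forall _).2 fun k hk => hCz k hk ?_
  have e := i2 _ (hnorm b hbQ k hk)
  rw [i1 k hk, inv_inv] at e
  have : z * b * k⁻¹ * (z * b)⁻¹ = z * (b * k⁻¹ * b⁻¹) * z⁻¹ := by group
  rw [this, i1 _ (inv_mem hk), inv_inv] at e
  exact (mul_inv_eq_iff_eq_mul.1 e).symm

end CfsgLib.Spor.LargeQ
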