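/-
Extraspecial subgroups of extraspecial groups.
-/
import Cfsg.Agent.Lib.Spor.LargeExtraInvolution
import Cfsg.Agent.Lib.Coprime.Action
import Cfsg.Agent.Lib.Coprime.PGroupFrattini
import Cfsg.Agent.Lib.PGroup.FrattiniLe

set_option autoImplicit false

namespace CfsgLib.Spor.LargeQ

open Subgroup
open scoped commutatorElement

variable {G : Type*} [Group G] [Finite G]

theorem isExtraspecial_sub {Q S : Subgroup G} (hQ : IsPGroup 2 Q) (hS : S ≤ Q) {z : G} (hz : orderOf z = 2)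
    (hzS : z ∈ S) (hcomm : ∀ a ∈ S, ∀ b ∈ S, a * b * a⁻¹ * b⁻¹ = 1 ∨ a * b * a⁻¹ * b⁻¹ = z)
    (hsq : ∀ a ∈ S, a * a = 1 ∨ a * a = z) (hcen : ∀ u ∈ S, (∀ s ∈ S, s * u = u * s) ↔ u = 1 ∨ u = z)
    (hna : ∃ a ∈ S, ∃ b ∈ S, a * b ≠ b * a) : Cfsg.IsExtraspecial 2 S := by
  haveI : Fact (Nat.Prime 2) := ⟨Nat.prime_two⟩
  set zS : S := ⟨z, hzS⟩
  have hmem : ∀ u : S, u ∈ center S ↔ (u : G) = 1 ∨ (u : G) = z := fun u => by
    rw [mem_center_iff, ← hcen u u.2]
    exact ⟨fun h s hs => congrArg Subtype.val (h ⟨s, hs⟩), fun h s => Subtype.ext (h s s.2)⟩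
  have hcard : Nat.card (center S) = 2 := by
    have h1 : center S = zpowers zS := by
      refine le_antisymm (fun u hu => ?_) (zpowers_le.2 ((hmem zS).2 (Or.inr rfl)))
      rcases (hmem u).1 hu with e | e
      · rw [show u = 1 from Subtype.ext e]; exact one_mem _
      · rw [show u = zS from Subtype.ext e]; exact mem_zpowers zS
    rw [h1, Nat.card_zpowers, ← Subgroup.orderOf_coe]; exact hz
  have hp : IsPGroup 2 S := hQ.of_injective (inclusion hS) (inclusion_injective hS)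
  have hle : commutator S ≤ center S := by
    rw [_root_.commutator_def, commutator_le]
    intro a _ b _
    exact (hmem _).2 (hcomm a a.2 b b.2)
  obtain ⟨a, ha, b, hb, hab⟩ := hna
  have heq : commutator S = center S := by
    refine le_antisymm hle fun u hu => ?_
    rcases (hmem u).1 hu with e | e
    · rw [show u = 1 from Subtype.ext e]; exact one_mem _
    · have h2 := (hcomm a ha b hb).resolve_left fun e' => hab (mul_inv_eq_iff_eq_mul.1 (mul_inv_eq_one.1 e'))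
      rw [show u = ⁅(⟨a, ha⟩ : S), ⟨b, hb⟩⁆ from Subtype.ext (e.trans h2.symm), _root_.commutator_def]
      exact commutator_mem_commutator (mem_top _) (mem_top _)
  refine ⟨⟨hp, le_antisymm ?_ ?_, heq⟩, hcard⟩
  · exact CfsgLib.FrattiniLe.frattini_le_of_pow_of_commutator
      (fun u => (hmem _).2 (by rw [SubmonoidClass.coe_pow, pow_two]; exact hsq u u.2)) hle
  · exact heq ▸ CfsgLib.Coprime.commutator_le_frattini hp

theorem coprime_decomposition (Q : Subgroup G) (hQ : Cfsg.IsLargeExtraspecial Q) (A : Subgroup G)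
    (hA : A ≤ normalizer (Q : Set G)) (hAodd : Odd (Nat.card A)) (hA1 : A ≠ ⊥) :
    (Q ⊓ centralizer (A : Set G)) ⊔ ⁅Q, A⁆ = Q ∧
      (∀ x ∈ Q ⊓ centralizer (A : Set G), ∀ y ∈ ⁅Q, A⁆, x * y = y * x) ∧
      Cfsg.IsExtraspecial 2 ↥⁅Q, A⁆ ∧
      (Q ⊓ centralizer (A : Set G) = (center Q).map Q.subtype ∨
        Cfsg.IsExtraspecial 2 ↥(Q ⊓ centralizer (A : Set G))) := by
  haveI : Fact (Nat.Prime 2) := ⟨Nat.prime_two⟩
  obtain ⟨hE, hcent, -, -⟩ := hQ
  obtain ⟨z, hz2, hz⟩ := exists_central_involution hE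
  have hzQ : z ∈ Q := map_subtype_le _ ((hz z).2 (Or.inr rfl))
  have hQ2 : IsPGroup 2 Q := hE.1.1
  have hsmall := (CfsgLib.PGroup.smallCenter_of_extraspecial hE).1
  have hcomm : ∀ a ∈ Q, ∀ b ∈ Q, a * b * a⁻¹ * b⁻¹ = 1 ∨ a * b * a⁻¹ * b⁻¹ = z := fun a ha b hb =>
    (hz _).1 ⟨⁅(⟨a, ha⟩ : Q), ⟨b, hb⟩⁆, hsmall.comm_mem _ _, rfl⟩
  have hsq : ∀ a ∈ Q, a * a = 1 ∨ a * a = z := fun a ha =>
    (hz _).1 ⟨(⟨a, ha⟩ : Q) ^ 2, hsmall.pow_mem _, by simp [pow_two]⟩
  have hqz : ∀ q ∈ Q, q * z = z * q := fun q hq => by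
    obtain ⟨z', hz', e⟩ := (hz z).2 (Or.inr rfl)
    rw [← e]
    exact congrArg Subtype.val (mem_center_iff.1 hz' ⟨q, hq⟩)
  have hcenQ : ∀ u, (∀ q ∈ Q, q * u = u * q) → u = 1 ∨ u = z := fun u hu =>
    (hz u).1 (hcent ▸ mem_centralizer_iff.2 hu)
  have hconjQ : ∀ a ∈ A, ∀ q ∈ Q, a * q * a⁻¹ ∈ Q := fun a ha q hq => (mem_normalizer_iff.1 (hA ha) q).1 hq
  have hza : ∀ a ∈ A, a * z = z * a := fun a ha => by
    have h : a * z * a⁻¹ = 1 ∨ a * z * a⁻¹ = z := hcenQ _ fun q hq => by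
      have h := hqz (a⁻¹ * q * a) (by simpa using hconjQ a⁻¹ (inv_mem ha) q hq)
      calc q * (a * z * a⁻¹) = a * (a⁻¹ * q * a * z) * a⁻¹ := by group
        _ = a * (z * (a⁻¹ * q * a)) * a⁻¹ := by rw [h]
        _ = _ := by group
    rcases h with e | e
    · rw [conj_eq_one_iff.1 e, orderOf_one] at hz2; omega
    · exact mul_inv_eq_iff_eq_mul.1 e
  set C := Q ⊓ centralizer (A : Set G)
  set B := ⁅Q, A⁆
  have hB : B ≤ Q := by
    refine commutator_le.2 fun q hq a ha => ?_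
    rw [commutatorElement_def, show q * a * q⁻¹ * a⁻¹ = q * (a * q⁻¹ * a⁻¹) by group]
    exact mul_mem hq (hconjQ a ha _ (inv_mem hq))
  have hcop : (Nat.card A).Coprime (Nat.card Q) := by
    obtain ⟨k, hk⟩ := hQ2.exists_card_eq
    rw [hk]
    exact Nat.Coprime.pow_right _ (Nat.coprime_two_right.2 hAodd)
  haveI : Group.IsNilpotent Q := hQ2.isNilpotent
  have hsup : B ⊔ C = Q := CfsgLib.Coprime.commutator_sup_centralizer hA hcop (Or.inr inferInstance)
  have hCB : ∀ x ∈ C, ∀ y ∈ B, x * y = y * x := by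
    intro c hc y hy
    have hle : B ≤ centralizer ({c} : Set G) := by
      refine commutator_le.2 fun q hq a ha => mem_centralizer_singleton_iff.2 ?_
      have hca : a * c = c * a := (mem_centralizer_iff.1 hc.2 a ha)
      have h1 : c * (q * a * q⁻¹ * a⁻¹) * c⁻¹ = (c * q * c⁻¹) * a * (c * q * c⁻¹)⁻¹ * a⁻¹ := by
        have e : c * a * c⁻¹ = a := by rw [← hca, mul_inv_cancel_right]
        calc c * (q * a * q⁻¹ * a⁻¹) * c⁻¹
            = (c * q * c⁻¹) * (c * a * c⁻¹) * (c * q * c⁻¹)⁻¹ * (c * a * c⁻¹)⁻¹ := by group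
          _ = _ := by rw [e]
      have h2 : c * (q * a * q⁻¹ * a⁻¹) * c⁻¹ = q * a * q⁻¹ * a⁻¹ := by
        rw [h1]
        rcases hcomm c hc.1 q hq with e | e
        · rw [mul_inv_eq_one.1 e]
        · have e' : c * q * c⁻¹ = z * q := mul_inv_eq_iff_eq_mul.1 e
          have hz' : q * a * q⁻¹ * z⁻¹ = z⁻¹ * (q * a * q⁻¹) := by
            have k1 : Commute z q := (hqz q hq).symm
            have k2 : Commute z a := (hza a ha).symm
            exact ((((k1.mul_right k2).mul_right k1.inv_right)).inv_left).symm.eq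
          calc c * q * c⁻¹ * a * (c * q * c⁻¹)⁻¹ * a⁻¹ = z * (q * a * q⁻¹ * z⁻¹) * a⁻¹ := by rw [e']; group
            _ = q * a * q⁻¹ * a⁻¹ := by rw [hz']; group
      exact (mul_inv_eq_iff_eq_mul.1 h2).symm
    exact (mem_centralizer_singleton_iff.1 (hle hy)).symm
  have hsplit : ∀ q ∈ Q, ∃ b ∈ B, ∃ c ∈ C, q = b * c := fun q hq => by
    rw [← hsup] at hq
    have hn : C ≤ normalizer (B : Set G) := fun c hc => mem_normalizer_iff.2 fun y => by
      constructor <;> intro hy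
      · rw [hCB c hc y hy, mul_inv_cancel_right]; exact hy
      · have := hCB c⁻¹ (inv_mem hc) _ hy
        have e : y = c * y * c⁻¹ := by
          calc y = c⁻¹ * (c * y * c⁻¹) * c := by group
            _ = c * y * c⁻¹ * c⁻¹ * c := by rw [this]
            _ = c * y * c⁻¹ := by group
        rw [e]; exact hy
    obtain ⟨b, hb, c, hc, e⟩ := CfsgLib.Coprime.mem_sup_exists hn hq
    exact ⟨b, hb, c, hc, e.symm⟩
  have hBcen : ∀ u ∈ B, (∀ s ∈ B, s * u = u * s) → u = 1 ∨ u = z := fun u hu h => hcenQ u fun q hq => by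
    obtain ⟨b, hb, c, hc, rfl⟩ := hsplit q hq
    exact (Commute.mul_left (h b hb) (hCB c hc u hu)).eq
  have hCcen : ∀ u ∈ C, (∀ s ∈ C, s * u = u * s) → u = 1 ∨ u = z := fun u hu h => hcenQ u fun q hq => by
    obtain ⟨b, hb, c, hc, rfl⟩ := hsplit q hq
    exact (Commute.mul_left (hCB u hu b hb).symm (h c hc)).eq
  have hzC : z ∈ C := ⟨hzQ, mem_centralizer_iff.2 fun a ha => hza a ha⟩
  -- B is not abelian
  have hBna : ∃ a ∈ B, ∃ b ∈ B, a * b ≠ b * a := by
    by_contra hcon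
    push Not at hcon
    refine hA1 ((eq_bot_iff_forall _).2 fun a ha => ?_)
    have hle : A ≤ centralizer (Q : Set G) :=
      CfsgLib.Coprime.le_centralizer_of_le_centralizer_commutator hA hcop (Or.inr inferInstance) fun a ha =>
        mem_centralizer_iff.2 fun y hy => by
          rcases hBcen y hy fun s hs => hcon s hs y hy with rfl | rfl
          · simp
          · exact (hza a ha).symm
    have := hle ha
    rw [hcent] at this
    exact eq_one_of_odd_mem hQ2 hAodd ha (map_subtype_le _ this)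
  have hzB : z ∈ B := by
    obtain ⟨a, ha, b, hb, hab⟩ := hBna
    have e := (hcomm a (hB ha) b (hB hb)).resolve_left fun e' => hab (mul_inv_eq_iff_eq_mul.1 (mul_inv_eq_one.1 e'))
    rw [← e]
    exact mul_mem (mul_mem (mul_mem ha hb) (inv_mem ha)) (inv_mem hb)
  have hiff : ∀ {S : Subgroup G}, S ≤ Q → (∀ u ∈ S, (∀ s ∈ S, s * u = u * s) → u = 1 ∨ u = z) →
      ∀ u ∈ S, (∀ s ∈ S, s * u = u * s) ↔ u = 1 ∨ u = z := fun hS h u hu =>
    ⟨h u hu, fun e s hs => by rcases e with rfl | rfl; exacts [by simp, hqz s (hS hs)]⟩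
  refine ⟨by rw [sup_comm]; exact hsup, hCB, isExtraspecial_sub hQ2 hB hz2 hzB
    (fun a ha b hb => hcomm a (hB ha) b (hB hb)) (fun a ha => hsq a (hB ha)) (hiff hB hBcen) hBna, ?_⟩
  by_cases hna : ∃ a ∈ C, ∃ b ∈ C, a * b ≠ b * a
  · exact Or.inr (isExtraspecial_sub hQ2 inf_le_left hz2 hzC (fun a ha b hb => hcomm a ha.1 b hb.1)
      (fun a ha => hsq a ha.1) (hiff inf_le_left hCcen) hna)
  · push Not at hna
    refine Or.inl (SetLike.ext fun u => ⟨fun hu => (hz u).2 (hCcen u hu fun s hs => hna s hs u hu), fun hu => ?_⟩)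
    rcases (hz u).1 hu with rfl | rfl
    · exact one_mem _
    · exact hzC

end CfsgLib.Spor.LargeQ
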