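/-
The centralizer of an involution in the Mathieu group of degree 11 and its single class of involutions.
-/
import Cfsg.Agent.Lib.Spor.M11CentralizerData
import Cfsg.Agent.Lib.Spor.SylowTwoCert
import Cfsg.Agent.Lib.Spor.SylowTwoMathieu
import Cfsg.Agent.Lib.Invol.Basic
import Cfsg.Agent.Lib.Invol.FourCentralizer
import Mathlib.LinearAlgebra.Matrix.GeneralLinearGroup.Card

set_option autoImplicit false

namespace CfsgLib.Spor.M11Cent

open Cfsg Subgroup

local notation "M11" => Spor.M11
local notation "L" => GL (Fin 2) (ZMod 3)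

/-- The packed image of a matrix given by its entries. -/
def code (a b c d : ZMod 3) : ℕ := arrGet 120 tab (27 * a.val + 9 * b.val + 3 * c.val + d.val)

/-- Normalized packed member of the group. -/
def okCode (g : ℕ) : Bool := inM11 g && (permMulCode g idPacked == g)

theorem code_ok : ∀ a b c d : ZMod 3, okCode (code a b c d) = true := by decide +kernel

theorem code_mul : ∀ a b c d e f g h : ZMod 3, a * d - b * c ≠ 0 → e * h - f * g ≠ 0 →
    permMulCode (code a b c d) (code e f g h) =
      code (a * e + b * g) (a * f + b * h) (c * e + d * g) (c * f + d * h) := by decide +kernel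

theorem code_eq_one : ∀ a b c d : ZMod 3, a * d - b * c ≠ 0 → code a b c d = idPacked →
    a = 1 ∧ b = 0 ∧ c = 0 ∧ d = 1 := by decide +kernel

theorem invol_listed : ∀ a b c d : ZMod 3, a * d - b * c ≠ 0 →
    permMulCode (code a b c d) (code a b c d) = idPacked → code a b c d ≠ idPacked →
    code a b c d ∈ conjList.map Prod.snd := by decide +kernel

theorem list_ok : conjList.all (fun p => okCode p.1 && (isPermCode p.2 &&
    ((permMulCode p.2 idPacked == p.2) && (permMulCode p.1 (code 2 0 0 2) == permMulCode p.2 p.1)))) =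
      true := by decide +kernel

theorem list_nodup : (conjList.map Prod.snd).Nodup := by decide +kernel

theorem list_length : conjList.length = 165 := by decide +kernel

theorem isPerm_idPacked : isPermCode idPacked = true := by decide +kernel

theorem permOf_inj {a b : ℕ} (ha : isPermCode a = true) (hb : isPermCode b = true)
    (na : permMulCode a idPacked = a) (nb : permMulCode b idPacked = b) (h : permOf a = permOf b) :
    a = b := by
  rw [← na, ← nb, permMulCode_eq_iff ha isPerm_idPacked hb isPerm_idPacked, h]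

theorem ok_spec {g : ℕ} (h : okCode g = true) :
    isPermCode g = true ∧ permOf g ∈ M11 ∧ permMulCode g idPacked = g := by
  simp only [okCode, Bool.and_eq_true, beq_iff_eq] at h
  exact ⟨(m11_sound h.1).1, (m11_sound h.1).2, h.2⟩

theorem det_ne (m : L) : m.1 0 0 * m.1 1 1 - m.1 0 1 * m.1 1 0 ≠ 0 := by
  rw [← Matrix.det_fin_two]
  exact ((Matrix.isUnit_iff_isUnit_det _).1 m.isUnit).ne_zero

/-- The code of a matrix. -/
def mcode (m : L) : ℕ := code (m.1 0 0) (m.1 0 1) (m.1 1 0) (m.1 1 1)

theorem mcode_spec (m : L) :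
    isPermCode (mcode m) = true ∧ permOf (mcode m) ∈ M11 ∧ permMulCode (mcode m) idPacked = mcode m :=
  ok_spec (code_ok _ _ _ _)

theorem mcode_mul (m n : L) : permMulCode (mcode m) (mcode n) = mcode (m * n) := by
  simp only [mcode]
  rw [code_mul _ _ _ _ _ _ _ _ (det_ne m) (det_ne n)]
  simp [Units.val_mul, Matrix.mul_apply, Fin.sum_univ_two]

/-- The representation of `GL(2, 3)` inside the group. -/
noncomputable def rep : L →* M11 :=
  MonoidHom.mk' (fun m => ⟨permOf (mcode m), (mcode_spec m).2.1⟩) fun m n => Subtype.ext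
    (permOf_permMulCode (mcode_spec m).1 (mcode_spec n).1 (mcode_spec (m * n)).1 (mcode_mul m n)).symm

theorem rep_injective : Function.Injective rep := by
  refine (injective_iff_map_eq_one _).2 fun m hm => ?_
  have h : mcode m = idPacked :=
    permOf_inj (mcode_spec m).1 isPerm_idPacked (mcode_spec m).2.2 (by decide +kernel)
      ((congrArg Subtype.val hm).trans permOf_idPacked.symm)
  obtain ⟨h1, h2, h3, h4⟩ := code_eq_one _ _ _ _ (det_ne m) h
  refine Units.ext ?_
  ext i j
  fin_cases i <;> fin_cases j <;> simp_all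

/-- The central involution. -/
noncomputable def z : M11 := rep (-1)

theorem z_val : (z : Equiv.Perm GolayPt) = permOf (code 2 0 0 2) := by
  show permOf (mcode (-1)) = _
  rw [show mcode (-1 : L) = code 2 0 0 2 by decide +kernel]

theorem range_le : rep.range ≤ centralizer ({z} : Set M11) := by
  rintro _ ⟨m, rfl⟩
  rw [mem_centralizer_singleton_iff, z, ← map_mul, ← map_mul, mul_neg_one, neg_one_mul]

theorem pair_spec {p : ℕ × ℕ} (hp : p ∈ conjList) :
    isPermCode p.1 = true ∧ permOf p.1 ∈ M11 ∧ isPermCode p.2 = true ∧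
      permMulCode p.2 idPacked = p.2 ∧ permOf p.1 * z = permOf p.2 * permOf p.1 := by
  have h := List.all_eq_true.1 list_ok p hp
  simp only [Bool.and_eq_true, beq_iff_eq] at h
  obtain ⟨h1, h2, h3, h4⟩ := h
  obtain ⟨a, b, -⟩ := ok_spec h1
  refine ⟨a, b, h2, h3, ?_⟩
  rw [z_val]
  exact (permMulCode_eq_iff a (ok_spec (code_ok 2 0 0 2)).1 h2 a).1 h4

theorem le_index : 165 ≤ (centralizer ({z} : Set M11)).index := by
  rw [← list_length, index_eq_card, ← Nat.card_fin conjList.length]
  let g : Fin conjList.length → M11 := fun i => ⟨_, (pair_spec (List.get_mem conjList i)).2.1⟩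
  refine Nat.card_le_card_of_injective (fun i => (QuotientGroup.mk (g i) : M11 ⧸ _)) fun i j e => ?_
  rw [QuotientGroup.eq, mem_centralizer_singleton_iff] at e
  obtain ⟨a, -, b, c, hi⟩ := pair_spec (List.get_mem conjList i)
  obtain ⟨a', -, b', c', hj⟩ := pair_spec (List.get_mem conjList j)
  have e' : (g j : Equiv.Perm GolayPt) * z * (g j : Equiv.Perm GolayPt)⁻¹ =
      (g i : Equiv.Perm GolayPt) * z * (g i : Equiv.Perm GolayPt)⁻¹ := by
    have e1 := congrArg (Subtype.val : M11 → Equiv.Perm GolayPt) e
    simp only [Subgroup.coe_mul, Subgroup.coe_inv] at e1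
    calc (g j : Equiv.Perm GolayPt) * z * (g j : Equiv.Perm GolayPt)⁻¹
        = (g i : Equiv.Perm GolayPt) * (((g i : Equiv.Perm GolayPt)⁻¹ * g j) * z) *
          (g j : Equiv.Perm GolayPt)⁻¹ := by group
      _ = (g i : Equiv.Perm GolayPt) * z * (g i : Equiv.Perm GolayPt)⁻¹ := by rw [e1]; group
  have h2 : permOf (conjList.get j).2 = permOf (conjList.get i).2 := by
    rw [← eq_mul_inv_iff_mul_eq.2 hj.symm, ← eq_mul_inv_iff_mul_eq.2 hi.symm] at *
    exact e'
  have h3 := permOf_inj b' b c' c h2
  refine Fin.ext ((List.Nodup.getElem_inj_iff list_nodup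
    (hi := by simp) (hj := by simp)).1 ?_)
  simpa using h3.symm

theorem card_L : Nat.card L = 48 := by
  rw [Matrix.card_GL_field]; simp [Fin.prod_univ_two, ZMod.card]

theorem range_eq : rep.range = centralizer ({z} : Set M11) ∧
    (centralizer ({z} : Set M11)).index = 165 := by
  have h := (centralizer ({z} : Set M11)).index_mul_card
  rw [card_sporM11] at h
  have hr : Nat.card rep.range = 48 := by
    rw [← card_L]; exact (Nat.card_congr (MonoidHom.ofInjective rep_injective).toEquiv).symm
  have h2 := card_le_of_le range_le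
  rw [hr] at h2
  have h3 := Nat.mul_le_mul le_index h2
  refine ⟨eq_of_le_of_card_ge range_le ?_, ?_⟩ <;> nlinarith [le_index]

theorem isConj_z {v : M11} (hv : orderOf v = 2) : IsConj z v := by
  haveI : Fact (Nat.Prime 2) := ⟨Nat.prime_two⟩
  obtain ⟨hr, hi⟩ := range_eq
  set C := centralizer ({z} : Set M11)
  obtain ⟨R⟩ : Nonempty (Sylow 2 C) := inferInstance
  have hP : ¬ 2 ∣ ((R : Subgroup C).map C.subtype).index := by
    rw [index_map_subtype, hi]
    exact fun hd => (Nat.prime_two.dvd_mul.1 hd).elim R.not_dvd_index (by norm_num)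
  let P : Sylow 2 M11 := (R.2.map C.subtype).toSylow hP
  obtain ⟨k, hk⟩ := CfsgLib.Invol.exists_conj_le_sylow
    (IsPGroup.of_card (n := 1) (by rw [Nat.card_zpowers, hv, pow_one]) : IsPGroup 2 (zpowers v)) P
  obtain ⟨⟨w, hw⟩, -, hwk⟩ := hk v (mem_zpowers v)
  obtain ⟨m, hm⟩ := (hr.symm ▸ hw : w ∈ rep.range)
  have e : rep m = k * v * k⁻¹ := hm.trans hwk
  have hm2 : rep (m * m) = 1 := by
    rw [map_mul, e]
    have := pow_orderOf_eq_one v
    rw [hv, pow_two] at this
    calc k * v * k⁻¹ * (k * v * k⁻¹) = k * (v * v) * k⁻¹ := by group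
      _ = 1 := by rw [this]; group
  have hne : mcode m ≠ idPacked := fun h => by
    have h1 : rep m = 1 := Subtype.ext ((congrArg permOf h).trans permOf_idPacked)
    rw [h1, eq_comm, conj_eq_one_iff] at e
    rw [e, orderOf_one] at hv
    omega
  have hsq : permMulCode (mcode m) (mcode m) = idPacked := by
    rw [mcode_mul, (injective_iff_map_eq_one rep).1 rep_injective _ hm2]
    decide +kernel
  obtain ⟨p, hp, hpm⟩ := List.mem_map.1 (invol_listed _ _ _ _ (det_ne m) hsq hne)
  obtain ⟨a, b, -, -, hz⟩ := pair_spec hp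
  refine (isConj_iff.2 ⟨⟨_, b⟩, ?_⟩ : IsConj z (rep m)).trans
    (isConj_iff.2 ⟨k⁻¹, by rw [e]; group⟩)
  refine Subtype.ext ?_
  show permOf p.1 * (z : Equiv.Perm GolayPt) * (permOf p.1)⁻¹ = permOf (mcode m)
  rw [hz, mul_inv_cancel_right]
  exact congrArg permOf hpm

theorem isConj_invol {u v : M11} (hu : orderOf u = 2) (hv : orderOf v = 2) : IsConj u v :=
  (isConj_z hu).symm.trans (isConj_z hv)

theorem centralizer_equiv {v : M11} (hv : orderOf v = 2) :
    Nonempty (centralizer ({v} : Set M11) ≃* L) := by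
  obtain ⟨k, rfl⟩ := isConj_iff.1 (isConj_z hv)
  have h : (centralizer ({z} : Set M11)).map (MulAut.conj k).toMonoidHom =
      centralizer ({k * z * k⁻¹} : Set M11) := (CfsgLib.Invol.centralizer_conj k z).symm
  exact ⟨((MulEquiv.subgroupMap (MulAut.conj k) _).trans (MulEquiv.subgroupCongr h)).symm.trans
    ((MulEquiv.subgroupCongr range_eq.1.symm).trans (MonoidHom.ofInjective rep_injective).symm)⟩

end CfsgLib.Spor.M11Cent
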