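/-
Every stabilizer of a dodecad and one of its points is conjugate to the fixed model of the group of degree 11.
-/
import Cfsg.Agent.Lib.Spor.M12
import Cfsg.Agent.Lib.Spor.SylowTwoMathieu
import Cfsg.Prelude.Def_Spor_Mathieu

set_option autoImplicit false

namespace CfsgLib.Spor.M11Transport

open Cfsg MulAction
open scoped Pointwise

/-- The stabilizer of a dodecad and a point. -/
abbrev A (d : Finset GolayPt) (p : GolayPt) : Subgroup M24 := stabilizer M24 d ⊓ stabilizer M24 p

theorem mem_M11_iff (g : Equiv.Perm GolayPt) : g ∈ Spor.M11 ↔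
    g ∈ M24 ∧ g • Spor.squareDodecad = Spor.squareDodecad ∧ g (some 0) = some 0 := by
  simp only [Spor.M11, Spor.M12, Subgroup.mem_inf, MulAction.mem_stabilizer_iff, Equiv.Perm.smul_def]
  exact and_assoc

theorem zero_mem : (some 0 : GolayPt) ∈ Spor.squareDodecad := by
  rw [squareDodecad_eq]; decide +kernel

theorem exists_conj {d : Finset GolayPt} (hd : d ∈ dodecads) {p : GolayPt} (hp : p ∈ d) :
    ∃ g ∈ M24, g • d = Spor.squareDodecad ∧ g p = some 0 := by
  obtain ⟨g, hg⟩ := exists_smul_dodecad hd squareDodecad_mem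
  have hp' : (g : Equiv.Perm GolayPt) p ∈ Spor.squareDodecad := by
    rw [← hg]; exact Finset.smul_mem_smul_finset hp
  obtain ⟨k, hk, hkd, hkp⟩ := exists_mem_stabilizer_map_point squareDodecad_mem hp' zero_mem
  refine ⟨k * (g : Equiv.Perm GolayPt), M24.mul_mem hk g.2, ?_, ?_⟩
  · rw [mul_smul]
    show k • (g • d) = _
    rw [hg, hkd]
  · rw [Equiv.Perm.mul_apply, hkp]

theorem mem_A {d : Finset GolayPt} {p : GolayPt} (x : M24) :
    x ∈ A d p ↔ (x : Equiv.Perm GolayPt) • d = d ∧ (x : Equiv.Perm GolayPt) p = p := by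
  simp only [A, Subgroup.mem_inf, MulAction.mem_stabilizer_iff]
  rfl

/-- Conjugation onto the model. -/
def toModel {d : Finset GolayPt} {p : GolayPt} {g : Equiv.Perm GolayPt} (hg : g ∈ M24)
    (hd : g • d = Spor.squareDodecad) (hp : g p = some 0) : A d p ≃* Spor.M11 where
  toFun x := ⟨g * ((x : M24) : Equiv.Perm GolayPt) * g⁻¹, by
    obtain ⟨h1, h2⟩ := (mem_A _).1 x.2
    refine (mem_M11_iff _).2 ⟨M24.mul_mem (M24.mul_mem hg (x : M24).2) (M24.inv_mem hg), ?_, ?_⟩
    · rw [mul_smul, mul_smul, ← hd, inv_smul_smul, h1]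
    · rw [Equiv.Perm.mul_apply, Equiv.Perm.mul_apply, ← hp, Equiv.Perm.inv_def, Equiv.symm_apply_apply, h2]⟩
  invFun y := ⟨⟨g⁻¹ * (y : Equiv.Perm GolayPt) * g,
      M24.mul_mem (M24.mul_mem (M24.inv_mem hg) ((mem_M11_iff _).1 y.2).1) hg⟩, by
    obtain ⟨-, h1, h2⟩ := (mem_M11_iff _).1 y.2
    refine (mem_A _).2 ⟨?_, ?_⟩
    · simp only [mul_smul]
      rw [hd, h1, inv_smul_eq_iff, hd]
    · simp only [Equiv.Perm.mul_apply]
      rw [hp, h2, Equiv.Perm.inv_eq_iff_eq, hp]⟩
  left_inv x := Subtype.ext (Subtype.ext (by simp [mul_assoc]))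
  right_inv y := Subtype.ext (by simp [mul_assoc])
  map_mul' x y := Subtype.ext (by simp [mul_assoc])

/-- An isomorphism carries centralizers of elements to centralizers. -/
theorem centralizer_congr {G H : Type*} [Group G] [Group H] (e : G ≃* H) (x : G) :
    Nonempty (Subgroup.centralizer ({x} : Set G) ≃* Subgroup.centralizer ({e x} : Set H)) := by
  have h : (Subgroup.centralizer ({x} : Set G)).map e.toMonoidHom = Subgroup.centralizer ({e x} : Set H) := by
    ext y
    rw [Subgroup.mem_map, Subgroup.mem_centralizer_singleton_iff]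
    constructor
    · rintro ⟨z, hz, rfl⟩
      rw [Subgroup.mem_centralizer_singleton_iff] at hz
      simp only [MulEquiv.coe_toMonoidHom, ← map_mul, hz]
    · intro hy
      refine ⟨e.symm y, Subgroup.mem_centralizer_singleton_iff.2 (e.injective ?_), by simp⟩
      simp only [map_mul, MulEquiv.apply_symm_apply]
      exact hy
  exact ⟨(MulEquiv.subgroupMap e _).trans (MulEquiv.subgroupCongr h)⟩

end CfsgLib.Spor.M11Transport
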