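/-
Commuting elements of order three and two of `Cfsg.M24`.
-/
import Cfsg.Agent.Lib.Spor.ElementClasses

namespace CfsgLib.Spor

open Cfsg
open scoped Pointwise

/-- An element of order three fixing the first six base points. -/
def threeSix : ℕ := ((levels.getD 6 []).filter fun P => fixMaskOf P != 2 ^ 24 - 1).headD idPacked

theorem threeSix_facts : isM24Code threeSix = true ∧ powCode threeSix 3 = idPacked ∧
    pop 24 (fixMaskOf threeSix) = 6 ∧
    (List.range 6).all (fun j => (fixMaskOf threeSix).testBit (basePts.getD j 0)) = true := by decide +kernel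

/-- The images of the first six base points are fixed by `threeSix`. -/
def keepsSix (l : List ℕ) : Bool :=
  (List.range l.length).all fun j => decide (6 ≤ j) || (fixMaskOf threeSix).testBit (l.getD j 0)

/-- The two codes commute on the indices. -/
def commCodes (a b : ℕ) : Bool := (List.range 24).all fun i => permFn a (permFn b i) == permFn b (permFn a i)

/-- The code squares to the identity on the indices. -/
def sqCode (a : ℕ) : Bool := (List.range 24).all fun i => permFn a (permFn a i) == i

theorem permFn_eq_ptIdx {c i : ℕ} (hc : isPermCode c = true) (hi : i < 24) :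
    permFn c i = ptIdx (permOf c (idxPt i)) := by
  rw [permOf_idxPt hc hi, ptIdx_idxPt _ (permFn_lt hc hi)]

theorem commCodes_of {a b : ℕ} (ha : isPermCode a = true) (hb : isPermCode b = true)
    (h : permOf a * permOf b = permOf b * permOf a) : commCodes a b = true := by
  simp only [commCodes, List.all_eq_true, List.mem_range, beq_iff_eq]
  intro i hi
  rw [permFn_eq_ptIdx ha (permFn_lt hb hi), permFn_eq_ptIdx hb (permFn_lt ha hi), ← permOf_idxPt hb hi,
    ← permOf_idxPt ha hi, ← Equiv.Perm.mul_apply, h, Equiv.Perm.mul_apply]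

theorem sqCode_of {a : ℕ} (ha : isPermCode a = true) (h : permOf a * permOf a = 1) : sqCode a = true := by
  simp only [sqCode, List.all_eq_true, List.mem_range, beq_iff_eq]
  intro i hi
  rw [permFn_eq_ptIdx ha (permFn_lt ha hi), ← permOf_idxPt ha hi, ← Equiv.Perm.mul_apply, h,
    Equiv.Perm.one_apply, ptIdx_idxPt _ hi]

theorem six_no_free : (chainCands keepsSix 7).all (fun c => isPermCode c &&
    (!commCodes c threeSix || ((fixMaskOf c != 0) || !sqCode c))) = true := by decide +kernel

theorem not_commute_six {x s : Equiv.Perm GolayPt} (hx : x ∈ M24) (h3 : orderOf x = 3) (hs : s ∈ M24)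
    (h2 : orderOf s = 2) (hc : Commute x s) (h6 : (fixSet x).card = 6) : (fixSet s).card = 8 := by
  obtain ⟨hM, hpow, hpop, hbase⟩ := threeSix_facts
  have hp := isPermCode_of_isM24Code hM
  set y := permOf threeSix with hy
  have hy6 : (fixSet y).card = 6 := by rw [hy, fixSet_permOf hp, card_pts, hpop]
  have hy3 : orderOf y = 3 := by
    haveI : Fact (Nat.Prime 3) := ⟨Nat.prime_three⟩
    refine orderOf_eq_prime ?_ fun h1 => ?_
    · rw [hy, ← (permOf_powCode hp 3).1, hpow, permOf_idPacked]
    · rw [h1, show fixSet 1 = Finset.univ from Finset.filter_true_of_mem fun p _ => rfl, Finset.card_univ,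
        show Fintype.card GolayPt = 24 by decide +kernel] at hy6
      omega
  obtain ⟨k, hk, e⟩ := conj_of_same_rep
    (fun r hr => ((Bool.and_eq_true _ _).mp (List.all_eq_true.1 reps_three.1 r hr)).1)
    (by rw [reps_three.2]; decide) (exists_rep_three hx h3) (exists_rep_three (permOf_mem_M24 hM) hy3)
    (h6.trans hy6.symm)
  rw [← card_fixSet_conj k]
  have ht2 : orderOf (k * s * k⁻¹) = 2 := h2 ▸ (MulAut.conj k).orderOf_eq s
  have htM : k * s * k⁻¹ ∈ M24 := M24.mul_mem (M24.mul_mem hk hs) (M24.inv_mem hk)
  have hty : k * s * k⁻¹ * y = y * (k * s * k⁻¹) := by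
    rw [hy, ← e]; exact (hc.symm.map (MulAut.conj k).toMonoidHom).eq
  generalize k * s * k⁻¹ = t at ht2 htM hty ⊢
  rcases two_fix htM ht2 with h | h
  · exact h.2
  exfalso
  obtain ⟨c, hcm, rfl⟩ := exists_cand keepsSix htM fun n hn _ => by
    simp only [keepsSix, imgsOf, List.length_map, List.length_range, List.all_eq_true, List.mem_range,
      Bool.or_eq_true, decide_eq_true_eq]
    intro j hj
    rcases Nat.lt_or_ge j 6 with hj6 | hj6
    swap
    · exact Or.inl hj6
    right
    rw [List.getD_eq_getElem _ _ (by simpa using hj), List.getElem_map, List.getElem_range]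
    have hb : bpt j ∈ fixSet y := by
      rw [hy, fixSet_permOf hp, mem_pts, bpt, ptIdx_idxPt _ (basePts_lt j (by omega))]
      exact List.all_eq_true.1 hbase j (List.mem_range.2 hj6)
    have hb' : t (bpt j) ∈ fixSet y := by
      rw [fixSet, Finset.mem_filter] at hb ⊢
      refine ⟨Finset.mem_univ _, ?_⟩
      have := congrArg (fun f : Equiv.Perm GolayPt => f (bpt j)) hty
      simp only [Equiv.Perm.mul_apply, hb.2] at this
      exact this.symm
    rwa [hy, fixSet_permOf hp, mem_pts] at hb'
  have hb := List.all_eq_true.1 six_no_free c hcm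
  simp only [Bool.and_eq_true, Bool.or_eq_true, bne_iff_ne, Bool.not_eq_true'] at hb
  obtain ⟨hcp, hrest⟩ := hb
  rcases hrest with h' | h' | h'
  · rw [commCodes_of hcp hp hty] at h'
    exact Bool.noConfusion h'
  · rw [fixSet_permOf hcp] at h
    exact h' (eq_of_pts_eq (maskFn_lt _ 24) (by norm_num) (h.trans (by ext p; simp [mem_pts])))
  · rw [sqCode_of hcp (by rw [← sq, ← ht2, pow_orderOf_eq_one])] at h'
    exact Bool.noConfusion h'

theorem commuting_three_two {x s : Equiv.Perm GolayPt} (hx : x ∈ M24) (hs : s ∈ M24) (h3 : orderOf x = 3)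
    (h2 : orderOf s = 2) (hc : Commute x s) :
    ((fixSet x).card = 6 ∧ (fixSet s).card = 8) ∨ ((fixSet x).card = 0 ∧ (fixSet s).card = 0) := by
  rcases three_fix hx h3 with h6 | h0
  · exact Or.inl ⟨h6, not_commute_six hx h3 hs h2 hc h6⟩
  rcases two_fix hs h2 with h8 | hs0
  · exfalso
    -- `x` permutes the eight fixed points of `s` without a fixed point
    haveI : Fact (Nat.Prime 3) := ⟨Nat.prime_three⟩
    have hmap : ∀ p, p ∈ fixSet s ↔ x p ∈ fixSet s := fun p => by
      simp only [fixSet, Finset.mem_filter, Finset.mem_univ, true_and]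
      rw [← Equiv.Perm.mul_apply, ← hc.eq, Equiv.Perm.mul_apply]
      exact x.injective.eq_iff.symm
    let σ : Equiv.Perm {p // p ∈ fixSet s} := x.subtypePerm (fun p => (hmap p).symm)
    have hσ : σ ^ 3 ^ 1 = 1 := by
      rw [pow_one, Equiv.Perm.subtypePerm_pow]
      ext ⟨p, hp⟩
      simp [← h3, pow_orderOf_eq_one]
    obtain ⟨a, ha⟩ := Equiv.Perm.exists_fixed_point_of_prime (p := 3) (n := 1) (by
      rw [Fintype.card_coe, h8.2]; norm_num) hσ
    have hx0 : fixSet x = ∅ := Finset.card_eq_zero.1 h0
    have : (a : GolayPt) ∈ fixSet x := Finset.mem_filter.2 ⟨Finset.mem_univ _, congrArg Subtype.val ha⟩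
    rw [hx0] at this
    exact Finset.notMem_empty _ this
  · exact Or.inr ⟨h0, Finset.card_eq_zero.2 hs0⟩

end CfsgLib.Spor
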