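/-
The centralizer in `Cfsg.M24` of an involution without fixed points.
-/
import Cfsg.Agent.Lib.Spor.CommutingPairs
import Cfsg.Agent.Lib.Spor.SextetTrio

namespace CfsgLib.Spor

open Cfsg
open scoped Pointwise

/-- A fixed-point-free involution exchanging 23 and 0, 1 and 2, 3 and 4. -/
def freeInv : ℕ := 0x46954b2ce3c0b241a6b7a9a320457

/-- A sextet fixed by the centralizer of `freeInv`. -/
def freeInvSextet : ℕ := 0x8410014340003802000084c0002038000906

/-- Elements commuting with `freeInv` moving 23 to each index. -/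
def freeInvMove : List ℕ := [
  0x3441448a35112c81d6e33e74ada37,
  0xbab44a2162c6eb38e6f6900c928c2,
  0x10e3682085936ab501c665e899bce1,
  0x1bd33a14e672a4d5daa88459700824,
  0x206b49b44b022257c927bb2ce828c3,
  0x2c44158ece7c184aa91439a40bcd2d,
  0x30c2259c8d616cfa011595e2e84d2a,
  0x396e0629a37112645a4b84675a044f,
  0x435d0b08a460e817de27902b34a8cb,
  0x4a192bd562384748180e7a8856c6d3,
  0x556e093e936a427b119128c485c1c6,
  0x5bdd0b04e64aa421d2249d597034a8,
  0x650ca7dea944c80808ee584656da32,
  0x6a6e090e747d5c4599883aa1688445,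
  0x71669a59a4b8cd10caa2031477ad10,
  0x7b5d08a8a399046952cc4d42b45c07,
  0x8064cbc44822eb63b40f196934a8ce,
  0x8d0642c2a994d0e3ddaf60161128d6,
  0x950ca782a95cdb7b04f1408a3241cc,
  0x982d1752ec6c97530e0a2910111de9,
  0xa482244d97502291bd6431ece834b5,
  0xa8cca3a48503433849eebb04b446d4,
  0xb250b13a743d5b062832798a3202f1,
  0xbdab49ca307b9ac5a928398a418820]

/-- Base images consistent with fixing 23 and commuting with `freeInv`. -/
def okFree (l : List ℕ) : Bool :=
  (l.getD 0 24 == 23) && (List.range l.length).all fun i => (List.range l.length).all fun j =>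
    !(permFn freeInv (basePts.getD i 0) == basePts.getD j 0) || (permFn freeInv (l.getD i 0) == l.getD j 0)

/-- The centralizer of `freeInv` fixing 23. -/
def freeCentList : List ℕ := (chainCands okFree 7).filter fun c => commCodes c freeInv

/-- The code permutes the six masks of `freeInvSextet`. -/
def keepsSextet (c : ℕ) : Bool :=
  (famList 6 freeInvSextet).all fun m => (famList 6 freeInvSextet).contains (permMask c m)

theorem freeInv_facts : isM24Code freeInv = true ∧ sqCode freeInv = true ∧ fixMaskOf freeInv = 0 ∧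
    isSextetCode freeInvSextet = true ∧ keepsSextet freeInv = true := by decide +kernel

theorem freeCentList_facts : freeCentList.length = 320 ∧ freeCentList.Nodup ∧
    freeCentList.all (fun c => (permMulCode idPacked c == c) && keepsSextet c) = true := by decide +kernel

theorem freeInvMove_facts : freeInvMove.all isM24Code = true ∧
    (List.range 24).all (fun i => let c := freeInvMove.getD i 0
      (permFn c 23 == i) && (commCodes c freeInv && keepsSextet c)) = true := by decide +kernel

theorem eq_mul_of_commCodes {a b : ℕ} (ha : isPermCode a = true) (hb : isPermCode b = true)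
    (h : commCodes a b = true) : permOf a * permOf b = permOf b * permOf a := by
  simp only [commCodes, List.all_eq_true, List.mem_range, beq_iff_eq] at h
  ext p
  simp only [Equiv.Perm.mul_apply]
  obtain ⟨hi, e⟩ := (⟨ptIdx_lt p, (idxPt_ptIdx p).symm⟩ : ptIdx p < 24 ∧ p = idxPt (ptIdx p))
  rw [e, permOf_idxPt hb hi, permOf_idxPt ha hi, permOf_idxPt ha (permFn_lt hb hi),
    permOf_idxPt hb (permFn_lt ha hi), h _ hi]

theorem eq_one_of_sqCode {a : ℕ} (ha : isPermCode a = true) (h : sqCode a = true) : permOf a * permOf a = 1 := by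
  simp only [sqCode, List.all_eq_true, List.mem_range, beq_iff_eq] at h
  ext p
  simp only [Equiv.Perm.mul_apply, Equiv.Perm.one_apply]
  obtain ⟨hi, e⟩ := (⟨ptIdx_lt p, (idxPt_ptIdx p).symm⟩ : ptIdx p < 24 ∧ p = idxPt (ptIdx p))
  rw [e, permOf_idxPt ha hi, permOf_idxPt ha (permFn_lt ha hi), h _ hi]

theorem permOf_chainCands_mem (ok : List ℕ → Bool) : ∀ k, ∀ c ∈ chainCands ok k, permOf c ∈ M24
  | 0, c, h => by
    simp only [chainCands, List.mem_singleton] at h
    subst h; rw [permOf_idPacked]; exact one_mem _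
  | k + 1, c, h => by
    simp only [chainCands, List.mem_flatMap, List.mem_filter, List.mem_map] at h
    obtain ⟨a, ha, ⟨P, hP, rfl⟩, -⟩ := h
    have hPM := isM24Code_of_mem_level hP
    have hac := isPermCode_chainCands ok k a ha
    rw [← permOf_permMulCode hac (isPermCode_of_isM24Code hPM)
      (isPermCode_permMulCode hac (isPermCode_of_isM24Code hPM)) rfl]
    exact M24.mul_mem (permOf_chainCands_mem ok k a ha) (permOf_mem_M24 hPM)

theorem smul_freeInvSextet {c : ℕ} (hc : isPermCode c = true) (h : keepsSextet c = true) :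
    permOf c • famSet 6 freeInvSextet = famSet 6 freeInvSextet := by
  refine Finset.eq_of_subset_of_card_le ?_ (le_of_eq (Finset.card_smul_finset _ _).symm)
  intro s hs
  rw [← Finset.image_smul, Finset.mem_image] at hs
  obtain ⟨u, hu, rfl⟩ := hs
  obtain ⟨m, hm, rfl⟩ := mem_famSet.1 hu
  simp only [keepsSextet, List.all_eq_true, List.contains_iff_mem] at h
  exact mem_famSet.2 ⟨_, h m hm, (smul_pts hc m).symm⟩

theorem mem_freeCentList {g : Equiv.Perm GolayPt} (hg : g ∈ M24) (hc : g * permOf freeInv = permOf freeInv * g)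
    (h23 : g (idxPt 23) = idxPt 23) : ∃ c ∈ freeCentList, permOf c = g := by
  have ht := isPermCode_of_isM24Code freeInv_facts.1
  obtain ⟨c, hcm, rfl⟩ := exists_cand okFree hg fun n hn hn0 => by
    simp only [okFree, imgsOf, List.length_map, List.length_range, Bool.and_eq_true, List.all_eq_true,
      List.mem_range, Bool.or_eq_true, Bool.not_eq_true', beq_eq_false_iff_ne, beq_iff_eq]
    have get : ∀ i < n, ∀ d, ((List.range n).map fun j => ptIdx (g (bpt j))).getD i d = ptIdx (g (bpt i)) :=
      fun i hi d => by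
        rw [List.getD_eq_getElem _ _ (by simpa using hi), List.getElem_map, List.getElem_range]
    refine ⟨?_, fun i hi j hj => ?_⟩
    · rw [get 0 hn0, show bpt 0 = idxPt 23 from rfl, h23, ptIdx_idxPt _ (by norm_num)]
    · rw [get i hi, get j hj]
      by_cases hij : permFn freeInv (basePts.getD i 0) = basePts.getD j 0
      · right
        have e1 : permOf freeInv (bpt i) = bpt j := by
          rw [bpt, bpt, permOf_idxPt ht (basePts_lt i (by omega)), hij]
        have e2 : permOf freeInv (g (bpt i)) = g (bpt j) := by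
          rw [← Equiv.Perm.mul_apply, ← hc, Equiv.Perm.mul_apply, e1]
        rw [permFn_eq_ptIdx ht (ptIdx_lt _), idxPt_ptIdx, e2]
      · exact Or.inl hij
  have hp := isPermCode_chainCands okFree 7 c hcm
  exact ⟨c, List.mem_filter.2 ⟨hcm, commCodes_of hp ht hc⟩, rfl⟩

/-- The centralizer of `freeInv`. -/
def freeCent : Subgroup (Equiv.Perm GolayPt) := M24 ⊓ Subgroup.centralizer {permOf freeInv}

theorem mem_freeCent {g : Equiv.Perm GolayPt} :
    g ∈ freeCent ↔ g ∈ M24 ∧ g * permOf freeInv = permOf freeInv * g := by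
  simp [freeCent, Subgroup.mem_inf, Subgroup.mem_centralizer_singleton_iff]

theorem freeInvMove_spec (i : ℕ) (hi : i < 24) : ∃ g ∈ freeCent, g (idxPt 23) = idxPt i ∧
    g • famSet 6 freeInvSextet = famSet 6 freeInvSextet := by
  obtain ⟨hall, h⟩ := freeInvMove_facts
  have h' := List.all_eq_true.1 h i (List.mem_range.2 hi)
  simp only [Bool.and_eq_true, beq_iff_eq] at h'
  obtain ⟨h1, h2, h3⟩ := h'
  have hlen : i < freeInvMove.length := hi
  have hM : isM24Code (freeInvMove.getD i 0) = true := by
    rw [List.getD_eq_getElem _ _ hlen]; exact List.all_eq_true.1 hall _ (List.getElem_mem hlen)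
  have hp := isPermCode_of_isM24Code hM
  refine ⟨permOf (freeInvMove.getD i 0), mem_freeCent.2 ⟨permOf_mem_M24 hM,
    eq_mul_of_commCodes hp (isPermCode_of_isM24Code freeInv_facts.1) h2⟩, ?_, smul_freeInvSextet hp h3⟩
  rw [permOf_idxPt hp (by norm_num), h1]

theorem freeCent_transitive (p q : GolayPt) : ∃ g ∈ freeCent, g p = q := by
  obtain ⟨a, ha, ea, -⟩ := freeInvMove_spec (ptIdx p) (ptIdx_lt p)
  obtain ⟨b, hb, eb, -⟩ := freeInvMove_spec (ptIdx q) (ptIdx_lt q)
  rw [idxPt_ptIdx] at ea eb
  exact ⟨b * a⁻¹, mul_mem hb (inv_mem ha), by rw [Equiv.Perm.mul_apply, Equiv.Perm.inv_eq_iff_eq.2 ea.symm, eb]⟩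

theorem card_freeCent : Nat.card freeCent = 7680 := by
  have ht := isPermCode_of_isM24Code freeInv_facts.1
  obtain ⟨hlen, hnd, hall⟩ := freeCentList_facts
  have hperm : ∀ c ∈ freeCentList, isPermCode c = true := fun c hc =>
    isPermCode_chainCands okFree 7 c (List.mem_filter.1 hc).1
  have hfix : Nat.card (MulAction.stabilizer freeCent (idxPt 23)) = 320 := by
    have hset : ((fun g : freeCent => (g : Equiv.Perm GolayPt)) ''
        (MulAction.stabilizer freeCent (idxPt 23) : Set freeCent)) = permOf '' ↑freeCentList.toFinset := by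
      ext g
      simp only [Set.mem_image, List.coe_toFinset, Set.mem_ofPred_eq, SetLike.mem_coe, MulAction.mem_stabilizer_iff]
      constructor
      · rintro ⟨g, hg, rfl⟩
        exact mem_freeCentList (mem_freeCent.1 g.2).1 (mem_freeCent.1 g.2).2 hg
      · rintro ⟨c, hc, rfl⟩
        obtain ⟨hcm, hcc⟩ := List.mem_filter.1 hc
        refine ⟨⟨permOf c, mem_freeCent.2 ⟨permOf_chainCands_mem okFree 7 c hcm,
          eq_mul_of_commCodes (hperm c hc) ht hcc⟩⟩, ?_, rfl⟩
        show permOf c (idxPt 23) = idxPt 23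
        have hmem := List.mem_flatMap.1 (show c ∈ (chainCands okFree 6).flatMap fun a =>
          ((levels.getD 6 []).map fun P => permMulCode a P).filter fun c => okFree (baseImgs c 7) from hcm)
        obtain ⟨_, _, hmem⟩ := hmem
        have hok := (List.mem_filter.1 hmem).2
        simp only [okFree, Bool.and_eq_true, beq_iff_eq] at hok
        rw [permOf_idxPt (hperm c hc) (by norm_num)]
        exact congrArg idxPt hok.1
    rw [← SetLike.coe_sort_coe, Nat.card_coe_set_eq, ← Set.ncard_image_of_injective _ Subtype.val_injective, hset,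
      Set.InjOn.ncard_image, Set.ncard_coe_finset, List.toFinset_card_of_nodup hnd, hlen]
    intro a ha b hb e
    rw [List.coe_toFinset, Set.mem_ofPred_eq] at ha hb
    have na := List.all_eq_true.1 hall a ha
    have nb := List.all_eq_true.1 hall b hb
    simp only [Bool.and_eq_true, beq_iff_eq] at na nb
    exact permOf_inj_normal (hperm a ha) (hperm b hb) na.1 nb.1 e
  haveI : MulAction.IsPretransitive freeCent GolayPt :=
    ⟨fun p q => by obtain ⟨g, hg, e⟩ := freeCent_transitive p q; exact ⟨⟨g, hg⟩, e⟩⟩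
  have h := (MulAction.stabilizer freeCent (idxPt 23)).card_mul_index
  rw [hfix, MulAction.index_stabilizer_of_transitive, Nat.card_eq_fintype_card,
    show Fintype.card GolayPt = 24 by decide +kernel] at h
  omega

theorem freeCent_sextet {g : Equiv.Perm GolayPt} (hg : g ∈ freeCent) :
    g • famSet 6 freeInvSextet = famSet 6 freeInvSextet := by
  obtain ⟨a, ha, ea, hS⟩ := freeInvMove_spec (ptIdx (g (idxPt 23))) (ptIdx_lt _)
  rw [idxPt_ptIdx] at ea
  have hh : a⁻¹ * g ∈ freeCent := mul_mem (inv_mem ha) hg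
  obtain ⟨c, hc, e⟩ := mem_freeCentList (mem_freeCent.1 hh).1 (mem_freeCent.1 hh).2
    (by rw [Equiv.Perm.mul_apply, ← ea, Equiv.Perm.inv_def, Equiv.symm_apply_apply])
  have hk := List.all_eq_true.1 freeCentList_facts.2.2 c hc
  simp only [Bool.and_eq_true] at hk
  calc g • famSet 6 freeInvSextet = a • ((a⁻¹ * g) • famSet 6 freeInvSextet) := by
        rw [← mul_smul, mul_inv_cancel_left]
    _ = famSet 6 freeInvSextet := by
        rw [← e, smul_freeInvSextet (isPermCode_chainCands okFree 7 c (List.mem_filter.1 hc).1) hk.2, hS]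

theorem free_involution_centralizer {t : Equiv.Perm GolayPt} (ht : t ∈ M24) (h2 : orderOf t = 2)
    (h0 : ∀ p, t p ≠ p) :
    Nat.card {c : Equiv.Perm GolayPt // c ∈ M24 ∧ c * t = t * c} = 7680 ∧
    (∀ p q : GolayPt, ∃ c ∈ M24, c * t = t * c ∧ c p = q) ∧
    ∃ S ∈ sextets, t • S = S ∧ ∀ c ∈ M24, c * t = t * c → c • S = S := by
  obtain ⟨hM, hsq, hfix, hS, -⟩ := freeInv_facts
  have hp := isPermCode_of_isM24Code hM
  have hf : ∀ p, permOf freeInv p ≠ p := fun p hpp => by
    have : p ∈ fixSet (permOf freeInv) := Finset.mem_filter.2 ⟨Finset.mem_univ _, hpp⟩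
    rw [fixSet_permOf hp, hfix] at this
    simp [mem_pts] at this
  have ho : orderOf (permOf freeInv) = 2 := by
    refine orderOf_eq_prime (by rw [sq]; exact eq_one_of_sqCode hp hsq) fun h1 => ?_
    exact hf (idxPt 0) (by rw [h1]; rfl)
  obtain ⟨k, hk, e⟩ := involution_classes.2.2.2 t ht _ (permOf_mem_M24 hM) h2 ho ⟨fun _ => hf, fun _ => h0⟩
  have key : ∀ c, (c ∈ M24 ∧ c * t = t * c) ↔ k * c * k⁻¹ ∈ freeCent := fun c => by
    rw [mem_freeCent, ← e]
    refine and_congr ⟨fun h => M24.mul_mem (M24.mul_mem hk h) (M24.inv_mem hk), fun h => ?_⟩ ?_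
    · simpa [mul_assoc] using M24.mul_mem (M24.mul_mem (M24.inv_mem hk) h) hk
    · rw [show k * c * k⁻¹ * (k * t * k⁻¹) = k * (c * t) * k⁻¹ by group,
        show k * t * k⁻¹ * (k * c * k⁻¹) = k * (t * c) * k⁻¹ by group]
      simp
  refine ⟨?_, fun p q => ?_, ?_⟩
  · rw [← card_freeCent]
    exact Nat.card_congr ((MulAut.conj k).toEquiv.subtypeEquiv key)
  · obtain ⟨g, hg, eg⟩ := freeCent_transitive (k p) (k q)
    obtain ⟨h1, h2⟩ := (key (k⁻¹ * g * k)).2 (by simpa [mul_assoc] using hg)
    exact ⟨_, h1, h2, by simp [Equiv.Perm.mul_apply, eg]⟩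
  · have hfix' : ∀ c, c ∈ M24 ∧ c * t = t * c → c • k⁻¹ • famSet 6 freeInvSextet = k⁻¹ • famSet 6 freeInvSextet :=
      fun c hc => by
        have := freeCent_sextet ((key c).1 hc)
        rw [mul_smul, mul_smul] at this
        exact smul_left_cancel k (this.trans (smul_inv_smul k _).symm)
    exact ⟨_, smul_mem_sextets (M24.inv_mem hk) (famSet_mem_sextets hS), hfix' t ⟨ht, rfl⟩,
      fun c hc h => hfix' c ⟨hc, h⟩⟩

end CfsgLib.Spor
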