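/-
Data for the normalizer in `Cfsg.M24` of a subgroup of order seven.
-/
import Cfsg.Agent.Lib.Spor.InvolutionCentralizer

namespace CfsgLib.Spor

open Cfsg
open scoped Pointwise

/-- An element of order seven fixing 23, 0 and 1. -/
def sevenElt : ℕ := 0xbc5877aa8e4cc464424dad96520c20

/-- A trio fixed by the normalizer of `sevenElt`. -/
def sevenTrio : ℕ := 0xf210c00dc60100293e

/-- The powers of `sevenElt`. -/
def sevenPows : List ℕ := [
  0xbdab49ca307b9ac5a928398a418820,
  0xbc5877aa8e4cc464424dad96520c20,
  0xbd0d54c0f393c766b9426450b29020,
  0xb9ecc93aaf5249114e03351a859420,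
  0xbd62654d89848b41bdc4b1c4d42c20,
  0xbb29683cd272967226658d4626a020,
  0xb98f1726ca9c1152c9eba308313420]
/-- The base points sent to base points. -/
def sevenPairs : List (ℕ × ℕ) := [(0, 0), (1, 1), (2, 2), (3, 4), (4, 5), (5, 6)]

/-- Consistency of base images with fixing three points and sending `i` to `j` where the power `m` does. -/
def okSevenAt (m : ℕ) (l : List ℕ) : Bool :=
  sevenPairs.all fun q => !(Nat.ble (q.1 + 1) l.length && Nat.ble (q.2 + 1) l.length) ||
    (permFn (sevenPows.getD m 0) (l.getD q.1 0) == l.getD q.2 0)

/-- Base images possible in the normalizer of `sevenElt`. -/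
def okSeven (l : List ℕ) : Bool :=
  ((List.range l.length).all fun i => decide (3 ≤ i) || (fixMaskOf sevenElt).testBit (l.getD i 0)) &&
    (List.range 6).any fun m => okSevenAt (m + 1) l

/-- The code conjugates `sevenElt` to its power `m`. -/
def normsSeven (m c : ℕ) : Bool :=
  (List.range 24).all fun i => permFn c (permFn sevenElt i) == permFn (sevenPows.getD m 0) (permFn c i)

/-- The normalizer of `sevenElt`. -/
def sevenNormList : List ℕ := (chainCands okSeven 7).filter fun c => (List.range 6).any fun m => normsSeven (m + 1) c

/-- The code permutes the three masks of `sevenTrio`. -/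
def keepsTrio (c : ℕ) : Bool := (famList 3 sevenTrio).all fun m => (famList 3 sevenTrio).contains (permMask c m)

theorem sevenElt_facts : isM24Code sevenElt = true ∧ powCode sevenElt 7 = idPacked ∧
    powCode sevenElt 1 ≠ idPacked ∧ isTrioCode sevenTrio = true ∧
    (List.range 3).all (fun i => (fixMaskOf sevenElt).testBit (basePts.getD i 0)) = true := by decide +kernel

theorem sevenNormList_facts : sevenNormList.length = 126 ∧ sevenNormList.Nodup ∧
    sevenNormList.all (fun c => (permMulCode idPacked c == c) && keepsTrio c) = true ∧
    (sevenNormList.filter fun c => commCodes c sevenElt).length = 42 ∧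
    (sevenNormList.filter fun c => commCodes c sevenElt).any (fun a =>
      (sevenNormList.filter fun c => commCodes c sevenElt).any fun b => !commCodes a b) = true := by decide +kernel

theorem sevenData :
    (List.range 7).all (fun m => sevenPows.getD m 0 == powCode sevenElt m) = true ∧
    sevenPairs.all (fun q => decide (q.1 < 7) && (decide (q.2 < 7) &&
      (permFn sevenElt (basePts.getD q.1 0) == basePts.getD q.2 0))) = true := by decide +kernel

theorem sevenPows_eq {m : ℕ} (hm : m < 7) : sevenPows.getD m 0 = powCode sevenElt m :=
  beq_iff_eq.1 (List.all_eq_true.1 sevenData.1 m (List.mem_range.2 hm))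

end CfsgLib.Spor
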