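/-
The normalizer and centralizer in `Cfsg.M24` of a subgroup of order seven.
-/
import Cfsg.Agent.Lib.Spor.SylowSevenData

namespace CfsgLib.Spor

open Cfsg
open scoped Pointwise

theorem normsSeven_iff {c : ℕ} (hc : isPermCode c = true) {m : ℕ} (hm7 : m < 7) :
    normsSeven m c = true ↔ permOf c * permOf sevenElt = permOf sevenElt ^ m * permOf c := by
  have hx := isPermCode_of_isM24Code sevenElt_facts.1
  obtain ⟨hpow, hpc⟩ := permOf_powCode hx m
  rw [← hpow]
  simp only [normsSeven, sevenPows_eq hm7, List.all_eq_true, List.mem_range, beq_iff_eq]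
  constructor
  · intro h
    ext p
    rw [← idxPt_ptIdx p, Equiv.Perm.mul_apply, Equiv.Perm.mul_apply, permOf_idxPt hx (ptIdx_lt p),
      permOf_idxPt hc (ptIdx_lt p), permOf_idxPt hc (permFn_lt hx (ptIdx_lt p)),
      permOf_idxPt hpc (permFn_lt hc (ptIdx_lt p)), h _ (ptIdx_lt p)]
  · intro h i hi
    rw [permFn_eq_ptIdx hc (permFn_lt hx hi), permFn_eq_ptIdx hpc (permFn_lt hc hi), ← permOf_idxPt hx hi,
      ← permOf_idxPt hc hi, ← Equiv.Perm.mul_apply, h, Equiv.Perm.mul_apply]

theorem orderOf_sevenElt : orderOf (permOf sevenElt) = 7 := by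
  have hx := isPermCode_of_isM24Code sevenElt_facts.1
  haveI : Fact (Nat.Prime 7) := ⟨by norm_num⟩
  refine orderOf_eq_prime ?_ fun h1 => ?_
  · rw [← (permOf_powCode hx 7).1, sevenElt_facts.2.1, permOf_idPacked]
  · refine sevenElt_facts.2.2.1 (permOf_inj_normal (permOf_powCode hx 1).2 (by decide +kernel)
      (by decide +kernel) (by decide +kernel) ?_)
    rw [(permOf_powCode hx 1).1, pow_one, h1, permOf_idPacked]

theorem mem_sevenNormList {g : Equiv.Perm GolayPt} (hg : g ∈ M24)
    (hn : g * permOf sevenElt * g⁻¹ ∈ Subgroup.zpowers (permOf sevenElt)) :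
    ∃ c ∈ sevenNormList, permOf c = g := by
  have hx := isPermCode_of_isM24Code sevenElt_facts.1
  rw [mem_zpowers_iff_mem_range_orderOf, orderOf_sevenElt, Finset.mem_image] at hn
  obtain ⟨m, hm, hm'⟩ := hn
  rw [Finset.mem_range] at hm
  have hgm : g * permOf sevenElt = permOf sevenElt ^ m * g := by rw [hm']; group
  obtain ⟨m', rfl⟩ : ∃ m', m = m' + 1 := by
    refine Nat.exists_eq_succ_of_ne_zero fun h0 => ?_
    rw [h0, pow_zero] at hm'
    have := congrArg orderOf ((mul_inv_eq_one.1 hm'.symm).trans (mul_one g).symm |> mul_left_cancel)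
    rw [orderOf_sevenElt, orderOf_one] at this
    omega
  obtain ⟨c, hcm, rfl⟩ := exists_cand okSeven hg fun n hn _ => by
    have get : ∀ i < n, ∀ d, ((List.range n).map fun j => ptIdx (g (bpt j))).getD i d = ptIdx (g (bpt i)) :=
      fun i hi d => by
        rw [List.getD_eq_getElem _ _ (by simpa using hi), List.getElem_map, List.getElem_range]
    obtain ⟨hpow, hpc⟩ := permOf_powCode hx (m' + 1)
    simp only [okSeven, okSevenAt, imgsOf, sevenPows_eq (show m' + 1 < 7 by omega), List.length_map,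
      List.length_range, Bool.and_eq_true, List.all_eq_true,
      List.mem_range, Bool.or_eq_true, List.any_eq_true, Bool.not_eq_true', beq_iff_eq,
      decide_eq_true_eq, Bool.and_eq_false_iff]
    refine ⟨fun i hi => ?_, m', by omega, ?_⟩
    · rcases Nat.lt_or_ge i 3 with h3 | h3
      swap
      · exact Or.inl h3
      right
      rw [get i hi]
      have hb : permOf sevenElt (bpt i) = bpt i := by
        have : bpt i ∈ fixSet (permOf sevenElt) := by
          rw [fixSet_permOf hx, mem_pts, bpt, ptIdx_idxPt _ (basePts_lt i (by omega))]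
          exact List.all_eq_true.1 sevenElt_facts.2.2.2.2 i (List.mem_range.2 h3)
        exact (Finset.mem_filter.1 this).2
      have hfix : (permOf sevenElt ^ (m' + 1)) (g (bpt i)) = g (bpt i) := by
        rw [← Equiv.Perm.mul_apply, ← hgm, Equiv.Perm.mul_apply, hb]
      have hfix1 : permOf sevenElt (g (bpt i)) = g (bpt i) := by
        obtain ⟨e, he⟩ : ∃ e, (permOf sevenElt ^ (m' + 1)) ^ e = permOf sevenElt :=
          exists_pow_eq_self_of_coprime (by
            rw [orderOf_sevenElt]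
            exact ((Nat.Prime.coprime_iff_not_dvd (by norm_num)).2 fun h7 => by
              have := Nat.le_of_dvd (Nat.succ_pos m') h7; omega).symm)
        conv_lhs => rw [← he]
        exact Equiv.Perm.pow_apply_eq_self_of_apply_eq_self hfix e
      have : g (bpt i) ∈ fixSet (permOf sevenElt) := Finset.mem_filter.2 ⟨Finset.mem_univ _, hfix1⟩
      rwa [fixSet_permOf hx, mem_pts] at this
    · rintro ⟨i, j⟩ hq
      have hd := List.all_eq_true.1 sevenData.2 _ hq
      simp only [Bool.and_eq_true, decide_eq_true_eq, beq_iff_eq] at hd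
      obtain ⟨hi7, hj7, hij⟩ := hd
      by_cases hb : i < n ∧ j < n
      · right
        rw [sevenPows_eq (show m' + 1 < 7 by omega), get i hb.1, get j hb.2]
        have e1 : permOf sevenElt (bpt i) = bpt j := by
          rw [bpt, bpt, permOf_idxPt hx (basePts_lt i hi7), hij]
        rw [permFn_eq_ptIdx hpc (ptIdx_lt _), idxPt_ptIdx, hpow, ← Equiv.Perm.mul_apply, ← hgm,
          Equiv.Perm.mul_apply, e1]
      · left
        simp only [← Bool.not_eq_true, Nat.ble_eq]
        omega
  have hp := isPermCode_chainCands okSeven 7 c hcm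
  exact ⟨c, List.mem_filter.2 ⟨hcm, List.any_eq_true.2 ⟨m', List.mem_range.2 (by omega),
    (normsSeven_iff hp (show m' + 1 < 7 by omega)).2 hgm⟩⟩, rfl⟩

theorem sevenNormList_spec {c : ℕ} (h : c ∈ sevenNormList) : isPermCode c = true ∧ permOf c ∈ M24 ∧
    permOf c * permOf sevenElt * (permOf c)⁻¹ ∈ Subgroup.zpowers (permOf sevenElt) ∧
    permOf c • famSet 3 sevenTrio = famSet 3 sevenTrio := by
  obtain ⟨hcm, hcn⟩ := List.mem_filter.1 h
  obtain ⟨m, hm6, hm⟩ := List.any_eq_true.1 hcn
  rw [List.mem_range] at hm6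
  have hp := isPermCode_chainCands okSeven 7 c hcm
  refine ⟨hp, permOf_chainCands_mem okSeven 7 c hcm, ?_, ?_⟩
  · rw [(normsSeven_iff hp (show m + 1 < 7 by omega)).1 hm, mul_inv_cancel_right]
    exact pow_mem (Subgroup.mem_zpowers _) _
  · have hk := List.all_eq_true.1 sevenNormList_facts.2.2.1 c h
    simp only [Bool.and_eq_true, keepsTrio, List.all_eq_true, List.contains_iff_mem] at hk
    refine Finset.eq_of_subset_of_card_le ?_ (le_of_eq (Finset.card_smul_finset _ _).symm)
    intro s hs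
    rw [← Finset.image_smul, Finset.mem_image] at hs
    obtain ⟨u, hu, rfl⟩ := hs
    obtain ⟨m, hm, rfl⟩ := mem_famSet.1 hu
    exact mem_famSet.2 ⟨_, hk.2 m hm, (smul_pts hp m).symm⟩

theorem mem_normalizer_zpowers {G : Type*} [Group G] [Finite G] (x g : G) :
    g ∈ Subgroup.normalizer (Subgroup.zpowers x : Set G) ↔ g * x * g⁻¹ ∈ Subgroup.zpowers x := by
  rw [Subgroup.mem_normalizer_iff]
  refine ⟨fun h => (h x).1 (Subgroup.mem_zpowers x), fun h => ?_⟩
  have e : (Subgroup.zpowers x).map (MulAut.conj g).toMonoidHom = Subgroup.zpowers x := by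
    refine Subgroup.eq_of_le_of_card_ge ?_ (le_of_eq ?_)
    · rw [MonoidHom.map_zpowers]; exact Subgroup.zpowers_le.2 h
    · exact (Nat.card_congr ((Subgroup.zpowers x).equivMapOfInjective _ (MulEquiv.injective _)).toEquiv)
  intro y
  conv_rhs => rw [← e]
  exact (Subgroup.mem_map_iff_mem (f := (MulAut.conj g).toMonoidHom) (MulEquiv.injective _)).symm

theorem sylow_seven (S : Subgroup ↥M24) (hS : Nat.card S = 7) :
    Nat.card ↥(Subgroup.normalizer (S : Set ↥M24)) = 126 ∧
    Nat.card ↥(Subgroup.centralizer (S : Set ↥M24)) = 42 ∧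
    (∃ x ∈ Subgroup.centralizer (S : Set ↥M24), ∃ y ∈ Subgroup.centralizer (S : Set ↥M24), x * y ≠ y * x) ∧
    ∃ T ∈ trios, ∀ n ∈ Subgroup.normalizer (S : Set ↥M24), ((n : ↥M24) : Equiv.Perm GolayPt) • T = T := by
  obtain ⟨hM, -, -, hT, -⟩ := sevenElt_facts
  obtain ⟨hlen, hnd, hall, hlen42, hnon⟩ := sevenNormList_facts
  haveI : Fact (Nat.Prime 7) := ⟨by norm_num⟩
  set x₀ : M24 := ⟨permOf sevenElt, permOf_mem_M24 hM⟩ with hx₀
  have ho : orderOf x₀ = 7 := by rw [← Subgroup.orderOf_coe]; exact orderOf_sevenElt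
  have hexp : (Nat.card M24).factorization 7 = 1 := by
    rw [card_M24,
      show (244823040 : ℕ) = 7 * 34974720 by norm_num, Nat.factorization_mul (by norm_num) (by norm_num),
      Finsupp.add_apply, Nat.Prime.factorization_self (by norm_num),
      Nat.factorization_eq_zero_of_not_dvd (by norm_num)]
  let P : Sylow 7 M24 := Sylow.ofCard S (by rw [hS, hexp, pow_one])
  let Q : Sylow 7 M24 := Sylow.ofCard (Subgroup.zpowers x₀) (by rw [Nat.card_zpowers, ho, hexp, pow_one])
  obtain ⟨k, hk⟩ := MulAction.exists_smul_eq M24 P Q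
  have hkS : S.map (MulAut.conj k).toMonoidHom = Subgroup.zpowers x₀ := congrArg Sylow.toSubgroup hk
  set x := k⁻¹ * x₀ * k with hxdef
  have hSx : S = Subgroup.zpowers x := by
    rw [← (Subgroup.map_injective (f := (MulAut.conj k).toMonoidHom) (MulEquiv.injective _)).eq_iff]
    refine hkS.trans ?_
    rw [MonoidHom.map_zpowers]
    refine congrArg Subgroup.zpowers ?_
    show x₀ = k * x * k⁻¹
    rw [hxdef]; group
  let φ : M24 → Equiv.Perm GolayPt := fun g => ((k * g * k⁻¹ : M24) : Equiv.Perm GolayPt)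
  have hφ : Function.Injective φ := fun a b h => (MulAut.conj k).injective (Subtype.ext h)
  have hnorm : ∀ g : M24, g ∈ Subgroup.normalizer (S : Set ↥M24) ↔
      φ g * permOf sevenElt * (φ g)⁻¹ ∈ Subgroup.zpowers (permOf sevenElt) := fun g => by
    rw [hSx, mem_normalizer_zpowers, ← Subgroup.mem_map_iff_mem (f := (MulAut.conj k).toMonoidHom) (MulEquiv.injective _),
      MonoidHom.map_zpowers, show (MulAut.conj k).toMonoidHom x = x₀ by
        show k * x * k⁻¹ = x₀
        rw [hxdef]; group]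
    rw [← Subgroup.mem_map_iff_mem (f := M24.subtype) Subtype.val_injective, MonoidHom.map_zpowers]
    show ((k * (g * x * g⁻¹) * k⁻¹ : M24) : Equiv.Perm GolayPt) ∈ _ ↔ _
    rw [show k * (g * x * g⁻¹) * k⁻¹ = (k * g * k⁻¹) * x₀ * (k * g * k⁻¹)⁻¹ by rw [hxdef]; group]
    simp [φ, hx₀]
  have hcent : ∀ g : M24, g ∈ Subgroup.centralizer (S : Set ↥M24) ↔
      φ g * permOf sevenElt = permOf sevenElt * φ g := fun g => by
    rw [hSx, Subgroup.zpowers_eq_closure, Subgroup.centralizer_closure, Subgroup.mem_centralizer_singleton_iff]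
    constructor
    · intro h
      have : k * g * k⁻¹ * x₀ = x₀ * (k * g * k⁻¹) := by
        calc k * g * k⁻¹ * x₀ = k * (g * x) * k⁻¹ := by rw [hxdef]; group
          _ = k * (x * g) * k⁻¹ := by rw [h]
          _ = x₀ * (k * g * k⁻¹) := by rw [hxdef]; group
      exact congrArg Subtype.val this
    · intro h
      have h' : k * g * k⁻¹ * x₀ = x₀ * (k * g * k⁻¹) := Subtype.ext h
      calc g * x = k⁻¹ * (k * g * k⁻¹ * x₀) * k := by rw [hxdef]; group
        _ = k⁻¹ * (x₀ * (k * g * k⁻¹)) * k := by rw [h']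
        _ = x * g := by rw [hxdef]; group
  have hlift : ∀ {c}, c ∈ sevenNormList → ∃ g : M24, φ g = permOf c := fun {c} hc => by
    obtain ⟨-, hcM, -, -⟩ := sevenNormList_spec hc
    refine ⟨k⁻¹ * ⟨permOf c, hcM⟩ * k, ?_⟩
    simp [φ, mul_assoc]
  have hinj : ∀ a ∈ sevenNormList, ∀ b ∈ sevenNormList, permOf a = permOf b → a = b := fun a ha b hb e => by
    have na := List.all_eq_true.1 hall a ha
    have nb := List.all_eq_true.1 hall b hb
    simp only [Bool.and_eq_true, beq_iff_eq] at na nb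
    exact permOf_inj_normal (sevenNormList_spec ha).1 (sevenNormList_spec hb).1 na.1 nb.1 e
  have hcount : ∀ (H : Subgroup M24) (L : List ℕ), L.Nodup → (∀ c ∈ L, c ∈ sevenNormList) →
      (∀ g : M24, g ∈ H ↔ ∃ c ∈ L, permOf c = φ g) → Nat.card H = L.length := by
    intro H L hL hsub hH
    have e : φ '' (H : Set M24) = permOf '' ↑L.toFinset := by
      ext y
      simp only [Set.mem_image, SetLike.mem_coe, List.coe_toFinset, Set.mem_ofPred_eq]
      constructor
      · rintro ⟨g, hg, rfl⟩; exact (hH g).1 hg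
      · rintro ⟨c, hc, rfl⟩
        obtain ⟨g, hg⟩ := hlift (hsub c hc)
        exact ⟨g, (hH g).2 ⟨c, hc, hg.symm⟩, hg⟩
    rw [← SetLike.coe_sort_coe, Nat.card_coe_set_eq, ← Set.ncard_image_of_injective _ hφ, e,
      Set.InjOn.ncard_image, Set.ncard_coe_finset, List.toFinset_card_of_nodup hL]
    intro a ha b hb
    rw [List.coe_toFinset, Set.mem_ofPred_eq] at ha hb
    exact hinj a (hsub a ha) b (hsub b hb)
  have hNiff : ∀ g : M24, g ∈ Subgroup.normalizer (S : Set ↥M24) ↔ ∃ c ∈ sevenNormList, permOf c = φ g := fun g => by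
    rw [hnorm]
    refine ⟨fun h => mem_sevenNormList (k * g * k⁻¹).2 h, ?_⟩
    rintro ⟨c, hc, e⟩
    exact e ▸ (sevenNormList_spec hc).2.2.1
  have hCiff : ∀ g : M24, g ∈ Subgroup.centralizer (S : Set ↥M24) ↔
      ∃ c ∈ sevenNormList.filter (fun c => commCodes c sevenElt), permOf c = φ g := fun g => by
    rw [hcent]
    constructor
    · intro h
      obtain ⟨c, hc, e⟩ := mem_sevenNormList (k * g * k⁻¹).2
        (by rw [show ((k * g * k⁻¹ : M24) : Equiv.Perm GolayPt) = φ g from rfl, h, mul_inv_cancel_right]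
            exact Subgroup.mem_zpowers _)
      exact ⟨c, List.mem_filter.2 ⟨hc, commCodes_of (sevenNormList_spec hc).1 (isPermCode_of_isM24Code hM)
        (by rw [e]; exact h)⟩, e⟩
    · rintro ⟨c, hc, e⟩
      obtain ⟨hc, hcc⟩ := List.mem_filter.1 hc
      rw [← e]
      exact eq_mul_of_commCodes (sevenNormList_spec hc).1 (isPermCode_of_isM24Code hM) hcc
  refine ⟨(hcount _ _ hnd (fun _ h => h) hNiff).trans hlen,
    (hcount _ _ (hnd.filter _) (fun _ h => (List.mem_filter.1 h).1) hCiff).trans hlen42, ?_, ?_⟩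
  · simp only [List.any_eq_true, Bool.not_eq_true'] at hnon
    obtain ⟨a, ha, b, hb, hab⟩ := hnon
    obtain ⟨g, hg⟩ := hlift (List.mem_filter.1 ha).1
    obtain ⟨g', hg'⟩ := hlift (List.mem_filter.1 hb).1
    refine ⟨g, (hCiff g).2 ⟨a, ha, hg.symm⟩, g', (hCiff g').2 ⟨b, hb, hg'.symm⟩, fun h => ?_⟩
    refine Bool.noConfusion (hab.symm.trans (commCodes_of (sevenNormList_spec (List.mem_filter.1 ha).1).1
      (sevenNormList_spec (List.mem_filter.1 hb).1).1 ?_))
    rw [← hg, ← hg']
    simpa [φ, mul_assoc] using congrArg φ h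
  · refine ⟨_, smul_mem_trios (M24.inv_mem k.2) (famSet_mem_trios hT), fun n hn => ?_⟩
    obtain ⟨c, hc, e⟩ := (hNiff n).1 hn
    have := (sevenNormList_spec hc).2.2.2
    rw [e, show φ n = (k : Equiv.Perm GolayPt) * n * (k : Equiv.Perm GolayPt)⁻¹ from rfl, mul_smul, mul_smul] at this
    exact smul_left_cancel _ (this.trans (smul_inv_smul _ _).symm)

end CfsgLib.Spor
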