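/-
Self-orthogonal binary codes of length 24, dimension 12 and minimal distance 8.
-/
import Cfsg.Prelude.Def_Sporadic_a
import Mathlib.InformationTheory.Hamming
import Mathlib.LinearAlgebra.Dimension.Finrank
import Mathlib.LinearAlgebra.FiniteDimensional.Basic
import Mathlib.FieldTheory.Finiteness
import Mathlib.Data.Finset.Powerset

set_option autoImplicit false

namespace CfsgLib.Spor.Code24

open Cfsg Finset

abbrev Pt := Fin 24
abbrev Word := Pt → ZMod 2

/-- The word with a given support. -/
def ind (F : Finset Pt) : Word := fun i => if i ∈ F then 1 else 0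

theorem supp_ind (F : Finset Pt) : support₂ (ind F) = F := by
  ext i
  by_cases h : i ∈ F <;> simp [support₂, ind, h]

theorem norm_eq (v : Word) : hammingNorm v = (support₂ v).card := rfl

theorem zmod_two (a : ZMod 2) : a = 0 ∨ a = 1 := by revert a; decide

theorem ind_supp (v : Word) : ind (support₂ v) = v := by
  ext i
  rcases zmod_two (v i) with h | h <;> simp [support₂, ind, h]

theorem norm_ind (F : Finset Pt) : hammingNorm (ind F) = F.card := by rw [norm_eq, supp_ind]

theorem norm_add (u v : Word) :
    hammingNorm (u + v) + 2 * (support₂ u ∩ support₂ v).card = hammingNorm u + hammingNorm v := by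
  have e : support₂ (u + v) = (support₂ u ∪ support₂ v) \ (support₂ u ∩ support₂ v) := by
    ext i
    rcases zmod_two (u i) with h | h <;> rcases zmod_two (v i) with h' | h' <;>
      simp [support₂, h, h']
    decide
  rw [norm_eq, norm_eq, norm_eq, e, card_sdiff_of_subset inter_subset_union]
  have := card_union_add_card_inter (support₂ u) (support₂ v)
  have := card_le_card (inter_subset_union : support₂ u ∩ support₂ v ⊆ support₂ u ∪ support₂ v)
  omega

theorem add_self (v : Word) : v + v = 0 := by
  ext i
  rcases zmod_two (v i) with h | h <;> simp [h]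
  decide

theorem sub_eq_add' (u v : Word) : u - v = u + v := by
  rw [sub_eq_iff_eq_add, add_assoc, add_self, add_zero]

/-- The standing hypotheses. -/
structure Good (C : Submodule (ZMod 2) Word) : Prop where
  dim : Module.finrank (ZMod 2) C = 12
  orth : ∀ v ∈ C, ∀ w ∈ C, ∑ i, v i * w i = 0
  min : ∀ w ∈ C, w ≠ 0 → 8 ≤ hammingNorm w

variable {C : Submodule (ZMod 2) Word} (hC : Good C)
include hC

theorem Good.inter_even {v w : Word} (hv : v ∈ C) (hw : w ∈ C) : 2 ∣ (support₂ v ∩ support₂ w).card := by
  have h := hC.orth v hv w hw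
  have e : ∀ i, v i * w i = if i ∈ support₂ v ∩ support₂ w then 1 else 0 := by
    intro i
    rcases zmod_two (v i) with h | h <;> rcases zmod_two (w i) with h' | h' <;> simp [support₂, h, h']
  simp only [e, sum_boole, filter_univ_mem] at h
  exact (ZMod.natCast_eq_zero_iff_even.1 h).two_dvd

theorem Good.even {v : Word} (hv : v ∈ C) : 2 ∣ hammingNorm v := by
  have := hC.inter_even hv hv
  rwa [inter_self] at this

theorem Good.eq_of_small {u v : Word} (h : u + v ∈ C)
    (hlt : hammingNorm u + hammingNorm v < 8 + 2 * (support₂ u ∩ support₂ v).card) : u = v := by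
  by_contra hne
  have h8 := hC.min _ h fun e => hne (by
    calc u = u + (v + v) := by rw [add_self, add_zero]
      _ = v := by rw [← add_assoc, e, zero_add])
  have := norm_add u v
  omega

theorem Good.card_quot : Nat.card (Word ⧸ C) = 4096 := by
  have h1 := Submodule.card_eq_card_quotient_mul_card C
  have h2 : Nat.card C = 2 ^ 12 := by
    rw [Module.natCard_eq_pow_finrank (K := ZMod 2), hC.dim, Nat.card_zmod]
  have h3 : Nat.card Word = 2 ^ 24 := by
    rw [Nat.card_fun, Nat.card_zmod, Nat.card_fin]
  rw [h2, h3] at h1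
  omega

/-- Small words. -/
def small : Finset (Finset Pt) :=
  powersetCard 0 univ ∪ powersetCard 1 univ ∪ powersetCard 2 univ ∪ powersetCard 3 univ

omit hC in
theorem mem_small (F : Finset Pt) : F ∈ small ↔ F.card ≤ 3 := by
  simp only [small, mem_union, mem_powersetCard, subset_univ, true_and]
  omega

omit hC in
theorem card_small : (small).card = 2325 := by
  have d : ∀ i j : ℕ, i ≠ j → Disjoint (powersetCard i (univ : Finset Pt)) (powersetCard j univ) :=
    fun i j h => disjoint_left.2 fun F hF hF' =>
      h ((mem_powersetCard.1 hF).2.symm.trans (mem_powersetCard.1 hF').2)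
  rw [small, card_union_of_disjoint, card_union_of_disjoint, card_union_of_disjoint]
  · simp only [card_powersetCard, card_univ, Fintype.card_fin]; decide
  · exact d 0 1 (by omega)
  · exact disjoint_union_left.2 ⟨d 0 2 (by omega), d 1 2 (by omega)⟩
  · exact disjoint_union_left.2 ⟨disjoint_union_left.2 ⟨d 0 3 (by omega), d 1 3 (by omega)⟩, d 2 3 (by omega)⟩

/-- Every coset has either one word of weight at most three and none of weight four, or exactly six
words of weight four with disjoint supports and none smaller. -/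
theorem Good.coset [∀ w : Word, DecidablePred fun G : Finset Pt => ind G + w ∈ C] (w : Word) :
    (∃ F : Finset Pt, F.card ≤ 3 ∧ ind F + w ∈ C ∧ ∀ G : Finset Pt, G.card ≤ 4 → ind G + w ∈ C → G = F) ∨
    ((∀ G : Finset Pt, G.card ≤ 4 → ind G + w ∈ C → G.card = 4) ∧
      ((powersetCard 4 (univ : Finset Pt)).filter fun G => ind G + w ∈ C).card = 6) := by
  classical
  let cls : Finset Pt → Word ⧸ C := fun F => Submodule.Quotient.mk (ind F)
  have hcls : ∀ F G, cls F = cls G → ind F + ind G ∈ C := fun F G h => by
    have := (Submodule.Quotient.eq C).1 h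
    rwa [sub_eq_add'] at this
  have hinj : Set.InjOn cls (small : Finset (Finset Pt)) := by
    intro F hF G hG h
    have e := hC.eq_of_small (hcls F G h) (by
      rw [norm_ind, norm_ind]
      have := (mem_small F).1 hF
      have := (mem_small G).1 hG
      omega)
    rw [← supp_ind F, e, supp_ind]
  haveI : Fintype (Word ⧸ C) := Fintype.ofFinite _
  set S := (small).image cls with hS
  set T := (powersetCard 4 (univ : Finset Pt)).image cls with hT
  have hST : Disjoint S T := by
    rw [disjoint_left]
    intro q hq hq'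
    obtain ⟨F, hF, rfl⟩ := mem_image.1 hq
    obtain ⟨G, hG, h⟩ := mem_image.1 hq'
    have h4 := (mem_powersetCard.1 hG).2
    have h3 := (mem_small F).1 hF
    have e := hC.eq_of_small (hcls G F h) (by rw [norm_ind, norm_ind]; omega)
    have := congrArg hammingNorm e
    rw [norm_ind, norm_ind] at this
    omega
  have hdisj : ∀ F ∈ powersetCard 4 (univ : Finset Pt), ∀ G ∈ powersetCard 4 (univ : Finset Pt),
      cls F = cls G → F ≠ G → Disjoint F G := by
    intro F hF G hG h hne
    rw [disjoint_iff_inter_eq_empty, ← card_eq_zero]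
    by_contra h0
    refine hne ?_
    have e := hC.eq_of_small (hcls F G h) (by
      rw [norm_ind, norm_ind, supp_ind, supp_ind, (mem_powersetCard.1 hF).2, (mem_powersetCard.1 hG).2]
      omega)
    rw [← supp_ind F, e, supp_ind]
  have hfib : ∀ q ∈ T, ((powersetCard 4 (univ : Finset Pt)).filter fun F => cls F = q).card ≤ 6 := by
    intro q _
    set Φ := (powersetCard 4 (univ : Finset Pt)).filter fun F => cls F = q with hΦ
    have h1 : (Φ.biUnion id).card = Φ.card * 4 := by
      rw [card_biUnion, sum_const_nat (m := 4)]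
      · exact fun F hF => (mem_powersetCard.1 (mem_filter.1 hF).1).2
      · intro F hF G hG hne
        obtain ⟨hF1, hF2⟩ := mem_filter.1 hF
        obtain ⟨hG1, hG2⟩ := mem_filter.1 hG
        exact hdisj F hF1 G hG1 (hF2.trans hG2.symm) hne
    have h2 := card_le_univ (Φ.biUnion id)
    rw [h1, Fintype.card_fin] at h2
    omega
  have hcount : (powersetCard 4 (univ : Finset Pt)).card = 10626 := by
    rw [card_powersetCard, card_univ, Fintype.card_fin]; decide
  have hT6 : 10626 ≤ 6 * T.card := hcount ▸ card_le_mul_card_image _ 6 hfib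
  have hScard : S.card = 2325 := by rw [hS, card_image_of_injOn hinj, card_small]
  have hU : (S ∪ T).card ≤ 4096 := by
    rw [← hC.card_quot, Nat.card_eq_fintype_card]
    exact card_le_univ _
  rw [card_union_of_disjoint hST, hScard] at hU
  have hTcard : T.card = 1771 := by omega
  have hall : S ∪ T = univ := by
    refine eq_univ_of_card _ ?_
    rw [card_union_of_disjoint hST, hScard, hTcard, ← Nat.card_eq_fintype_card, hC.card_quot]
  have hsix : ∀ q ∈ T, ((powersetCard 4 (univ : Finset Pt)).filter fun F => cls F = q).card = 6 := by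
    intro q hq
    by_contra hne
    have hlt := lt_of_le_of_ne (hfib q hq) hne
    have h1 := card_eq_sum_card_image cls (powersetCard 4 (univ : Finset Pt))
    have h2 : ∑ b ∈ T, ((powersetCard 4 (univ : Finset Pt)).filter fun F => cls F = b).card < ∑ _b ∈ T, 6 :=
      sum_lt_sum (fun b hb => hfib b hb) ⟨q, hq, hlt⟩
    rw [sum_const, hTcard, smul_eq_mul, ← hT] at *
    omega
  have hmem : ∀ G, cls G = Submodule.Quotient.mk w ↔ ind G + w ∈ C := fun G => by
    rw [Submodule.Quotient.eq, sub_eq_add']
  have hq : (Submodule.Quotient.mk w : Word ⧸ C) ∈ S ∪ T := by rw [hall]; exact mem_univ _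
  rcases mem_union.1 hq with hq | hq
  · left
    obtain ⟨F, hF, h⟩ := mem_image.1 hq
    refine ⟨F, (mem_small F).1 hF, (hmem F).1 h, fun G hG hGw => ?_⟩
    rcases Nat.lt_or_ge G.card 4 with h4 | h4
    · exact hinj ((mem_small G).2 (by omega)) hF (((hmem G).2 hGw).trans h.symm)
    · exfalso
      refine disjoint_left.1 hST (mem_image_of_mem cls hF) ?_
      rw [h, ← (hmem G).2 hGw]
      exact mem_image_of_mem cls (mem_powersetCard.2 ⟨subset_univ _, by omega⟩)
  · right
    refine ⟨fun G hG hGw => ?_, ?_⟩
    · by_contra hne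
      refine disjoint_left.1 hST ?_ hq
      rw [← (hmem G).2 hGw]
      exact mem_image_of_mem cls ((mem_small G).2 (by omega))
    · exact (congrArg Finset.card (filter_congr fun G _ => (hmem G).symm)).trans (hsix _ hq)

theorem Good.disjoint_tetrads {w : Word} {F G : Finset Pt} (hF : F.card = 4) (hG : G.card = 4)
    (hFw : ind F + w ∈ C) (hGw : ind G + w ∈ C) (hne : F ≠ G) : Disjoint F G := by
  rw [disjoint_iff_inter_eq_empty, ← card_eq_zero]
  by_contra h0
  refine hne ?_
  have h : ind F + ind G ∈ C := by
    have := add_mem hFw hGw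
    rwa [show ind F + w + (ind G + w) = ind F + ind G + (w + w) by abel, add_self, add_zero] at this
  have e := hC.eq_of_small h (by rw [norm_ind, norm_ind, supp_ind, supp_ind]; omega)
  rw [← supp_ind F, e, supp_ind]

/-- Five points lie in a word of weight eight. -/
theorem Good.exists_octad {F : Finset Pt} (hF : F.card = 5) :
    ∃ w ∈ C, hammingNorm w = 8 ∧ F ⊆ support₂ w := by
  classical
  obtain ⟨G, hG, hGF⟩ : ∃ G : Finset Pt, G.card ≤ 4 ∧ ind G + ind F ∈ C := by
    rcases hC.coset (ind F) with ⟨G, hG, hGw, -⟩ | ⟨-, h6⟩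
    · exact ⟨G, by omega, hGw⟩
    · obtain ⟨G, hG⟩ := card_pos.1 (by rw [h6]; norm_num : 0 < _)
      obtain ⟨h1, h2⟩ := mem_filter.1 hG
      exact ⟨G, (mem_powersetCard.1 h1).2.le, h2⟩
  have hne : ind G + ind F ≠ 0 := fun e => by
    have h' : ind G = ind F := by
      calc ind G = ind G + (ind F + ind F) := by rw [add_self, add_zero]
        _ = ind F := by rw [← add_assoc, e, zero_add]
    have := congrArg hammingNorm h'
    rw [norm_ind, norm_ind] at this
    omega
  have h8 := hC.min _ hGF hne
  have h2 := hC.even hGF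
  have hsum := norm_add (ind G) (ind F)
  rw [norm_ind, norm_ind, supp_ind, supp_ind] at hsum
  refine ⟨_, hGF, by omega, fun i hi => ?_⟩
  have h0 : (G ∩ F).card = 0 := by omega
  have hiG : i ∉ G := fun h => by
    rw [card_eq_zero] at h0
    exact notMem_empty i (h0 ▸ mem_inter.2 ⟨h, hi⟩)
  refine mem_filter.2 ⟨mem_univ _, ?_⟩
  show ind G i + ind F i ≠ 0
  simp [ind, hiG, hi]

theorem Good.octad_unique {F : Finset Pt} (hF : F.card = 5) {v w : Word} (hv : v ∈ C) (hw : w ∈ C)
    (hv8 : hammingNorm v = 8) (hw8 : hammingNorm w = 8) (hFv : F ⊆ support₂ v) (hFw : F ⊆ support₂ w) : v = w := by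
  refine hC.eq_of_small (add_mem hv hw) ?_
  have := card_le_card (subset_inter hFv hFw)
  omega

theorem Good.span_octads : Submodule.span (ZMod 2) {w : Word | w ∈ C ∧ hammingNorm w = 8} = C := by
  set D := Submodule.span (ZMod 2) {w : Word | w ∈ C ∧ hammingNorm w = 8} with hD
  have hle : D ≤ C := Submodule.span_le.2 fun w hw => hw.1
  refine le_antisymm hle ?_
  suffices H : ∀ n, ∀ v ∈ C, hammingNorm v = n → v ∈ D from fun v hv => H _ v hv rfl
  intro n
  induction n using Nat.strong_induction_on with
  | _ n ih =>
    intro v hv hn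
    by_cases h0 : v = 0
    · rw [h0]; exact D.zero_mem
    · have h8 := hC.min v hv h0
      obtain ⟨F, hFv, hF⟩ := exists_subset_card_eq (s := support₂ v) (n := 5) (by rw [← norm_eq]; omega)
      obtain ⟨o, ho, ho8, hFo⟩ := hC.exists_octad hF
      have hk := card_le_card (subset_inter hFv hFo)
      have hsum := norm_add v o
      have hmem := ih (hammingNorm (v + o)) (by omega) _ (add_mem hv ho) rfl
      have := D.add_mem hmem (Submodule.subset_span (⟨ho, ho8⟩ : o ∈ {w : Word | w ∈ C ∧ hammingNorm w = 8}))
      rwa [add_assoc, add_self, add_zero] at this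

theorem Good.four_dvd {v : Word} (hv : v ∈ C) : 4 ∣ hammingNorm v := by
  rw [← hC.span_octads] at hv
  suffices H : v ∈ C ∧ 4 ∣ hammingNorm v from H.2
  refine Submodule.span_induction (fun x hx => ⟨hx.1, by rw [hx.2]; norm_num⟩) ⟨C.zero_mem, by simp⟩
    (fun x y _ _ hx hy => ⟨C.add_mem hx.1 hy.1, ?_⟩) (fun a x _ hx => ⟨C.smul_mem a hx.1, ?_⟩) hv
  · have := norm_add x y
    have := hC.inter_even hx.1 hy.1
    have := hx.2
    have := hy.2
    omega
  · rcases zmod_two a with rfl | rfl
    · simp
    · rw [one_smul]; exact hx.2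

end CfsgLib.Spor.Code24
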