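/-
Suborbits of point stabilizers of octads and dodecads in `Cfsg.M24`, in the wording of the statements.
-/
import Cfsg.Agent.Lib.Spor.LevelFacts

namespace CfsgLib.Spor

open Cfsg MulAction
open scoped Pointwise

theorem fPtSet_eq {x : GolayPt} {o y : Finset GolayPt} {n : ℕ} (hn : n < 100) :
    fPtSet (x, o) y = n ↔ x ∈ y ∧ (o ∩ y).card = n := by
  simp only [fPtSet, has]; split <;> rename_i h
  · simp [h]
  · exact iff_of_false (fun e => by simp at e; omega) fun e => h e.1

theorem fPtSetOut_eq {x : GolayPt} {o y : Finset GolayPt} {n : ℕ} (hn : n < 100) :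
    fPtSetOut (x, o) y = n ↔ x ∉ y ∧ (o ∩ y).card = n := by
  simp only [fPtSetOut, has]; split <;> rename_i h
  · exact iff_of_false (fun e => by simp at e; omega) fun e => e.1 h
  · simp [h]

theorem point_octad_in {x : GolayPt} {o : Finset GolayPt} (ho : o ∈ octads) (hx : x ∈ o) :
    {o' : Finset GolayPt | o' ∈ octads ∧ x ∈ o' ∧ (o ∩ o').card = 2}.ncard = 112 ∧
    {o' : Finset GolayPt | o' ∈ octads ∧ x ∈ o' ∧ (o ∩ o').card = 4}.ncard = 140 ∧
    ∀ o' o'' : Finset GolayPt, o' ∈ octads → o'' ∈ octads → x ∈ o' → x ∈ o'' →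
      (o ∩ o').card = (o ∩ o'').card →
      ∃ g : Equiv.Perm GolayPt, g ∈ M24 ∧ g x = x ∧ g • o = o ∧ g • o' = o'' := by
  have hX := mem_orbit_ptOctIn ho hx
  refine ⟨?_, ?_, fun o' o'' h' h'' hx' hx'' h => ?_⟩
  · simp only [← fPtSet_eq (show 2 < 100 by norm_num)]
    exact ptOctIn_local.count (v := 2) (k := 2) (by decide +kernel) hX
  · simp only [← fPtSet_eq (show 4 < 100 by norm_num)]
    exact ptOctIn_local.count (v := 4) (k := 3) (by decide +kernel) hX
  · have hm := ptOctIn_local.value_mem (vs := [8, 100, 2, 4, 104, 102]) (by decide +kernel) hX h'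
    have e' : fPtSet (x, o) o' = (o ∩ o').card := by simp [fPtSet, has, hx']
    have e'' : fPtSet (x, o) o'' = (o ∩ o').card := by simp [fPtSet, has, hx'', h]
    have hb : (o ∩ o').card ≤ 8 := (Finset.card_le_card Finset.inter_subset_left).trans ho.2.le
    simp only [List.mem_cons, List.not_mem_nil, or_false, e'] at hm
    have key : ∀ k, onlyIn (fun x => pop 24 (14919680 &&& arrGet 24 x 0) +
          100 * (1 - if (arrGet 24 x 0).testBit 23 then 1 else 0)) ptOctInOrb.w ptOctInOrb.V ptOctInOrb.lens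
          (o ∩ o').card k = true →
        ∃ g : Equiv.Perm GolayPt, g ∈ M24 ∧ g x = x ∧ g • o = o ∧ g • o' = o'' := fun k hk => by
      obtain ⟨g, hg1, hg2⟩ := ptOctIn_local.move hk hX h' h'' e' e''
      exact ⟨g, g.2, congrArg Prod.fst hg1, congrArg Prod.snd hg1, hg2⟩
    rcases hm with e | e | e | e | e | e
    · exact key 0 (by rw [e]; decide +kernel)
    · omega
    · exact key 2 (by rw [e]; decide +kernel)
    · exact key 3 (by rw [e]; decide +kernel)
    all_goals omega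

theorem point_octad_out {x : GolayPt} {o : Finset GolayPt} (ho : o ∈ octads) (hx : x ∉ o) :
    {o' : Finset GolayPt | o' ∈ octads ∧ x ∉ o' ∧ (o ∩ o').card = 0}.ncard = 15 ∧
    {o' : Finset GolayPt | o' ∈ octads ∧ x ∉ o' ∧ (o ∩ o').card = 4}.ncard = 210 ∧
    {o' : Finset GolayPt | o' ∈ octads ∧ x ∉ o' ∧ (o ∩ o').card = 2}.ncard = 280 ∧
    ∀ o' o'' : Finset GolayPt, o' ∈ octads → o'' ∈ octads → x ∉ o' → x ∉ o'' →
      (o ∩ o').card = (o ∩ o'').card →
      ∃ g : Equiv.Perm GolayPt, g ∈ M24 ∧ g x = x ∧ g • o = o ∧ g • o' = o'' := by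
  have hX := mem_orbit_ptOctOut ho hx
  refine ⟨?_, ?_, ?_, fun o' o'' h' h'' hx' hx'' h => ?_⟩
  · simp only [← fPtSetOut_eq (show 0 < 100 by norm_num)]
    exact ptOctOut_local.count (v := 0) (k := 1) (by decide +kernel) hX
  · simp only [← fPtSetOut_eq (show 4 < 100 by norm_num)]
    exact ptOctOut_local.count (v := 4) (k := 5) (by decide +kernel) hX
  · simp only [← fPtSetOut_eq (show 2 < 100 by norm_num)]
    exact ptOctOut_local.count (v := 2) (k := 6) (by decide +kernel) hX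
  · have hm := ptOctOut_local.value_mem (vs := [8, 0, 100, 104, 102, 4, 2]) (by decide +kernel) hX h'
    have e' : fPtSetOut (x, o) o' = (o ∩ o').card := by simp [fPtSetOut, has, hx']
    have e'' : fPtSetOut (x, o) o'' = (o ∩ o').card := by simp [fPtSetOut, has, hx'', h]
    have hb : (o ∩ o').card ≤ 8 := (Finset.card_le_card Finset.inter_subset_left).trans ho.2.le
    simp only [List.mem_cons, List.not_mem_nil, or_false, e'] at hm
    have key : ∀ k, onlyIn (fun x => pop 24 (5405696 &&& arrGet 24 x 0) +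
          100 * if (arrGet 24 x 0).testBit 23 then 1 else 0) ptOctOutOrb.w ptOctOutOrb.V ptOctOutOrb.lens
          (o ∩ o').card k = true →
        ∃ g : Equiv.Perm GolayPt, g ∈ M24 ∧ g x = x ∧ g • o = o ∧ g • o' = o'' := fun k hk => by
      obtain ⟨g, hg1, hg2⟩ := ptOctOut_local.move hk hX h' h'' e' e''
      exact ⟨g, g.2, congrArg Prod.fst hg1, congrArg Prod.snd hg1, hg2⟩
    rcases hm with e | e | e | e | e | e | e
    · exact key 0 (by rw [e]; decide +kernel)
    · exact key 1 (by rw [e]; decide +kernel)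
    all_goals first
      | omega
      | exact key 5 (by rw [e]; decide +kernel)
      | exact key 6 (by rw [e]; decide +kernel)

theorem point_dodecad {x : GolayPt} {d : Finset GolayPt} (hd : d ∈ dodecads) (hx : x ∈ d) :
    {d' : Finset GolayPt | d' ∈ dodecads ∧ x ∈ d' ∧ (d ∩ d').card = 4}.ncard = 165 ∧
    {d' : Finset GolayPt | d' ∈ dodecads ∧ x ∈ d' ∧ (d ∩ d').card = 8}.ncard = 330 ∧
    {d' : Finset GolayPt | d' ∈ dodecads ∧ x ∈ d' ∧ (d ∩ d').card = 6}.ncard = 792 ∧
    ∀ d' d'' : Finset GolayPt, d' ∈ dodecads → d'' ∈ dodecads → x ∈ d' → x ∈ d'' →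
      (d ∩ d').card = (d ∩ d'').card →
      ∃ g : Equiv.Perm GolayPt, g ∈ M24 ∧ g x = x ∧ g • d = d ∧ g • d' = d'' := by
  have hX := mem_orbit_ptDodIn hd hx
  refine ⟨?_, ?_, ?_, fun o' o'' h' h'' hx' hx'' h => ?_⟩
  · simp only [← fPtSet_eq (show 4 < 100 by norm_num)]
    exact ptDodIn_local.count (v := 4) (k := 2) (by decide +kernel) hX
  · simp only [← fPtSet_eq (show 8 < 100 by norm_num)]
    exact ptDodIn_local.count (v := 8) (k := 4) (by decide +kernel) hX
  · simp only [← fPtSet_eq (show 6 < 100 by norm_num)]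
    exact ptDodIn_local.count (v := 6) (k := 6) (by decide +kernel) hX
  · have hm := ptDodIn_local.value_mem (vs := [12, 100, 4, 108, 8, 104, 6, 106]) (by decide +kernel) hX h'
    have e' : fPtSet (x, d) o' = (d ∩ o').card := by simp [fPtSet, has, hx']
    have e'' : fPtSet (x, d) o'' = (d ∩ o').card := by simp [fPtSet, has, hx'', h]
    have hb : (d ∩ o').card ≤ 12 := (Finset.card_le_card Finset.inter_subset_left).trans hd.2.le
    simp only [List.mem_cons, List.not_mem_nil, or_false, e'] at hm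
    have key : ∀ k, onlyIn (fun x => pop 24 (16201472 &&& arrGet 24 x 0) +
          100 * (1 - if (arrGet 24 x 0).testBit 23 then 1 else 0)) ptDodInOrb.w ptDodInOrb.V ptDodInOrb.lens
          (d ∩ o').card k = true →
        ∃ g : Equiv.Perm GolayPt, g ∈ M24 ∧ g x = x ∧ g • d = d ∧ g • o' = o'' := fun k hk => by
      obtain ⟨g, hg1, hg2⟩ := ptDodIn_local.move hk hX h' h'' e' e''
      exact ⟨g, g.2, congrArg Prod.fst hg1, congrArg Prod.snd hg1, hg2⟩
    rcases hm with e | e | e | e | e | e | e | e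
    · exact key 0 (by rw [e]; decide +kernel)
    all_goals first
      | omega
      | exact key 2 (by rw [e]; decide +kernel)
      | exact key 4 (by rw [e]; decide +kernel)
      | exact key 6 (by rw [e]; decide +kernel)

theorem fTwoSet_eq {p q : GolayPt} {o y : Finset GolayPt} {n a : ℕ} (hn : n < 100) (hb : (o ∩ y).card < 100) :
    fTwoSet ((p, q), o) y = n + 100 * a ↔ (o ∩ y).card = n ∧ fTwo (p, q) y = a := by
  simp only [fTwoSet]; omega

theorem two_points_octad {p q : GolayPt} (hpq : p ≠ q) {o : Finset GolayPt} (ho : o ∈ octads)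
    (hp : p ∈ o) (hq : q ∈ o) :
    {x : Finset GolayPt | x ∈ octads ∧ p ∈ x ∧ q ∈ x ∧ (o ∩ x).card = 2}.ncard = 16 ∧
    {x : Finset GolayPt | x ∈ octads ∧ p ∈ x ∧ q ∈ x ∧ (o ∩ x).card = 4}.ncard = 60 ∧
    ∀ o' o'' : Finset GolayPt, o' ∈ octads → o'' ∈ octads → p ∈ o' → q ∈ o' → p ∈ o'' → q ∈ o'' →
      (o ∩ o').card = (o ∩ o'').card →
      ∃ g : Equiv.Perm GolayPt, g ∈ M24 ∧ g p = p ∧ g q = q ∧ g • o = o ∧ g • o' = o'' := by
  have hX := mem_orbit_twoOctBoth hpq ho hp hq
  have hc : ∀ y : Finset GolayPt, (o ∩ y).card ≤ 8 := fun y =>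
    (Finset.card_le_card Finset.inter_subset_left).trans ho.2.le
  have hset : ∀ n < 100, {x : Finset GolayPt | x ∈ octads ∧ p ∈ x ∧ q ∈ x ∧ (o ∩ x).card = n} =
      {y | y ∈ octads ∧ fTwoSet ((p, q), o) y = n + 100 * 3} := fun n hn => by
    ext y
    simp only [Set.mem_ofPred_eq, fTwoSet_eq hn (lt_of_le_of_lt (hc y) (by norm_num)), fTwo_eq_three]
    tauto
  refine ⟨?_, ?_, fun o' o'' h' h'' hp' hq' hp'' hq'' h => ?_⟩
  · rw [hset 2 (by norm_num)]; exact twoOctBoth_local.count (k := 1) (by decide +kernel) hX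
  · rw [hset 4 (by norm_num)]; exact twoOctBoth_local.count (k := 4) (by decide +kernel) hX
  · have e' : fTwoSet ((p, q), o) o' = (o ∩ o').card + 100 * 3 := by simp [fTwoSet, fTwo, has, hp', hq']
    have e'' : fTwoSet ((p, q), o) o'' = (o ∩ o').card + 100 * 3 := by simp [fTwoSet, fTwo, has, hp'', hq'', h]
    have hm := twoOctBoth_local.value_mem (vs := [308, 302, 0, 4, 304, 104, 204, 102, 202, 2]) (by decide +kernel)
      hX h'
    simp only [List.mem_cons, List.not_mem_nil, or_false, e'] at hm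
    have key : ∀ k, onlyIn (fun x => pop 24 (13062145 &&& arrGet 24 x 0) + 100 * twoCode (arrGet 24 x 0))
          twoOctBothOrb.w twoOctBothOrb.V twoOctBothOrb.lens ((o ∩ o').card + 100 * 3) k = true →
        ∃ g : Equiv.Perm GolayPt, g ∈ M24 ∧ g p = p ∧ g q = q ∧ g • o = o ∧ g • o' = o'' := fun k hk => by
      obtain ⟨g, hg1, hg2⟩ := twoOctBoth_local.move hk hX h' h'' e' e''
      exact ⟨g, g.2, congrArg (fun z => z.1.1) hg1, congrArg (fun z => z.1.2) hg1, congrArg Prod.snd hg1, hg2⟩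
    have := hc o'
    rcases hm with e | e | e | e | e | e | e | e | e | e
    · exact key 0 (by rw [e]; decide +kernel)
    · exact key 1 (by rw [e]; decide +kernel)
    all_goals first
      | omega
      | exact key 4 (by rw [e]; decide +kernel)

theorem two_points_one_octad {p q : GolayPt} (hpq : p ≠ q) :
    {x : Finset GolayPt | x ∈ octads ∧ p ∈ x ∧ q ∉ x}.ncard = 176 ∧
    (∀ o o' : Finset GolayPt, (o ∈ octads ∧ p ∈ o ∧ q ∉ o) → (o' ∈ octads ∧ p ∈ o' ∧ q ∉ o') →
      ∃ g : Equiv.Perm GolayPt, g ∈ M24 ∧ g p = p ∧ g q = q ∧ g • o = o') ∧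
    ∀ o : Finset GolayPt, (o ∈ octads ∧ p ∈ o ∧ q ∉ o) →
      {x : Finset GolayPt | (x ∈ octads ∧ p ∈ x ∧ q ∉ x) ∧ (o ∩ x).card = 2}.ncard = 70 ∧
      {x : Finset GolayPt | (x ∈ octads ∧ p ∈ x ∧ q ∉ x) ∧ (o ∩ x).card = 4}.ncard = 105 ∧
      ∀ o' o'' : Finset GolayPt, (o' ∈ octads ∧ p ∈ o' ∧ q ∉ o') → (o'' ∈ octads ∧ p ∈ o'' ∧ q ∉ o'') →
        (o ∩ o').card = (o ∩ o'').card →
        ∃ g : Equiv.Perm GolayPt, g ∈ M24 ∧ g p = p ∧ g q = q ∧ g • o = o ∧ g • o' = o'' := by
  have h2 := mem_orbit_two hpq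
  refine ⟨?_, fun o o' ho ho' => ?_, fun o ⟨ho, hp, hq⟩ => ?_⟩
  · simp only [← fTwo_eq_two]
    exact twoOct_local.count (v := 2) (k := 2) (by decide +kernel) h2
  · obtain ⟨g, hg1, hg2⟩ := twoOct_local.move (v := 2) (k := 2) (by decide +kernel) h2 ho.1 ho'.1
      (fTwo_eq_two.2 ho.2) (fTwo_eq_two.2 ho'.2)
    exact ⟨g, g.2, congrArg Prod.fst hg1, congrArg Prod.snd hg1, hg2⟩
  have hX := mem_orbit_twoOctOne hpq ho hp hq
  have hc : ∀ y : Finset GolayPt, (o ∩ y).card ≤ 8 := fun y =>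
    (Finset.card_le_card Finset.inter_subset_left).trans ho.2.le
  have hset : ∀ n < 100, {x : Finset GolayPt | (x ∈ octads ∧ p ∈ x ∧ q ∉ x) ∧ (o ∩ x).card = n} =
      {y | y ∈ octads ∧ fTwoSet ((p, q), o) y = n + 100 * 2} := fun n hn => by
    ext y
    simp only [Set.mem_ofPred_eq, fTwoSet_eq hn (lt_of_le_of_lt (hc y) (by norm_num)), fTwo_eq_two]
    tauto
  refine ⟨?_, ?_, fun o' o'' ⟨h', hp', hq'⟩ ⟨h'', hp'', hq''⟩ h => ?_⟩
  · rw [hset 2 (by norm_num)]; exact twoOctOne_local.count (k := 6) (by decide +kernel) hX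
  · rw [hset 4 (by norm_num)]; exact twoOctOne_local.count (k := 8) (by decide +kernel) hX
  · have e' : fTwoSet ((p, q), o) o' = (o ∩ o').card + 100 * 2 := by simp [fTwoSet, fTwo, has, hp', hq']
    have e'' : fTwoSet ((p, q), o) o'' = (o ∩ o').card + 100 * 2 := by simp [fTwoSet, fTwo, has, hp'', hq'', h]
    have hm := twoOctOne_local.value_mem (vs := [208, 0, 100, 104, 304, 302, 202, 4, 204, 102, 2])
      (by decide +kernel) hX h'
    simp only [List.mem_cons, List.not_mem_nil, or_false, e'] at hm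
    have key : ∀ k, onlyIn (fun x => pop 24 (14919680 &&& arrGet 24 x 0) + 100 * twoCode (arrGet 24 x 0))
          twoOctOneOrb.w twoOctOneOrb.V twoOctOneOrb.lens ((o ∩ o').card + 100 * 2) k = true →
        ∃ g : Equiv.Perm GolayPt, g ∈ M24 ∧ g p = p ∧ g q = q ∧ g • o = o ∧ g • o' = o'' := fun k hk => by
      obtain ⟨g, hg1, hg2⟩ := twoOctOne_local.move hk hX h' h'' e' e''
      exact ⟨g, g.2, congrArg (fun z => z.1.1) hg1, congrArg (fun z => z.1.2) hg1, congrArg Prod.snd hg1, hg2⟩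
    have := hc o'
    rcases hm with e | e | e | e | e | e | e | e | e | e | e
    · exact key 0 (by rw [e]; decide +kernel)
    all_goals first
      | omega
      | exact key 6 (by rw [e]; decide +kernel)
      | exact key 8 (by rw [e]; decide +kernel)

end CfsgLib.Spor
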