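/-
Two points and a pair, and a dodecad with some points: orbits of their stabilizers in `Cfsg.M24`.
-/
import Cfsg.Agent.Lib.Spor.PointObject
import Cfsg.Agent.Lib.Spor.StabOrbits

namespace CfsgLib.Spor

open Cfsg MulAction
open scoped Pointwise

theorem card_setOf_smul (g : M24) (n : ℕ) {s : Finset GolayPt} (h : s ∈ {t : Finset GolayPt | t.card = n}) :
    g • s ∈ {t : Finset GolayPt | t.card = n} := (card_smul_M24 g s).trans h

/-- Whether an octad contains two points and two sets. -/
def CommonOctad (X : (GolayPt × GolayPt) × Finset GolayPt) (t : Finset GolayPt) : Prop :=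
  ∃ o ∈ octads, X.1.1 ∈ o ∧ X.1.2 ∈ o ∧ X.2 ∪ t ⊆ o

open Classical in
/-- The kind of a pair seen from two points and a pair. -/
noncomputable def fPair (X : (GolayPt × GolayPt) × Finset GolayPt) (t : Finset GolayPt) : ℕ :=
  100 * (has X.1.1 t + has X.1.2 t) + 10 * (X.2 ∩ t).card + if CommonOctad X t then 1 else 0

/-- The octads through the two base points. -/
def pqOctads : List ℕ := [13062145, 9776129, 12325377, 11046145, 8499969, 14254209, 10666625, 14950785, 13121601, 10110017, 14747201, 8688833, 9440193, 9607201, 12641313, 8783649, 9193633, 10506593, 8593633, 12880401, 8546577, 13636881, 10557585, 8922769, 11575377, 9240913, 15335473, 9519665, 11100169, 13771273, 8412681, 9748745, 9048457, 10881097, 12650793, 11535529, 8946281, 8619033, 12599513, 8663097, 15747077, 10630149, 9112069, 8471941, 8675909, 12747077, 10846245, 9969957, 12587685, 8966165, 9830549, 8391797, 13370381, 8431757, 9506893, 10486557, 9347075, 11731203, 13124355, 9465987, 12717187, 8505411, 8983587, 10496547,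 13893731, 10765331, 8524371, 8421811, 14716939, 8716939, 8398155, 9963547, 9471495, 8657159, 11010247, 12656663, 8536111]

theorem pqOctads_eq : pqOctads = (weightList 8).filter (fun o => o.testBit 23 && o.testBit 0) := by decide +kernel

/-- The same on masks. -/
def pairCode (m : ℕ) : ℕ :=
  100 * ((if m.testBit 23 then 1 else 0) + if m.testBit 0 then 1 else 0) + 10 * pop 24 (6 &&& m) +
    if pqOctads.any (fun o => o &&& (6 ||| m) == (6 ||| m)) then 1 else 0

theorem fPair_smul (g : M24) (X : (GolayPt × GolayPt) × Finset GolayPt) (t : Finset GolayPt) :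
    fPair (g • X) (g • t) = fPair X t := by
  classical
  have h : CommonOctad (g • X) (g • t) ↔ CommonOctad X t := by
    constructor
    · rintro ⟨o, ho, h1, h2, h3⟩
      refine ⟨g⁻¹ • o, (smul_mem_octads_iff g⁻¹ o).2 ho, ?_, ?_, ?_⟩
      · rw [← smul_mem_pts_iff g, smul_inv_smul]; exact h1
      · rw [← smul_mem_pts_iff g, smul_inv_smul]; exact h2
      · rw [← Finset.smul_finset_subset_smul_finset_iff (a := g), smul_inv_smul, Finset.smul_finset_union]
        exact h3
    · rintro ⟨o, ho, h1, h2, h3⟩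
      refine ⟨g • o, (smul_mem_octads_iff g o).2 ho, (smul_mem_pts_iff g _ _).2 h1, (smul_mem_pts_iff g _ _).2 h2, ?_⟩
      show g • X.2 ∪ g • t ⊆ g • o
      rw [← Finset.smul_finset_union]
      exact Finset.smul_finset_subset_smul_finset h3
  unfold fPair
  rw [if_congr h rfl rfl]
  show 100 * (has (g • X.1.1) (g • t) + has (g • X.1.2) (g • t)) + 10 * (g • X.2 ∩ g • t).card + _ = _
  rw [card_inter_smul_M24, has_smul, has_smul]

theorem fPair_pts {m : ℕ} (hm : m < 2 ^ 24) : fPair ((idxPt 23, idxPt 0), pts 6) (pts m) = pairCode m := by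
  classical
  have h : CommonOctad ((idxPt 23, idxPt 0), pts 6) (pts m) ↔
      pqOctads.any (fun o => o &&& (6 ||| m) == (6 ||| m)) = true := by
    rw [pqOctads_eq]
    simp only [List.any_eq_true, List.mem_filter, Bool.and_eq_true, beq_iff_eq, CommonOctad, ← pts_lor, and_assoc]
    have hlt : (6 ||| m) < 2 ^ 24 := Nat.or_lt_two_pow (by norm_num) hm
    constructor
    · rintro ⟨o, ho, h1, h2, h3⟩
      obtain ⟨a, ha, rfl⟩ := mem_weightList ho
      exact ⟨a, ha, (idxPt_mem_pts (by norm_num)).1 h1, (idxPt_mem_pts (by norm_num)).1 h2,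
        (pts_subset_pts hlt).1 h3⟩
    · rintro ⟨a, ha, h1, h2, h3⟩
      obtain ⟨ha1, ha2⟩ := List.mem_filter.1 ha
      exact ⟨pts a, ⟨pts_mem_supports ha1, by rw [card_pts]; simpa using ha2⟩,
        (idxPt_mem_pts (by norm_num)).2 h1, (idxPt_mem_pts (by norm_num)).2 h2, (pts_subset_pts hlt).2 h3⟩
  unfold fPair pairCode
  rw [if_congr h rfl rfl, card_inter_pts, has_pts (show 23 < 24 by norm_num), has_pts (show 0 < 24 by norm_num)]

theorem twoPair_local : Local ((idxPt 23, idxPt 0), pts 6) {t : Finset GolayPt | t.card = 2} fPair twoPairOrb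
    (fun x => pairCode (arrGet 24 x 0)) where
  inM24 := by decide +kernel
  fix := fix_prod (fix_prod (fixPt_spec (by decide +kernel)) (fixPt_spec (by decide +kernel)))
    (fixMask_spec (by decide +kernel))
  univ := univ_card _ 2 (by decide +kernel) (by decide +kernel)
  smulU g _ hy := card_setOf_smul g 2 hy
  smulf := fPair_smul
  code i _ := fPair_pts (arrGet_lt _ _ _)

theorem pts_six : pts 6 = {idxPt 1, idxPt 2} := by decide +kernel

theorem mem_orbit_twoPair {p q : GolayPt} (hpq : p ≠ q) {s : Finset GolayPt} (hs : s.card = 2) (hp : p ∉ s)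
    (hq : q ∉ s) : ((p, q), s) ∈ orbit M24 ((idxPt 23, idxPt 0), pts 6) := by
  obtain ⟨a, b, hab, rfl⟩ := Finset.card_eq_two.1 hs
  simp only [Finset.mem_insert, Finset.mem_singleton, not_or] at hp hq
  obtain ⟨g, hg⟩ := ordered_points (n := 4) (by norm_num) ![p, q, a, b] (by
    intro i j
    fin_cases i <;> fin_cases j <;>
      simp [hpq, Ne.symm hpq, hab, Ne.symm hab, hp.1, Ne.symm hp.1, hp.2, Ne.symm hp.2, hq.1, Ne.symm hq.1,
        hq.2, Ne.symm hq.2])
  refine ⟨g, Prod.ext (Prod.ext (hg 0) (hg 1)) ?_⟩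
  show (g : Equiv.Perm GolayPt) • pts 6 = _
  rw [pts_six, Finset.smul_finset_insert, Finset.smul_finset_singleton]
  exact congrArg₂ (fun x y => ({x, y} : Finset GolayPt)) (hg 2) (hg 3)

theorem two_points_pair {p q : GolayPt} (hpq : p ≠ q) {s : Finset GolayPt}
    (hs : s.card = 2 ∧ p ∉ s ∧ q ∉ s) :
    {t : Finset GolayPt | (t.card = 2 ∧ p ∉ t ∧ q ∉ t) ∧ Disjoint s t ∧
      (∃ o ∈ octads, p ∈ o ∧ q ∈ o ∧ s ∪ t ⊆ o)}.ncard = 30 ∧
    {t : Finset GolayPt | (t.card = 2 ∧ p ∉ t ∧ q ∉ t) ∧ Disjoint s t ∧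
      ¬ (∃ o ∈ octads, p ∈ o ∧ q ∈ o ∧ s ∪ t ⊆ o)}.ncard = 160 ∧
    ∀ t t' : Finset GolayPt, (t.card = 2 ∧ p ∉ t ∧ q ∉ t) → (t'.card = 2 ∧ p ∉ t' ∧ q ∉ t') → t ≠ s → t' ≠ s →
      (s ∩ t).card = (s ∩ t').card →
      ((∃ o ∈ octads, p ∈ o ∧ q ∈ o ∧ s ∪ t ⊆ o) ↔ (∃ o ∈ octads, p ∈ o ∧ q ∈ o ∧ s ∪ t' ⊆ o)) →
      ∃ g : Equiv.Perm GolayPt, g ∈ M24 ∧ g p = p ∧ g q = q ∧ g • s = s ∧ g • t = t' := by
  classical
  have hX := mem_orbit_twoPair hpq hs.1 hs.2.1 hs.2.2
  have hc : ∀ t : Finset GolayPt, (s ∩ t).card ≤ 2 := fun t =>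
    (Finset.card_le_card Finset.inter_subset_left).trans hs.1.le
  have hset : ∀ v, v < 2 → {t : Finset GolayPt | (t.card = 2 ∧ p ∉ t ∧ q ∉ t) ∧ Disjoint s t ∧
      ((if CommonOctad ((p, q), s) t then 1 else 0) = v)} =
      {y | y ∈ {t : Finset GolayPt | t.card = 2} ∧ fPair ((p, q), s) y = v} := fun v hv => by
    ext t
    simp only [Set.mem_ofPred_eq, fPair, has, Finset.disjoint_iff_inter_eq_empty, ← Finset.card_eq_zero]
    have := hc t
    by_cases hp : p ∈ t <;> by_cases hq : q ∈ t <;> by_cases hC : CommonOctad ((p, q), s) t <;>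
      simp [hp, hq, hC, -Finset.card_eq_zero] <;> omega
  refine ⟨?_, ?_, fun t t' ht ht' hts hts' h h' => ?_⟩
  · have e := twoPair_local.count (v := 1) (k := 6) (by decide +kernel) hX
    rw [← hset 1 (by norm_num)] at e
    refine Eq.trans ?_ e
    congr 1
    ext t
    show _ ∧ _ ∧ CommonOctad ((p, q), s) t ↔ _ ∧ _ ∧ _ = 1
    split <;> simp_all
  · have e := twoPair_local.count (v := 0) (k := 8) (by decide +kernel) hX
    rw [← hset 0 (by norm_num)] at e
    refine Eq.trans ?_ e
    congr 1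
    ext t
    show _ ∧ _ ∧ ¬ CommonOctad ((p, q), s) t ↔ _ ∧ _ ∧ _ = 0
    split <;> simp_all
  · have e' : fPair ((p, q), s) t = 10 * (s ∩ t).card + if CommonOctad ((p, q), s) t then 1 else 0 := by
      simp [fPair, has, ht.2.1, ht.2.2]
    have e'' : fPair ((p, q), s) t' = 10 * (s ∩ t).card + if CommonOctad ((p, q), s) t then 1 else 0 := by
      have : CommonOctad ((p, q), s) t ↔ CommonOctad ((p, q), s) t' := h'
      simp [fPair, has, ht'.2.1, ht'.2.2, h, this]
    have h2 : (s ∩ t).card ≠ 2 := fun e => hts (by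
      have h3 := Finset.eq_of_subset_of_card_le (Finset.inter_subset_left (s₁ := s) (s₂ := t)) (by omega)
      have h4 := Finset.eq_of_subset_of_card_le (Finset.inter_subset_right (s₁ := s) (s₂ := t)) (by omega)
      exact h4.symm.trans h3)
    have hm := twoPair_local.value_mem (vs := [21, 201, 111, 101, 1, 11, 0]) (by decide +kernel) hX
      (show t ∈ {t : Finset GolayPt | t.card = 2} from ht.1)
    simp only [List.mem_cons, List.not_mem_nil, or_false, e'] at hm
    have := hc t
    have hb : (if CommonOctad ((p, q), s) t then 1 else 0) ≤ 1 := by split <;> omega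
    have key : ∀ k, onlyIn (fun x => pairCode (arrGet 24 x 0)) twoPairOrb.w twoPairOrb.V twoPairOrb.lens
          (10 * (s ∩ t).card + if CommonOctad ((p, q), s) t then 1 else 0) k = true →
        ∃ g : Equiv.Perm GolayPt, g ∈ M24 ∧ g p = p ∧ g q = q ∧ g • s = s ∧ g • t = t' := fun k hk => by
      obtain ⟨g, hg1, hg2⟩ := twoPair_local.move hk hX ht.1 ht'.1 e' e''
      exact ⟨g, g.2, congrArg (fun z => z.1.1) hg1, congrArg (fun z => z.1.2) hg1, congrArg Prod.snd hg1, hg2⟩
    rcases hm with e | e | e | e | e | e | e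
    all_goals first
      | omega
      | exact key 6 (by rw [e]; decide +kernel)
      | exact key 7 (by rw [e]; decide +kernel)
      | exact key 8 (by rw [e]; decide +kernel)

/-! ### A dodecad and points -/

/-- A point and a dodecad, on single points. -/
def fS0 (X : GolayPt × Finset GolayPt) (s : Finset GolayPt) : ℕ := has X.1 s + 4 * (X.2 ∩ s).card

/-- One more point. -/
def fS1 (X : (GolayPt × Finset GolayPt) × Finset GolayPt) (s : Finset GolayPt) : ℕ :=
  fS0 X.1 s + 16 * (X.2 ∩ s).card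

/-- Two more points. -/
def fS2 (X : ((GolayPt × Finset GolayPt) × Finset GolayPt) × Finset GolayPt) (s : Finset GolayPt) : ℕ :=
  fS1 X.1 s + 64 * (X.2 ∩ s).card

theorem fS0_smul (g : M24) (X : GolayPt × Finset GolayPt) (s : Finset GolayPt) : fS0 (g • X) (g • s) = fS0 X s := by
  show has (g • X.1) (g • s) + 4 * (g • X.2 ∩ g • s).card = _
  rw [has_smul, card_inter_smul_M24]; rfl

theorem fS1_smul (g : M24) (X : (GolayPt × Finset GolayPt) × Finset GolayPt) (s : Finset GolayPt) :
    fS1 (g • X) (g • s) = fS1 X s := by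
  show fS0 (g • X.1) (g • s) + 16 * (g • X.2 ∩ g • s).card = _
  rw [fS0_smul, card_inter_smul_M24]; rfl

theorem fS2_smul (g : M24) (X : ((GolayPt × Finset GolayPt) × Finset GolayPt) × Finset GolayPt)
    (s : Finset GolayPt) : fS2 (g • X) (g • s) = fS2 X s := by
  show fS1 (g • X.1) (g • s) + 64 * (g • X.2 ∩ g • s).card = _
  rw [fS1_smul, card_inter_smul_M24]; rfl

/-- The code of the first. -/
def s0Code (m : ℕ) : ℕ := (if m.testBit 23 then 1 else 0) + 4 * pop 24 (16201472 &&& m)

theorem fS0_pts (m : ℕ) : fS0 (idxPt 23, pts 16201472) (pts m) = s0Code m := by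
  simp only [fS0, s0Code, card_inter_pts, has_pts (show 23 < 24 by norm_num)]

theorem dodFix {gens : List ℕ} (h1 : fixPt gens 23 = true) (h2 : fixMask gens 16201472 = true) :
    ∀ g ∈ gens, permOf g • (idxPt 23, pts 16201472) = (idxPt 23, pts 16201472) :=
  fix_prod (fixPt_spec h1) (fixMask_spec h2)

theorem dodPt0_local : Local (idxPt 23, pts 16201472) {s : Finset GolayPt | s.card = 1} fS0 dodPt0Orb
    (fun x => s0Code (arrGet 24 x 0)) where
  inM24 := by decide +kernel
  fix := dodFix (by decide +kernel) (by decide +kernel)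
  univ := univ_card _ 1 (by decide +kernel) (by decide +kernel)
  smulU g _ hy := card_setOf_smul g 1 hy
  smulf := fS0_smul
  code i _ := fS0_pts _

theorem dodPt1_local : Local ((idxPt 23, pts 16201472), pts 1) {s : Finset GolayPt | s.card = 1} fS1 dodPt1Orb
    (fun x => s0Code (arrGet 24 x 0) + 16 * pop 24 (1 &&& arrGet 24 x 0)) where
  inM24 := by decide +kernel
  fix := fix_prod (dodFix (by decide +kernel) (by decide +kernel)) (fixMask_spec (by decide +kernel))
  univ := univ_card _ 1 (by decide +kernel) (by decide +kernel)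
  smulU g _ hy := card_setOf_smul g 1 hy
  smulf := fS1_smul
  code i _ := by simp only [fS1, OrbCert.val, fS0_pts, card_inter_pts]

theorem dodPt2_local : Local (((idxPt 23, pts 16201472), pts 1), pts 2) {s : Finset GolayPt | s.card = 1} fS2
    dodPt2Orb (fun x => s0Code (arrGet 24 x 0) + 16 * pop 24 (1 &&& arrGet 24 x 0) +
      64 * pop 24 (2 &&& arrGet 24 x 0)) where
  inM24 := by decide +kernel
  fix := fix_prod (fix_prod (dodFix (by decide +kernel) (by decide +kernel)) (fixMask_spec (by decide +kernel)))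
    (fixMask_spec (by decide +kernel))
  univ := univ_card _ 1 (by decide +kernel) (by decide +kernel)
  smulU g _ hy := card_setOf_smul g 1 hy
  smulf := fS2_smul
  code i _ := by simp only [fS2, fS1, OrbCert.val, fS0_pts, card_inter_pts]

theorem dodPtB_local : Local ((idxPt 23, pts 16201472), pts 256) {s : Finset GolayPt | s.card = 1} fS1 dodPtBOrb
    (fun x => s0Code (arrGet 24 x 0) + 16 * pop 24 (256 &&& arrGet 24 x 0)) where
  inM24 := by decide +kernel
  fix := fix_prod (dodFix (by decide +kernel) (by decide +kernel)) (fixMask_spec (by decide +kernel))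
  univ := univ_card _ 1 (by decide +kernel) (by decide +kernel)
  smulU g _ hy := card_setOf_smul g 1 hy
  smulf := fS1_smul
  code i _ := by simp only [fS1, OrbCert.val, fS0_pts, card_inter_pts]

theorem dodPtC_local : Local (((idxPt 23, pts 16201472), pts 256), pts 512) {s : Finset GolayPt | s.card = 1} fS2
    dodPtCOrb (fun x => s0Code (arrGet 24 x 0) + 16 * pop 24 (256 &&& arrGet 24 x 0) +
      64 * pop 24 (512 &&& arrGet 24 x 0)) where
  inM24 := by decide +kernel
  fix := fix_prod (fix_prod (dodFix (by decide +kernel) (by decide +kernel)) (fixMask_spec (by decide +kernel)))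
    (fixMask_spec (by decide +kernel))
  univ := univ_card _ 1 (by decide +kernel) (by decide +kernel)
  smulU g _ hy := card_setOf_smul g 1 hy
  smulf := fS2_smul
  code i _ := by simp only [fS2, fS1, OrbCert.val, fS0_pts, card_inter_pts]

theorem card_inter_singleton (s : Finset GolayPt) (p : GolayPt) :
    (s ∩ {p}).card = if p ∈ s then 1 else 0 := by
  split <;> rename_i h <;> simp [h]

theorem triple_off {d : Finset GolayPt} (hd : d ∈ dodecads) {p : GolayPt} (hp : p ∈ d) (x : Fin 3 ↪ GolayPt)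
    (hx : ∀ i, x i ∉ d) : (((((p, d), ({x 0} : Finset GolayPt)), ({x 1} : Finset GolayPt))), ({x 2} : Finset GolayPt))
      ∈ orbit M24 ((((idxPt 23, pts 16201472), pts 1), pts 2), dodPt2Orb.root 5) := by
  have h01 : x 0 ≠ x 1 := fun h => absurd (x.injective h) (by decide)
  have h02 : x 0 ≠ x 2 := fun h => absurd (x.injective h) (by decide)
  have h12 : x 1 ≠ x 2 := fun h => absurd (x.injective h) (by decide)
  have hne : ∀ i, p ≠ x i := fun i h => hx i (h ▸ hp)
  have a1 := dodPt0_local.pair_mem_orbit (v := 0) (k := 2) (by decide +kernel) (mem_orbit_ptDodIn hd hp)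
    (Finset.card_singleton (x 0)) (by simp [fS0, has, card_inter_singleton, hne 0, hx 0])
  rw [show dodPt0Orb.root 2 = pts 1 from congrArg pts (by decide +kernel)] at a1
  have a2 := dodPt1_local.pair_mem_orbit (v := 0) (k := 2) (by decide +kernel) a1
    (Finset.card_singleton (x 1)) (by
      simp [fS1, fS0, has, card_inter_singleton, hne 1, hx 1, Ne.symm h01])
  rw [show dodPt1Orb.root 2 = pts 2 from congrArg pts (by decide +kernel)] at a2
  exact dodPt2_local.pair_mem_orbit (v := 0) (k := 5) (by decide +kernel) a2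
    (Finset.card_singleton (x 2)) (by
      simp [fS2, fS1, fS0, has, card_inter_singleton, hne 2, hx 2, Ne.symm h02, Ne.symm h12])

theorem three_transitive_off {d : Finset GolayPt} (hd : d ∈ dodecads) {p : GolayPt} (hp : p ∈ d)
    (x y : Fin 3 ↪ GolayPt) (hx : ∀ i, x i ∉ d) (hy : ∀ i, y i ∉ d) :
    ∃ g ∈ stabilizer M24 d ⊓ stabilizer M24 p, ∀ i, (g : Equiv.Perm GolayPt) (x i) = y i := by
  obtain ⟨a, ha⟩ := triple_off hd hp x hx
  obtain ⟨b, hb⟩ := triple_off hd hp y hy
  have e : (b * a⁻¹) • (((((p, d), ({x 0} : Finset GolayPt)), ({x 1} : Finset GolayPt))), ({x 2} : Finset GolayPt)) =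
      (((((p, d), ({y 0} : Finset GolayPt)), ({y 1} : Finset GolayPt))), ({y 2} : Finset GolayPt)) := by
    rw [← ha, ← hb]; show (b * a⁻¹) • a • _ = b • _
    rw [mul_smul, inv_smul_smul]
  have e0 : (b * a⁻¹) • ({x 0} : Finset GolayPt) = {y 0} := congrArg (fun z => z.1.1.2) e
  have e1 : (b * a⁻¹) • ({x 1} : Finset GolayPt) = {y 1} := congrArg (fun z => z.1.2) e
  have e2 : (b * a⁻¹) • ({x 2} : Finset GolayPt) = {y 2} := congrArg Prod.snd e
  rw [Finset.smul_finset_singleton, Finset.singleton_inj] at e0 e1 e2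
  refine ⟨b * a⁻¹, Subgroup.mem_inf.2 ⟨mem_stabilizer_iff.2 (congrArg (fun z => z.1.1.1.2) e),
    mem_stabilizer_iff.2 (congrArg (fun z => z.1.1.1.1) e)⟩, fun i => ?_⟩
  fin_cases i
  exacts [e0, e1, e2]

theorem stabilizer_singleton' (q : GolayPt) : stabilizer M24 ({q} : Finset GolayPt) = stabilizer M24 q := by
  ext g; simp [Finset.smul_finset_singleton]

theorem card_stab_point (p : GolayPt) : Nat.card (stabilizer M24 p) = 10200960 := by
  have h := card_stab_mul_orbit p
  have e : orbit M24 p = Set.univ := by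
    rw [orbit_eq_iff.2 (mem_orbit_point p)]
    exact Set.eq_univ_of_forall mem_orbit_point
  rw [e, Set.ncard_univ, Nat.card_eq_fintype_card, show Fintype.card GolayPt = 24 by decide +kernel] at h
  omega

theorem card_point_dodecad {d : Finset GolayPt} (hd : d ∈ dodecads) {p : GolayPt} (hp : p ∈ d) :
    Nat.card (stabilizer M24 (p, d)) = 7920 := by
  have h := ptDod_local.card_stab (v := 1) (k := 1) (by decide +kernel) (mem_orbit_point p) hd (has_eq_one.2 hp)
  rw [card_stab_point, show ptDodOrb.lens.getD 1 0 = 1288 from rfl, ← stabilizer_prod_eq] at h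
  omega

theorem dodecad_three_points {d : Finset GolayPt} (hd : d ∈ dodecads) {p q r : GolayPt} (hp : p ∈ d) (hq : q ∈ d)
    (hr : r ∈ d) (hpq : p ≠ q) (hpr : p ≠ r) (hqr : q ≠ r) :
    Nat.card ↥(stabilizer M24 d ⊓ stabilizer M24 p ⊓ stabilizer M24 q ⊓ stabilizer M24 r) = 72 ∧
    ∀ x ∉ d, ∀ y ∉ d, ∃ g ∈ (stabilizer M24 d ⊓ stabilizer M24 p ⊓ stabilizer M24 q ⊓ stabilizer M24 r),
      ((g : M24) : Equiv.Perm GolayPt) x = y := by
  have h0 := mem_orbit_ptDodIn hd hp
  have f1 : fS0 (p, d) ({q} : Finset GolayPt) = 4 := by simp [fS0, has, card_inter_singleton, hpq, hq]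
  have a1 := dodPt0_local.pair_mem_orbit (v := 4) (k := 1) (by decide +kernel) h0 (Finset.card_singleton q) f1
  rw [show dodPt0Orb.root 1 = pts 256 from congrArg pts (by decide +kernel)] at a1
  have f2 : fS1 ((p, d), ({q} : Finset GolayPt)) ({r} : Finset GolayPt) = 4 := by
    simp [fS1, fS0, has, card_inter_singleton, hpr, hr, Ne.symm hqr]
  have a2 := dodPtB_local.pair_mem_orbit (v := 4) (k := 2) (by decide +kernel) a1 (Finset.card_singleton r) f2
  rw [show dodPtBOrb.root 2 = pts 512 from congrArg pts (by decide +kernel)] at a2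
  refine ⟨?_, fun x hx y hy => ?_⟩
  · have c1 := dodPt0_local.card_stab (v := 4) (k := 1) (by decide +kernel) h0 (Finset.card_singleton q) f1
    rw [card_point_dodecad hd hp, show dodPt0Orb.lens.getD 1 0 = 11 from rfl, ← stabilizer_prod_eq] at c1
    have c2 := dodPtB_local.card_stab (v := 4) (k := 2) (by decide +kernel) a1 (Finset.card_singleton r) f2
    rw [show dodPtBOrb.lens.getD 2 0 = 10 from rfl, stabilizer_prod_eq, stabilizer_prod_eq,
      stabilizer_singleton', stabilizer_singleton', inf_comm (stabilizer M24 p) (stabilizer M24 d)] at c2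
    rw [stabilizer_prod_eq, stabilizer_prod_eq, stabilizer_singleton',
      inf_comm (stabilizer M24 p) (stabilizer M24 d)] at c1
    omega
  · have fz : ∀ z ∉ d, fS2 (((p, d), ({q} : Finset GolayPt)), ({r} : Finset GolayPt)) ({z} : Finset GolayPt) = 0 := by
      intro z hz
      have : p ≠ z := fun h => hz (h ▸ hp)
      have : z ≠ q := fun h => hz (h ▸ hq)
      have : z ≠ r := fun h => hz (h ▸ hr)
      simp [fS2, fS1, fS0, has, card_inter_singleton, *]
    obtain ⟨g, hg1, hg2⟩ := dodPtC_local.move (v := 0) (k := 4) (by decide +kernel) a2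
      (Finset.card_singleton x) (Finset.card_singleton y) (fz x hx) (fz y hy)
    rw [Finset.smul_finset_singleton, Finset.singleton_inj] at hg2
    refine ⟨g, Subgroup.mem_inf.2 ⟨Subgroup.mem_inf.2 ⟨Subgroup.mem_inf.2 ⟨mem_stabilizer_iff.2
      (congrArg (fun z => z.1.1.2) hg1), mem_stabilizer_iff.2 (congrArg (fun z => z.1.1.1) hg1)⟩, ?_⟩, ?_⟩, hg2⟩
    · rw [← stabilizer_singleton', mem_stabilizer_iff]; exact congrArg (fun z => z.1.2) hg1
    · rw [← stabilizer_singleton', mem_stabilizer_iff]; exact congrArg Prod.snd hg1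

end CfsgLib.Spor
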