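/-
The action induced on an octad and on six points by their stabilizers in `Cfsg.M24`.
-/
import Cfsg.Agent.Lib.Spor.PointTuples
import Cfsg.Agent.Lib.Spor.OctadGeom

namespace CfsgLib.Spor

open Cfsg MulAction
open scoped Pointwise

/-- A finite set of points and the permutations in `M24` preserving it. -/
def setwise (s : Finset GolayPt) : Subgroup (Equiv.Perm GolayPt) :=
  M24 ⊓ stabilizer (Equiv.Perm GolayPt) s

theorem mem_setwise {s : Finset GolayPt} {g : Equiv.Perm GolayPt} : g ∈ setwise s ↔ g ∈ M24 ∧ g • s = s := by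
  simp [setwise]

theorem mem_iff_of_setwise {s : Finset GolayPt} {g : Equiv.Perm GolayPt} (hg : g ∈ setwise s) (x : GolayPt) :
    g x ∈ s ↔ x ∈ s := by
  conv_lhs => rw [← (mem_setwise.1 hg).2]
  exact Finset.smul_mem_smul_finset_iff g

/-- The restriction of a set stabilizer to the set. -/
def restrictSet (s : Finset GolayPt) : setwise s →* Equiv.Perm ↥s where
  toFun g := (g : Equiv.Perm GolayPt).subtypePerm (mem_iff_of_setwise g.2)
  map_one' := by ext x; rfl
  map_mul' _ _ := by ext x; rfl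

theorem restrictSet_apply (s : Finset GolayPt) (g : setwise s) (x : ↥s) :
    ((restrictSet s g x : ↥s) : GolayPt) = (g : Equiv.Perm GolayPt) x := rfl

theorem restrictSet_ker (s : Finset GolayPt) :
    ((restrictSet s).ker).map (setwise s).subtype = ptwise s := by
  ext g
  constructor
  · rintro ⟨⟨x, hx⟩, hk, rfl⟩
    refine mem_ptwise.2 ⟨(mem_setwise.1 hx).1, fun p hp => ?_⟩
    exact congrArg (fun σ : Equiv.Perm ↥s => ((σ ⟨p, hp⟩ : ↥s) : GolayPt)) hk
  · intro hg
    obtain ⟨hM, hfix⟩ := mem_ptwise.1 hg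
    have hs : g ∈ setwise s := mem_setwise.2 ⟨hM, Finset.eq_of_subset_of_card_le (fun p hp => by
      obtain ⟨q, hq, rfl⟩ := Finset.mem_smul_finset.1 hp
      show g q ∈ s
      rw [hfix q hq]; exact hq) (card_smul_finset' g s).ge⟩
    exact ⟨⟨g, hs⟩, Equiv.ext fun x => Subtype.ext (hfix x x.2), rfl⟩

theorem card_range_restrictSet (s : Finset GolayPt) :
    Nat.card (ptwise s) * Nat.card (restrictSet s).range = Nat.card (setwise s) := by
  rw [← restrictSet_ker, Subgroup.card_map_of_injective (setwise s).subtype_injective,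
    ← Subgroup.index_ker, Subgroup.card_mul_index]

theorem card_setwise_eq (s : Finset GolayPt) : Nat.card (setwise s) = Nat.card (stabilizer M24 s) := by
  rw [card_subgroup_M24]
  congr 1
  congr 1
  ext g
  rw [mem_setwise, mem_map_stabilizer]

theorem card_setwise_octad {o : Finset GolayPt} (ho : o ∈ octads) : Nat.card (setwise o) = 322560 := by
  rw [card_setwise_eq, card_stab_octad ho]

theorem range_restrict_octad {o : Finset GolayPt} (ho : o ∈ octads) :
    (restrictSet o).range = alternatingGroup ↥o := by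
  apply Equiv.Perm.eq_alternatingGroup_of_index_eq_two
  have h1 := card_range_restrictSet o
  rw [(ptwise_facts ho).1, card_setwise_octad ho] at h1
  have h2 := Subgroup.card_mul_index (restrictSet o).range
  rw [Nat.card_perm, Nat.card_eq_fintype_card (α := ↥o), Fintype.card_coe, ho.2,
    show Nat.card (restrictSet o).range = 20160 by omega, show Nat.factorial 8 = 40320 by decide] at h2
  omega

theorem octad_induced {o : Finset GolayPt} (ho : o ∈ octads) :
    {e : Equiv.Perm ↥o | ∃ g : Equiv.Perm GolayPt, g ∈ M24 ∧ ∃ h : (∀ x, g x ∈ o ↔ x ∈ o), g.subtypePerm h = e} =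
      (alternatingGroup ↥o : Set (Equiv.Perm ↥o)) := by
  rw [← range_restrict_octad ho]
  ext e
  constructor
  · rintro ⟨g, hg, h, rfl⟩
    refine ⟨⟨g, mem_setwise.2 ⟨hg, Finset.eq_of_subset_of_card_le (fun p hp => ?_) (card_smul_finset' g o).ge⟩⟩, rfl⟩
    obtain ⟨q, hq, rfl⟩ := Finset.mem_smul_finset.1 hp
    exact (h q).2 hq
  · rintro ⟨g, rfl⟩
    exact ⟨g, (mem_setwise.1 g.2).1, mem_iff_of_setwise g.2, rfl⟩

theorem ptwise_point_trivial {o : Finset GolayPt} (ho : o ∈ octads) {p : GolayPt} (hp : p ∉ o)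
    {g : Equiv.Perm GolayPt} (hg : g ∈ ptwise o) (hgp : g p = p) : g = 1 := by
  obtain ⟨a, ha⟩ := mem_orbit_octad ho
  have ha : (a : Equiv.Perm GolayPt) • pts baseOctad = o := ha
  have key : (octadFixList.all fun c => (List.range 24).all fun i => baseOctad.testBit i || (!(permFn c i == i) ||
      (List.range 24).all fun j => permFn c j == j)) = true := by decide +kernel
  rw [← ha, ptwise_smul _ a.2, Subgroup.mem_map_equiv, MulAut.conj_symm_apply] at hg
  obtain ⟨c, hc, e⟩ := mem_ptwise_base.1 hg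
  have hcp := isPermCode_of_isM24Code (List.all_eq_true.1 fiveList_perm c (List.mem_filter.1 hc).1)
  let q : GolayPt := (a : Equiv.Perm GolayPt)⁻¹ p
  have hfix : permOf c q = q := by
    rw [e]; simp [q, hgp]
  have hq : q ∉ pts baseOctad := fun h => hp (by
    rw [← ha]
    simpa [q] using Finset.smul_mem_smul_finset (a := (a : Equiv.Perm GolayPt)) h)
  have h := List.all_eq_true.1 (List.all_eq_true.1 key c hc) (ptIdx q) (List.mem_range.2 (ptIdx_lt q))
  rw [permOf_apply hcp] at hfix
  have hi : permFn c (ptIdx q) = ptIdx q := by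
    have := congrArg ptIdx hfix
    rwa [ptIdx_idxPt _ (permFn_lt hcp (ptIdx_lt q))] at this
  rw [mem_pts] at hq
  simp only [Bool.or_eq_true, hq, Bool.not_eq_true', hi, beq_self_eq_true, Bool.true_eq_false,
    false_or, List.all_eq_true, List.mem_range, beq_iff_eq] at h
  replace h := h.resolve_left (by decide)
  have h1 : permOf c = 1 := Equiv.ext fun x => by
    rw [permOf_apply hcp, h _ (ptIdx_lt x), idxPt_ptIdx]; rfl
  rw [h1] at e
  calc g = (a : Equiv.Perm GolayPt) * ((a : Equiv.Perm GolayPt)⁻¹ * g * a) * (a : Equiv.Perm GolayPt)⁻¹ := by group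
    _ = 1 := by rw [← e, mul_one, mul_inv_cancel]

theorem ptOctOct_card {o : Finset GolayPt} (ho : o ∈ octads) {p : GolayPt} (hp : p ∉ o) :
    Nat.card ↥(stabilizer M24 p ⊓ stabilizer M24 o) = 20160 := by
  have h := ptOct_local.card_stab (v := 0) (k := 1) (by decide +kernel) (mem_orbit_point p) ho (has_eq_zero.2 hp)
  rw [card_stab_point, show ptOctOrb.lens.getD 1 0 = 506 from rfl] at h
  omega

theorem octad_complement {o : Finset GolayPt} (ho : o ∈ octads) {p : GolayPt} (hp : p ∉ o) :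
    ptwise o ⊓ (M24 ⊓ stabilizer (Equiv.Perm GolayPt) o ⊓ stabilizer (Equiv.Perm GolayPt) p) = ⊥ ∧
    ptwise o ⊔ (M24 ⊓ stabilizer (Equiv.Perm GolayPt) o ⊓ stabilizer (Equiv.Perm GolayPt) p) =
      M24 ⊓ stabilizer (Equiv.Perm GolayPt) o ∧
    Nonempty (↥(M24 ⊓ stabilizer (Equiv.Perm GolayPt) o ⊓ stabilizer (Equiv.Perm GolayPt) p) ≃*
      alternatingGroup (Fin 8)) := by
  set P := ptwise o with hP
  set C := M24 ⊓ stabilizer (Equiv.Perm GolayPt) o ⊓ stabilizer (Equiv.Perm GolayPt) p with hC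
  have hPC : P ⊓ C = ⊥ := by
    rw [eq_bot_iff]
    intro g hg
    obtain ⟨h1, h2⟩ := Subgroup.mem_inf.1 hg
    exact Subgroup.mem_bot.2 (ptwise_point_trivial ho hp h1 (mem_stabilizer_iff.1 (Subgroup.mem_inf.1 h2).2))
  have hCle : C ≤ setwise o := inf_le_left
  let f : C →* Equiv.Perm ↥o := (restrictSet o).comp (Subgroup.inclusion hCle)
  have hinj : Function.Injective f := by
    rw [← MonoidHom.ker_eq_bot_iff, eq_bot_iff]
    intro g hg
    have : (g : Equiv.Perm GolayPt) ∈ P ⊓ C := Subgroup.mem_inf.2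
      ⟨hP ▸ restrictSet_ker o ▸ ⟨Subgroup.inclusion hCle g, hg, rfl⟩, g.2⟩
    rw [hPC, Subgroup.mem_bot] at this
    exact Subgroup.mem_bot.2 (Subtype.ext this)
  have hcard : Nat.card C = 20160 := by
    have h := ptOctOct_card ho hp
    rw [card_subgroup_M24] at h
    refine Eq.trans ?_ h
    congr 1
    congr 1
    ext g
    simp only [hC, Subgroup.mem_inf, mem_stabilizer_iff, Subgroup.mem_map, Subgroup.coe_subtype]
    constructor
    · rintro ⟨⟨h1, h2⟩, h3⟩; exact ⟨⟨g, h1⟩, ⟨h3, h2⟩, rfl⟩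
    · rintro ⟨x, ⟨h3, h2⟩, rfl⟩; exact ⟨⟨x.2, h2⟩, h3⟩
  have hPle : P ≤ setwise o := by
    rw [hP, ← restrictSet_ker]; exact Subgroup.map_subtype_le _
  refine ⟨hPC, ?_, ?_⟩
  · refine Subgroup.eq_of_le_of_card_ge (sup_le hPle hCle) ?_
    let m : P × C → ↥(P ⊔ C) := fun z =>
      ⟨z.1.1 * z.2.1, mul_mem (le_sup_left (a := P) z.1.2) (le_sup_right (a := P) z.2.2)⟩
    have hm : Function.Injective m := by
      rintro ⟨⟨a, ha⟩, ⟨b, hb⟩⟩ ⟨⟨a', ha'⟩, ⟨b', hb'⟩⟩ e
      have e' : a * b = a' * b' := congrArg Subtype.val e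
      have e2 : a'⁻¹ * a = b' * b⁻¹ := by
        calc a'⁻¹ * a = a'⁻¹ * (a * b) * b⁻¹ := by group
          _ = _ := by rw [e']; group
      have : a'⁻¹ * a ∈ P ⊓ C := Subgroup.mem_inf.2 ⟨mul_mem (inv_mem ha') ha, e2 ▸ mul_mem hb' (inv_mem hb)⟩
      rw [hPC, Subgroup.mem_bot, inv_mul_eq_one] at this
      subst this
      simp only [mul_right_inj] at e'
      subst e'
      rfl
    have h2 := Nat.card_le_card_of_injective m hm
    rw [Nat.card_prod, show Nat.card P = 16 from (ptwise_facts ho).1, hcard] at h2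
    have h3 := card_setwise_octad ho
    show Nat.card (setwise o) ≤ _
    omega
  · have hr : f.range = alternatingGroup ↥o := by
      apply Equiv.Perm.eq_alternatingGroup_of_index_eq_two
      have h2 := Subgroup.card_mul_index f.range
      rw [← Nat.card_congr (MonoidHom.ofInjective hinj).toEquiv, hcard, Nat.card_perm,
        Nat.card_eq_fintype_card (α := ↥o), Fintype.card_coe, ho.2, show Nat.factorial 8 = 40320 by decide] at h2
      omega
    exact ⟨((MonoidHom.ofInjective hinj).trans (MulEquiv.subgroupCongr hr)).trans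
      (Equiv.altCongrHom (o.equivFinOfCardEq ho.2))⟩

end CfsgLib.Spor
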