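/-
Sets of six points in `Cfsg.M24`, and the least number of points whose pointwise stabilizer is trivial.
-/
import Cfsg.Agent.Lib.Spor.OctadAction

namespace CfsgLib.Spor

open Cfsg MulAction
open scoped Pointwise

/-- A set lies in an octad. -/
def InOctad (s : Finset GolayPt) : Prop := ∃ o ∈ octads, s ⊆ o

theorem sixth_check :
    (List.range 24).all (fun i =>
      (basePts.take 5).contains i ||
      ((levels.getD 5 []).any fun P => permFn P (basePts.getD 5 0) == i) ||
      (baseOctad.testBit i && fiveList.any fun P => permFn P (basePts.getD 6 0) == i)) = true := by decide +kernel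

theorem ordered_six (z : Fin 6 → GolayPt) (hz : Function.Injective z) :
    ∃ g : M24, ∃ a : ℕ, (a = 5 ∨ a = 6) ∧ (∀ j : Fin 5, g • bpt j = z j.castSucc) ∧ g • bpt a = z 5 ∧
      (a = 6 ↔ InOctad (Finset.univ.image z)) := by
  obtain ⟨g, hg⟩ := ordered_points (n := 5) le_rfl (fun j => z j.castSucc)
    (hz.comp (Fin.castSucc_injective 5))
  have hne : ∀ j : Fin 5, g⁻¹ • z 5 ≠ bpt j := by
    intro j e
    have e2 := congrArg (g • ·) e
    simp only [smul_inv_smul, hg j] at e2
    have e3 := hz e2
    exact absurd e3.symm (Fin.castSucc_lt_last j).ne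
  have h := List.all_eq_true.1 sixth_check (ptIdx (g⁻¹ • z 5)) (List.mem_range.2 (ptIdx_lt _))
  simp only [Bool.or_eq_true, List.contains_iff_mem, List.any_eq_true, beq_iff_eq, Bool.and_eq_true] at h
  have conclude : ∀ (a : ℕ) (P : ℕ), (a = 5 ∨ a = 6) → isM24Code P = true → permOf P ∈ chainSub 5 →
      permFn P (basePts.getD a 0) = ptIdx (g⁻¹ • z 5) → ∃ g : M24, ∃ a : ℕ, (a = 5 ∨ a = 6) ∧
        (∀ j : Fin 5, g • bpt j = z j.castSucc) ∧ g • bpt a = z 5 ∧ (a = 6 ↔ InOctad (Finset.univ.image z)) := by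
    intro a P ha hP hP5 he
    let k : M24 := g * ⟨permOf P, permOf_mem_M24 hP⟩
    have hk : ∀ j : Fin 5, k • bpt j = z j.castSucc := fun j => by
      show (g : Equiv.Perm GolayPt) (permOf P (bpt j)) = _
      rw [(mem_chainSub.1 hP5).2 j j.2]; exact hg j
    have hk5 : k • bpt a = z 5 := by
      show (g : Equiv.Perm GolayPt) (permOf P (bpt a)) = _
      rw [bpt, permOf_idxPt (isPermCode_of_isM24Code hP) (basePts_lt a (by omega)), he, idxPt_ptIdx]
      exact smul_inv_smul g (z 5)
    have hfive : ∀ j < 5, bpt j ∈ pts baseOctad := by decide +kernel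
    refine ⟨k, a, ha, hk, hk5, ?_⟩
    constructor
    · rintro rfl
      refine ⟨k • pts baseOctad, (smul_mem_octads_iff k _).2 baseOctad_mem, fun x hx => ?_⟩
      obtain ⟨j, -, rfl⟩ := Finset.mem_image.1 hx
      induction j using Fin.lastCases with
      | last =>
        rw [show Fin.last 5 = (5 : Fin 6) from rfl, ← hk5]
        exact (smul_mem_pts_iff k _ _).2 (by decide +kernel)
      | cast j => rw [← hk j]; exact (smul_mem_pts_iff k _ _).2 (hfive j j.2)
    · rintro ⟨o, ho, hsub⟩
      rcases ha with rfl | rfl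
      · exfalso
        have hin : ∀ j, j < 6 → bpt j ∈ k⁻¹ • o := by
          intro j hj
          rw [Finset.mem_inv_smul_finset_iff]
          rcases Nat.lt_succ_iff_lt_or_eq.1 hj with h | rfl
          · rw [show k • bpt j = z (Fin.castSucc ⟨j, h⟩) from hk ⟨j, h⟩]
            exact hsub (Finset.mem_image_of_mem z (Finset.mem_univ _))
          · rw [hk5]; exact hsub (Finset.mem_image_of_mem z (Finset.mem_univ _))
        have he' : k⁻¹ • o = pts baseOctad := by
          refine octad_eq_of_five ((smul_mem_octads_iff k⁻¹ o).2 ho) baseOctad_mem ?_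
          refine le_trans (le_of_eq (show 5 = ((Finset.range 5).image bpt).card by decide +kernel))
            (Finset.card_le_card fun x hx => ?_)
          obtain ⟨j, hj, rfl⟩ := Finset.mem_image.1 hx
          rw [Finset.mem_range] at hj
          exact Finset.mem_inter.2 ⟨hin j (by omega), hfive j hj⟩
        have h5 := hin 5 (by omega)
        rw [he'] at h5
        exact (by decide +kernel : bpt 5 ∉ pts baseOctad) h5
      · rfl
  rcases h with (h | ⟨P, hP, he⟩) | ⟨-, P, hP, he⟩
  · obtain ⟨j, hj, e⟩ := List.mem_iff_getElem.1 h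
    exfalso
    simp only [List.length_take] at hj
    refine hne ⟨j, by omega⟩ ?_
    rw [List.getElem_take] at e
    show _ = idxPt (basePts.getD j 0)
    rw [List.getD_eq_getElem _ _ (by omega), e, idxPt_ptIdx]
  · exact conclude 5 P (Or.inl rfl) (isM24Code_of_mem_level hP) ((level_spec (by norm_num)).2.1 P hP) he
  · refine conclude 6 P (Or.inr rfl) (List.all_eq_true.1 fiveList_perm P hP) ?_ he
    have hfix : (fiveList.all fun c => (List.range 5).all fun j =>
        permFn c (basePts.getD j 0) == basePts.getD j 0) = true := by decide +kernel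
    refine mem_chainSub.2 ⟨permOf_mem_M24 (List.all_eq_true.1 fiveList_perm P hP), fun j hj => ?_⟩
    have := List.all_eq_true.1 (List.all_eq_true.1 hfix P hP) j (List.mem_range.2 hj)
    rw [bpt, permOf_idxPt (isPermCode_of_isM24Code (List.all_eq_true.1 fiveList_perm P hP))
      (basePts_lt j (by omega)), beq_iff_eq.1 this]

/-- Base points of a six-set of each kind. -/
def sixBase (a : ℕ) : Finset GolayPt := insert (bpt a) ((Finset.range 5).image bpt)

theorem exists_smul_six {E : Finset GolayPt} (hE : E.card = 6) :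
    ∃ g : M24, ∃ a : ℕ, (a = 5 ∨ a = 6) ∧ g • sixBase a = E ∧ (a = 6 ↔ InOctad E) := by
  let z : Fin 6 → GolayPt := fun i => ((E.equivFinOfCardEq hE).symm i : GolayPt)
  have hz : Function.Injective z := Subtype.val_injective.comp (Equiv.injective _)
  have himg : Finset.univ.image z = E := by
    refine Finset.eq_of_subset_of_card_le (fun x hx => ?_) ?_
    · obtain ⟨i, -, rfl⟩ := Finset.mem_image.1 hx; exact Subtype.coe_prop _
    · rw [Finset.card_image_of_injective _ hz, Finset.card_univ, Fintype.card_fin, hE]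
  obtain ⟨g, a, ha, hg, hga, hiff⟩ := ordered_six z hz
  refine ⟨g, a, ha, ?_, himg ▸ hiff⟩
  refine Finset.eq_of_subset_of_card_le (fun x hx => ?_) ?_
  · obtain ⟨y, hy, rfl⟩ := Finset.mem_smul_finset.1 hx
    rw [sixBase, Finset.mem_insert, Finset.mem_image] at hy
    rw [← himg]
    rcases hy with rfl | ⟨j, hj, rfl⟩
    · rw [hga]; exact Finset.mem_image_of_mem z (Finset.mem_univ _)
    · rw [Finset.mem_range] at hj
      rw [show g • bpt j = z (Fin.castSucc ⟨j, hj⟩) from hg ⟨j, hj⟩]
      exact Finset.mem_image_of_mem z (Finset.mem_univ _)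
  · rw [hE, card_smul_M24]
    rcases ha with rfl | rfl <;> decide +kernel

theorem ptwise_sixBase :
    Nat.card (ptwise (sixBase 5)) = 3 ∧ Nat.card (ptwise (sixBase 6)) = 16 := by
  constructor
  · have e : ptwise (sixBase 5) = chainSub 6 := by
      ext g
      rw [mem_ptwise, mem_chainSub]
      refine and_congr_right fun _ => ⟨fun h j hj => h _ ?_, fun h p hp => ?_⟩
      · rcases Nat.lt_succ_iff_lt_or_eq.1 hj with hj | rfl
        · exact Finset.mem_insert_of_mem (Finset.mem_image_of_mem bpt (Finset.mem_range.2 hj))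
        · exact Finset.mem_insert_self _ _
      · rcases Finset.mem_insert.1 hp with rfl | hp
        · exact h 5 (by norm_num)
        · obtain ⟨j, hj, rfl⟩ := Finset.mem_image.1 hp
          exact h j (by rw [Finset.mem_range] at hj; omega)
    rw [e, card_chainSub 6 (by norm_num)]
    decide +kernel
  · have e : ptwise (sixBase 6) = ptwise (pts baseOctad) := by
      have key : (fiveList.all fun c => !(permFn c (basePts.getD 6 0) == basePts.getD 6 0) ||
          (List.range 24).all fun i => !baseOctad.testBit i || (permFn c i == i)) = true := by decide +kernel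
      ext g
      rw [mem_ptwise_base, mem_ptwise]
      constructor
      · rintro ⟨hM, h⟩
        obtain ⟨c, hc, rfl⟩ := mem_fiveList (g := g) (mem_chainSub.2 ⟨hM, fun j hj =>
          h _ (Finset.mem_insert_of_mem (Finset.mem_image_of_mem bpt (Finset.mem_range.2 hj)))⟩)
        refine ⟨c, List.mem_filter.2 ⟨hc, ?_⟩, rfl⟩
        have h6 := h (bpt 6) (Finset.mem_insert_self _ _)
        have hp := isPermCode_of_isM24Code (List.all_eq_true.1 fiveList_perm c hc)
        rw [bpt, permOf_idxPt hp (basePts_lt 6 (by norm_num))] at h6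
        have h6' := congrArg ptIdx h6
        rw [ptIdx_idxPt _ (permFn_lt hp (basePts_lt 6 (by norm_num))),
          ptIdx_idxPt _ (basePts_lt 6 (by norm_num))] at h6'
        have h := List.all_eq_true.1 key c hc
        rw [h6', beq_self_eq_true] at h
        simpa using h
      · intro hg
        have h := mem_ptwise.1 (mem_ptwise_base.2 hg)
        refine ⟨h.1, fun p hp => h.2 p ?_⟩
        have : sixBase 6 ⊆ pts baseOctad := by decide +kernel
        exact this hp
    rw [e, card_ptwise_base]

theorem restrict_surjective {E : Finset GolayPt} (hE : E.card = 6) :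
    ∀ σ : Equiv.Perm ↥E, ∃ g ∈ M24, ∀ p : ↥E, g p = σ p := by
  intro σ
  let e := (E.equivFinOfCardEq hE).symm
  let z : Fin 6 → GolayPt := fun i => (e i : GolayPt)
  let z' : Fin 6 → GolayPt := fun i => (σ (e i) : GolayPt)
  have hz : Function.Injective z := Subtype.val_injective.comp (Equiv.injective _)
  have hz' : Function.Injective z' := Subtype.val_injective.comp (σ.injective.comp (Equiv.injective _))
  have himg : ∀ w : Fin 6 ≃ ↥E, Finset.univ.image (fun i => (w i : GolayPt)) = E := by
    intro w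
    ext x
    simp only [Finset.mem_image, Finset.mem_univ, true_and]
    exact ⟨fun ⟨i, hi⟩ => hi ▸ (w i).2, fun hx => ⟨w.symm ⟨x, hx⟩, by rw [Equiv.apply_symm_apply]⟩⟩
  obtain ⟨g, a, ha, hg, hga, hiff⟩ := ordered_six z hz
  obtain ⟨h, b, hb, hh, hhb, hiff'⟩ := ordered_six z' hz'
  rw [show Finset.univ.image z = E from himg e] at hiff
  rw [show Finset.univ.image z' = E from himg (e.trans σ)] at hiff'
  have hab : a = b := by
    rcases ha with rfl | rfl <;> rcases hb with rfl | rfl <;> simp_all
  subst hab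
  refine ⟨(h * g⁻¹ : M24), (h * g⁻¹).2, fun p => ?_⟩
  obtain ⟨i, rfl⟩ := e.surjective p
  show (h * g⁻¹) • z i = z' i
  induction i using Fin.lastCases with
  | last => rw [show Fin.last 5 = (5 : Fin 6) from rfl, ← hga, ← hhb, mul_smul, inv_smul_smul]
  | cast j => rw [← hg j, ← hh j, mul_smul, inv_smul_smul]

theorem six_points {E : Finset GolayPt} (hE : E.card = 6) :
    (∀ σ : Equiv.Perm ↥E, ∃ g ∈ M24, ∀ p : ↥E, g p = σ p) ∧
    ((∃ o ∈ octads, E ⊆ o) → Nat.card {g : Equiv.Perm GolayPt // g ∈ M24 ∧ ∀ p ∈ E, g p = p} = 16) ∧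
    ((¬ ∃ o ∈ octads, E ⊆ o) → Nat.card {g : Equiv.Perm GolayPt // g ∈ M24 ∧ ∀ p ∈ E, g p = p} = 3 ∧
      Nat.card ↥(stabilizer M24 E) = 2160) := by
  have hpt : Nat.card {g : Equiv.Perm GolayPt // g ∈ M24 ∧ ∀ p ∈ E, g p = p} = Nat.card (ptwise E) :=
    Nat.card_congr (Equiv.subtypeEquivRight fun g => mem_ptwise.symm)
  obtain ⟨g, a, ha, hgE, hiff⟩ := exists_smul_six hE
  have hcard : Nat.card (ptwise E) = Nat.card (ptwise (sixBase a)) := by
    rw [← hgE]
    show Nat.card (ptwise ((g : Equiv.Perm GolayPt) • sixBase a)) = _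
    rw [ptwise_smul _ g.2, Subgroup.card_map_of_injective (MulAut.conj _).injective]
  refine ⟨restrict_surjective hE, fun h => ?_, fun h => ?_⟩
  · rw [hpt, hcard, hiff.2 h, ptwise_sixBase.2]
  · have h5 : a = 5 := ha.resolve_right fun e => h (hiff.1 e)
    rw [hpt, hcard, h5, ptwise_sixBase.1]
    refine ⟨rfl, ?_⟩
    have hs : (restrictSet E).range = ⊤ := by
      refine MonoidHom.range_eq_top.2 fun σ => ?_
      obtain ⟨k, hk, hkσ⟩ := restrict_surjective hE σ
      refine ⟨⟨k, mem_setwise.2 ⟨hk, Finset.eq_of_subset_of_card_le (fun x hx => ?_) (card_smul_finset' k E).ge⟩⟩,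
        Equiv.ext fun p => Subtype.ext (hkσ p)⟩
      obtain ⟨y, hy, rfl⟩ := Finset.mem_smul_finset.1 hx
      show k y ∈ E
      rw [hkσ ⟨y, hy⟩]; exact Subtype.coe_prop _
    have hc := card_range_restrictSet E
    rw [hcard, h5, ptwise_sixBase.1, hs, Subgroup.card_top, Nat.card_perm,
      Nat.card_eq_fintype_card (α := ↥E), Fintype.card_coe, hE, card_setwise_eq,
      show Nat.factorial 6 = 720 by decide] at hc
    omega

theorem base_seven :
    (∀ B : Finset GolayPt, B.card ≤ 6 → ∃ g ∈ M24, g ≠ 1 ∧ ∀ b ∈ B, g b = b) ∧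
    (∃ B : Finset GolayPt, B.card = 7 ∧ ∀ g ∈ M24, (∀ b ∈ B, g b = b) → g = 1) := by
  refine ⟨fun B hB => ?_, ⟨(Finset.range 7).image bpt, by decide +kernel, fun g hg h => ?_⟩⟩
  · obtain ⟨E, hBE, hE⟩ := Finset.exists_superset_card_eq hB (by decide +kernel : 6 ≤ Fintype.card GolayPt)
    obtain ⟨g, a, ha, hgE, -⟩ := exists_smul_six hE
    have h3 : 3 ≤ Nat.card (ptwise E) := by
      rw [← hgE]
      show 3 ≤ Nat.card (ptwise ((g : Equiv.Perm GolayPt) • sixBase a))
      rw [ptwise_smul _ g.2, Subgroup.card_map_of_injective (MulAut.conj _).injective]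
      rcases ha with rfl | rfl
      · rw [ptwise_sixBase.1]
      · rw [ptwise_sixBase.2]; norm_num
    obtain ⟨x, hx, hx1⟩ := (ptwise E).bot_or_exists_ne_one.resolve_left fun e => by
      rw [e, Subgroup.card_bot] at h3; omega
    exact ⟨x, (mem_ptwise.1 hx).1, hx1, fun b hb => (mem_ptwise.1 hx).2 b (hBE hb)⟩
  · have : g ∈ chainSub 7 := mem_chainSub.2 ⟨hg, fun j hj =>
      h _ (Finset.mem_image_of_mem bpt (Finset.mem_range.2 hj))⟩
    rwa [chainSub_seven, Subgroup.mem_bot] at this

end CfsgLib.Spor
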