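import Cfsg.Agent.Lib.Spor.LargeExtraBasic
import Cfsg.Agent.Lib.PGroup.SymplecticPairs
import Mathlib.FieldTheory.Finiteness
import Mathlib.LinearAlgebra.Matrix.GeneralLinearGroup.Basic
import Mathlib.Algebra.Module.ZMod

/-!
# The centralizer of a nonzero vector in an affine group over the field of two elements

If `G` is the split extension of an elementary abelian 2-group `U` by its full automorphism group and
`z ∈ U#`, then `C_G(z)` is the split extension of the extraspecial group `U · T` by the automorphism group of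
`U / ⟨z⟩`, `T` the transvections with centre `z`.
-/

set_option autoImplicit false
set_option linter.style.haveILetI false

open Subgroup
open scoped commutatorElement

namespace CfsgLib.Spor.Affine

theorem isExtraspecial_congr {p : ℕ} {P P' : Type*} [Group P] [Group P'] (e : P ≃* P')
    (h : Cfsg.IsExtraspecial p P) : Cfsg.IsExtraspecial p P' := by
  obtain ⟨⟨hp, hf, hc⟩, hcard⟩ := h
  have hz : (center P).map e.toMonoidHom = center P' := by
    ext y
    obtain ⟨x, rfl⟩ := e.surjective y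
    rw [show e x = e.toMonoidHom x from rfl, mem_map_iff_mem (f := e.toMonoidHom) e.injective,
      mem_center_iff, mem_center_iff]
    refine ⟨fun hx g => ?_, fun hx g => e.injective ?_⟩
    · obtain ⟨g, rfl⟩ := e.surjective g
      simp only [MulEquiv.coe_toMonoidHom, ← map_mul, hx g]
    · simpa using hx (e g)
  have hfr : (frattini P).map e.toMonoidHom = frattini P' := by
    have h1 : (frattini P').comap e.toMonoidHom = frattini P := e.comapSubgroup.map_radical
    rw [← h1, map_comap_eq_self_of_surjective e.surjective]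
  have hcm : (commutator P).map e.toMonoidHom = commutator P' := by
    rw [_root_.commutator_def, _root_.commutator_def, map_commutator,
      map_top_of_surjective _ e.surjective]
  refine ⟨⟨hp.of_equiv e, ?_, ?_⟩, ?_⟩
  · rw [← hfr, ← hz, hf]
  · rw [← hcm, ← hz, hc]
  · rw [← hz, card_map_of_injective e.injective, hcard]

/-- Coordinates: an elementary abelian group of order `2^(n+1)` with a marked involution. -/
theorem exists_coord {U : Type*} [Group U] [Finite U] [hUc : IsMulCommutative U]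
    (hexp : ∀ x : U, x ^ 2 = 1) (n : ℕ) (hcard : Nat.card U = 2 ^ (n + 1)) (z : U) (hz : z ≠ 1) :
    ∃ e : U ≃* Multiplicative ((Fin n → ZMod 2) × ZMod 2), e z = Multiplicative.ofAdd (0, 1) := by
  obtain ⟨W, hW, hmax⟩ := (Set.toFinite {W : Subgroup U | z ∉ W}).exists_maximal
    ⟨⊥, fun h => hz (mem_bot.1 h)⟩
  have hinv : ∀ x : U, x⁻¹ = x := fun x => inv_eq_of_mul_eq_one_right (by rw [← pow_two]; exact hexp x)
  have hcom : ∀ a b : U, a * b = b * a := fun a b => hUc.is_comm.comm a b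
  have hzz : z * z = 1 := by rw [← pow_two]; exact hexp z
  have hdec : ∀ u : U, u ∈ W ∨ u * z ∈ W := by
    intro u
    by_contra h
    push Not at h
    have hzW : z ∈ W ⊔ zpowers u := by
      by_contra h'
      exact h.1 ((hmax (y := W ⊔ zpowers u) h' le_sup_left) (mem_sup_right (mem_zpowers u)))
    haveI : W.Normal := ⟨fun x hx g => by rwa [hcom g x, mul_inv_cancel_right]⟩
    obtain ⟨w, hw, y, hy, hwy⟩ := mem_sup_of_normal_left.1 hzW
    obtain ⟨k, rfl⟩ := mem_zpowers_iff.1 hy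
    rcases Int.even_or_odd k with ⟨j, rfl⟩ | ⟨j, rfl⟩
    · refine hW ?_
      rw [← hwy, ← two_mul, zpow_mul, zpow_two, ← pow_two, hexp, one_zpow, mul_one]
      exact hw
    · refine h.2 ?_
      rw [zpow_add, zpow_mul, zpow_two, ← pow_two, hexp, one_zpow, one_mul, zpow_one] at hwy
      rw [← hwy, hcom w u, ← mul_assoc, ← pow_two, hexp, one_mul]
      exact hw
  letI : CommGroup ↥W := { (inferInstance : Group ↥W) with mul_comm := fun a b => Subtype.ext (hcom _ _) }
  letI : Module (ZMod 2) (Additive ↥W) := AddCommGroup.zmodModule (fun x => by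
    have h := hexp ((Additive.toMul x : ↥W) : U)
    apply Additive.toMul.injective
    exact Subtype.ext (by simpa [pow_two, two_nsmul] using h))
  have hbij : Function.Bijective (fun x : ↥W × Fin 2 => ((x.1 : U) * z ^ (x.2 : ℕ))) := by
    refine ⟨?_, fun u => ?_⟩
    · rintro ⟨a, i⟩ ⟨b, j⟩ h
      fin_cases i <;> fin_cases j <;> simp at h ⊢
      · exact h
      · exact hW (by
          have : z = (b : U)⁻¹ * a := by rw [h, inv_mul_cancel_left]
          rw [this]; exact mul_mem (inv_mem b.2) a.2)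
      · exact hW (by
          have : z = (a : U)⁻¹ * b := by rw [← h, inv_mul_cancel_left]
          rw [this]; exact mul_mem (inv_mem a.2) b.2)
      · exact h
    · rcases hdec u with h | h
      · exact ⟨(⟨u, h⟩, 0), by simp⟩
      · exact ⟨(⟨u * z, h⟩, 1), by simp [mul_assoc, hzz]⟩
  have hWc : Nat.card ↥W = 2 ^ n := by
    have h := Nat.card_congr (Equiv.ofBijective _ hbij)
    rw [Nat.card_prod, Nat.card_eq_fintype_card (α := Fin 2), Fintype.card_fin, hcard, pow_succ] at h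
    omega
  haveI : Module.Finite (ZMod 2) (Additive ↥W) := Module.Finite.of_finite
  have hfr : Module.finrank (ZMod 2) (Additive ↥W) = n := by
    have h := Module.natCard_eq_pow_finrank (K := ZMod 2) (V := Additive ↥W)
    rw [show Nat.card (Additive ↥W) = Nat.card ↥W from rfl, hWc, Nat.card_zmod] at h
    exact (Nat.pow_right_injective (le_refl 2) h).symm
  let b := Module.finBasisOfFinrankEq (ZMod 2) (Additive ↥W) hfr
  let f : Additive ↥W ≃ₗ[ZMod 2] (Fin n → ZMod 2) := b.equivFun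
  let g : Multiplicative ((Fin n → ZMod 2) × ZMod 2) →* U :=
    { toFun := fun x => ((Additive.toMul (f.symm x.toAdd.1) : ↥W) : U) * z ^ (x.toAdd.2).val
      map_one' := by simp
      map_mul' := fun x y => by
        have hval : z ^ ((x.toAdd.2 + y.toAdd.2).val) = z ^ (x.toAdd.2).val * z ^ (y.toAdd.2).val := by
          rw [← pow_add, ZMod.val_add]
          exact (pow_eq_pow_mod _ (hexp z)).symm
        simp only [toAdd_mul, Prod.fst_add, Prod.snd_add, map_add, toMul_add, Subgroup.coe_mul, hval]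
        rw [mul_assoc, mul_assoc]
        congr 1
        have key : ∀ a b w : U, w * (a * b) = a * (w * b) := fun a b w => by
          rw [← mul_assoc, hcom w a, mul_assoc]
        exact key _ _ _ }
  have hg : Function.Bijective g := by
    refine (Nat.bijective_iff_surjective_and_card g).2 ⟨fun u => ?_, ?_⟩
    · obtain ⟨⟨w, i⟩, rfl⟩ := hbij.2 u
      refine ⟨Multiplicative.ofAdd (f (Additive.ofMul w), (i.val : ZMod 2)), ?_⟩
      show ((Additive.toMul (f.symm (f (Additive.ofMul w))) : ↥W) : U) * _ = _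
      rw [LinearEquiv.symm_apply_apply, toMul_ofMul]
      congr 1
      fin_cases i <;> rfl
    · rw [hcard, Nat.card_congr Multiplicative.toAdd, Nat.card_prod, Nat.card_fun, Nat.card_zmod,
        Nat.card_fin, pow_succ]
  refine ⟨(MulEquiv.ofBijective g hg).symm, ?_⟩
  rw [MulEquiv.symm_apply_eq]
  show z = _
  simp [g, ZMod.val_one]

variable (n : ℕ)

/-- The coordinate group. -/
abbrev A := Multiplicative ((Fin n → ZMod 2) × ZMod 2)

/-- The marked involution. -/
def z0 : A n := Multiplicative.ofAdd (0, 1)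

/-- The automorphisms fixing the complement. -/
def kAut : ((Fin n → ZMod 2) ≃ₗ[ZMod 2] (Fin n → ZMod 2)) →* MulAut (A n) where
  toFun φ := AddEquiv.toMultiplicative (φ.toAddEquiv.prodCongr (AddEquiv.refl (ZMod 2)))
  map_one' := rfl
  map_mul' _ _ := rfl

/-- The transvections with centre `z0`. -/
def tAut : Multiplicative ((Fin n → ZMod 2) →ₗ[ZMod 2] ZMod 2) →* MulAut (A n) where
  toFun ℓ := AddEquiv.toMultiplicative
    { toFun := fun x => (x.1, x.2 + ℓ.toAdd x.1)
      invFun := fun x => (x.1, x.2 - ℓ.toAdd x.1)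
      left_inv := fun x => by simp
      right_inv := fun x => by simp
      map_add' := fun x y => by
        ext1
        · rfl
        · simp only [Prod.fst_add, Prod.snd_add, map_add]
          abel }
  map_one' := by
    refine MulEquiv.ext fun x => Multiplicative.toAdd.injective (Prod.ext rfl ?_)
    show x.toAdd.2 + (0 : (Fin n → ZMod 2) →ₗ[ZMod 2] ZMod 2) x.toAdd.1 = x.toAdd.2
    simp
  map_mul' := fun a b => by
    refine MulEquiv.ext fun x => Multiplicative.toAdd.injective (Prod.ext rfl ?_)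
    show x.toAdd.2 + (a.toAdd + b.toAdd) x.toAdd.1 = x.toAdd.2 + b.toAdd x.toAdd.1 + a.toAdd x.toAdd.1
    rw [LinearMap.add_apply]; abel

variable {n}

theorem tAut_apply (ℓ : Multiplicative ((Fin n → ZMod 2) →ₗ[ZMod 2] ZMod 2)) (x : A n) :
    (tAut n ℓ x).toAdd = (x.toAdd.1, x.toAdd.2 + ℓ.toAdd x.toAdd.1) := rfl

theorem kAut_apply (φ : (Fin n → ZMod 2) ≃ₗ[ZMod 2] (Fin n → ZMod 2)) (x : A n) :
    (kAut n φ x).toAdd = (φ x.toAdd.1, x.toAdd.2) := rfl

theorem tAut_z0 (ℓ : Multiplicative ((Fin n → ZMod 2) →ₗ[ZMod 2] ZMod 2)) : tAut n ℓ (z0 n) = z0 n :=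
  Multiplicative.toAdd.injective (by rw [tAut_apply]; simp [z0])

theorem kAut_z0 (φ : (Fin n → ZMod 2) ≃ₗ[ZMod 2] (Fin n → ZMod 2)) : kAut n φ (z0 n) = z0 n :=
  Multiplicative.toAdd.injective (by rw [kAut_apply]; simp [z0])

theorem tAut_injective : Function.Injective (tAut n) := by
  intro a b h
  refine Multiplicative.toAdd.injective (LinearMap.ext fun v => ?_)
  have h1 := congrArg (fun α : MulAut (A n) => (α (Multiplicative.ofAdd (v, (0 : ZMod 2)))).toAdd.2) h
  simpa [tAut_apply] using h1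

theorem kAut_injective : Function.Injective (kAut n) := by
  intro a b h
  refine LinearEquiv.ext fun v => ?_
  have h1 := congrArg (fun α : MulAut (A n) => (α (Multiplicative.ofAdd (v, (0 : ZMod 2)))).toAdd.1) h
  simpa [kAut_apply] using h1

/-- The stabilizer of `z0` is generated by the two kinds of automorphisms. -/
theorem exists_decomp (α : MulAut (A n)) (hα : α (z0 n) = z0 n) :
    ∃ φ ℓ, α = kAut n φ * tAut n ℓ := by
  let F : (Fin n → ZMod 2) →+ ((Fin n → ZMod 2) × ZMod 2) :=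
    { toFun := fun v => (α (Multiplicative.ofAdd (v, (0 : ZMod 2)))).toAdd
      map_zero' := by
        rw [show (Multiplicative.ofAdd ((0 : Fin n → ZMod 2), (0 : ZMod 2))) = (1 : A n) from rfl, map_one]
        rfl
      map_add' := fun v w => by
        rw [← toAdd_mul, ← map_mul, ← ofAdd_add, Prod.mk_add_mk, add_zero] }
  let φ₀ : (Fin n → ZMod 2) →ₗ[ZMod 2] (Fin n → ZMod 2) :=
    ((AddMonoidHom.fst _ _).comp F).toZModLinearMap 2
  let ℓ : (Fin n → ZMod 2) →ₗ[ZMod 2] ZMod 2 := ((AddMonoidHom.snd _ _).comp F).toZModLinearMap 2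
  have hc : ∀ c : ZMod 2, α (Multiplicative.ofAdd ((0 : Fin n → ZMod 2), c)) = Multiplicative.ofAdd (0, c) := by
    intro c
    fin_cases c
    · exact map_one α
    · exact hα
  have hinj : Function.Injective φ₀ := by
    refine (injective_iff_map_eq_zero _).2 fun v hv => ?_
    have h1 : α (Multiplicative.ofAdd (v, (0 : ZMod 2))) =
        α (Multiplicative.ofAdd ((0 : Fin n → ZMod 2), ℓ v)) := by
      rw [hc]
      refine Multiplicative.toAdd.injective (Prod.ext ?_ rfl)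
      exact hv
    exact (congrArg Prod.fst (Multiplicative.ofAdd.injective (α.injective h1)) :)
  let φ : (Fin n → ZMod 2) ≃ₗ[ZMod 2] (Fin n → ZMod 2) :=
    LinearEquiv.ofBijective φ₀ ⟨hinj, Finite.surjective_of_injective hinj⟩
  refine ⟨φ, Multiplicative.ofAdd ℓ, MulEquiv.ext fun x => ?_⟩
  obtain ⟨⟨v, c⟩, rfl⟩ := Multiplicative.ofAdd.surjective x
  rw [show Multiplicative.ofAdd (v, c) =
    Multiplicative.ofAdd (v, (0 : ZMod 2)) * Multiplicative.ofAdd ((0 : Fin n → ZMod 2), c) by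
      rw [← ofAdd_add, Prod.mk_add_mk, add_zero, zero_add], map_mul, hc, map_mul]
  refine Multiplicative.toAdd.injective ?_
  simp only [toAdd_mul, MulAut.mul_apply, kAut_apply, tAut_apply, toAdd_ofAdd, map_zero, add_zero,
    zero_add]
  refine Prod.ext ?_ ?_
  · rfl
  · rfl

theorem exists_linearEquiv_map {v w : Fin n → ZMod 2} (hv : v ≠ 0) (hw : w ≠ 0) :
    ∃ φ : (Fin n → ZMod 2) ≃ₗ[ZMod 2] (Fin n → ZMod 2), φ v = w := by
  have h01 : ∀ c : ZMod 2, c ≠ 0 → c = 1 := by decide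
  obtain ⟨f, hfv, hfw⟩ : ∃ f : (Fin n → ZMod 2) →ₗ[ZMod 2] ZMod 2, f v = 1 ∧ f w = 1 := by
    obtain ⟨i, hi⟩ := Function.ne_iff.1 hv
    obtain ⟨j, hj⟩ := Function.ne_iff.1 hw
    by_cases h1 : w i = 0
    · by_cases h2 : v j = 0
      · refine ⟨LinearMap.proj (R := ZMod 2) (φ := fun _ : Fin n => ZMod 2) i + LinearMap.proj j, ?_, ?_⟩
        · show v i + v j = 1
          rw [h01 _ hi, h2, add_zero]
        · show w i + w j = 1
          rw [h01 _ hj, h1, zero_add]
      · exact ⟨LinearMap.proj j, h01 _ h2, h01 _ hj⟩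
    · exact ⟨LinearMap.proj i, h01 _ hi, h01 _ h1⟩
  let T : (Fin n → ZMod 2) →ₗ[ZMod 2] (Fin n → ZMod 2) := LinearMap.id + f.smulRight (w - v)
  have hfT : ∀ x, f (T x) = f x := fun x => by simp [T, hfv, hfw]
  have hT : ∀ x, T (T x) = x := fun x => by
    show T x + f (T x) • (w - v) = x
    rw [hfT]
    show x + f x • (w - v) + f x • (w - v) = x
    rw [add_assoc, ← add_smul, CharTwo.add_self_eq_zero, zero_smul, add_zero]
  exact ⟨LinearEquiv.ofLinear T T (LinearMap.ext hT) (LinearMap.ext hT), by simp [T, hfv]⟩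

section Main

variable {G : Type*} [Group G] [Finite G] {U M : Subgroup G} [U.Normal]

/-- The structure of the centralizer of an involution of `U`. -/
theorem structure_of_affine (n : ℕ) (hn : 1 ≤ n) (hU : Cfsg.IsElementaryAbelian 2 U)
    (hUcard : Nat.card ↥U = 2 ^ (n + 1)) (hUM : U ⊓ M = ⊥) (hUM' : U ⊔ M = ⊤)
    (hfaith : ∀ m ∈ M, (∀ u ∈ U, m * u * m⁻¹ = u) → m = 1)
    (hfull : ∀ φ : ↥U ≃* ↥U, ∃ m ∈ M, ∀ u : ↥U, ((φ u : ↥U) : G) = m * u * m⁻¹)
    (Z : Subgroup G) (hZU : Z ≤ U) (hZ : Nat.card ↥Z = 2) (Q : Subgroup G)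
    (hQ : Q = (Cfsg.pCore 2 ↥(centralizer (Z : Set G))).map (centralizer (Z : Set G)).subtype) :
    Cfsg.IsExtraspecial 2 ↥Q ∧ Nat.card ↥Q = 2 ^ (2 * n + 1) ∧
      (∃ E : Subgroup G, E ≤ Q ∧ Cfsg.IsElementaryAbelian 2 E ∧ Nat.card ↥E = 2 ^ (n + 1)) ∧
      Cfsg.IsLargeExtraspecial Q ∧
      ∃ K : Subgroup G, K ≤ centralizer (Z : Set G) ∧ Q ⊓ K = ⊥ ∧ Q ⊔ K = centralizer (Z : Set G) ∧
        Nonempty (↥K ≃* Matrix.GeneralLinearGroup (Fin n) (ZMod 2)) := by
  haveI : Fact (Nat.Prime 2) := ⟨Nat.prime_two⟩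
  haveI := hU.1
  obtain ⟨z, hzZ, hz1⟩ : ∃ z ∈ Z, z ≠ 1 := by
    by_contra h
    push Not at h
    rw [(eq_bot_iff_forall Z).2 h, card_bot] at hZ
    omega
  have hZz : ∀ x ∈ Z, x = 1 ∨ x = z := by
    intro x hx
    by_contra h
    push Not at h
    haveI := Fintype.ofFinite ↥Z
    classical
    have h3 : 2 < Fintype.card ↥Z := Fintype.two_lt_card_iff.2
      ⟨1, ⟨z, hzZ⟩, ⟨x, hx⟩, fun e => hz1 (congrArg Subtype.val e).symm,
        fun e => h.1 (congrArg Subtype.val e).symm, fun e => h.2 (congrArg Subtype.val e).symm⟩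
    rw [← Nat.card_eq_fintype_card, hZ] at h3
    omega
  have hzU : z ∈ U := hZU hzZ
  obtain ⟨e, he⟩ := exists_coord (fun x : ↥U => Subtype.ext (by simpa using hU.2 x x.2)) n hUcard
    ⟨z, hzU⟩ (fun h => hz1 (congrArg Subtype.val h))
  -- the embedding of the automorphism group
  let ι : A n →* G := U.subtype.comp e.symm.toMonoidHom
  have hιi : Function.Injective ι := U.subtype_injective.comp e.symm.injective
  have hιU : ι.range = U := by
    rw [MonoidHom.range_comp, MonoidHom.range_eq_top.2 e.symm.surjective, ← MonoidHom.range_eq_map,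
      range_subtype]
  have hι : ∀ x, ι x ∈ U := fun x => hιU ▸ ⟨x, rfl⟩
  have hιs : ∀ u ∈ U, ∃ x, ι x = u := fun u hu => by rwa [← hιU] at hu
  have hιz : ι (z0 n) = z := by
    show ((e.symm (z0 n) : ↥U) : G) = z
    rw [show z0 n = e ⟨z, hzU⟩ from he.symm, e.symm_apply_apply]
  have hex : ∀ α : MulAut (A n), ∃ m ∈ M, ∀ x, m * ι x * m⁻¹ = ι (α x) := fun α => by
    obtain ⟨m, hm, hmu⟩ := hfull ((e.trans α).trans e.symm)
    refine ⟨m, hm, fun x => ?_⟩
    show m * ((e.symm x : ↥U) : G) * m⁻¹ = _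
    rw [← hmu]
    simp [ι]
  have huniq : ∀ a ∈ M, ∀ b ∈ M, (∀ x, a * ι x * a⁻¹ = b * ι x * b⁻¹) → a = b := by
    intro a ha b hb h
    refine (inv_mul_eq_one.1 (hfaith _ (mul_mem (inv_mem hb) ha) fun u hu => ?_)).symm
    obtain ⟨x, rfl⟩ := hιs u hu
    calc b⁻¹ * a * ι x * (b⁻¹ * a)⁻¹ = b⁻¹ * (a * ι x * a⁻¹) * b := by group
      _ = ι x := by rw [h x]; group
  choose μ₀ hμM hμ using hex
  let μ : MulAut (A n) →* G := MonoidHom.mk' μ₀ fun a b => by
    refine huniq _ (hμM _) _ (mul_mem (hμM a) (hμM b)) fun x => ?_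
    rw [hμ, MulAut.mul_apply, ← hμ a, ← hμ b]
    group
  have hμinj : Function.Injective μ := fun a b h => MulEquiv.ext fun x => hιi (by
    rw [← hμ, ← hμ]
    exact congrArg (fun m => m * ι x * m⁻¹) h)
  -- the centralizer of `z`
  set C := centralizer (Z : Set G) with hC
  have hmemC : ∀ g : G, g ∈ C ↔ g * z * g⁻¹ = z := fun g => by
    rw [mem_centralizer_iff]
    refine ⟨fun h => by rw [← h z hzZ, mul_inv_cancel_right], fun h x hx => ?_⟩
    rcases hZz x hx with rfl | rfl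
    · rw [one_mul, mul_one]
    · exact (mul_inv_eq_iff_eq_mul.1 h).symm
  have hUab : ∀ a ∈ U, ∀ b ∈ U, a * b = b * a := fun a ha b hb =>
    congrArg Subtype.val (hU.1.is_comm.comm (⟨a, ha⟩ : ↥U) ⟨b, hb⟩)
  have hUC : U ≤ C := fun u hu => (hmemC u).2 (by rw [hUab u hu z hzU, mul_inv_cancel_right])
  have hμC : ∀ α, α (z0 n) = z0 n → μ α ∈ C := fun α hα => (hmemC _).2 (by
    rw [← hιz]
    show μ₀ α * _ * (μ₀ α)⁻¹ = _
    rw [hμ, hα])
  have hCdec : ∀ g ∈ C, ∃ u ∈ U, ∃ φ ℓ, g = u * (μ (kAut n φ) * μ (tAut n ℓ)) := by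
    intro g hg
    obtain ⟨u, hu, m, hm, rfl⟩ := mem_sup_of_normal_left.1 (show g ∈ U ⊔ M from hUM' ▸ mem_top g)
    have hmz : m * z * m⁻¹ = z := by
      have h := (hmemC _).1 (mul_mem (inv_mem (hUC hu)) hg)
      rwa [inv_mul_cancel_left] at h
    let α : MulAut (A n) := ((e.symm.trans (MulAut.conjNormal m : MulAut ↥U)).trans e)
    have hα : ∀ x, ι (α x) = m * ι x * m⁻¹ := fun x => by simp [ι, α, MulAut.conjNormal_apply]
    have hμα : μ α = m := huniq _ (hμM α) _ hm fun x => by rw [hμ, hα]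
    obtain ⟨φ, ℓ, hd⟩ := exists_decomp α (hιi (by rw [hα, hιz, hmz]))
    exact ⟨u, hu, φ, ℓ, by rw [← map_mul, ← hd, hμα]⟩
  set T := (μ.comp (tAut n)).range with hT
  set K := (μ.comp (kAut n)).range with hK
  have hTC : T ≤ C := by
    rintro _ ⟨ℓ, rfl⟩; exact hμC _ (tAut_z0 ℓ)
  have hKC : K ≤ C := by
    rintro _ ⟨φ, rfl⟩; exact hμC _ (kAut_z0 φ)
  have hTM : T ≤ M := by
    rintro _ ⟨ℓ, rfl⟩; exact hμM _
  have hTcard : Nat.card ↥T = 2 ^ n := by
    rw [hT, ← Nat.card_congr (MonoidHom.ofInjective (f := μ.comp (tAut n)) fun a b h => tAut_injective (hμinj h)).toEquiv,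
      Nat.card_congr Multiplicative.toAdd, Module.natCard_eq_pow_finrank (K := ZMod 2), Nat.card_zmod,
      Module.finrank_linearMap, Module.finrank_fintype_fun_eq_card, Module.finrank_self, mul_one,
      Fintype.card_fin]
  set Q₀ := U ⊔ T with hQ₀
  have hQ₀C : Q₀ ≤ C := sup_le hUC hTC
  have hQ₀mem : ∀ g ∈ Q₀, ∃ u ∈ U, ∃ ℓ, g = u * μ (tAut n ℓ) := by
    intro g hg
    obtain ⟨u, hu, _, ⟨ℓ, rfl⟩, rfl⟩ := mem_sup_of_normal_left.1 hg
    exact ⟨u, hu, ℓ, rfl⟩
  have hQ₀card : Nat.card ↥Q₀ = 2 ^ (2 * n + 1) := by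
    have h1 : Nat.card ↥U * U.relIndex Q₀ = Nat.card ↥Q₀ := by
      rw [← relIndex_bot_left, ← relIndex_bot_left]
      exact relIndex_mul_relIndex ⊥ _ _ bot_le le_sup_left
    have h2 : U.relIndex Q₀ = Nat.card ↥T := by
      rw [hQ₀, relIndex_sup_left, ← inf_relIndex_right,
        show U ⊓ T = ⊥ from le_bot_iff.1 (hUM ▸ inf_le_inf_left U hTM), relIndex_bot_left]
    rw [← h1, h2, hUcard, hTcard, ← pow_add]
    congr 1; omega
  -- commutators with transvections
  have hzc : ∀ c : ZMod 2, ι (Multiplicative.ofAdd ((0 : Fin n → ZMod 2), c)) ∈ Z := by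
    intro c
    fin_cases c
    · show ι 1 ∈ Z
      rw [map_one]; exact one_mem _
    · show ι (z0 n) ∈ Z
      rw [hιz]; exact hzZ
  have hTconj : ∀ ℓ x, μ (tAut n ℓ) * ι x * (μ (tAut n ℓ))⁻¹ =
      ι x * ι (Multiplicative.ofAdd (0, ℓ.toAdd x.toAdd.1)) := by
    intro ℓ x
    show μ₀ (tAut n ℓ) * _ * (μ₀ (tAut n ℓ))⁻¹ = _
    rw [hμ, ← map_mul]
    congr 1
    refine Multiplicative.toAdd.injective ?_
    rw [tAut_apply, toAdd_mul, toAdd_ofAdd]
    ext <;> simp
  have hTiff : ∀ m ∈ M, m ∈ C → (∀ u ∈ U, m * u * m⁻¹ * u⁻¹ ∈ Z) → m ∈ T := by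
    intro m hm hmC h
    obtain ⟨u, hu, φ, ℓ, hd⟩ := hCdec m hmC
    have hu1 : u = 1 := by
      have h1 : u ∈ U ⊓ M := ⟨hu, by
        have : u = m * (μ (kAut n φ) * μ (tAut n ℓ))⁻¹ := by rw [hd, mul_inv_cancel_right]
        rw [this]; exact mul_mem hm (Subgroup.inv_mem _ (mul_mem (hμM _) (hμM _)))⟩
      rwa [hUM, mem_bot] at h1
    rw [hu1, one_mul] at hd
    refine ⟨ℓ, ?_⟩
    have hφ : φ = 1 := by
      refine LinearEquiv.ext fun v => ?_
      have h2 := h _ (hι (Multiplicative.ofAdd (v, (0 : ZMod 2))))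
      rw [hd, ← map_mul] at h2
      rw [show μ (kAut n φ * tAut n ℓ) * ι _ * (μ (kAut n φ * tAut n ℓ))⁻¹ = _ from hμ _ _,
        ← map_inv, ← map_mul] at h2
      have h3 : ∀ y, ι y ∈ Z → y.toAdd.1 = 0 := fun y hy => by
        rcases hZz _ hy with h4 | h4
        · rw [hιi (h4.trans (map_one ι).symm)]; rfl
        · rw [hιi (h4.trans hιz.symm)]; rfl
      have h5 := h3 _ h2
      simp only [toAdd_mul, toAdd_inv, Prod.fst_add, Prod.fst_neg, MulAut.mul_apply, kAut_apply,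
        tAut_apply, toAdd_ofAdd] at h5
      exact (add_neg_eq_zero.1 h5).trans rfl
    rw [hd, hφ, map_one, map_one, one_mul]
    rfl
  have hTn : ∀ g ∈ C, ∀ t ∈ T, g * t * g⁻¹ ∈ Q₀ := by
    intro g hg t ht
    obtain ⟨u, hu, φ, ℓ, rfl⟩ := hCdec g hg
    set m := μ (kAut n φ) * μ (tAut n ℓ) with hm
    have hmM : m ∈ M := mul_mem (hμM _) (hμM _)
    have hmC : m ∈ C := mul_mem (hμC _ (kAut_z0 φ)) (hμC _ (tAut_z0 ℓ))
    have h1 : m * t * m⁻¹ ∈ T := by
      refine hTiff _ (mul_mem (mul_mem hmM (hTM ht)) (inv_mem hmM))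
        (mul_mem (mul_mem hmC (hTC ht)) (inv_mem hmC)) fun w hw => ?_
      obtain ⟨ℓ', rfl⟩ := ht
      obtain ⟨y, hy⟩ := hιs _ ((inferInstance : U.Normal).conj_mem w hw m⁻¹)
      have h2 := hTconj ℓ' y
      rw [hy, inv_inv] at h2
      have h3 := hzc (ℓ'.toAdd y.toAdd.1)
      generalize hc : ι (Multiplicative.ofAdd ((0 : Fin n → ZMod 2), ℓ'.toAdd y.toAdd.1)) = c at h2 h3
      have hm1 : m * c * m⁻¹ = c := by
        rw [← mem_centralizer_iff.1 hmC c h3, mul_inv_cancel_right]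
      have : m * (μ.comp (tAut n)) ℓ' * m⁻¹ * w * (m * (μ.comp (tAut n)) ℓ' * m⁻¹)⁻¹ * w⁻¹ = c := by
        calc _ = m * (μ (tAut n ℓ') * (m⁻¹ * w * m) * (μ (tAut n ℓ'))⁻¹) * m⁻¹ * w⁻¹ := by
              simp only [MonoidHom.comp_apply]; group
          _ = w * (m * c * m⁻¹) * w⁻¹ := by rw [h2]; group
          _ = c := by rw [hm1, hUab w hw c (hZU h3), mul_inv_cancel_right]
      rw [this]; exact h3
    have : u * m * t * (u * m)⁻¹ = u * (m * t * m⁻¹) * u⁻¹ := by group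
    rw [this]
    exact mul_mem (mul_mem (mem_sup_left hu) (mem_sup_right h1)) (inv_mem (mem_sup_left hu))
  have hQn : ∀ g ∈ C, ∀ q ∈ Q₀, g * q * g⁻¹ ∈ Q₀ := by
    intro g hg q hq
    obtain ⟨u, hu, ℓ, rfl⟩ := hQ₀mem q hq
    rw [show g * (u * μ (tAut n ℓ)) * g⁻¹ = (g * u * g⁻¹) * (g * μ (tAut n ℓ) * g⁻¹) by group]
    exact mul_mem (mem_sup_left ((inferInstance : U.Normal).conj_mem u hu g)) (hTn g hg _ ⟨ℓ, rfl⟩)
  -- `Q₀` is the largest normal 2-subgroup
  have hQeq : Q = Q₀ := by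
    set R := Cfsg.pCore 2 ↥C with hR
    haveI hRn : R.Normal := CfsgLib.Coprime.pCore_normal' 2
    haveI : (Q₀.subgroupOf C).Normal :=
      ⟨fun q hq g => mem_subgroupOf.2 (hQn g g.2 _ (mem_subgroupOf.1 hq))⟩
    have hle : Q₀.subgroupOf C ≤ R := CfsgLib.Coprime.le_pCore
      ((IsPGroup.of_card hQ₀card).of_equiv (subgroupOfEquivOfLe hQ₀C).symm)
    rw [hQ]
    refine le_antisymm ?_ fun q hq => ⟨⟨q, hQ₀C hq⟩, hle (mem_subgroupOf.2 hq), rfl⟩
    rintro _ ⟨r, hr, rfl⟩
    obtain ⟨u, hu, φ, ℓ, hd⟩ := hCdec r r.2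
    -- the part of `R` in the Levi complement
    let κ : ((Fin n → ZMod 2) ≃ₗ[ZMod 2] (Fin n → ZMod 2)) →* ↥C :=
      (μ.comp (kAut n)).codRestrict C fun φ => hμC _ (kAut_z0 φ)
    set Φ := R.comap κ with hΦ
    have hΦp : IsPGroup 2 Φ := (CfsgLib.Coprime.pCore_isPGroup 2).comap_of_injective κ (fun a b h =>
      kAut_injective (hμinj (congrArg Subtype.val h)))
    have hφΦ : φ ∈ Φ := by
      have h1 : κ φ = (⟨u, hUC hu⟩ : ↥C)⁻¹ * r * (⟨μ (tAut n ℓ), hμC _ (tAut_z0 ℓ)⟩ : ↥C)⁻¹ :=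
        Subtype.ext (by
          show μ (kAut n φ) = u⁻¹ * (r : G) * (μ (tAut n ℓ))⁻¹
          rw [hd]; group)
      rw [hΦ, mem_comap, h1]
      exact mul_mem (mul_mem (inv_mem (hle (mem_subgroupOf.2 (mem_sup_left hu)))) hr)
        (inv_mem (hle (mem_subgroupOf.2 (mem_sup_right ⟨ℓ, rfl⟩))))
    haveI hΦn : Φ.Normal := hRn.comap _
    have hΦ1 : φ = 1 := by
      letI : MulAction ↥Φ (Fin n → ZMod 2) :=
        { smul := fun φ v => (φ : (Fin n → ZMod 2) ≃ₗ[ZMod 2] (Fin n → ZMod 2)) v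
          one_smul := fun v => rfl
          mul_smul := fun a b v => rfl }
      obtain ⟨v, hv, hv0⟩ := hΦp.exists_fixed_point_of_prime_dvd_card_of_fixed_point (Fin n → ZMod 2)
        (by rw [Nat.card_fun, Nat.card_zmod, Nat.card_fin]; exact dvd_pow_self 2 (by omega))
        (a := 0) (fun g => map_zero (g : (Fin n → ZMod 2) ≃ₗ[ZMod 2] (Fin n → ZMod 2)))
      refine LinearEquiv.ext fun w => ?_
      rcases eq_or_ne w 0 with rfl | hw
      · exact map_zero φ
      obtain ⟨ψ, rfl⟩ := exists_linearEquiv_map (Ne.symm hv0) hw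
      have h2 := hv ⟨_, hΦn.conj_mem φ hφΦ ψ⁻¹⟩
      have h3 : (ψ⁻¹ * φ * ψ⁻¹⁻¹) v = v := h2
      rw [inv_inv] at h3
      have h4 := congrArg ψ h3
      exact (LinearEquiv.apply_symm_apply ψ _).symm.trans h4
    rw [show C.subtype r = (r : G) from rfl, hd, hΦ1, map_one, map_one, one_mul]
    exact mul_mem (mem_sup_left hu) (mem_sup_right ⟨ℓ, rfl⟩)
  subst hQeq
  -- elements centralizing `Q₀`
  have hfix : ∀ g : G, (∀ q ∈ Q₀, g * q = q * g) → g ∈ Z := by
    intro g hg
    obtain ⟨u, hu, m, hm, rfl⟩ := mem_sup_of_normal_left.1 (show g ∈ U ⊔ M from hUM' ▸ mem_top g)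
    have hm1 : m = 1 := hfaith m hm fun w hw => by
      have h1 := hg w (mem_sup_left hw)
      calc m * w * m⁻¹ = u⁻¹ * (u * m * w) * m⁻¹ := by group
        _ = u⁻¹ * (w * (u * m)) * m⁻¹ := by rw [h1]
        _ = (u⁻¹ * w) * u := by group
        _ = w := by rw [hUab _ (inv_mem hu) _ hw, inv_mul_cancel_right]
    subst hm1
    rw [mul_one] at hg ⊢
    obtain ⟨x, rfl⟩ := hιs u hu
    have hx : x.toAdd.1 = 0 := by
      by_contra hne
      obtain ⟨i, hi⟩ := Function.ne_iff.1 hne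
      let ℓ : Multiplicative ((Fin n → ZMod 2) →ₗ[ZMod 2] ZMod 2) := Multiplicative.ofAdd (LinearMap.proj i)
      have h1 := hg _ (mem_sup_right (show μ (tAut n ℓ) ∈ T from ⟨ℓ, rfl⟩))
      have h2 := hTconj ℓ x
      rw [← h1, mul_inv_cancel_right, eq_comm, mul_eq_left] at h2
      exact hi (congrArg (fun y : A n => y.toAdd.2) (hιi (h2.trans (map_one ι).symm)) :)
    rw [show x = Multiplicative.ofAdd ((0 : Fin n → ZMod 2), x.toAdd.2) from
      Multiplicative.toAdd.injective (Prod.ext hx rfl)]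
    exact hzc _
  have hZQ : Z ≤ Q₀ := hZU.trans le_sup_left
  have hcenter : (center ↥Q₀).map Q₀.subtype = Z := by
    refine le_antisymm ?_ fun x hx => ⟨⟨x, hZQ hx⟩, mem_center_iff.2 fun q => Subtype.ext
      (mem_centralizer_iff.1 (hQ₀C q.2) x hx).symm, rfl⟩
    rintro _ ⟨x, hx, rfl⟩
    exact hfix _ fun q hq => (congrArg Subtype.val (mem_center_iff.1 hx ⟨q, hq⟩)).symm
  have hext : Cfsg.IsExtraspecial 2 ↥Q₀ := by
    have hZzp : ∀ x : ↥C, (x : G) ∈ Z → x ∈ zpowers (⟨z, hUC hzU⟩ : ↥C) := fun x hx => by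
      rcases hZz _ hx with h | h
      · rw [show x = 1 from Subtype.ext h]; exact one_mem _
      · rw [show x = ⟨z, hUC hzU⟩ from Subtype.ext h]; exact mem_zpowers _
    refine isExtraspecial_congr (subgroupOfEquivOfLe hQ₀C) ?_
    refine CfsgLib.SympPairs.isExtraspecial_of_data (z := (⟨z, hUC hzU⟩ : ↥C)) _
      ((IsPGroup.of_card hQ₀card).of_equiv (subgroupOfEquivOfLe hQ₀C).symm)
      ⟨Subtype.ext (by simpa using hU.2 z hzU), fun h => hz1 (congrArg Subtype.val h),
        mem_subgroupOf.2 (hZQ hzZ), fun g => Subtype.ext (mem_centralizer_iff.1 g.2 z hzZ).symm, ?_⟩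
      ?_ ?_ ?_
    · intro a ha b hb
      refine hZzp _ ?_
      obtain ⟨u, hu, ℓ, hd⟩ := hQ₀mem _ (mem_subgroupOf.1 ha)
      obtain ⟨u', hu', ℓ', hd'⟩ := hQ₀mem _ (mem_subgroupOf.1 hb)
      obtain ⟨x, rfl⟩ := hιs u hu
      obtain ⟨y, rfl⟩ := hιs u' hu'
      show ⁅(a : G), (b : G)⁆ ∈ Z
      have h1 := hTconj ℓ y
      have h2 := hTconj ℓ' x
      have hc1 := hzc (ℓ.toAdd y.toAdd.1)
      have hc2 := hzc (ℓ'.toAdd x.toAdd.1)
      generalize hcv : ι (Multiplicative.ofAdd ((0 : Fin n → ZMod 2), ℓ.toAdd y.toAdd.1)) = c at h1 hc1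
      generalize hdv : ι (Multiplicative.ofAdd ((0 : Fin n → ZMod 2), ℓ'.toAdd x.toAdd.1)) = d at h2 hc2
      generalize hs : μ (tAut n ℓ) = s at h1 hd
      generalize ht : μ (tAut n ℓ') = t at h2 hd'
      have hst : s * t = t * s := by
        rw [← hs, ← ht, ← map_mul, ← map_mul, ← map_mul, ← map_mul, mul_comm ℓ]
      have hxy := hUab _ hu _ hu'
      have hcx := hUab _ (hZU hc1) _ hu
      have hdc := hUab _ (hZU hc1) _ (hZU hc2)
      have key : (a : G) * b = c * d⁻¹ * (b * a) := by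
        rw [hd, hd']
        have e1 : s * ι y = ι y * c * s := by rw [← h1]; group
        have e2 : t * ι x = ι x * d * t := by rw [← h2]; group
        have hdy := hUab _ (hZU hc2) _ hu'
        have hcy := hUab _ (hZU hc1) _ hu'
        have hdx := hUab _ (hZU hc2) _ hu
        calc ι x * s * (ι y * t) = ι x * (s * ι y) * t := by group
          _ = ι x * (ι y * c) * (s * t) := by rw [e1]; group
          _ = c * d⁻¹ * (ι y * ι x * d) * (t * s) := by
            rw [hst]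
            congr 1
            rw [← hcy, ← mul_assoc (ι x), ← hcx, mul_assoc c, hxy,
              ← hUab _ (hZU hc2) _ (mul_mem hu' hu), ← mul_assoc (c * d⁻¹), inv_mul_cancel_right]
          _ = c * d⁻¹ * (ι y * t * (ι x * s)) := by
            rw [show ι y * t * (ι x * s) = ι y * (t * ι x) * s by group, e2]
            group
      rw [commutatorElement_def, key]
      rw [show c * d⁻¹ * ((b : G) * a) * (a : G)⁻¹ * (b : G)⁻¹ = c * d⁻¹ by group]
      exact mul_mem hc1 (inv_mem hc2)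
    · intro a ha
      refine hZzp _ ?_
      obtain ⟨u, hu, ℓ, hd⟩ := hQ₀mem _ (mem_subgroupOf.1 ha)
      obtain ⟨x, rfl⟩ := hιs u hu
      have h1 := hTconj ℓ x
      have ht2 : μ (tAut n ℓ) * μ (tAut n ℓ) = 1 := by
        rw [← map_mul, ← map_mul, show ℓ * ℓ = 1 from
          Multiplicative.toAdd.injective (LinearMap.ext fun v => CharTwo.add_self_eq_zero _), map_one, map_one]
      show ((a ^ 2 : ↥C) : G) ∈ Z
      rw [SubgroupClass.coe_pow, hd, pow_two,
        show ι x * μ (tAut n ℓ) * (ι x * μ (tAut n ℓ)) =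
          ι x * (μ (tAut n ℓ) * ι x * (μ (tAut n ℓ))⁻¹) * (μ (tAut n ℓ) * μ (tAut n ℓ)) by group,
        h1, ht2, mul_one, ← mul_assoc, ← pow_two, hU.2 _ hu, one_mul]
      exact hzc _
    · intro a ha hcen
      refine hZzp _ (hfix _ fun q hq => ?_)
      exact (congrArg Subtype.val (mem_centralizer_iff.1 hcen ⟨q, hQ₀C hq⟩ (mem_subgroupOf.2 hq))).symm
    · let i0 : Fin n := ⟨0, hn⟩
      let ℓ : Multiplicative ((Fin n → ZMod 2) →ₗ[ZMod 2] ZMod 2) := Multiplicative.ofAdd (LinearMap.proj i0)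
      let x : A n := Multiplicative.ofAdd (Pi.single i0 1, 0)
      refine ⟨⟨μ (tAut n ℓ), hμC _ (tAut_z0 ℓ)⟩, mem_subgroupOf.2 (mem_sup_right ⟨ℓ, rfl⟩),
        ⟨ι x, hUC (hι x)⟩, mem_subgroupOf.2 (mem_sup_left (hι x)), fun h => ?_⟩
      have h1 := congrArg Subtype.val h
      rw [commutatorElement_def] at h1
      simp only [Subgroup.coe_mul, Subgroup.coe_inv, Subgroup.coe_one] at h1
      rw [hTconj, hUab _ (hι x) _ (hι _), mul_inv_cancel_right] at h1
      have h2 := congrArg (fun y : A n => y.toAdd.2) (hιi (h1.trans (map_one ι).symm))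
      simp [ℓ, x] at h2
  refine ⟨hext, hQ₀card, ⟨U, le_sup_left, hU, hUcard⟩, ?_, K, hKC, ?_, ?_, ?_⟩
  · refine CfsgLib.Spor.LargeQ.large_of_le_pCore _ hext ?_ ?_ ?_
    · rw [hcenter]
      refine le_antisymm (fun g hg => hfix g fun q hq => (mem_centralizer_iff.1 hg q hq).symm)
        fun x hx => mem_centralizer_iff.2 fun q hq => (mem_centralizer_iff.1 (hQ₀C hq) x hx).symm
    · rw [hcenter]
      intro g hg
      refine mem_normalizer_iff.2 fun q => ⟨fun hq => hQn g hg q hq, fun hq => ?_⟩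
      simpa [mul_assoc] using hQn g⁻¹ (inv_mem hg) _ hq
    · rw [hcenter]
      exact hZU.trans (CfsgLib.Coprime.le_pCore (IsPGroup.of_card hUcard))
  · rw [eq_bot_iff]
    rintro g ⟨hgQ, φ, rfl⟩
    obtain ⟨u, hu, ℓ, hd⟩ := hQ₀mem _ hgQ
    have hu1 : u = 1 := by
      have h1 : u ∈ U ⊓ M := ⟨hu, by
        have : u = (μ.comp (kAut n)) φ * (μ (tAut n ℓ))⁻¹ := by rw [hd, mul_inv_cancel_right]
        rw [this]; exact mul_mem (hμM _) (Subgroup.inv_mem _ (hμM _))⟩
      rwa [hUM, mem_bot] at h1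
    rw [hu1, one_mul] at hd
    have h2 := hμinj hd
    have hφ : φ = 1 := LinearEquiv.ext fun v => by
      have h3 := congrArg (fun α : MulAut (A n) => (α (Multiplicative.ofAdd (v, (0 : ZMod 2)))).toAdd.1) h2
      simpa [kAut_apply, tAut_apply] using h3
    rw [mem_bot, hφ, map_one]
  · refine le_antisymm (sup_le hQ₀C hKC) fun g hg => ?_
    obtain ⟨u, hu, φ, ℓ, rfl⟩ := hCdec g hg
    exact mul_mem (mem_sup_left (mem_sup_left hu))
      (mul_mem (mem_sup_right ⟨φ, rfl⟩) (mem_sup_left (mem_sup_right ⟨ℓ, rfl⟩)))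
  · exact ⟨(MonoidHom.ofInjective (f := μ.comp (kAut n)) fun a b h => kAut_injective (hμinj h)).symm.trans
      (Matrix.GeneralLinearGroup.toLin.trans
        (LinearMap.GeneralLinearGroup.generalLinearEquiv (ZMod 2) (Fin n → ZMod 2))).symm⟩

end Main

end CfsgLib.Spor.Affine
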