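/-
Perfect central extensions whose kernel is the multiplier modulo its squares are unique.
-/
import Cfsg.Agent.Lib.PGroup.SchurUniversal
import Cfsg.Prelude.Def_CaseTheorems

set_option autoImplicit false

namespace CfsgLib.Spor.CoverByExponent

open Subgroup CfsgLib.Schur

universe u v w

variable {G : Type u} [Group G] [Finite G]

/-- The squares in the multiplier. -/
noncomputable def squares (G : Type u) [Group G] : Subgroup (mult G) := (powMonoidHom 2 : mult G →* mult G).range

/-- The squares, inside the derived subgroup of the universal extension. -/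
noncomputable def squaresC (G : Type u) [Group G] : Subgroup (_root_.commutator (E G)) :=
  (squares G).map (Subgroup.inclusion (inf_le_right : mult G ≤ _root_.commutator (E G)))

instance squaresC_normal : (squaresC G).Normal := ⟨fun n hn g => by
  obtain ⟨m, hm, rfl⟩ := hn
  refine ⟨m, hm, Subtype.ext ?_⟩
  show (m : E G) = (g : E G) * (m : E G) * (g : E G)⁻¹
  rw [mem_center_iff.1 (mult_le_center G m.2) (g : E G), mul_inv_cancel_right]⟩

/-- A perfect extension with central kernel of exponent two as large as the multiplier modulo squares. -/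
theorem nonempty_equiv_quotient {L : Type v} [Group L] (τ : L →* G) (hsurj : Function.Surjective τ)
    (hker : τ.ker ≤ center L) (hperf : _root_.commutator L = ⊤) (hexp : ∀ x ∈ τ.ker, x * x = 1)
    (hcard : Nat.card τ.ker * Nat.card (squares G) = Nat.card (mult G)) :
    Nonempty (_root_.commutator (E G) ⧸ squaresC G ≃* L) := by
  obtain ⟨η, hη⟩ := exists_lift G τ hsurj hker (MonoidHom.id G)
  have hc : (_root_.commutator (E G)).map η = ⊤ :=
    (map_commutator_eq hker η (eq_top_iff.2 fun g _ => by
      obtain ⟨e, rfl⟩ := proj_surjective G g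
      exact ⟨η e, ⟨e, rfl⟩, hη e⟩)).trans hperf
  let f : _root_.commutator (E G) →* L := η.comp (_root_.commutator (E G)).subtype
  have hfs : Function.Surjective f := fun l => by
    obtain ⟨e, he, rfl⟩ := hc.ge (mem_top l)
    exact ⟨⟨e, he⟩, rfl⟩
  let r : mult G →* τ.ker := (η.comp (mult G).subtype).codRestrict τ.ker fun m => by
    rw [MonoidHom.mem_ker, MonoidHom.comp_apply, hη]
    exact m.2.1
  have hrs : Function.Surjective r := fun z => by
    have hz : (z : L) ∈ τ.ker ⊓ _root_.commutator L := mem_inf.2 ⟨z.2, by rw [hperf]; trivial⟩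
    rw [← map_mult G hker η hη] at hz
    obtain ⟨e, he, h⟩ := hz
    exact ⟨⟨e, he⟩, Subtype.ext h⟩
  have hle : squares G ≤ r.ker := by
    rintro _ ⟨x, rfl⟩
    refine Subtype.ext ?_
    show η ((x ^ 2 : mult G) : E G) = 1
    rw [SubmonoidClass.coe_pow, map_pow, pow_two]
    exact hexp _ (r x).2
  have hk : r.ker = squares G := by
    refine (eq_of_le_of_card_ge hle ?_).symm
    have h1 := Subgroup.index_ker r
    rw [MonoidHom.range_eq_top.2 hrs, Subgroup.card_top] at h1
    have h2 := Subgroup.index_mul_card r.ker
    rw [h1] at h2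
    have h3 : 0 < Nat.card τ.ker := by
      by_contra h
      rw [Nat.not_lt, Nat.le_zero] at h
      rw [h, zero_mul] at h2
      exact (Nat.card_pos (α := mult G)).ne h2
    exact (Nat.eq_of_mul_eq_mul_left h3 (h2.trans hcard.symm)).le
  have hfk : f.ker = squaresC G := by
    ext c
    constructor
    · intro hc1
      have hm : (c : E G) ∈ mult G := mem_inf.2 ⟨by
        rw [MonoidHom.mem_ker, show proj G (c : E G) = τ (η c) from (hη _).symm,
          show η (c : E G) = 1 from hc1, map_one], c.2⟩
      have h2 : (⟨c, hm⟩ : mult G) ∈ r.ker := Subtype.ext hc1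
      rw [hk] at h2
      exact ⟨⟨c, hm⟩, h2, Subtype.ext rfl⟩
    · rintro ⟨m, hm, rfl⟩
      exact congrArg Subtype.val (hle hm)
  exact ⟨(QuotientGroup.quotientMulEquivOfEq hfk.symm).trans (QuotientGroup.quotientKerEquivOfSurjective f hfs)⟩

/-- Any such quasisimple cover is the universal one modulo squares. -/
theorem nonempty_equiv_cover {A : Type w} [CommGroup A] (hA : Cfsg.HasSchurMultiplier G A) {m : ℕ}
    (hA2 : m * Nat.card (powMonoidHom 2 : A →* A).range = Nat.card A) {L : Type v} [Group L]
    (hL : Cfsg.IsQuasisimple L) (hc : Nat.card (center L) = m) (he : ∀ x ∈ center L, x * x = 1)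
    (e : L ⧸ center L ≃* G) : Nonempty (_root_.commutator (E G) ⧸ squaresC G ≃* L) := by
  obtain ⟨eA⟩ := nonempty_equiv_of_hasSchurMultiplier hA
  have hsq : Nat.card (squares G) = Nat.card (powMonoidHom 2 : A →* A).range := by
    have hmap : (powMonoidHom 2 : A →* A).range.map eA.toMonoidHom = squares G := by
      ext x
      constructor
      · rintro ⟨_, ⟨a, rfl⟩, rfl⟩
        exact ⟨eA a, (map_pow eA a 2).symm⟩
      · rintro ⟨y, rfl⟩
        exact ⟨eA.symm y ^ 2, ⟨_, rfl⟩, by simp⟩
    rw [← hmap, card_map_of_injective eA.injective]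
  let τ : L →* G := e.toMonoidHom.comp (QuotientGroup.mk' (center L))
  have hk : τ.ker = center L := by
    ext x
    rw [MonoidHom.mem_ker, show τ x = e (QuotientGroup.mk x) from rfl, map_eq_one_iff _ e.injective,
      QuotientGroup.eq_one_iff]
  refine nonempty_equiv_quotient τ (e.surjective.comp (QuotientGroup.mk'_surjective _)) hk.le
    hL.1.commutator_eq_top (fun x hx => he x (hk ▸ hx)) ?_
  rw [hk, hc, hsq, hA2]
  exact Nat.card_congr eA.toEquiv

end CfsgLib.Spor.CoverByExponent
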