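import Cfsg.Agent.Lib.Char.J2.Elements
import Cfsg.Agent.Lib.Spor.OutJTwoData
import Cfsg.Prelude.Def_KGroupFacts

/-!
The outer automorphism group of J2: an element of order seven and a suitable reflection generate, there
are two choices of the reflection for a given element of order seven, and a permutation of the blocks
exchanges them.
-/

set_option autoImplicit false
set_option maxRecDepth 10000

namespace CfsgLib.Spor.OutJTwo

open Cfsg CfsgLib.Char.J2

/-- The code of the element of order seven. -/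
def xC : ℕ := 114

/-- The code of the chosen reflection. -/
def tC : ℕ := 158463

/-- The code of the other reflection. -/
def tC' : ℕ := 159513

/-- The code of a reflection. -/
def cC (i : ℕ) : ℕ := (clsArr >>> (20 * i)) &&& (2 ^ 20 - 1)

/-- A generator acting on the reflections. -/
def pC (k i : ℕ) : ℕ := (clsPerm >>> (9 * (315 * k + i))) &&& 511

/-- The outer permutation on numbers. -/
def sN (b : ℕ) : ℕ := (sigArr >>> (7 * b)) &&& 127

/-- Its inverse on numbers. -/
def sN' (b : ℕ) : ℕ := (sigInvArr >>> (7 * b)) &&& 127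

/-- The outer permutation. -/
def sigP : Equiv.Perm (Fin 100) where
  toFun b := ⟨sN b.1 % 100, Nat.mod_lt _ (by norm_num)⟩
  invFun b := ⟨sN' b.1 % 100, Nat.mod_lt _ (by norm_num)⟩
  left_inv := by decide +kernel
  right_inv := by decide +kernel

theorem sigP_val (b : Fin 100) : (sigP b).1 = sN b.1 := by
  have h : ∀ b : Fin 100, sN b.1 % 100 = sN b.1 := by decide +kernel
  exact h b

/-! ### Transfer from the base -/

theorem el_mul_eq {a b c : ℕ} (ha : a < 604800) (hb : b < 604800) (hc : c < 604800)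
    (h : ∀ j : Fin 4, appC a (appC b (bpt j.1)) = appC c (bpt j.1)) : el a * el b = el c :=
  eq_of_base fun j => Fin.ext (by
    show ((el a).1 ((el b).1 (bP j))).1 = ((el c).1 (bP j)).1
    rw [el_apply ha, el_apply hb, el_apply hc]; exact h j)

/-- A generator. -/
noncomputable def gen (k : Fin 4) : ↥P100 := ⟨rho (gI k), ⟨_, rfl⟩⟩

theorem gen_apply (k : Fin 4) (b : Fin 100) : ((gen k).1 b).1 = gB k.1 b.1 := rho_gI k b

theorem closure_gen : Subgroup.closure (Set.range gen) = ⊤ := by
  refine eq_top_iff.2 fun g _ => ?_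
  obtain ⟨_, f, rfl⟩ := g
  have hf : f ∈ gen4 := by rw [gen4_eq_top]; trivial
  have hle : gen4 ≤ (Subgroup.closure (Set.range gen)).comap rho.rangeRestrict := by
    refine (Subgroup.closure_le _).2 ?_
    rintro _ ⟨k, rfl⟩
    exact Subgroup.subset_closure ⟨k, rfl⟩
  exact hle hf

theorem finite_P100 : Finite ↥P100 := Nat.finite_of_card_ne_zero (by rw [card_P100]; norm_num)

/-! ### The class of reflections -/

theorem cls_check : ((List.range 315).all fun i => decide (cC i < 604800) &&
    (List.range 4).all fun k => decide (pC k i < 315) && (List.range 4).all fun j =>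
      gB k (appC (cC i) (bpt j)) == appC (cC (pC k i)) (gB k (bpt j))) = true := by
  decide +kernel

theorem cls_lt {i : ℕ} (hi : i < 315) : cC i < 604800 := by
  have h := cls_check
  simp only [List.all_eq_true, List.mem_range, Bool.and_eq_true, decide_eq_true_eq, beq_iff_eq] at h
  exact (h i hi).1

/-- The reflections. -/
def refl : Set ↥P100 := {g | ∃ i < 315, el (cC i) = g}

theorem refl_conj (a : ↥P100) : ∀ g ∈ refl, a * g * a⁻¹ ∈ refl := by
  have := finite_P100
  have ha : a ∈ Submonoid.closure (Set.range gen) := by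
    rw [← Subgroup.closure_toSubmonoid_of_finite, closure_gen]
    trivial
  induction ha using Submonoid.closure_induction with
  | mem a ha =>
    obtain ⟨k, rfl⟩ := ha
    rintro g ⟨i, hi, rfl⟩
    have h := cls_check
    simp only [List.all_eq_true, List.mem_range, Bool.and_eq_true, decide_eq_true_eq, beq_iff_eq] at h
    obtain ⟨hlt, he⟩ := (h i hi).2 k.1 k.2
    refine ⟨_, hlt, ?_⟩
    rw [eq_mul_inv_iff_mul_eq]
    refine eq_of_base fun j => Fin.ext ?_
    show ((el (cC (pC k.1 i))).1 ((gen k).1 (bP j))).1 = ((gen k).1 ((el (cC i)).1 (bP j))).1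
    rw [el_apply (cls_lt hlt), gen_apply, gen_apply, el_apply (cls_lt hi)]
    exact (he j.1 j.2).symm
  | one => intro g hg; simpa using hg
  | mul a b _ _ ha hb =>
    intro g hg
    have := ha _ (hb g hg)
    simpa [mul_assoc] using this

theorem sq_mem_refl : el 49 ∈ refl := by
  have h : ((List.range 315).any fun i => (List.range 4).all fun j =>
      appC (cC i) (bpt j) == appC 49 (bpt j)) = true := by decide +kernel
  simp only [List.all_eq_true, List.any_eq_true, List.mem_range, beq_iff_eq] at h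
  obtain ⟨i, hi, h⟩ := h
  refine ⟨i, hi, eq_of_base fun j => Fin.ext ?_⟩
  rw [el_apply (cls_lt hi), el_apply (by norm_num)]
  exact h j.1 j.2

theorem sq_order_four : el 90 * el 90 = el 49 :=
  el_mul_eq (by norm_num) (by norm_num) (by norm_num) (by decide +kernel)

theorem tC_conj : el tC = el conjCode * el 49 * (el conjCode)⁻¹ := by
  rw [eq_mul_inv_iff_mul_eq]
  have h : ∀ j : Fin 4, appC tC (appC conjCode (bpt j.1)) = appC conjCode (appC 49 (bpt j.1)) := by
    decide +kernel
  refine eq_of_base fun j => Fin.ext ?_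
  show ((el tC).1 ((el conjCode).1 (bP j))).1 = ((el conjCode).1 ((el 49).1 (bP j))).1
  rw [el_apply (by decide), el_apply (by decide), el_apply (by decide), el_apply (by norm_num)]
  exact h j

/-! ### The candidates for the pair -/

/-- A power of the product with a reflection. -/
def prodIter (c : ℕ) : ℕ → ℕ → ℕ
  | 0, b => b
  | n + 1, b => appC xC (appC c (prodIter c n b))

theorem prod_pow_apply {c : ℕ} (hc : c < 604800) : ∀ (n : ℕ) (b : Fin 100),
    (((el xC * el c) ^ n).1 b).1 = prodIter c n b.1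
  | 0, b => by simp [prodIter]
  | n + 1, b => by
    rw [pow_succ', Subgroup.coe_mul, Equiv.Perm.mul_apply, Subgroup.coe_mul, Equiv.Perm.mul_apply,
      el_apply (by decide), el_apply hc, prod_pow_apply hc n b]
    rfl

theorem pair_check : ((List.range 315).all fun i =>
    !((List.range 4).all fun j => prodIter (cC i) 5 (bpt j) == bpt j) ||
    [tC, tC'].any fun t => (List.range 7).any fun k => (List.range 4).all fun j =>
      iterC xC k (appC t (bpt j)) == appC (cC i) (iterC xC k (bpt j))) = true := by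
  decide +kernel

theorem pair_five : (el xC * el tC) ^ 5 = 1 := by
  have h : ∀ j : Fin 4, prodIter tC 5 (bpt j.1) = bpt j.1 := by decide +kernel
  refine eq_of_base fun j => Fin.ext ?_
  rw [prod_pow_apply (by decide)]
  exact h j

theorem candidates {g : ↥P100} (hg : g ∈ refl) (h5 : (el xC * g) ^ 5 = 1) :
    ∃ k : ℕ, g = el xC ^ k * el tC * (el xC ^ k)⁻¹ ∨ g = el xC ^ k * el tC' * (el xC ^ k)⁻¹ := by
  obtain ⟨i, hi, rfl⟩ := hg
  have h := pair_check
  simp only [List.all_eq_true, List.any_eq_true, List.mem_range, Bool.or_eq_true, Bool.not_eq_true',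
    List.all_eq_false, beq_iff_eq] at h
  rcases h i hi with ⟨j, hj, hne⟩ | ⟨t, ht, k, hk, he⟩
  · refine absurd ?_ hne
    rw [show bpt j = (bP ⟨j, hj⟩).1 from rfl, ← prod_pow_apply (cls_lt hi), h5]
    rfl
  · refine ⟨k, ?_⟩
    have key : t < 604800 → el (cC i) = el xC ^ k * el t * (el xC ^ k)⁻¹ := by
      intro hlt
      rw [eq_mul_inv_iff_mul_eq]
      refine eq_of_base fun j => Fin.ext ?_
      show ((el (cC i)).1 (((el xC) ^ k).1 (bP j))).1 = (((el xC) ^ k).1 ((el t).1 (bP j))).1
      rw [el_apply (cls_lt hi), el_pow_apply (by decide), el_pow_apply (by decide), el_apply hlt]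
      exact (he j.1 j.2).symm
    simp only [List.mem_cons, List.not_mem_nil, or_false] at ht
    rcases ht with rfl | rfl
    · exact Or.inl (key (by decide))
    · exact Or.inr (key (by decide))

/-- The action of a word in the pair. -/
def wXT : List ℕ → ℕ → ℕ
  | [], b => b
  | i :: w, b => appC (if i = 0 then xC else tC) (wXT w b)

theorem exists_word : ∀ w : List ℕ, ∃ g ∈ Subgroup.closure ({el xC, el tC} : Set ↥P100),
    ∀ b : Fin 100, (g.1 b).1 = wXT w b.1
  | [] => ⟨1, one_mem _, fun _ => rfl⟩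
  | i :: w => by
    obtain ⟨g, hg, h⟩ := exists_word w
    refine ⟨el (if i = 0 then xC else tC) * g, mul_mem (Subgroup.subset_closure ?_) hg, fun b => ?_⟩
    · split_ifs <;> simp
    · rw [Subgroup.coe_mul, Equiv.Perm.mul_apply, el_apply (by split_ifs <;> decide), h]
      rfl

theorem closure_pair : Subgroup.closure ({el xC, el tC} : Set ↥P100) = ⊤ := by
  rw [eq_top_iff, ← closure_gen, Subgroup.closure_le]
  rintro _ ⟨k, rfl⟩
  have h : ∀ k j : Fin 4, wXT (pairWords.getD k.1 []) (bpt j.1) = gB k.1 (bpt j.1) := by decide +kernel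
  obtain ⟨g, hg, hw⟩ := exists_word (pairWords.getD k.1 [])
  have e : g = gen k := eq_of_base fun j => Fin.ext (by rw [hw, gen_apply]; exact h k j)
  exact e ▸ hg

theorem ext_pair {φ ψ : MulAut ↥P100} (hx : φ (el xC) = ψ (el xC)) (ht : φ (el tC) = ψ (el tC)) : φ = ψ := by
  have := MonoidHom.eq_of_eqOn_dense closure_pair (f := φ.toMonoidHom) (g := ψ.toMonoidHom) (by
    rintro g (rfl | rfl)
    exacts [hx, ht])
  exact MulEquiv.ext fun g => DFunLike.congr_fun this g

/-! ### The outer permutation -/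

theorem sig_check : ((List.range 4).all fun k => decide (sigGen.getD k 0 < 604800) &&
    (List.range 100).all fun b => sN (gB k b) == appC (sigGen.getD k 0) (sN b)) = true ∧
    ((List.range 100).all fun b => sN (appC xC b) == appC xC (sN b) &&
      sN (appC tC b) == appC tC' (sN b)) = true := by
  decide +kernel

theorem sig_conj (g : ↥P100) : sigP * g.1 * sigP⁻¹ ∈ P100 := by
  have hg : g ∈ Subgroup.closure (Set.range gen) := closure_gen ▸ Subgroup.mem_top g
  induction hg using Subgroup.closure_induction with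
  | mem g hg =>
    obtain ⟨k, rfl⟩ := hg
    have h := sig_check.1
    simp only [List.all_eq_true, List.mem_range, Bool.and_eq_true, decide_eq_true_eq, beq_iff_eq] at h
    obtain ⟨hlt, he⟩ := h k.1 k.2
    have e : sigP * (gen k).1 * sigP⁻¹ = (el (sigGen.getD k.1 0)).1 := by
      rw [mul_inv_eq_iff_eq_mul]
      refine Equiv.ext fun b => Fin.ext ?_
      rw [Equiv.Perm.mul_apply, Equiv.Perm.mul_apply, sigP_val, gen_apply, el_apply hlt, sigP_val]
      exact he b.1 b.2
    rw [e]
    exact SetLike.coe_mem _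
  | one => simp
  | mul a b _ _ ha hb =>
    rw [Subgroup.coe_mul, show sigP * (a.1 * b.1) * sigP⁻¹ = sigP * a.1 * sigP⁻¹ * (sigP * b.1 * sigP⁻¹) by group]
    exact mul_mem ha hb
  | inv a _ ha =>
    rw [Subgroup.coe_inv, show sigP * a.1⁻¹ * sigP⁻¹ = (sigP * a.1 * sigP⁻¹)⁻¹ by group]
    exact inv_mem ha

/-- Conjugation by the outer permutation, as a homomorphism. -/
noncomputable def sigHom : ↥P100 →* ↥P100 where
  toFun g := ⟨sigP * g.1 * sigP⁻¹, sig_conj g⟩
  map_one' := Subtype.ext (by simp)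
  map_mul' a b := Subtype.ext (by simp [mul_assoc])

theorem sigHom_bijective : Function.Bijective sigHom := by
  have := finite_P100
  refine Finite.injective_iff_bijective.1 fun a b h => Subtype.ext ?_
  have e : sigP * a.1 * sigP⁻¹ = sigP * b.1 * sigP⁻¹ := congrArg Subtype.val h
  exact mul_left_cancel (mul_right_cancel e)

/-- The outer automorphism. -/
noncomputable def sigAut : MulAut ↥P100 := MulEquiv.ofBijective sigHom sigHom_bijective

theorem sigAut_val (g : ↥P100) : (sigAut g).1 = sigP * g.1 * sigP⁻¹ := rfl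

theorem sigAut_el {a c : ℕ} (ha : a < 604800) (hc : c < 604800)
    (h : ∀ b < 100, sN (appC a b) = appC c (sN b)) : sigAut (el a) = el c := by
  refine Subtype.ext ?_
  rw [sigAut_val, mul_inv_eq_iff_eq_mul]
  refine Equiv.ext fun b => Fin.ext ?_
  rw [Equiv.Perm.mul_apply, Equiv.Perm.mul_apply, sigP_val, el_apply ha, el_apply hc, sigP_val]
  exact h b.1 b.2

theorem sigAut_xC : sigAut (el xC) = el xC := by
  have h := sig_check.2
  simp only [List.all_eq_true, List.mem_range, Bool.and_eq_true, beq_iff_eq] at h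
  exact sigAut_el (by decide) (by decide) fun b hb => (h b hb).1

theorem sigAut_tC : sigAut (el tC) = el tC' := by
  have h := sig_check.2
  simp only [List.all_eq_true, List.mem_range, Bool.and_eq_true, beq_iff_eq] at h
  exact sigAut_el (by decide) (by decide) fun b hb => (h b hb).2

theorem top0_apply {n : ℕ} (hn : n < 100) (b : Fin 100) : ((top0 n).1 b).1 = tA 0 n b.1 := by
  rw [top0]
  refine (tr0_apply ⟨n % 100, Nat.mod_lt _ (by norm_num)⟩ b).trans ?_
  rw [Fin.val_mk, Nat.mod_eq_of_lt hn]

theorem exists_to (b : Fin 100) : ∃ g : ↥P100, g.1 0 = b := by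
  have h := sub_check
  simp only [List.all_eq_true, List.mem_range, Bool.and_eq_true, decide_eq_true_eq] at h
  obtain ⟨⟨⟨-, hh⟩, hs⟩, he⟩ := h b.1 b.2
  refine ⟨el (subOrbit.getD b.1 (0, 0)).2 * top0 (subRep.getD (subOrbit.getD b.1 (0, 0)).1 0), Fin.ext ?_⟩
  rw [Subgroup.coe_mul, Equiv.Perm.mul_apply, el_apply (by omega), top0_apply hs]
  exact he

theorem centralizer_trivial {π : Equiv.Perm (Fin 100)} (h : ∀ g : ↥P100, g.1 * π = π * g.1) : π = 1 := by
  have hmove : ∀ b : Fin 100, b.1 = 0 ∨ appC 1 b.1 ≠ b.1 ∨ appC 114 b.1 ≠ b.1 := by decide +kernel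
  have hfix : ∀ e < 6048, appC e (π 0).1 = (π 0).1 := by
    intro e he
    rw [← el_apply (by omega), ← Equiv.Perm.mul_apply, h, Equiv.Perm.mul_apply, el_fix_zero he]
  have h0 : π 0 = 0 := by
    refine Fin.ext ?_
    rcases hmove (π 0) with h1 | h1 | h1
    · exact h1
    · exact absurd (hfix 1 (by norm_num)) h1
    · exact absurd (hfix 114 (by norm_num)) h1
  refine Equiv.ext fun b => ?_
  obtain ⟨g, rfl⟩ := exists_to b
  rw [← Equiv.Perm.mul_apply, ← h g, Equiv.Perm.mul_apply, h0]
  rfl

theorem sigP_not_mem : sigP ∉ P100 := by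
  intro hmem
  have hs : sN 0 = tA 0 sigTop 0 ∧ sigTop < 100 := by decide +kernel
  have hno : ((List.range 6048).all fun e => !((List.range 100).all fun j =>
      tA 0 sigTop (appC e j) == sN j)) = true := by decide +kernel
  simp only [List.all_eq_true, List.mem_range, Bool.not_eq_true', List.all_eq_false, beq_iff_eq] at hno
  have htop : ∀ b : Fin 100, ((top0 sigTop).1 b).1 = tA 0 sigTop b.1 := top0_apply hs.2
  have h0 : sigP 0 = (top0 sigTop).1 0 := Fin.ext (by rw [sigP_val, htop]; exact hs.1)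
  obtain ⟨e, he, hk⟩ := exists_el_of_fix (g := (top0 sigTop)⁻¹ * ⟨sigP, hmem⟩) (by
    show (top0 sigTop).1⁻¹ (sigP 0) = 0
    rw [h0]
    simp)
  obtain ⟨j, hj, hne⟩ := hno e he
  refine hne ?_
  have hval : top0 sigTop * el e = ⟨sigP, hmem⟩ := by rw [hk, mul_inv_cancel_left]
  have := congrArg (fun g : ↥P100 => (g.1 ⟨j, hj⟩).1) hval
  simp only [Subgroup.coe_mul, Equiv.Perm.mul_apply, htop, sigP_val, el_apply (show e < 604800 by omega)] at this
  exact this

theorem sigAut_not_inn : sigAut ∉ Inn ↥P100 := by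
  rintro ⟨a, ha⟩
  have h : ∀ g : ↥P100, g.1 * (a.1⁻¹ * sigP) = (a.1⁻¹ * sigP) * g.1 := by
    intro g
    have e : a.1 * g.1 * a.1⁻¹ = sigP * g.1 * sigP⁻¹ := by
      rw [← sigAut_val, ← ha]
      rfl
    calc g.1 * (a.1⁻¹ * sigP) = a.1⁻¹ * (a.1 * g.1 * a.1⁻¹) * sigP := by group
      _ = a.1⁻¹ * (sigP * g.1 * sigP⁻¹) * sigP := by rw [e]
      _ = a.1⁻¹ * sigP * g.1 := by group
  have := centralizer_trivial h
  rw [inv_mul_eq_one] at this
  exact sigP_not_mem (this ▸ a.2)

/-! ### Every automorphism -/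

theorem conj_of_order {g : ↥P100} {n r : ℕ} (hg : orderOf g = n)
    (h : ∀ s < 21, classOrders.getD s 0 = n → s = r) : ∃ c : ↥P100, c * el (repC r) * c⁻¹ = g := by
  obtain ⟨s, hs, c, rfl⟩ := exists_conj_rep g
  rw [← MulAut.conj_apply, MulEquiv.orderOf_eq, orderOf_rep hs] at hg
  exact ⟨c, by rw [h s hs hg]⟩

theorem rep_codes : repC 7 = xC ∧ repC 1 = 90 ∧ classOrders.getD 7 0 = 7 ∧ classOrders.getD 1 0 = 4 ∧
    ((List.range 21).all fun s => (classOrders.getD s 0 != 7 || s == 7) &&
      (classOrders.getD s 0 != 4 || s == 1)) = true := by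
  decide +kernel

theorem inn_or (φ : MulAut ↥P100) : φ ∈ Inn ↥P100 ∨ φ * sigAut⁻¹ ∈ Inn ↥P100 := by
  obtain ⟨h7, h1, o7, o4, hu⟩ := rep_codes
  simp only [List.all_eq_true, List.mem_range, Bool.and_eq_true, Bool.or_eq_true, bne_iff_ne, ne_eq,
    beq_iff_eq] at hu
  obtain ⟨c, hc⟩ := conj_of_order (g := φ (el xC)) (r := 7) rfl fun s hs e => by
    rw [MulEquiv.orderOf_eq, ← h7, orderOf_rep (by norm_num), o7] at e
    exact (hu s hs).1.resolve_left (fun hn => hn e)
  rw [h7] at hc
  set ψ := (MulAut.conj c)⁻¹ * φ with hψ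
  have hψx : ψ (el xC) = el xC := by
    rw [hψ, MulAut.mul_apply, ← hc, ← MulAut.conj_apply, MulAut.inv_apply, MulEquiv.symm_apply_apply]
  have hψt : ψ (el tC) ∈ refl := by
    rw [tC_conj, map_mul, map_mul, map_inv]
    refine refl_conj _ _ ?_
    obtain ⟨d, hd⟩ := conj_of_order (g := ψ (el 90)) (r := 1) rfl fun s hs e => by
      rw [MulEquiv.orderOf_eq, ← h1, orderOf_rep (by norm_num), o4] at e
      exact (hu s hs).2.resolve_left (fun hn => hn e)
    rw [← sq_order_four, map_mul, ← hd, h1,
      show d * el 90 * d⁻¹ * (d * el 90 * d⁻¹) = d * (el 90 * el 90) * d⁻¹ by group, sq_order_four]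
    exact refl_conj _ _ sq_mem_refl
  obtain ⟨k, hk⟩ := candidates hψt (by
    have := congrArg ψ pair_five
    rwa [map_pow, map_mul, map_one, hψx] at this)
  have hmem : ψ ∈ Inn ↥P100 ∨ ψ * sigAut⁻¹ ∈ Inn ↥P100 := by
    rcases hk with hk | hk
    · exact Or.inl ⟨el xC ^ k, (ext_pair (by rw [hψx, MulAut.conj_apply]; group)
        (by rw [hk, MulAut.conj_apply])).symm⟩
    · refine Or.inr ⟨el xC ^ k, ?_⟩
      have e : ψ = MulAut.conj (el xC ^ k) * sigAut := ext_pair
        (by rw [hψx, MulAut.mul_apply, sigAut_xC, MulAut.conj_apply]; group)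
        (by rw [hk, MulAut.mul_apply, sigAut_tC, MulAut.conj_apply])
      rw [e, mul_inv_cancel_right]
  have hφ : φ = MulAut.conj c * ψ := by rw [hψ, mul_inv_cancel_left]
  rcases hmem with h | h
  · exact Or.inl (hφ ▸ mul_mem ⟨c, rfl⟩ h)
  · exact Or.inr (by rw [hφ, mul_assoc]; exact mul_mem ⟨c, rfl⟩ h)

theorem out_P100 : Nat.card (Out ↥P100) = 2 := by
  change (Inn ↥P100).index = 2
  refine Subgroup.index_eq_two_iff.2 ⟨sigAut⁻¹, fun b => ?_⟩
  have hσ : sigAut⁻¹ ∉ Inn ↥P100 := fun h => sigAut_not_inn (inv_mem_iff.1 h)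
  rcases inn_or b with hb | hb
  · exact Or.inr ⟨hb, fun hc => hσ ((Subgroup.mul_mem_cancel_left _ hb).1 hc)⟩
  · exact Or.inl ⟨hb, fun hc => hσ ((Subgroup.mul_mem_cancel_left _ hc).1 hb)⟩

/-- Isomorphic groups have outer automorphism groups of the same order. -/
theorem out_card_congr {G H : Type*} [Group G] [Group H] (e : G ≃* H) :
    Nat.card (Out G) = Nat.card (Out H) := by
  change (Inn G).index = (Inn H).index
  have hm : (Inn G).map (MulAut.congr e).toMonoidHom = Inn H := by
    rw [Inn, Inn, MonoidHom.map_range]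
    have hc : (MulAut.congr e).toMonoidHom.comp MulAut.conj = MulAut.conj.comp e.toMonoidHom := by
      ext g x
      simp [MulAut.congr]
    rw [hc, MonoidHom.range_comp, MonoidHom.range_eq_top.2 e.surjective, ← MonoidHom.range_eq_map]
  rw [← hm]
  exact (Subgroup.index_map_equiv (H := Inn G) (MulAut.congr e)).symm

theorem out_J2 : Nat.card (Out Spor.J2) = 2 := (out_card_congr equivP100).trans out_P100

end CfsgLib.Spor.OutJTwo
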