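/-
Counting involutions in sharply multiply transitive groups.
-/
import Mathlib

set_option autoImplicit false

namespace CfsgLib.Spor.SharplyCount

open MulAction

variable {α : Type*} [Fintype α] [DecidableEq α]

/-- The number of ways to choose `r` ordered two-cycles inside `w` moved points. -/
def sw : ℕ → ℕ → ℕ
  | _, 0 => 1
  | w, r + 1 => w * sw (w - 2) r

/-- Ordered choices of first points of `r` distinct two-cycles of `g` inside `W`. -/
def tup (g : Equiv.Perm α) : Finset α → (r : ℕ) → Finset (Fin r → α)
  | _, 0 => Finset.univ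
  | W, r + 1 => W.biUnion fun a => (tup g (W \ {a, g a}) r).image fun y => Fin.cons a y

variable {g : Equiv.Perm α}

theorem sdiff_invariant {W : Finset α} (hg : ∀ a, g (g a) = a) (hW : ∀ a ∈ W, g a ∈ W) (b : α) :
    ∀ a ∈ W \ {b, g b}, g a ∈ W \ {b, g b} := by
  intro a ha
  simp only [Finset.mem_sdiff, Finset.mem_insert, Finset.mem_singleton] at ha ⊢
  refine ⟨hW a ha.1, ?_⟩
  rintro (e | e)
  · exact ha.2 (Or.inr (by rw [← e, hg]))
  · exact ha.2 (Or.inl (g.injective e))

theorem card_sdiff_pair {W : Finset α} (hW : ∀ a ∈ W, g a ∈ W) (hne : ∀ a ∈ W, g a ≠ a) {b : α}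
    (hb : b ∈ W) : (W \ {b, g b}).card = W.card - 2 := by
  rw [Finset.card_sdiff_of_subset (fun x hx => ?_), Finset.card_pair (hne b hb).symm]
  simp only [Finset.mem_insert, Finset.mem_singleton] at hx
  rcases hx with rfl | rfl
  · exact hb
  · exact hW b hb

theorem card_tup (hg : ∀ a, g (g a) = a) : ∀ (r : ℕ) (W : Finset α), (∀ a ∈ W, g a ∈ W) →
    (∀ a ∈ W, g a ≠ a) → (tup g W r).card = sw W.card r := by
  intro r
  induction r with
  | zero => intro W _ _; simp [tup, sw]
  | succ r ih =>
    intro W hW hne
    rw [tup, Finset.card_biUnion]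
    · rw [sw, ← smul_eq_mul, ← Finset.sum_const]
      refine Finset.sum_congr rfl fun a ha => ?_
      rw [Finset.card_image_of_injective _ (Fin.cons_right_injective (α := fun _ => α) a),
        ih _ (sdiff_invariant hg hW a) (fun b hb => hne b (Finset.mem_sdiff.1 hb).1),
        card_sdiff_pair hW hne ha]
    · intro a _ b _ hab
      rw [Function.onFun, Finset.disjoint_left]
      intro y h1 h2
      obtain ⟨_, _, rfl⟩ := Finset.mem_image.1 h1
      obtain ⟨_, _, e⟩ := Finset.mem_image.1 h2
      have h0 := congrFun e 0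
      simp only [Fin.cons_zero] at h0
      exact hab h0.symm

theorem mem_tup (hg : ∀ a, g (g a) = a) : ∀ (r : ℕ) (W : Finset α) (y : Fin r → α),
    y ∈ tup g W r ↔ ∀ i, y i ∈ W ∧ ∀ j, j ≠ i → y j ≠ y i ∧ y j ≠ g (y i) := by
  intro r
  induction r with
  | zero => intro W y; exact ⟨fun _ i => i.elim0, fun _ => Finset.mem_univ _⟩
  | succ r ih =>
    intro W y
    rw [tup, Finset.mem_biUnion]
    constructor
    · rintro ⟨a, ha, h⟩
      obtain ⟨z, hz, rfl⟩ := Finset.mem_image.1 h
      rw [ih] at hz
      intro i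
      cases i using Fin.cases with
      | zero =>
        refine ⟨by simpa using ha, fun j hj => ?_⟩
        cases j using Fin.cases with
        | zero => exact absurd rfl hj
        | succ j =>
          have := (Finset.mem_sdiff.1 (hz j).1).2
          simp only [Finset.mem_insert, Finset.mem_singleton, not_or] at this
          simpa using this
      | succ i =>
        obtain ⟨h1, h2⟩ := hz i
        obtain ⟨h1a, h1b⟩ := Finset.mem_sdiff.1 h1
        simp only [Finset.mem_insert, Finset.mem_singleton, not_or] at h1b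
        refine ⟨by simpa using h1a, fun j hj => ?_⟩
        cases j using Fin.cases with
        | zero =>
          simp only [Fin.cons_zero, Fin.cons_succ]
          exact ⟨fun e => h1b.1 e.symm, fun e => h1b.2 (by rw [e, hg])⟩
        | succ j =>
          simp only [Fin.cons_succ]
          exact h2 j (fun e => hj (by rw [e]))
    · intro h
      refine ⟨y 0, (h 0).1, Finset.mem_image.2 ⟨Fin.tail y, ?_, Fin.cons_self_tail y⟩⟩
      rw [ih]
      intro i
      refine ⟨Finset.mem_sdiff.2 ⟨(h i.succ).1, ?_⟩, fun j hj => ?_⟩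
      · simp only [Finset.mem_insert, Finset.mem_singleton, not_or]
        exact (h 0).2 i.succ (Fin.succ_ne_zero i)
      · exact (h i.succ).2 j.succ (fun e => hj (Fin.succ_injective _ e))

/-- An invariant set without fixed points has even cardinality. -/
theorem even_card (hg : ∀ a, g (g a) = a) : ∀ W : Finset α, (∀ a ∈ W, g a ∈ W) →
    (∀ a ∈ W, g a ≠ a) → Even W.card := by
  intro W
  induction W using Finset.strongInduction with
  | _ W ih =>
    intro hW hne
    rcases W.eq_empty_or_nonempty with rfl | ⟨b, hb⟩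
    · simp
    have hss : W \ {b, g b} ⊂ W :=
      Finset.ssubset_iff_subset_ne.2 ⟨Finset.sdiff_subset, fun e => by
        have := e.symm ▸ hb
        simp at this⟩
    obtain ⟨k, hk⟩ := ih _ hss (sdiff_invariant hg hW b) (fun a ha => hne a (Finset.mem_sdiff.1 ha).1)
    rw [card_sdiff_pair hW hne hb] at hk
    have h2 : 2 ≤ W.card := by
      rw [← Finset.card_pair (hne b hb).symm]
      refine Finset.card_le_card fun x hx => ?_
      simp only [Finset.mem_insert, Finset.mem_singleton] at hx
      rcases hx with rfl | rfl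
      · exact hb
      · exact hW b hb
    exact ⟨k + 1, by omega⟩

/-- The fixed points of a permutation. -/
def fixP (g : Equiv.Perm α) : Finset α := Finset.univ.filter fun a => g a = a

/-- The moved points of a permutation. -/
def movP (g : Equiv.Perm α) : Finset α := Finset.univ.filter fun a => g a ≠ a

theorem card_fix_add_mov (g : Equiv.Perm α) : (fixP g).card + (movP g).card = Fintype.card α :=
  Finset.card_filter_add_card_filter_not _

theorem mov_invariant (hg : ∀ a, g (g a) = a) : ∀ a ∈ movP g, g a ∈ movP g := by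
  intro a ha
  simp only [movP, Finset.mem_filter, Finset.mem_univ, true_and] at ha ⊢
  exact fun e => ha (g.injective e)

/-- Embeddings following the pattern of `s` fixed points and `r` two-cycles of `g`. -/
noncomputable def pattern (g : Equiv.Perm α) (s r : ℕ) : Finset (Fin s ⊕ Fin r × Bool ↪ α) :=
  Finset.univ.filter fun x => (∀ i, g (x (Sum.inl i)) = x (Sum.inl i)) ∧
    ∀ j b, g (x (Sum.inr (j, b))) = x (Sum.inr (j, !b))

theorem card_pattern (hg : ∀ a, g (g a) = a) (s r : ℕ) :
    (pattern g s r).card = (fixP g).card.descFactorial s * sw (movP g).card r := by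
  rw [← card_tup hg r (movP g) (mov_invariant hg) (fun a ha => (Finset.mem_filter.1 ha).2)]
  have hc : Fintype.card (Fin s ↪ ↥(fixP g)) = (fixP g).card.descFactorial s := by
    rw [Fintype.card_embedding_eq, Fintype.card_coe, Fintype.card_fin]
  rw [← hc, ← Fintype.card_coe (tup g (movP g) r), ← Fintype.card_prod, ← Fintype.card_coe (pattern g s r)]
  have hmem : ∀ x : pattern g s r, (∀ i, g (x.1 (Sum.inl i)) = x.1 (Sum.inl i)) ∧
      ∀ j b, g (x.1 (Sum.inr (j, b))) = x.1 (Sum.inr (j, !b)) := fun x => (Finset.mem_filter.1 x.2).2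
  refine Fintype.card_congr
    { toFun := fun x => (⟨fun i => ⟨x.1 (Sum.inl i), Finset.mem_filter.2 ⟨Finset.mem_univ _, (hmem x).1 i⟩⟩,
          fun i j h => Sum.inl_injective (x.1.injective (congrArg Subtype.val h))⟩,
        ⟨fun j => x.1 (Sum.inr (j, true)), (mem_tup hg r _ _).2 fun i => ⟨Finset.mem_filter.2 ⟨Finset.mem_univ _, fun e => by
            rw [(hmem x).2] at e
            simpa using x.1.injective e⟩, fun j hj => ⟨fun e => hj (by simpa using x.1.injective e), fun e => by
            rw [(hmem x).2] at e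
            simpa using x.1.injective e⟩⟩⟩)
      invFun := fun p => ⟨⟨Sum.elim (fun i => (p.1 i : α))
          (fun jb => bif jb.2 then p.2.1 jb.1 else g (p.2.1 jb.1)), ?_⟩, ?_⟩
      left_inv := ?_
      right_inv := ?_ }
  · have hp := (mem_tup hg r _ _).1 p.2.2
    have hf : ∀ i, g (p.1 i : α) = p.1 i := fun i => (Finset.mem_filter.1 (p.1 i).2).2
    have hm : ∀ i, g (p.2.1 i) ≠ p.2.1 i := fun i => (Finset.mem_filter.1 (hp i).1).2
    rintro (i | ⟨i, b⟩) (j | ⟨j, c⟩) h <;> simp only [Sum.elim_inl, Sum.elim_inr] at h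
    · rw [p.1.injective (Subtype.ext h)]
    · exfalso
      have h1 := hf i
      cases c <;> simp only [cond_true, cond_false] at h <;> rw [h] at h1
      · rw [hg] at h1; exact hm j h1.symm
      · exact hm j h1
    · exfalso
      have h1 := hf j
      cases b <;> simp only [cond_true, cond_false] at h <;> rw [← h] at h1
      · rw [hg] at h1; exact hm i h1.symm
      · exact hm i h1
    · by_cases hij : j = i
      · subst hij
        cases b <;> cases c <;> simp only [cond_true, cond_false] at h
        · rfl
        · exact absurd h (hm j)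
        · exact absurd h.symm (hm j)
        · rfl
      · obtain ⟨h1, h2⟩ := (hp i).2 j hij
        cases b <;> cases c <;> simp only [cond_true, cond_false] at h
        · exact absurd (g.injective h).symm h1
        · exact absurd h.symm h2
        · exact absurd (by rw [h, hg]) h2
        · exact absurd h.symm h1
  · refine Finset.mem_filter.2 ⟨Finset.mem_univ _, fun i => ?_, fun j b => ?_⟩
    · exact (Finset.mem_filter.1 (p.1 i).2).2
    · cases b
      · exact hg _
      · rfl
  · intro x
    refine Subtype.ext (Function.Embedding.ext fun i => ?_)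
    rcases i with i | ⟨j, b⟩
    · rfl
    · cases b
      · exact ((hmem x).2 j true)
      · rfl
  · intro p
    rfl

variable {G : Subgroup (Equiv.Perm α)}

/-- The nontrivial elements of order two. -/
noncomputable def invols (G : Subgroup (Equiv.Perm α)) : Finset G :=
  haveI := Fintype.ofFinite G
  Finset.univ.filter fun g => g ≠ 1 ∧ g * g = 1

theorem mem_invols {g : G} : g ∈ invols G ↔ g ≠ 1 ∧ g * g = 1 := by
  simp [invols]

theorem invol_apply {g : G} (hg : g ∈ invols G) (a : α) : (g : Equiv.Perm α) ((g : Equiv.Perm α) a) = a := by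
  have := congrArg (fun h : G => (h : Equiv.Perm α) a) (mem_invols.1 hg).2
  simpa using this

variable {k : ℕ}

theorem fix_lt [IsMultiplyPretransitive G α k] (hsharp : ∀ x : Fin k ↪ α, stabilizer G x = ⊥)
    {g : G} (hg : g ≠ 1) : (fixP (g : Equiv.Perm α)).card < k := by
  by_contra h
  rw [not_lt] at h
  obtain ⟨e⟩ : Nonempty (Fin k ↪ ↥(fixP (g : Equiv.Perm α))) :=
    Function.Embedding.nonempty_of_card_le (by rwa [Fintype.card_fin, Fintype.card_coe])
  have hmem : g ∈ stabilizer G (e.trans (Function.Embedding.subtype _)) :=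
    Function.Embedding.ext fun i => (Finset.mem_filter.1 (e i).2).2
  rw [hsharp, Subgroup.mem_bot] at hmem
  exact hg hmem

theorem fix_parity {g : G} (hg : g ∈ invols G) :
    (fixP (g : Equiv.Perm α)).card % 2 = Fintype.card α % 2 := by
  obtain ⟨j, hj⟩ := even_card (invol_apply hg) (movP (g : Equiv.Perm α)) (mov_invariant (invol_apply hg))
    (fun a ha => (Finset.mem_filter.1 ha).2)
  have := card_fix_add_mov (g : Equiv.Perm α)
  omega

/-- The counting identity. -/
theorem sum_eq [IsMultiplyPretransitive G α k] (hsharp : ∀ x : Fin k ↪ α, stabilizer G x = ⊥)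
    (s r : ℕ) (hr : 0 < r) (hk : s + r * 2 = k) :
    ∑ g ∈ invols G, (fixP (g : Equiv.Perm α)).card.descFactorial s * sw (movP (g : Equiv.Perm α)).card r =
      (Fintype.card α).descFactorial k := by
  let e : Fin k ≃ Fin s ⊕ Fin r × Bool := Fintype.equivOfCardEq (by simp [hk])
  let π : (Fin s ⊕ Fin r × Bool) ≃ (Fin s ⊕ Fin r × Bool) :=
    Equiv.sumCongr (Equiv.refl _) (Equiv.prodCongr (Equiv.refl _) Equiv.boolNot)
  have hrep : ∀ x : Fin s ⊕ Fin r × Bool ↪ α, ∃! g : G, g ∈ invols G ∧ x ∈ pattern (g : Equiv.Perm α) s r := by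
    intro x
    obtain ⟨g, hg⟩ := exists_smul_eq (M := G) (e.toEmbedding.trans x) (e.toEmbedding.trans (π.toEmbedding.trans x))
    have hgx : ∀ i, (g : Equiv.Perm α) (x i) = x (π i) := fun i => by
      have := congrArg (fun f : Fin k ↪ α => f (e.symm i)) hg
      simp at this
      exact this
    have uniq : ∀ h : G, (∀ i, (h : Equiv.Perm α) (x i) = x i) → h = 1 := fun h hh => by
      have hm : h ∈ stabilizer G (e.toEmbedding.trans x) := Function.Embedding.ext fun i => hh (e i)
      rwa [hsharp, Subgroup.mem_bot] at hm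
    have hππ : ∀ i, π (π i) = i := by rintro (i | ⟨j, b⟩) <;> simp [π]
    refine ⟨g, ⟨mem_invols.2 ⟨?_, uniq _ fun i => ?_⟩, Finset.mem_filter.2 ⟨Finset.mem_univ _,
      fun i => hgx (Sum.inl i), fun j b => hgx (Sum.inr (j, b))⟩⟩, ?_⟩
    · intro h1
      have h2 := hgx (Sum.inr (⟨0, hr⟩, true))
      rw [h1] at h2
      simpa [π] using x.injective h2
    · show (g : Equiv.Perm α) ((g : Equiv.Perm α) (x i)) = x i
      rw [hgx, hgx, hππ]
    · rintro h ⟨-, hh⟩
      obtain ⟨h1, h2⟩ := (Finset.mem_filter.1 hh).2
      refine (inv_mul_eq_one.1 (uniq (g⁻¹ * h) fun i => ?_)).symm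
      have hhx : (h : Equiv.Perm α) (x i) = x (π i) := by
        rcases i with i | ⟨j, b⟩
        · exact h1 i
        · exact h2 j b
      show (g : Equiv.Perm α)⁻¹ ((h : Equiv.Perm α) (x i)) = x i
      rw [hhx, ← hgx, Equiv.Perm.inv_def, Equiv.symm_apply_apply]
  calc ∑ g ∈ invols G, (fixP (g : Equiv.Perm α)).card.descFactorial s * sw (movP (g : Equiv.Perm α)).card r
      = ∑ g ∈ invols G, (pattern (g : Equiv.Perm α) s r).card :=
        Finset.sum_congr rfl fun g hg => (card_pattern (invol_apply hg) s r).symm
    _ = ((invols G).biUnion fun g : G => pattern (g : Equiv.Perm α) s r).card := by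
        rw [Finset.card_biUnion]
        intro g hg g' hg' hne
        rw [Function.onFun, Finset.disjoint_left]
        exact fun x hx hx' => hne ((hrep x).unique ⟨hg, hx⟩ ⟨hg', hx'⟩)
    _ = Fintype.card (Fin s ⊕ Fin r × Bool ↪ α) := by
        rw [← Finset.card_univ]
        congr 1
        refine Finset.eq_univ_of_forall fun x => ?_
        obtain ⟨g, hg, -⟩ := hrep x
        exact Finset.mem_biUnion.2 ⟨g, hg⟩
    _ = _ := by simp [Fintype.card_embedding_eq, hk]

end CfsgLib.Spor.SharplyCount
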