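/-
The degrees of sharply four- and more fold transitive groups.
-/
import Cfsg.Agent.Lib.Spor.SharplyCount

set_option autoImplicit false

namespace CfsgLib.Spor.SharplyCount

open MulAction

variable {α : Type*} [Fintype α] [DecidableEq α] {G : Subgroup (Equiv.Perm α)}

/-- The number of involutions with a given number of fixed points. -/
noncomputable def numFix (G : Subgroup (Equiv.Perm α)) (f : ℕ) : ℕ :=
  ((invols G).filter fun g : G => (fixP (g : Equiv.Perm α)).card = f).card

theorem sum_by_fix (w : ℕ → ℕ) (S : Finset ℕ) (hS : ∀ g ∈ invols G, (fixP (g : Equiv.Perm α)).card ∈ S) :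
    ∑ g ∈ invols G, w (fixP (g : Equiv.Perm α)).card = ∑ f ∈ S, numFix G f * w f := by
  rw [← Finset.sum_fiberwise_of_maps_to hS fun g : G => w (fixP (g : Equiv.Perm α)).card]
  refine Finset.sum_congr rfl fun f _ => ?_
  rw [Finset.sum_congr rfl fun g hg => congrArg w (Finset.mem_filter.1 hg).2, Finset.sum_const, smul_eq_mul, numFix]

theorem counting {k : ℕ} [IsMultiplyPretransitive G α k] (hsharp : ∀ x : Fin k ↪ α, stabilizer G x = ⊥)
    (s r : ℕ) (hr : 0 < r) (hk : s + r * 2 = k) (S : Finset ℕ)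
    (hS : ∀ f, f < k → f % 2 = Fintype.card α % 2 → f ∈ S) :
    ∑ f ∈ S, numFix G f * (f.descFactorial s * sw (Fintype.card α - f) r) =
      (Fintype.card α).descFactorial k := by
  rw [← sum_eq hsharp s r hr hk, ← sum_by_fix (G := G) (fun f => f.descFactorial s * sw (Fintype.card α - f) r) S
    fun g hg => hS _ (fix_lt hsharp (mem_invols.1 hg).1) (fix_parity hg)]
  refine Finset.sum_congr rfl fun g _ => ?_
  rw [← card_fix_add_mov (g : Equiv.Perm α), Nat.add_sub_cancel_left]

theorem dvd_numFix_one [IsPretransitive G α] : Fintype.card α ∣ numFix G 1 := by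
  classical
  set F := (invols G).filter fun g : G => (fixP (g : Equiv.Perm α)).card = 1
  let fibre : α → Finset G := fun a => F.filter fun g => (g : Equiv.Perm α) a = a
  have hmemF : ∀ g, g ∈ F ↔ g ∈ invols G ∧ (fixP (g : Equiv.Perm α)).card = 1 := fun g => Finset.mem_filter
  have hconj : ∀ (t : G) (g : G), g ∈ F → t * g * t⁻¹ ∈ F := by
    intro t g hg
    rw [hmemF, mem_invols] at hg ⊢
    refine ⟨⟨fun e => hg.1.1 (by rwa [mul_inv_eq_one, mul_eq_left] at e), ?_⟩, ?_⟩
    · rw [show t * g * t⁻¹ * (t * g * t⁻¹) = t * (g * g) * t⁻¹ by group, hg.1.2, mul_one, mul_inv_cancel]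
    · rw [← hg.2]
      refine Finset.card_bij (fun a _ => (t : Equiv.Perm α)⁻¹ a) (fun a ha => ?_) (fun a _ b _ h => (Equiv.injective _) h)
        (fun b hb => ⟨(t : Equiv.Perm α) b, ?_, Equiv.symm_apply_apply _ b⟩)
      · simp only [fixP, Finset.mem_filter, Finset.mem_univ, true_and, Subgroup.coe_mul, Subgroup.coe_inv,
          Equiv.Perm.mul_apply] at ha ⊢
        exact (Equiv.eq_symm_apply _).2 (Finset.mem_filter.1 ha).2
      · simp only [fixP, Finset.mem_filter, Finset.mem_univ, true_and, Subgroup.coe_mul, Subgroup.coe_inv,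
          Equiv.Perm.mul_apply, Equiv.Perm.inv_def] at hb ⊢
        refine Finset.mem_filter.2 ⟨Finset.mem_univ _, ?_⟩
        rw [Equiv.symm_apply_apply, hb]
  have hle : ∀ a b : α, (fibre a).card ≤ (fibre b).card := by
    intro a b
    obtain ⟨t, ht⟩ := exists_smul_eq G a b
    refine Finset.card_le_card_of_injOn (fun g => t * g * t⁻¹) (fun g hg => ?_) (fun g _ g' _ h => ?_)
    · simp only [fibre, Finset.mem_coe, Finset.mem_filter] at hg ⊢
      refine ⟨hconj t g hg.1, ?_⟩
      have ht' : (t : Equiv.Perm α) a = b := ht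
      show (t : Equiv.Perm α) ((g : Equiv.Perm α) ((t : Equiv.Perm α)⁻¹ b)) = b
      rw [← ht', Equiv.Perm.inv_def, Equiv.symm_apply_apply, hg.2]
    · exact mul_left_cancel (mul_right_cancel h)
  rcases isEmpty_or_nonempty α with h0 | ⟨⟨a⟩⟩
  · have : numFix G 1 = 0 := Finset.card_eq_zero.2 (Finset.filter_eq_empty_iff.2 fun g _ e => by
      obtain ⟨x, -⟩ := Finset.card_eq_one.1 e
      exact h0.false x)
    rw [this]; exact dvd_zero _
  refine ⟨(fibre a).card, ?_⟩
  have hun : F = Finset.univ.biUnion fibre := by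
    refine Finset.ext fun g => ⟨fun hg => ?_, fun hg => ?_⟩
    · obtain ⟨x, hx⟩ := Finset.card_eq_one.1 ((hmemF g).1 hg).2
      refine Finset.mem_biUnion.2 ⟨x, Finset.mem_univ x, Finset.mem_filter.2 ⟨hg, ?_⟩⟩
      have hxm : x ∈ fixP (g : Equiv.Perm α) := by rw [hx]; exact Finset.mem_singleton_self x
      exact (Finset.mem_filter.1 hxm).2
    · obtain ⟨x, -, hx⟩ := Finset.mem_biUnion.1 hg
      exact (Finset.mem_filter.1 hx).1
  rw [show numFix G 1 = F.card from rfl, hun, Finset.card_biUnion, Finset.sum_congr rfl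
    (fun b _ => le_antisymm (hle b a) (hle a b)), Finset.sum_const, smul_eq_mul, Finset.card_univ]
  intro x _ y _ hxy
  rw [Function.onFun, Finset.disjoint_left]
  intro g hx hy
  simp only [fibre, Finset.mem_filter] at hx hy
  obtain ⟨z, hz⟩ := Finset.card_eq_one.1 ((hmemF g).1 hx.1).2
  have h1 : x = z := Finset.mem_singleton.1 (hz ▸ Finset.mem_filter.2 ⟨Finset.mem_univ x, hx.2⟩)
  have h2 : y = z := Finset.mem_singleton.1 (hz ▸ Finset.mem_filter.2 ⟨Finset.mem_univ y, hy.2⟩)
  exact hxy (h1.trans h2.symm)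

theorem degree_four [IsMultiplyPretransitive G α 4] (hsharp : ∀ x : Fin 4 ↪ α, stabilizer G x = ⊥)
    (h4 : 4 ≤ Fintype.card α) :
    Fintype.card α = 4 ∨ Fintype.card α = 5 ∨ Fintype.card α = 6 ∨ Fintype.card α = 11 := by
  obtain ⟨n, hn⟩ : ∃ n, Fintype.card α = n + 4 := ⟨Fintype.card α - 4, by omega⟩
  rcases Nat.mod_two_eq_zero_or_one (Fintype.card α) with hp | hp
  · have key := fun s r hr hk => counting hsharp s r hr hk ({0, 2} : Finset ℕ)
      (fun f hf hm => by
        simp only [Finset.mem_insert, Finset.mem_singleton]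
        omega)
    have hA := key 2 1 one_pos rfl
    have hB := key 0 2 two_pos rfl
    rw [hn] at hA hB
    simp only [Finset.sum_pair (show (0 : ℕ) ≠ 2 by norm_num), sw, Nat.descFactorial, show n + 4 - 0 = n + 4 by omega,
      show n + 4 - 1 = n + 3 by omega, show n + 4 - 2 = n + 2 by omega, show n + 4 - 3 = n + 1 by omega,
      show n + 2 - 2 = n by omega] at hA hB
    simp only [show (0 : ℕ) - 1 = 0 from rfl, show (0 : ℕ) - 0 = 0 from rfl, show (2 : ℕ) - 1 = 1 from rfl,
      show (2 : ℕ) - 0 = 2 from rfl, mul_one, one_mul, mul_zero, zero_mul, zero_add] at hA hB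
    have hle : numFix G 2 * ((n + 2) * n) ≤ numFix G 2 * (2 * (n + 2)) := by
      rw [show numFix G 2 * (2 * (n + 2)) = (n + 4) * ((n + 3) * ((n + 2) * (n + 1))) by linarith]
      nlinarith [Nat.zero_le (numFix G 0 * ((n + 4) * (n + 2)))]
    have hpos : 0 < numFix G 2 := by
      by_contra hz
      rw [not_lt, Nat.le_zero] at hz
      rw [hz, zero_mul] at hA
      have : 0 < (n + 1) * ((n + 2) * ((n + 3) * (n + 4))) := by positivity
      omega
    have h2 := Nat.le_of_mul_le_mul_left hle hpos
    have : n ≤ 2 := by nlinarith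
    omega
  · have key := fun s r hr hk => counting hsharp s r hr hk ({1, 3} : Finset ℕ)
      (fun f hf hm => by
        simp only [Finset.mem_insert, Finset.mem_singleton]
        omega)
    have hA := key 2 1 one_pos rfl
    have hB := key 0 2 two_pos rfl
    rw [hn] at hA hB
    simp only [Finset.sum_pair (show (1 : ℕ) ≠ 3 by norm_num), sw, Nat.descFactorial, show n + 4 - 0 = n + 4 by omega,
      show n + 4 - 1 = n + 3 by omega, show n + 4 - 2 = n + 2 by omega, show n + 4 - 3 = n + 1 by omega,
      show n + 3 - 2 = n + 1 by omega] at hA hB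
    simp only [show (1 : ℕ) - 1 = 0 from rfl, show (1 : ℕ) - 0 = 1 from rfl, show (3 : ℕ) - 1 = 2 from rfl,
      show (3 : ℕ) - 0 = 3 from rfl, mul_one, one_mul, mul_zero, zero_mul, zero_add] at hA hB
    rcases Nat.lt_or_ge n 8 with hlt | hge
    · interval_cases n
      all_goals first
        | omega
        | (simp only [show (5 : ℕ) - 2 = 3 from rfl, show (1 : ℕ) - 2 = 0 from rfl] at hA hB; omega)
        | (haveI : IsPretransitive G α := by
            haveI : IsMultiplyPretransitive G α 2 :=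
              isMultiplyPretransitive_of_le (n := 4) (by norm_num) (by rw [Nat.card_eq_fintype_card]; omega)
            exact isPretransitive_of_is_two_pretransitive
           obtain ⟨c, hc⟩ := dvd_numFix_one (G := G)
           rw [hn] at hc
           norm_num at hA hB
           omega)
    · obtain ⟨j, rfl⟩ : ∃ j, n = j + 8 := ⟨n - 8, by omega⟩
      exfalso
      have h6 : 6 * numFix G 3 * (j + 9) = (j + 12) * ((j + 11) * ((j + 10) * (j + 9))) := by linarith
      have hpos : 0 < numFix G 3 * (j + 9) := by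
        by_contra hz
        rw [not_lt, Nat.le_zero] at hz
        have : 0 < (j + 12) * ((j + 11) * ((j + 10) * (j + 9))) := by positivity
        rw [mul_assoc, hz] at h6
        omega
      have hle : numFix G 3 * (j + 9) * (j + 7) ≤ numFix G 3 * (j + 9) * 6 := by
        rw [show numFix G 3 * (j + 9) * 6 = (j + 12) * ((j + 11) * ((j + 10) * (j + 9))) by linarith]
        have hk : j + 8 + 1 - 2 = j + 7 := by omega
        rw [hk] at hB
        nlinarith [Nat.zero_le (numFix G 1 * ((j + 8 + 3) * (j + 8 + 1)))]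
      have := Nat.le_of_mul_le_mul_left hle hpos
      omega

theorem not_sharply_six_thirteen (hα : Fintype.card α = 13) [IsMultiplyPretransitive G α 6]
    (hsharp : ∀ x : Fin 6 ↪ α, stabilizer G x = ⊥) : False := by
  have key := fun s r hr hk => counting hsharp s r hr hk ({1, 3, 5} : Finset ℕ)
    (fun f hf hm => by
      simp only [Finset.mem_insert, Finset.mem_singleton]
      omega)
  have hA := key 4 1 one_pos rfl
  have hB := key 2 2 two_pos rfl
  have hC := key 0 3 (by norm_num) rfl
  rw [hα] at hA hB hC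
  simp [sw, Nat.descFactorial] at hA hB hC
  omega

theorem restrict_sharply {k : ℕ} [IsMultiplyPretransitive G α (k + 1)]
    (hsharp : ∀ x : Fin (k + 1) ↪ α, stabilizer G x = ⊥) (a : α) :
    ∃ H : Subgroup (Equiv.Perm {b : α // b ≠ a}), IsMultiplyPretransitive H {b : α // b ≠ a} k ∧
      ∀ x : Fin k ↪ {b : α // b ≠ a}, stabilizer H x = ⊥ := by
  have hK : ∀ (g : stabilizer G a) (b : α), b ≠ a ↔ ((g : G) : Equiv.Perm α) b ≠ a := fun g b =>
    not_congr ⟨fun e => e ▸ g.2, fun e => ((g : G) : Equiv.Perm α).injective (e.trans g.2.symm)⟩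
  let φ : stabilizer G a →* Equiv.Perm {b : α // b ≠ a} :=
    { toFun := fun g => ((g : G) : Equiv.Perm α).subtypePerm (fun b => (hK g b).symm)
      map_one' := Equiv.ext fun b => Subtype.ext rfl
      map_mul' := fun g h => Equiv.ext fun b => Subtype.ext rfl }
  let up : (Fin k ↪ {b : α // b ≠ a}) → (Fin (k + 1) ↪ α) := fun x =>
    ⟨Fin.cons a fun i => (x i : α), Fin.cons_injective_iff.2 ⟨fun ⟨i, hi⟩ => (x i).2 hi,
      fun i j h => x.injective (Subtype.ext h)⟩⟩
  refine ⟨φ.range, ⟨fun x y => ?_⟩, fun x => (Subgroup.eq_bot_iff_forall _).2 fun h hh => ?_⟩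
  · obtain ⟨g, hg⟩ := exists_smul_eq (M := G) (up x) (up y)
    have h0 : (g : Equiv.Perm α) a = a := congrArg (fun f : Fin (k + 1) ↪ α => f 0) hg
    refine ⟨⟨φ ⟨g, h0⟩, ⟨_, rfl⟩⟩, Function.Embedding.ext fun i => Subtype.ext ?_⟩
    exact congrArg (fun f : Fin (k + 1) ↪ α => f i.succ) hg
  · obtain ⟨_, g, rfl⟩ := h
    have hm : (g : G) ∈ stabilizer G (up x) := by
      refine Function.Embedding.ext fun i => ?_
      cases i using Fin.cases with
      | zero => exact g.2
      | succ i => exact congrArg (fun f : Fin k ↪ {b : α // b ≠ a} => ((f i : {b : α // b ≠ a}) : α)) hh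
    rw [hsharp, Subgroup.mem_bot] at hm
    have : g = 1 := Subtype.ext hm
    exact Subtype.ext (by rw [this]; exact map_one φ)

theorem card_ne (a : α) : Fintype.card {b : α // b ≠ a} = Fintype.card α - 1 := by
  rw [Fintype.card_subtype_compl, Fintype.card_subtype_eq]

theorem degree_five [IsMultiplyPretransitive G α 5] (hsharp : ∀ x : Fin 5 ↪ α, stabilizer G x = ⊥)
    (h5 : 5 ≤ Fintype.card α) :
    Fintype.card α = 5 ∨ Fintype.card α = 6 ∨ Fintype.card α = 7 ∨ Fintype.card α = 12 := by
  obtain ⟨a⟩ : Nonempty α := Fintype.card_pos_iff.1 (by omega)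
  obtain ⟨H, hH, hHs⟩ := restrict_sharply (k := 4) hsharp a
  have := degree_four (G := H) hHs (by rw [card_ne]; omega)
  rw [card_ne] at this
  omega

theorem degree_large : ∀ (k : ℕ), 6 ≤ k → ∀ {β : Type*} [Fintype β] [DecidableEq β]
    (G : Subgroup (Equiv.Perm β)) [IsMultiplyPretransitive G β k],
    (∀ x : Fin k ↪ β, stabilizer G x = ⊥) → k ≤ Fintype.card β →
    Fintype.card β = k ∨ Fintype.card β = k + 1 ∨ Fintype.card β = k + 2 := by
  intro k hk
  induction k, hk using Nat.le_induction with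
  | base =>
    intro β _ _ G _ hsharp h6
    obtain ⟨a⟩ : Nonempty β := Fintype.card_pos_iff.1 (by omega)
    obtain ⟨H, hH, hHs⟩ := restrict_sharply (k := 5) hsharp a
    have h := degree_five (G := H) hHs (by rw [card_ne]; omega)
    rw [card_ne] at h
    have : Fintype.card β ≠ 13 := fun e => not_sharply_six_thirteen e hsharp
    omega
  | succ k hk ih =>
    intro β _ _ G _ hsharp hn
    obtain ⟨a⟩ : Nonempty β := Fintype.card_pos_iff.1 (by omega)
    obtain ⟨H, hH, hHs⟩ := restrict_sharply (k := k) hsharp a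
    have h := ih H hHs (by rw [card_ne]; omega)
    rw [card_ne] at h
    omega

end CfsgLib.Spor.SharplyCount
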