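import Cfsg.Agent.Lib.Spor.AffineModel
import Cfsg.Agent.Lib.Spor.PointSubgroups
import Cfsg.Agent.S1554

/-!
# Octad stabilizers of the Mathieu group as affine subgroups
-/

set_option autoImplicit false
set_option linter.style.haveILetI false

open Subgroup Cfsg
open scoped Pointwise

namespace CfsgLib.Spor

theorem affine_M24 {o : Finset GolayPt} (ho : o ∈ octads) (z : ↥M24)
    (hz : (z : Equiv.Perm GolayPt) ∈ ptwise o) (hz1 : z ≠ 1) : Affine.IsAffineLocal 3 z := by
  obtain ⟨p, hp⟩ : ∃ p, p ∉ o := by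
    by_contra h
    push Not at h
    have h1 := ho.2
    rw [Finset.eq_univ_of_forall h] at h1
    revert h1
    decide +kernel
  obtain ⟨hinf, hsup, ⟨eK⟩⟩ := octad_complement ho hp
  set K₀ := M24 ⊓ MulAction.stabilizer (Equiv.Perm GolayPt) o ⊓ MulAction.stabilizer (Equiv.Perm GolayPt) p with hK₀
  set P := (setwise o).subgroupOf M24 with hP
  let j : ↥P →* Equiv.Perm GolayPt := M24.subtype.comp P.subtype
  have hj : Function.Injective j := M24.subtype_injective.comp P.subtype_injective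
  set U := (ptwise o).comap j with hU
  set M := K₀.comap j with hM
  have hjmem : ∀ g : ↥P, j g ∈ setwise o := fun g => mem_subgroupOf.1 g.2
  have hUle : ptwise o ≤ setwise o := le_trans le_sup_left hsup.le
  have hrange : ∀ g ∈ setwise o, ∃ x : ↥P, j x = g := fun g hg =>
    ⟨⟨⟨g, (mem_setwise.1 hg).1⟩, mem_subgroupOf.2 hg⟩, rfl⟩
  have hUmap : U.map j = ptwise o := by
    ext g
    refine ⟨fun ⟨x, hx, e⟩ => e ▸ hx, fun hg => ?_⟩
    obtain ⟨x, rfl⟩ := hrange g (hUle hg)
    exact ⟨x, hg, rfl⟩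
  have hMmap : M.map j = K₀ := by
    ext g
    refine ⟨fun ⟨x, hx, e⟩ => e ▸ hx, fun hg => ?_⟩
    obtain ⟨x, rfl⟩ := hrange g (inf_le_left (a := setwise o) hg)
    exact ⟨x, hg, rfl⟩
  obtain ⟨hcard, hsq⟩ := ptwise_facts ho
  have hUcard : Nat.card ↥U = 2 ^ (3 + 1) := by
    rw [← card_map_of_injective hj, hUmap, hcard]; norm_num
  haveI hUn : U.Normal := ⟨fun u hu g => by
    show j (g * u * g⁻¹) ∈ ptwise o
    rw [map_mul, map_mul, map_inv]
    obtain ⟨hgM, hgo⟩ := mem_setwise.1 (hjmem g)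
    have h1 : j g * j u * (j g)⁻¹ ∈ (ptwise o).map (MulAut.conj (j g)).toMonoidHom := ⟨_, hu, rfl⟩
    rwa [← ptwise_smul _ hgM, hgo] at h1⟩
  have hUexp : ∀ u ∈ U, u ^ 2 = 1 := fun u hu => hj (by rw [map_pow, map_one, pow_two]; exact hsq _ hu)
  have hUel : Cfsg.IsElementaryAbelian 2 U := by
    refine ⟨⟨⟨fun a b => ?_⟩⟩, hUexp⟩
    have hinv : ∀ x : ↥U, x⁻¹ = x := fun x => inv_eq_of_mul_eq_one_right
      (Subtype.ext (by simpa [pow_two] using hUexp x x.2))
    rw [← hinv (a * b), _root_.mul_inv_rev, hinv, hinv]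
  haveI := hUel.1
  have hfaith : ∀ m ∈ M, (∀ u ∈ U, m * u * m⁻¹ = u) → m = 1 := by
    intro m hm h
    refine hj ?_
    rw [map_one]
    by_contra hne
    have hmM : j m ∈ M24 := (mem_setwise.1 (hjmem m)).1
    have h8 := PointSub.fix_le_eight hmM hne
    have hmp : j m p = p := MulAction.mem_stabilizer_iff.1 (mem_inf.1 hm).2
    -- the translations move `p` to every point outside the octad
    classical
    haveI := Fintype.ofFinite ↥U
    let f : ↥U → GolayPt := fun u => j u p
    have hfi : Function.Injective f := by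
      intro a b hab
      have h1 : j ((b : ↥P)⁻¹ * a) = 1 := by
        refine ptwise_point_trivial ho hp ?_ ?_
        · rw [map_mul, map_inv]; exact mul_mem (inv_mem b.2) a.2
        · rw [map_mul, map_inv, Equiv.Perm.mul_apply]
          show (j b)⁻¹ (j a p) = p
          rw [show j a p = j b p from hab, Equiv.Perm.inv_def, Equiv.symm_apply_apply]
      exact Subtype.ext ((inv_mul_eq_one.1 (hj (h1.trans (map_one j).symm))).symm)
    have hsub : Finset.univ.image f ⊆ fixSet (j m) := by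
      intro q hq
      obtain ⟨u, -, rfl⟩ := Finset.mem_image.1 hq
      rw [PointSub.mem_fixSet]
      show j m (j u p) = j u p
      have h2 : j m * j u = j u * j m := by
        rw [← map_mul, ← map_mul]
        exact congrArg j (mul_inv_eq_iff_eq_mul.1 (h u u.2))
      rw [← Equiv.Perm.mul_apply, h2, Equiv.Perm.mul_apply, hmp]
    have h16 := Finset.card_le_card hsub
    rw [Finset.card_image_of_injective _ hfi, Finset.card_univ, ← Nat.card_eq_fintype_card, hUcard] at h16
    omega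
  have hfull : ∀ φ : ↥U ≃* ↥U, ∃ m ∈ M, ∀ u : ↥U, ((φ u : ↥U) : ↥P) = m * u * m⁻¹ := by
    let ψ : ↥M →* MulAut ↥U := MulAut.conjNormal.comp M.subtype
    have hψ : Function.Injective ψ := (injective_iff_map_eq_one _).2 fun m hm =>
      Subtype.ext (hfaith m m.2 fun u hu => by
        have h1 := congrArg (fun α : MulAut ↥U => ((α ⟨u, hu⟩ : ↥U) : ↥P)) hm
        simpa [ψ, MulAut.conjNormal_apply] using h1)
    have hMc : Nat.card ↥M = 20160 := by
      rw [← card_map_of_injective hj, hMmap, Nat.card_congr eK.toEquiv, Nat.card_eq_fintype_card,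
        card_alternatingGroup, Fintype.card_fin]
      rfl
    have hz' : (⟨⟨z, mem_subgroupOf.2 (hUle hz)⟩, hz⟩ : ↥U) ≠ 1 := fun h => hz1
      (congrArg (fun x : ↥U => (x : ↥P).1) h)
    have hbij : Function.Bijective ψ := (Nat.bijective_iff_injective_and_card ψ).2 ⟨hψ, by
      rw [hMc, Affine.card_mulAut_sixteen (fun x : ↥U => Subtype.ext (by simpa using hUexp x x.2))
        (by rw [hUcard]) _ hz']⟩
    intro φ
    obtain ⟨m, hm⟩ := hbij.2 φ
    exact ⟨m, m.2, fun u => by rw [← hm]; exact MulAut.conjNormal_apply _ _⟩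
  refine ⟨P, U, M, hUn, hUel, hUcard, ?_, ?_, hfaith, hfull, ?_, ⟨z, mem_subgroupOf.2 (hUle hz)⟩, hz, ?_, rfl⟩
  · rw [eq_bot_iff]
    intro g hg
    have h1 : j g ∈ ptwise o ⊓ K₀ := mem_inf.2 ⟨(mem_inf.1 hg).1, (mem_inf.1 hg).2⟩
    rw [hinf, mem_bot] at h1
    exact mem_bot.2 (hj (h1.trans (map_one j).symm))
  · refine Subgroup.map_injective hj ?_
    rw [Subgroup.map_sup, hUmap, hMmap, hsup]
    ext g
    refine ⟨fun hg => ?_, fun ⟨x, _, e⟩ => e ▸ hjmem x⟩
    obtain ⟨x, rfl⟩ := hrange g hg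
    exact ⟨x, mem_top x, rfl⟩
  · intro u hu hu1 g hg
    have hfix : fixSet (j u) = o := by
      refine (Finset.eq_of_subset_of_card_le (fun q hq => PointSub.mem_fixSet.2 ((mem_ptwise.1 hu).2 q hq)) ?_).symm
      rw [ho.2]
      exact PointSub.fix_le_eight (mem_setwise.1 (hjmem u)).1 fun h => hu1 (hj (h.trans (map_one j).symm))
    refine mem_subgroupOf.2 (mem_setwise.2 ⟨g.2, ?_⟩)
    have h1 : (g : Equiv.Perm GolayPt) * j u * (g : Equiv.Perm GolayPt)⁻¹ = j u := by
      have h2 := congrArg Subtype.val (mem_centralizer_singleton_iff.1 hg)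
      exact mul_inv_eq_iff_eq_mul.2 h2
    calc (g : Equiv.Perm GolayPt) • o = (g : Equiv.Perm GolayPt) • fixSet (j u) := by rw [hfix]
      _ = fixSet (j u) := by rw [← fixSet_conj, h1]
      _ = o := hfix
  · exact fun h => hz1 (congrArg Subtype.val h)

end CfsgLib.Spor
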