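import Cfsg.Agent.Lib.Spor.AffineOvergroup
import Mathlib.GroupTheory.SemidirectProduct
import Mathlib.LinearAlgebra.Matrix.GeneralLinearGroup.Card

/-!
# The affine group as a model

All affine groups of the same dimension with a marked translation are isomorphic.
-/

set_option autoImplicit false

open Subgroup

namespace CfsgLib.Spor.Affine

/-- The affine group on the coordinate group. -/
abbrev Model (n : ℕ) := A n ⋊[MonoidHom.id (MulAut (A n))] MulAut (A n)

theorem exists_model {G : Type*} [Group G] [Finite G] (n : ℕ) (z : G) (h : IsAffineLocal n z) :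
    Nonempty (↥(centralizer ({z} : Set G)) ≃*
      ↥(centralizer ({(SemidirectProduct.inl (z0 n) : Model n)} : Set (Model n)))) := by
  obtain ⟨P, U, M, hUn, hU, hUcard, hUM, hUM', hfaith, hfull, hcent, z', hzU, hz1, rfl⟩ := h
  haveI := hUn
  haveI := hU.1
  obtain ⟨e, he⟩ := exists_coord (fun x : ↥U => Subtype.ext (by simpa using hU.2 x x.2)) n hUcard
    ⟨z', hzU⟩ (fun h => hz1 (congrArg Subtype.val h))
  let ι : A n →* ↥P := U.subtype.comp e.symm.toMonoidHom
  have hιi : Function.Injective ι := U.subtype_injective.comp e.symm.injective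
  have hι : ∀ x, ι x ∈ U := fun x => (e.symm x).2
  have hιs : ∀ u ∈ U, ∃ x, ι x = u := fun u hu => ⟨e ⟨u, hu⟩, by simp [ι]⟩
  have hex : ∀ α : MulAut (A n), ∃ m ∈ M, ∀ x, m * ι x * m⁻¹ = ι (α x) := fun α => by
    obtain ⟨m, hm, hmu⟩ := hfull ((e.trans α).trans e.symm)
    refine ⟨m, hm, fun x => ?_⟩
    show m * ((e.symm x : ↥U) : ↥P) * m⁻¹ = _
    rw [← hmu]
    simp [ι]
  have huniq : ∀ a ∈ M, ∀ b ∈ M, (∀ x, a * ι x * a⁻¹ = b * ι x * b⁻¹) → a = b := by
    intro a ha b hb h
    refine (inv_mul_eq_one.1 (hfaith _ (mul_mem (inv_mem hb) ha) fun u hu => ?_)).symm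
    obtain ⟨x, rfl⟩ := hιs u hu
    calc b⁻¹ * a * ι x * (b⁻¹ * a)⁻¹ = b⁻¹ * (a * ι x * a⁻¹) * b := by group
      _ = ι x := by rw [h x]; group
  choose μ₀ hμM hμ using hex
  let μ : MulAut (A n) →* ↥P := MonoidHom.mk' μ₀ fun a b => by
    refine huniq _ (hμM _) _ (mul_mem (hμM a) (hμM b)) fun x => ?_
    rw [hμ, MulAut.mul_apply, ← hμ a, ← hμ b]
    group
  let Φ : Model n →* ↥P := SemidirectProduct.lift ι μ fun α => MonoidHom.ext fun x => by
    show ι (α x) = μ₀ α * ι x * (μ₀ α)⁻¹
    exact (hμ α x).symm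
  have hΦi : Function.Injective Φ := by
    refine (injective_iff_map_eq_one _).2 fun g hg => ?_
    have h1 : ι g.left * μ₀ g.right = 1 := hg
    have hm : μ₀ g.right = 1 := by
      have h2 : μ₀ g.right ∈ U ⊓ M := ⟨by
        rw [eq_inv_of_mul_eq_one_right h1]; exact Subgroup.inv_mem _ (hι _), hμM _⟩
      rwa [hUM, mem_bot] at h2
    rw [hm, mul_one] at h1
    refine SemidirectProduct.ext (hιi (h1.trans (map_one ι).symm)) ?_
    refine MulEquiv.ext fun x => hιi ?_
    rw [← hμ, hm]
    simp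
  have hΦs : Function.Surjective Φ := by
    intro g
    obtain ⟨u, hu, m, hm, rfl⟩ := mem_sup_of_normal_left.1 (show g ∈ U ⊔ M from hUM' ▸ mem_top g)
    obtain ⟨x, rfl⟩ := hιs u hu
    let α : MulAut (A n) := (e.symm.trans (MulAut.conjNormal m : MulAut ↥U)).trans e
    refine ⟨⟨x, α⟩, ?_⟩
    show ι x * μ₀ α = ι x * m
    refine congrArg _ (huniq _ (hμM _) _ hm fun y => ?_)
    rw [hμ]
    simp [ι, α, MulAut.conjNormal_apply]
  let E : Model n ≃* ↥P := MulEquiv.ofBijective Φ ⟨hΦi, hΦs⟩
  have hEz : E (SemidirectProduct.inl (z0 n)) = z' := by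
    show Φ (SemidirectProduct.inl (z0 n)) = z'
    rw [SemidirectProduct.lift_inl]
    show ((e.symm (z0 n) : ↥U) : ↥P) = z'
    rw [show z0 n = e ⟨z', hzU⟩ from he.symm, e.symm_apply_apply]
  let f : Model n →* G := P.subtype.comp E.toMonoidHom
  have hf : Function.Injective f := P.subtype_injective.comp E.injective
  have hmap : (centralizer ({(SemidirectProduct.inl (z0 n) : Model n)} : Set (Model n))).map f =
      centralizer ({(z' : G)} : Set G) := by
    ext g
    refine ⟨?_, fun hg => ?_⟩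
    · rintro ⟨x, hx, rfl⟩
      rw [mem_centralizer_singleton_iff]
      have h1 := congrArg f (mem_centralizer_singleton_iff.1 hx)
      rw [map_mul, map_mul] at h1
      rwa [show f (SemidirectProduct.inl (z0 n)) = (z' : G) from congrArg Subtype.val hEz] at h1
    · obtain ⟨x, hx⟩ := E.surjective ⟨g, hcent z' hzU hz1 hg⟩
      refine ⟨x, mem_centralizer_singleton_iff.2 (E.injective (Subtype.ext ?_)), congrArg Subtype.val hx⟩
      rw [map_mul, map_mul, hEz, hx]
      exact mem_centralizer_singleton_iff.1 hg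
  exact ⟨((equivMapOfInjective _ f hf).trans (MulEquiv.subgroupCongr hmap)).symm⟩

/-- The automorphism group of an elementary abelian group of order 16 has order 20160. -/
theorem card_mulAut_sixteen {U : Type*} [Group U] [Finite U] [IsMulCommutative U]
    (hexp : ∀ x : U, x ^ 2 = 1) (hcard : Nat.card U = 2 ^ 4) (z : U) (hz : z ≠ 1) :
    Nat.card (MulAut U) = 20160 := by
  obtain ⟨e, -⟩ := exists_coord hexp 3 hcard z hz
  rw [Nat.card_congr (MulAut.congr e).toEquiv]
  let V := (Fin 3 → ZMod 2) × ZMod 2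
  let W : MulAut (A 3) → (V ≃+ V) := fun α => AddEquiv.toMultiplicative.symm α
  have e1 : MulAut (A 3) ≃ (V ≃ₗ[ZMod 2] V) :=
    { toFun := fun α => LinearEquiv.ofLinear ((W α).toAddMonoidHom.toZModLinearMap 2)
        ((W α).symm.toAddMonoidHom.toZModLinearMap 2)
        (LinearMap.ext fun x => (W α).apply_symm_apply x)
        (LinearMap.ext fun x => (W α).symm_apply_apply x)
      invFun := fun l => AddEquiv.toMultiplicative l.toAddEquiv
      left_inv := fun α => MulEquiv.ext fun x => rfl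
      right_inv := fun l => LinearEquiv.ext fun x => rfl }
  have hfr : Module.finrank (ZMod 2) V = 4 := by simp [V]
  let b := Module.finBasisOfFinrankEq (ZMod 2) V hfr
  let c : V ≃ₗ[ZMod 2] (Fin 4 → ZMod 2) := b.equivFun
  have e2 : (V ≃ₗ[ZMod 2] V) ≃ ((Fin 4 → ZMod 2) ≃ₗ[ZMod 2] (Fin 4 → ZMod 2)) :=
    { toFun := fun l => (c.symm.trans l).trans c
      invFun := fun l => (c.trans l).trans c.symm
      left_inv := fun l => LinearEquiv.ext fun x => by simp
      right_inv := fun l => LinearEquiv.ext fun x => by simp }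
  have e3 := (Matrix.GeneralLinearGroup.toLin.trans
    (LinearMap.GeneralLinearGroup.generalLinearEquiv (ZMod 2) (Fin 4 → ZMod 2)) :
      Matrix.GeneralLinearGroup (Fin 4) (ZMod 2) ≃* _).symm.toEquiv
  rw [Nat.card_congr ((e1.trans e2).trans e3), Matrix.card_GL_field]
  simp [Fin.prod_univ_succ]

end CfsgLib.Spor.Affine
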