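import Cfsg.Agent.Lib.Spor.AffineExtraspecial
import Cfsg.Agent.Lib.Spor.LargeExtraInvolution
import Cfsg.Agent.Lib.Fusion.Thompson
import Mathlib.LinearAlgebra.Matrix.SpecialLinearGroup
import Mathlib.LinearAlgebra.Matrix.Transvection

/-!
# Large extraspecial subgroups from an affine subgroup controlling centralizers

If `P ≤ G` is affine over the field of two elements with translation group `U` and `C_G(u) ≤ P` for every
`u ∈ U#`, then the 2-core of `C_G(z)`, `z ∈ U#`, is a large extraspecial subgroup of `G`.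
-/

set_option autoImplicit false
set_option linter.style.haveILetI false

open Subgroup

namespace CfsgLib.Spor.Affine

variable {G : Type*} [Group G] [Finite G]

theorem structure_in_overgroup (n : ℕ) (hn : 1 ≤ n) (P : Subgroup G) (U M : Subgroup ↥P) [hUn : U.Normal]
    (hU : Cfsg.IsElementaryAbelian 2 U) (hUcard : Nat.card ↥U = 2 ^ (n + 1)) (hUM : U ⊓ M = ⊥)
    (hUM' : U ⊔ M = ⊤) (hfaith : ∀ m ∈ M, (∀ u ∈ U, m * u * m⁻¹ = u) → m = 1)
    (hfull : ∀ φ : ↥U ≃* ↥U, ∃ m ∈ M, ∀ u : ↥U, ((φ u : ↥U) : ↥P) = m * u * m⁻¹)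
    (hcent : ∀ u ∈ U, u ≠ 1 → centralizer ({(u : G)} : Set G) ≤ P)
    (z : ↥P) (hzU : z ∈ U) (hz1 : z ≠ 1) (Q : Subgroup G)
    (hQ : Q = (Cfsg.pCore 2 ↥(centralizer ({(z : G)} : Set G))).map (centralizer ({(z : G)} : Set G)).subtype) :
    Cfsg.IsExtraspecial 2 ↥Q ∧ Nat.card ↥Q = 2 ^ (2 * n + 1) ∧
      (∃ E : Subgroup G, E ≤ Q ∧ Cfsg.IsElementaryAbelian 2 E ∧ Nat.card ↥E = 2 ^ (n + 1)) ∧
      Cfsg.IsLargeExtraspecial Q ∧
      ∃ K : Subgroup G, K ≤ centralizer ({(z : G)} : Set G) ∧ Q ⊓ K = ⊥ ∧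
        Q ⊔ K = centralizer ({(z : G)} : Set G) ∧
        Nonempty (↥K ≃* Matrix.GeneralLinearGroup (Fin n) (ZMod 2)) := by
  haveI : Fact (Nat.Prime 2) := ⟨Nat.prime_two⟩
  have hzz : z ^ 2 = 1 := hU.2 z hzU
  have hord : orderOf z = 2 := orderOf_eq_prime hzz hz1
  set Z := zpowers z with hZdef
  have hZcard : Nat.card ↥Z = 2 := by rw [hZdef, Nat.card_zpowers, hord]
  obtain ⟨Q', hQ'⟩ : ∃ Q' : Subgroup ↥P,
    Q' = (Cfsg.pCore 2 ↥(centralizer (Z : Set ↥P))).map (centralizer (Z : Set ↥P)).subtype := ⟨_, rfl⟩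
  obtain ⟨hext, hcard, ⟨E, hEQ, hE, hEcard⟩, ⟨-, hL2, hL3, -⟩, K, hKC, hQK, hQK', ⟨eK⟩⟩ :=
    structure_of_affine n hn hU hUcard hUM hUM' hfaith hfull Z (zpowers_le.2 hzU) hZcard Q' hQ'
  have hP : Function.Injective P.subtype := P.subtype_injective
  have hzP : centralizer ({(z : G)} : Set G) ≤ P := hcent z hzU hz1
  have hmemC : ∀ g : ↥P, g ∈ centralizer (Z : Set ↥P) ↔ (g : G) ∈ centralizer ({(z : G)} : Set G) := by
    intro g
    rw [mem_centralizer_singleton_iff]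
    refine ⟨fun h => (congrArg Subtype.val (mem_centralizer_iff.1 h z (mem_zpowers z))).symm, fun h => ?_⟩
    refine mem_centralizer_iff.2 fun x hx => ?_
    obtain ⟨i, rfl⟩ := mem_zpowers_iff.1 hx
    exact (Commute.zpow_right (show Commute g z from Subtype.ext h) i).eq.symm
  have hC : (centralizer (Z : Set ↥P)).map P.subtype = centralizer ({(z : G)} : Set G) := by
    ext g
    refine ⟨?_, fun hg => ⟨⟨g, hzP hg⟩, (hmemC _).2 hg, rfl⟩⟩
    rintro ⟨x, hx, rfl⟩
    exact (hmemC x).1 hx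
  have hQQ : Q = Q'.map P.subtype := by
    rw [hQ, hQ', map_map, ← hC]
    let e := (centralizer (Z : Set ↥P)).equivMapOfInjective P.subtype hP
    rw [← CfsgLib.Coprime.map_pCore_equiv e 2, map_map]
    rfl
  have hext' : Cfsg.IsExtraspecial 2 ↥Q := by
    rw [hQQ]; exact isExtraspecial_congr (Q'.equivMapOfInjective P.subtype hP) hext
  have hcenter : (center ↥Q).map Q.subtype = ((center ↥Q').map Q'.subtype).map P.subtype := by
    subst hQQ
    let e := Q'.equivMapOfInjective P.subtype hP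
    have h : (center ↥Q').map e.toMonoidHom = center ↥(Q'.map P.subtype) := by
      ext y
      obtain ⟨x, rfl⟩ := e.surjective y
      rw [show e x = e.toMonoidHom x from rfl, mem_map_iff_mem (f := e.toMonoidHom) e.injective,
        mem_center_iff, mem_center_iff]
      refine ⟨fun hx g => ?_, fun hx g => e.injective ?_⟩
      · obtain ⟨g, rfl⟩ := e.surjective g
        simp only [MulEquiv.coe_toMonoidHom, ← map_mul, hx g]
      · simpa using hx (e g)
    rw [← h, map_map, map_map]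
    rfl
  -- the center of `Q'` is `Z`
  have hQZ : (center ↥Q').map Q'.subtype = Z := by
    have hle : Z ≤ (center ↥Q').map Q'.subtype := by
      rw [← hL2]
      refine zpowers_le.2 (mem_centralizer_iff.2 fun q hq => ?_)
      rw [hQ'] at hq
      obtain ⟨q', -, rfl⟩ := hq
      exact (mem_centralizer_iff.1 q'.2 z (mem_zpowers z)).symm
    refine (eq_of_le_of_card_ge hle ?_).symm
    rw [card_map_of_injective Q'.subtype_injective, hext.2, hZcard]
  have hcz : (center ↥Q).map Q.subtype = zpowers (z : G) := by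
    rw [hcenter, hQZ, hZdef, MonoidHom.map_zpowers]
    rfl
  have hzQ : (z : G) ∈ Q := map_subtype_le _ (hcz ▸ mem_zpowers (z : G))
  have hL2G : centralizer (Q : Set G) = (center ↥Q).map Q.subtype := by
    refine le_antisymm (fun g hg => ?_) ?_
    · have hgP : g ∈ P := hzP (mem_centralizer_singleton_iff.2 (mem_centralizer_iff.1 hg _ hzQ).symm)
      rw [hcenter]
      refine ⟨⟨g, hgP⟩, ?_, rfl⟩
      rw [← hL2]
      refine mem_centralizer_iff.2 fun q hq => Subtype.ext ?_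
      exact mem_centralizer_iff.1 hg (q : G) (hQQ ▸ ⟨q, hq, rfl⟩)
    · rintro _ ⟨x, hx, rfl⟩
      exact mem_centralizer_iff.2 fun q hq => congrArg Subtype.val (mem_center_iff.1 hx ⟨q, hq⟩)
  have hL3G : centralizer (((center ↥Q).map Q.subtype : Subgroup G) : Set G) ≤ normalizer (Q : Set G) := by
    intro g hg
    rw [hcz] at hg
    have hgC : g ∈ centralizer ({(z : G)} : Set G) :=
      mem_centralizer_singleton_iff.2 (mem_centralizer_iff.1 hg _ (mem_zpowers _)).symm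
    have h1 : (⟨g, hzP hgC⟩ : ↥P) ∈ normalizer (Q' : Set ↥P) := hL3 (by
      rw [hQZ]; exact (hmemC _).2 hgC)
    rw [hQQ]
    exact le_normalizer_map P.subtype ⟨_, h1, rfl⟩
  refine ⟨hext', ?_, ⟨E.map P.subtype, ?_, CfsgLib.Fusion.isElementaryAbelian_map _ hE, ?_⟩, ?_,
    K.map P.subtype, ?_, ?_, ?_, ⟨(K.equivMapOfInjective P.subtype hP).symm.trans eK⟩⟩
  · rw [hQQ, card_map_of_injective hP, hcard]
  · rw [hQQ]; exact map_mono hEQ
  · rw [card_map_of_injective hP, hEcard]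
  · -- an involution of `U` outside the center
    obtain ⟨b, hbU, hbZ⟩ : ∃ b ∈ U, b ∉ Z := by
      by_contra h
      push Not at h
      have h1 := Subgroup.card_le_of_le (H := U) (K := Z) h
      rw [hUcard, hZcard] at h1
      have : 2 ^ 2 ≤ 2 ^ (n + 1) := Nat.pow_le_pow_right (by norm_num) (by omega)
      omega
    have hb1 : b ≠ 1 := fun h => hbZ (h ▸ one_mem _)
    have hUQ : U ≤ Q' := by
      rw [hQ']
      have hUC : U ≤ centralizer (Z : Set ↥P) := fun u hu => mem_centralizer_iff.2 fun x hx =>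
        congrArg Subtype.val (hU.1.is_comm.comm (⟨x, zpowers_le.2 hzU hx⟩ : ↥U) ⟨u, hu⟩)
      haveI : (U.subgroupOf (centralizer (Z : Set ↥P))).Normal := hUn.comap _
      exact fun u hu => ⟨⟨u, hUC hu⟩, CfsgLib.Coprime.le_pCore
        ((IsPGroup.of_card hUcard).of_equiv (subgroupOfEquivOfLe hUC).symm) hu, rfl⟩
    refine CfsgLib.Spor.LargeQ.large_of_involution Q hext' hL2G hL3G (b : G)
      (hQQ ▸ ⟨b, hUQ hbU, rfl⟩) ?_ ?_ ?_
    · rw [hcenter, hQZ]
      exact fun h => hbZ ((mem_map_iff_mem hP).1 h)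
    · rw [Subgroup.orderOf_coe]; exact orderOf_eq_prime (hU.2 b hbU) hb1
    · rw [hcz, zpowers_le]
      set D := centralizer ({(b : G)} : Set G) with hD
      have hDP : D ≤ P := hcent b hbU hb1
      have hUD : U.map P.subtype ≤ D := by
        rintro _ ⟨u, hu, rfl⟩
        exact mem_centralizer_singleton_iff.2
          (congrArg (fun x : ↥U => ((x : ↥P) : G)) (hU.1.is_comm.comm (⟨u, hu⟩ : ↥U) ⟨b, hbU⟩))
      haveI : ((U.map P.subtype).subgroupOf D).Normal := by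
        refine ⟨fun x hx g => mem_subgroupOf.2 ?_⟩
        obtain ⟨u, hu, hux⟩ := mem_subgroupOf.1 hx
        refine ⟨⟨(g : G), hDP g.2⟩ * u * ⟨(g : G), hDP g.2⟩⁻¹, hUn.conj_mem u hu _, ?_⟩
        show (g : G) * (u : G) * (g : G)⁻¹ = (g : G) * (x : G) * (g : G)⁻¹
        rw [← hux]
        rfl
      refine ⟨⟨(z : G), hUD ⟨z, hzU, rfl⟩⟩, CfsgLib.Coprime.le_pCore (N := (U.map P.subtype).subgroupOf D) ?_ ?_, rfl⟩
      · refine IsPGroup.of_equiv ?_ (subgroupOfEquivOfLe hUD).symm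
        exact (IsPGroup.of_card hUcard).map _
      · exact mem_subgroupOf.2 ⟨z, hzU, rfl⟩
  · rw [← hC]; exact map_mono hKC
  · rw [hQQ, ← map_inf _ _ _ hP, hQK, Subgroup.map_bot]
  · rw [hQQ, ← Subgroup.map_sup, hQK', hC]

/-- An affine subgroup over the field of two elements with translations containing `z` and controlling the
centralizers of its translations. -/
def IsAffineLocal (n : ℕ) (z : G) : Prop :=
  ∃ (P : Subgroup G) (U M : Subgroup ↥P), U.Normal ∧ Cfsg.IsElementaryAbelian 2 U ∧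
    Nat.card ↥U = 2 ^ (n + 1) ∧ U ⊓ M = ⊥ ∧ U ⊔ M = ⊤ ∧
    (∀ m ∈ M, (∀ u ∈ U, m * u * m⁻¹ = u) → m = 1) ∧
    (∀ φ : ↥U ≃* ↥U, ∃ m ∈ M, ∀ u : ↥U, ((φ u : ↥U) : ↥P) = m * u * m⁻¹) ∧
    (∀ u ∈ U, u ≠ 1 → centralizer ({(u : G)} : Set G) ≤ P) ∧
    ∃ z' ∈ U, z' ≠ 1 ∧ (z' : G) = z

theorem glEquivSL {m : ℕ} : Nonempty
    (Matrix.GeneralLinearGroup (Fin m) (ZMod 2) ≃* Matrix.SpecialLinearGroup (Fin m) (ZMod 2)) := by
  refine ⟨(MulEquiv.ofBijective (Matrix.SpecialLinearGroup.toGL (n := Fin m) (R := ZMod 2))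
    ⟨fun A B h => ?_, fun g => ?_⟩).symm⟩
  · exact Subtype.ext (congrArg Units.val h :)
  · have h : (g.val).det * (g⁻¹).val.det = 1 := by
      rw [← Matrix.det_mul, g.mul_inv, Matrix.det_one]
    have h2 : ∀ c d : ZMod 2, c * d = 1 → c = 1 := by decide
    exact ⟨⟨g.val, h2 _ _ h⟩, Units.ext rfl⟩

theorem structure_of_local (n : ℕ) (hn : 1 ≤ n) (z : G) (h : IsAffineLocal n z) (Q : Subgroup G)
    (hQ : Q = (Cfsg.pCore 2 ↥(centralizer ({z} : Set G))).map (centralizer ({z} : Set G)).subtype) :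
    Cfsg.IsExtraspecial 2 ↥Q ∧ Nat.card ↥Q = 2 ^ (2 * n + 1) ∧
      (∃ E : Subgroup G, E ≤ Q ∧ Cfsg.IsElementaryAbelian 2 E ∧ Nat.card ↥E = 2 ^ (n + 1)) ∧
      Cfsg.IsLargeExtraspecial Q ∧
      ∃ K : Subgroup G, K ≤ centralizer ({z} : Set G) ∧ Q ⊓ K = ⊥ ∧
        Q ⊔ K = centralizer ({z} : Set G) ∧
        Nonempty (↥K ≃* Matrix.SpecialLinearGroup (Fin n) (ZMod 2)) := by
  obtain ⟨P, U, M, hUn, hU, hUcard, hUM, hUM', hfaith, hfull, hcent, z', hzU, hz1, rfl⟩ := h
  haveI := hUn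
  obtain ⟨h1, h2, h3, h4, K, hK1, hK2, hK3, ⟨eK⟩⟩ := structure_in_overgroup n hn P U M hU hUcard
    hUM hUM' hfaith hfull hcent z' hzU hz1 Q hQ
  obtain ⟨e⟩ := glEquivSL (m := n)
  exact ⟨h1, h2, h3, h4, K, hK1, hK2, hK3, ⟨eK.trans e⟩⟩

section SL

open Matrix

variable {m : ℕ}

/-- The matrix of an affine map fixing the first basis vector. -/
def mk (a : Fin m → ZMod 2) (A : Matrix (Fin m) (Fin m) (ZMod 2)) : Matrix (Fin (m + 1)) (Fin (m + 1)) (ZMod 2) :=
  Matrix.of (Fin.cons (Fin.cons 1 a) fun i => Fin.cons 0 (A i))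

theorem mk_mul (a b : Fin m → ZMod 2) (A B : Matrix (Fin m) (Fin m) (ZMod 2)) :
    mk a A * mk b B = mk (b + a ᵥ* B) (A * B) := by
  ext i j
  rw [mul_apply, Fin.sum_univ_succ]
  cases i using Fin.cases <;> cases j using Fin.cases <;> simp [mk, vecMul, dotProduct, mul_apply]

theorem mk_one : mk (0 : Fin m → ZMod 2) 1 = 1 := by
  ext i j
  cases i using Fin.cases <;> cases j using Fin.cases <;>
    simp [mk, one_apply, Fin.succ_inj, Fin.succ_ne_zero, eq_comm]

theorem mk_inj {a b : Fin m → ZMod 2} {A B : Matrix (Fin m) (Fin m) (ZMod 2)} (h : mk a A = mk b B) :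
    a = b ∧ A = B := by
  refine ⟨funext fun j => ?_, Matrix.ext fun i j => ?_⟩
  · simpa [mk] using congrFun (congrFun h 0) j.succ
  · simpa [mk] using congrFun (congrFun h i.succ) j.succ

theorem eq_mk {g : Matrix (Fin (m + 1)) (Fin (m + 1)) (ZMod 2)}
    (h : ∀ i, g i 0 = (1 : Matrix (Fin (m + 1)) (Fin (m + 1)) (ZMod 2)) i 0) :
    g = mk (fun j => g 0 j.succ) (Matrix.of fun i j => g i.succ j.succ) := by
  ext i j
  cases i using Fin.cases <;> cases j using Fin.cases <;> simp [mk, h, one_apply, Fin.succ_ne_zero]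

theorem det_eq_one {ι : Type*} [Fintype ι] [DecidableEq ι] {A B : Matrix ι ι (ZMod 2)} (h : A * B = 1) :
    A.det = 1 := by
  have h1 : A.det * B.det = 1 := by rw [← det_mul, h, det_one]
  have h2 : ∀ c d : ZMod 2, c * d = 1 → c = 1 := by decide
  exact h2 _ _ h1

theorem ne_zero_zmod2 : ∀ c : ZMod 2, c ≠ 0 → c = 1 := by decide

/-- The stabilizer of the first basis vector. -/
def stab (m : ℕ) : Subgroup (SpecialLinearGroup (Fin (m + 1)) (ZMod 2)) where
  carrier := {g : SpecialLinearGroup (Fin (m + 1)) (ZMod 2) |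
    ∀ i, g.1 i 0 = (1 : Matrix (Fin (m + 1)) (Fin (m + 1)) (ZMod 2)) i 0}
  one_mem' := fun i => rfl
  mul_mem' := fun {g h} hg hh i => by
    show (g.1 * h.1) i 0 = _
    rw [mul_apply, Finset.sum_eq_single 0]
    · rw [hh 0, one_apply_eq, mul_one, hg i]
    · intro k _ hk; rw [hh k, one_apply_ne hk, mul_zero]
    · intro h; exact absurd (Finset.mem_univ _) h
  inv_mem' := fun {g} hg i => by
    have h1 : ((g⁻¹).1 * g.1) i 0 = (1 : Matrix (Fin (m + 1)) (Fin (m + 1)) (ZMod 2)) i 0 :=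
      congrArg (fun x : SpecialLinearGroup (Fin (m + 1)) (ZMod 2) => x.1 i 0) (inv_mul_cancel g)
    rw [mul_apply, Finset.sum_eq_single 0] at h1
    · rwa [hg 0, one_apply_eq, mul_one] at h1
    · intro k _ hk; rw [hg k, one_apply_ne hk, mul_zero]
    · intro h; exact absurd (Finset.mem_univ _) h

theorem mk_mem (a : Fin m → ZMod 2) (A : Matrix (Fin m) (Fin m) (ZMod 2)) (h : (mk a A).det = 1) :
    (⟨mk a A, h⟩ : SpecialLinearGroup (Fin (m + 1)) (ZMod 2)) ∈ stab m := by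
  show ∀ i, mk a A i 0 = _
  intro i
  cases i using Fin.cases <;> simp [mk, one_apply, Fin.succ_ne_zero]

/-- The translations. -/
def rho (m : ℕ) : Multiplicative (Fin m → ZMod 2) →* ↥(stab m) where
  toFun a := ⟨⟨mk a.toAdd 1, det_eq_one (B := mk a.toAdd 1) (by
    rw [mk_mul, vecMul_one, one_mul, ← mk_one]
    congr 1
    exact funext fun j => CharTwo.add_self_eq_zero _)⟩, mk_mem _ _ _⟩
  map_one' := Subtype.ext (Subtype.ext mk_one)
  map_mul' a b := Subtype.ext (Subtype.ext (by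
    show mk (a * b).toAdd 1 = mk a.toAdd 1 * mk b.toAdd 1
    rw [mk_mul, vecMul_one, one_mul, toAdd_mul]
    congr 1
    exact add_comm _ _))

/-- The linear parts. -/
def sigma (m : ℕ) : SpecialLinearGroup (Fin m) (ZMod 2) →* ↥(stab m) where
  toFun A := ⟨⟨mk 0 A, det_eq_one (B := mk 0 (A⁻¹).1) (by
    rw [mk_mul, zero_vecMul, zero_add, show A.1 * (A⁻¹).1 = 1 from congrArg Subtype.val (mul_inv_cancel A),
      mk_one])⟩, mk_mem _ _ _⟩
  map_one' := Subtype.ext (Subtype.ext mk_one)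
  map_mul' A B := Subtype.ext (Subtype.ext (by
    show mk 0 (A.1 * B.1) = mk 0 A.1 * mk 0 B.1
    rw [mk_mul, zero_vecMul, add_zero]))

theorem rho_injective : Function.Injective (rho m) := fun a b h =>
  Multiplicative.toAdd.injective (mk_inj (congrArg (fun x : ↥(stab m) => x.1.1) h)).1

theorem sigma_conj (A : SpecialLinearGroup (Fin m) (ZMod 2)) (a : Multiplicative (Fin m → ZMod 2)) :
    sigma m A * rho m a * (sigma m A)⁻¹ =
      rho m (Multiplicative.ofAdd (a.toAdd ᵥ* (A⁻¹ : SpecialLinearGroup (Fin m) (ZMod 2)).1)) := by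
  rw [← map_inv]
  refine Subtype.ext (Subtype.ext ?_)
  show mk 0 A.1 * mk a.toAdd 1 * mk 0 (A⁻¹).1 = mk (a.toAdd ᵥ* (A⁻¹).1) 1
  rw [mk_mul, mk_mul, mul_one, zero_vecMul, add_zero, zero_add,
    show A.1 * (A⁻¹).1 = 1 from congrArg Subtype.val (mul_inv_cancel A)]

/-- The transvection case. -/
theorem affine_SL (n : ℕ) (z : SpecialLinearGroup (Fin (n + 2)) (ZMod 2))
    (hz : (z : Matrix (Fin (n + 2)) (Fin (n + 2)) (ZMod 2)) = Matrix.transvection 0 1 1) :
    IsAffineLocal n z := by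
  haveI : Fact (Nat.Prime 2) := ⟨Nat.prime_two⟩
  set U := (rho (n + 1)).range with hU
  set M := (sigma (n + 1)).range with hM
  have hdec : ∀ g : ↥(stab (n + 1)), ∃ a A, g = rho (n + 1) a * sigma (n + 1) A := by
    intro g
    have hg := eq_mk (m := n + 1) (g := g.1.1) g.2
    generalize (fun j : Fin (n + 1) => g.1.1 0 j.succ) = a at hg
    generalize (Matrix.of fun i j : Fin (n + 1) => g.1.1 i.succ j.succ) = A at hg
    have hA : A.det = 1 := by
      have h1 := eq_mk (m := n + 1) (g := (g⁻¹).1.1) (g⁻¹).2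
      generalize (fun j : Fin (n + 1) => (g⁻¹).1.1 0 j.succ) = b at h1
      generalize (Matrix.of fun i j : Fin (n + 1) => (g⁻¹).1.1 i.succ j.succ) = B at h1
      have h2 : g.1.1 * (g⁻¹).1.1 = 1 :=
        congrArg (fun x : ↥(stab (n + 1)) => x.1.1) (mul_inv_cancel g)
      rw [hg, h1, mk_mul, ← mk_one] at h2
      exact det_eq_one (mk_inj h2).2
    obtain ⟨B, rfl⟩ : ∃ B : SpecialLinearGroup (Fin (n + 1)) (ZMod 2), B.1 = A := ⟨⟨A, hA⟩, rfl⟩
    refine ⟨Multiplicative.ofAdd (a ᵥ* (B⁻¹).1), B, Subtype.ext (Subtype.ext ?_)⟩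
    show g.1.1 = mk _ 1 * mk 0 B.1
    rw [hg, mk_mul, one_mul, zero_add, toAdd_ofAdd, vecMul_vecMul,
      show (B⁻¹).1 * B.1 = 1 from congrArg (fun x : SpecialLinearGroup (Fin (n + 1)) (ZMod 2) => x.1)
        (inv_mul_cancel B), vecMul_one]
  haveI hUn : U.Normal := by
    refine ⟨fun u hu g => ?_⟩
    obtain ⟨b, rfl⟩ := hu
    obtain ⟨a, A, rfl⟩ := hdec g
    have h : rho (n + 1) a * sigma (n + 1) A * rho (n + 1) b * (rho (n + 1) a * sigma (n + 1) A)⁻¹ =
        rho (n + 1) a * (sigma (n + 1) A * rho (n + 1) b * (sigma (n + 1) A)⁻¹) * (rho (n + 1) a)⁻¹ := by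
      group
    rw [h, sigma_conj]
    exact mul_mem (mul_mem ⟨_, rfl⟩ ⟨_, rfl⟩) (inv_mem ⟨_, rfl⟩)
  have hUexp : ∀ u ∈ U, u ^ 2 = 1 := by
    rintro _ ⟨a, rfl⟩
    rw [← map_pow, pow_two, show a * a = 1 from
      Multiplicative.toAdd.injective (funext fun j => CharTwo.add_self_eq_zero _), map_one]
  have hUel : Cfsg.IsElementaryAbelian 2 U :=
    ⟨⟨⟨by rintro ⟨_, a, rfl⟩ ⟨_, b, rfl⟩; exact Subtype.ext (by simp only [Subgroup.coe_mul, ← map_mul, mul_comm a])⟩⟩, hUexp⟩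
  have hUcard : Nat.card ↥U = 2 ^ (n + 1) := by
    rw [hU, ← Nat.card_congr (MonoidHom.ofInjective rho_injective).toEquiv,
      Nat.card_congr Multiplicative.toAdd, Nat.card_fun, Nat.card_zmod, Nat.card_fin]
  have hUM : U ⊓ M = ⊥ := by
    rw [eq_bot_iff]
    rintro g ⟨⟨a, rfl⟩, A, hA⟩
    obtain ⟨h1, -⟩ := mk_inj (congrArg (fun x : ↥(stab (n + 1)) => x.1.1) hA)
    rw [mem_bot, show a = 1 from Multiplicative.toAdd.injective h1.symm, map_one]
  have hUM' : U ⊔ M = ⊤ := eq_top_iff.2 fun g _ => by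
    obtain ⟨a, A, rfl⟩ := hdec g
    exact mul_mem (mem_sup_left ⟨a, rfl⟩) (mem_sup_right ⟨A, rfl⟩)
  have hfaith : ∀ x ∈ M, (∀ u ∈ U, x * u * x⁻¹ = u) → x = 1 := by
    rintro _ ⟨A, rfl⟩ h
    have h1 : ∀ v, v ᵥ* (A⁻¹).1 = v := fun v => by
      have h2 := h _ ⟨Multiplicative.ofAdd v, rfl⟩
      rw [sigma_conj] at h2
      exact congrArg Multiplicative.toAdd (rho_injective h2)
    have h3 : A⁻¹ = 1 := Subtype.ext (Matrix.ext_iff_vecMul.2 fun v => (h1 v).trans (vecMul_one v).symm)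
    rw [inv_eq_one.1 h3, map_one]
  have hfull : ∀ φ : ↥U ≃* ↥U, ∃ x ∈ M, ∀ u : ↥U, ((φ u : ↥U) : ↥(stab (n + 1))) = x * u * x⁻¹ := by
    intro φ
    let e : Multiplicative (Fin (n + 1) → ZMod 2) ≃* ↥U := MonoidHom.ofInjective rho_injective
    let ψ := (e.trans φ).trans e.symm
    let L : (Fin (n + 1) → ZMod 2) →ₗ[ZMod 2] (Fin (n + 1) → ZMod 2) :=
      AddMonoidHom.toZModLinearMap 2 (AddMonoidHom.mk' (fun v => (ψ (Multiplicative.ofAdd v)).toAdd)
        fun v w => by rw [← toAdd_mul, ← map_mul, ← ofAdd_add])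
    let L' : (Fin (n + 1) → ZMod 2) →ₗ[ZMod 2] (Fin (n + 1) → ZMod 2) :=
      AddMonoidHom.toZModLinearMap 2 (AddMonoidHom.mk' (fun v => (ψ.symm (Multiplicative.ofAdd v)).toAdd)
        fun v w => by rw [← toAdd_mul, ← map_mul, ← ofAdd_add])
    have hLL : LinearMap.toMatrix' L' * LinearMap.toMatrix' L = 1 := by
      rw [← LinearMap.toMatrix'_comp, show L'.comp L = LinearMap.id from LinearMap.ext fun v => ?_,
        LinearMap.toMatrix'_id]
      exact congrArg Multiplicative.toAdd (ψ.symm_apply_apply (Multiplicative.ofAdd v))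
    let A : SpecialLinearGroup (Fin (n + 1)) (ZMod 2) :=
      ⟨(LinearMap.toMatrix' L)ᵀ, det_eq_one (B := (LinearMap.toMatrix' L')ᵀ)
        (by rw [← transpose_mul, hLL, transpose_one])⟩
    refine ⟨sigma (n + 1) A⁻¹, ⟨_, rfl⟩, fun u => ?_⟩
    obtain ⟨a, rfl⟩ := e.surjective u
    show _ = sigma (n + 1) A⁻¹ * rho (n + 1) a * (sigma (n + 1) A⁻¹)⁻¹
    rw [sigma_conj, inv_inv]
    show _ = rho (n + 1) (Multiplicative.ofAdd (a.toAdd ᵥ* (LinearMap.toMatrix' L)ᵀ))
    rw [vecMul_transpose, LinearMap.toMatrix'_mulVec]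
    show _ = rho (n + 1) (ψ a)
    have : φ (e a) = e (ψ a) := (e.apply_symm_apply _).symm
    rw [this]
    rfl
  have hcent : ∀ u ∈ U, u ≠ 1 →
      centralizer ({(u : SpecialLinearGroup (Fin (n + 2)) (ZMod 2))} : Set (SpecialLinearGroup (Fin (n + 2)) (ZMod 2))) ≤ stab (n + 1) := by
    rintro _ ⟨a, rfl⟩ hu g hg
    obtain ⟨j, hj⟩ : ∃ j, a.toAdd j ≠ 0 := by
      by_contra h
      push Not at h
      exact hu (by rw [show a = 1 from Multiplicative.toAdd.injective (funext h), map_one])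
    have h01 : ∀ c : ZMod 2, c ≠ 0 → c = 1 := fun c h => (ne_zero_zmod2 c h)
    have he : g.1 * mk a.toAdd 1 = mk a.toAdd 1 * g.1 :=
      congrArg (fun x : SpecialLinearGroup (Fin (n + 1 + 1)) (ZMod 2) => x.1)
        (mem_centralizer_singleton_iff.1 hg)
    have hne : ∀ i : Fin (n + 1), g.1 i.succ 0 = 0 := by
      intro i
      have h1 := congrFun (congrFun he i.succ) j.succ
      simp only [mul_apply, Fin.sum_univ_succ (n := n + 1)] at h1
      simpa [mk, one_apply, h01 _ hj] using h1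
    show ∀ i, g.1 i 0 = (1 : Matrix (Fin (n + 1 + 1)) (Fin (n + 1 + 1)) (ZMod 2)) i 0
    intro i
    cases i using Fin.cases with
    | succ i => rw [hne i, one_apply_ne (Fin.succ_ne_zero i)]
    | zero =>
      rw [one_apply_eq]
      refine h01 _ fun h0 => ?_
      have h1 : g.1.det = 0 := det_eq_zero_of_column_eq_zero 0 fun i => by
        cases i using Fin.cases with
        | succ i => exact hne i
        | zero => exact h0
      rw [g.2] at h1
      exact one_ne_zero h1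
  let z' : ↥(stab (n + 1)) := rho (n + 1) (Multiplicative.ofAdd (Pi.single 0 1))
  have hz' : (z' : SpecialLinearGroup (Fin (n + 2)) (ZMod 2)) = z := by
    refine Subtype.ext ?_
    show mk (Pi.single 0 1) 1 = z.1
    rw [hz, show (1 : Fin (n + 2)) = Fin.succ 0 from Fin.succ_zero_eq_one.symm]
    ext i j
    cases i using Fin.cases <;> cases j using Fin.cases <;>
      simp [mk, Matrix.transvection, Matrix.single, one_apply, Pi.single_apply, Fin.succ_ne_zero,
        -Fin.succ_zero_eq_one, -Fin.succ_zero_eq_one', Fin.succ_inj, eq_comm]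
  have hz1 : z' ≠ 1 := by
    intro h
    have := congrFun (congrArg Multiplicative.toAdd (rho_injective (h.trans (map_one _).symm))) 0
    simp at this
  exact ⟨stab (n + 1), U, M, hUn, hUel, hUcard, hUM, hUM', hfaith, hfull, hcent, z', ⟨_, rfl⟩, hz1, hz'⟩

end SL

end CfsgLib.Spor.Affine
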