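import Cfsg.Agent.Lib.Spor.AffineModel

/-!
# A group `2⁴ : GL(4, 2)` is the stabiliser of a vector in `SL(5, 2)`
-/

set_option autoImplicit false
set_option linter.style.haveILetI false

open Subgroup Matrix

namespace CfsgLib.Spor.Affine

variable {P : Type*} [Group P] [Finite P]

theorem card_SL_four : Nat.card (SpecialLinearGroup (Fin 4) (ZMod 2)) = 20160 := by
  haveI : Fact (Nat.Prime 2) := ⟨Nat.prime_two⟩
  obtain ⟨e⟩ := glEquivSL (m := 4)
  rw [← Nat.card_congr e.toEquiv, Matrix.card_GL_field]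
  simp [Fin.prod_univ_succ]

/-- A complement of order 20160 to an elementary abelian normal subgroup of order 16, acting
faithfully, makes the group the stabiliser of a vector. -/
theorem nonempty_equiv_stabilizer (U M : Subgroup P) [U.Normal] (hU : Cfsg.IsElementaryAbelian 2 U)
    (hUcard : Nat.card U = 16) (hc : IsComplement' U M) (hM : Nat.card M = 20160)
    (hfaith : ∀ m ∈ M, (∀ u ∈ U, m * u * m⁻¹ = u) → m = 1) :
    ∃ v : Fin 5 → ZMod 2, v ≠ 0 ∧
      Nonempty (P ≃* MulAction.stabilizer (SpecialLinearGroup (Fin 5) (ZMod 2)) v) := by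
  haveI : Fact (Nat.Prime 2) := ⟨Nat.prime_two⟩
  haveI := hU.1
  obtain ⟨z, hz⟩ : ∃ z : U, z ≠ 1 := by
    haveI : Nontrivial U := Finite.one_lt_card_iff_nontrivial.1 (by omega)
    exact exists_ne 1
  obtain ⟨e₀, -⟩ := exists_coord (fun x : ↥U => Subtype.ext (by simpa using hU.2 x x.2)) 3 hUcard z hz
  have hfr : Module.finrank (ZMod 2) ((Fin 3 → ZMod 2) × ZMod 2) = 4 := by simp
  let e : U ≃* Multiplicative (Fin 4 → ZMod 2) :=
    e₀.trans (AddEquiv.toMultiplicative (Module.finBasisOfFinrankEq (ZMod 2) _ hfr).equivFun.toAddEquiv)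
  let ψ : MulAut U → ((Fin 4 → ZMod 2) →ₗ[ZMod 2] (Fin 4 → ZMod 2)) := fun a =>
    AddMonoidHom.toZModLinearMap 2 (AddMonoidHom.mk'
      (fun v => (e (a (e.symm (Multiplicative.ofAdd v)))).toAdd)
      fun v w => by rw [← toAdd_mul, ← map_mul e, ← map_mul a, ← map_mul e.symm, ← ofAdd_add])
  have hψ : ∀ (a : MulAut U) (v : Fin 4 → ZMod 2), ψ a v = (e (a (e.symm (Multiplicative.ofAdd v)))).toAdd :=
    fun a v => rfl
  have hψmul : ∀ a b : MulAut U, ψ (a * b) = (ψ a).comp (ψ b) := fun a b => LinearMap.ext fun v => by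
    rw [LinearMap.comp_apply, hψ, hψ, hψ, MulAut.mul_apply, ofAdd_toAdd, e.symm_apply_apply]
  have hψone : ψ 1 = LinearMap.id := LinearMap.ext fun v => by simp [hψ]
  let c : M →* MulAut U := MulAut.conjNormal.comp M.subtype
  let Lm : M → Matrix (Fin 4) (Fin 4) (ZMod 2) := fun m => (LinearMap.toMatrix' (ψ (c m⁻¹)))ᵀ
  have hLmul : ∀ a b : M, Lm (a * b) = Lm a * Lm b := fun a b => by
    simp only [Lm]
    rw [_root_.mul_inv_rev, map_mul, hψmul, LinearMap.toMatrix'_comp, transpose_mul]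
  have hLone : Lm 1 = 1 := by
    simp only [Lm]; rw [inv_one, map_one, hψone, LinearMap.toMatrix'_id, transpose_one]
  let L : M →* SpecialLinearGroup (Fin 4) (ZMod 2) := MonoidHom.mk'
    (fun m => ⟨Lm m, det_eq_one (B := Lm m⁻¹) (by rw [← hLmul, mul_inv_cancel, hLone])⟩)
    fun a b => Subtype.ext (hLmul a b)
  have hLinv : ∀ (m : M) (v : Fin 4 → ZMod 2), v ᵥ* ((L m)⁻¹).1 = ψ (c m) v := fun m v => by
    rw [← map_inv]
    show v ᵥ* (LinearMap.toMatrix' (ψ (c m⁻¹⁻¹)))ᵀ = _
    rw [inv_inv, vecMul_transpose, LinearMap.toMatrix'_mulVec]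
  have hLinj : Function.Injective L := by
    refine (injective_iff_map_eq_one _).2 fun m hm => Subtype.ext (hfaith m m.2 fun u hu => ?_)
    have h1 := hLinv m (e ⟨u, hu⟩).toAdd
    have h2 : ((L m)⁻¹).1 = 1 := by rw [hm, inv_one]; rfl
    rw [h2, vecMul_one, hψ, ofAdd_toAdd, e.symm_apply_apply] at h1
    exact congrArg Subtype.val (e.injective (Multiplicative.toAdd.injective h1)).symm
  have hLsur : Function.Surjective L :=
    ((Nat.bijective_iff_injective_and_card L).2 ⟨hLinj, by rw [hM, card_SL_four]⟩).2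
  let F := SemidirectProduct.lift ((rho 4).comp e.toMonoidHom) ((sigma 4).comp L)
    (φ := U.normalizerMonoidHom.comp (Subgroup.inclusion (H := M) (U.normalizer_eq_top ▸ le_top)))
    (fun m => MonoidHom.ext fun u => by
      show rho 4 (e (c m u)) = sigma 4 (L m) * rho 4 (e u) * (sigma 4 (L m))⁻¹
      rw [sigma_conj, hLinv, hψ, ofAdd_toAdd, ofAdd_toAdd, e.symm_apply_apply])
  have hF : Function.Bijective F := by
    refine ⟨?_, ?_⟩
    · refine (injective_iff_map_eq_one _).2 fun g hg => ?_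
      have h1 : (rho 4 (e g.left)).1.1 * (sigma 4 (L g.right)).1.1 = 1 :=
        congrArg (fun x : ↥(stab 4) => x.1.1) hg
      change mk _ 1 * mk 0 _ = 1 at h1
      rw [mk_mul, one_mul, zero_add, ← mk_one] at h1
      obtain ⟨ha, hA⟩ := mk_inj h1
      have hr : g.right = 1 := hLinj (by rw [map_one]; exact Subtype.ext hA)
      rw [hA, vecMul_one] at ha
      exact SemidirectProduct.ext (e.injective ((Multiplicative.toAdd.injective ha).trans (map_one e).symm)) hr
    · intro g
      have hg := eq_mk (m := 4) (g := g.1.1) g.2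
      generalize (fun j : Fin 4 => g.1.1 0 j.succ) = a at hg
      generalize (Matrix.of fun i j : Fin 4 => g.1.1 i.succ j.succ) = A at hg
      have hA : A.det = 1 := by
        have h1 := g.1.2
        rw [hg, det_succ_column_zero, Fin.sum_univ_succ] at h1
        simp [mk, submatrix] at h1
        exact h1
      obtain ⟨m, hm⟩ := hLsur ⟨A, hA⟩
      refine ⟨⟨e.symm (Multiplicative.ofAdd (a ᵥ* ((L m)⁻¹).1)), m⟩, Subtype.ext (Subtype.ext ?_)⟩
      show (rho 4 (e (e.symm _))).1.1 * (sigma 4 (L m)).1.1 = g.1.1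
      rw [e.apply_symm_apply]
      change mk (a ᵥ* ((L m)⁻¹).1) 1 * mk 0 (L m).1 = g.1.1
      rw [hg, mk_mul, one_mul, zero_add, vecMul_vecMul,
        show ((L m)⁻¹).1 * (L m).1 = 1 from congrArg Subtype.val (inv_mul_cancel (L m)), vecMul_one, hm]
  let v₀ : Fin 5 → ZMod 2 := Pi.single 0 1
  have hst : stab 4 = MulAction.stabilizer (SpecialLinearGroup (Fin 5) (ZMod 2)) v₀ := by
    ext g
    rw [MulAction.mem_stabilizer_iff]
    show (∀ i, g.1 i 0 = _) ↔ Matrix.mulVec g.1 v₀ = v₀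
    rw [funext_iff]
    simp only [v₀, mulVec_single_one, col_apply, one_apply, Pi.single_apply]
  exact ⟨v₀, fun h => by simpa [v₀] using congrFun h 0,
    ⟨((SemidirectProduct.mulEquivSubgroup hc).symm.trans (MulEquiv.ofBijective F hF)).trans
      (MulEquiv.subgroupCongr hst)⟩⟩

end CfsgLib.Spor.Affine
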