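/-
Almost simple groups over a simple group whose outer automorphism group is symmetric of degree four, with a
quotient of order six, are unique.
-/
import Cfsg.Agent.Lib.Coprime.Component
import Cfsg.Agent.Lib.Orth.Aut.OutPlusFour
import Cfsg.Agent.Lib.Perm.Trans.QuadSimple
import Cfsg.Agent.Lib.Perm.Trans.QuadStd

set_option autoImplicit false

namespace CfsgLib.Spor.AlmostSimpleSymThree

open Subgroup

universe u v w

theorem sixes_fix : ∀ a b : Equiv.Perm (Fin 4), a * a * a = 1 → a ≠ 1 → b * b = 1 →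
    (b * a * b = a ∨ b * a * b = a * a) → ∀ i, a i = i → b i = i := by decide +kernel

theorem threes_fix : ∀ a : Equiv.Perm (Fin 4), a * a * a = 1 → ∃ i, a i = i := by decide +kernel

theorem stab_card : ∀ i : Fin 4, (Finset.univ.filter fun g : Equiv.Perm (Fin 4) => g i = i).card = 6 := by decide +kernel

/-- A subgroup of order six fixes a point. -/
theorem exists_eq_stabilizer (H : Subgroup (Equiv.Perm (Fin 4))) (hH : Nat.card H = 6) :
    ∃ i : Fin 4, H = MulAction.stabilizer (Equiv.Perm (Fin 4)) i := by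
  haveI : Fact (Nat.Prime 3) := ⟨Nat.prime_three⟩
  haveI : Fact (Nat.Prime 2) := ⟨Nat.prime_two⟩
  obtain ⟨a, ha⟩ := exists_prime_orderOf_dvd_card' (G := H) 3 (by rw [hH]; norm_num)
  obtain ⟨b, hb⟩ := exists_prime_orderOf_dvd_card' (G := H) 2 (by rw [hH]; norm_num)
  have hidx : (zpowers a).index = 2 := by
    have h := (zpowers a).index_mul_card
    rw [Nat.card_zpowers, ha, hH] at h
    omega
  haveI : (zpowers a).Normal := normal_of_index_eq_two hidx
  have hb2 : b * b = 1 := by rw [← pow_two, ← hb, pow_orderOf_eq_one]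
  have ha3 : a * a * a = 1 := by rw [← pow_two, ← pow_succ, show 2 + 1 = 3 from rfl, ← ha, pow_orderOf_eq_one]
  have ha1 : a ≠ 1 := fun h => by rw [h, orderOf_one] at ha; norm_num at ha
  have hconj : b * a * b = a ∨ b * a * b = a * a := by
    have hbinv : b⁻¹ = b := inv_eq_of_mul_eq_one_right hb2
    have h1 : b * a * b⁻¹ ∈ zpowers a := Subgroup.Normal.conj_mem inferInstance a (mem_zpowers a) b
    rw [hbinv] at h1
    obtain ⟨n, hn⟩ := mem_zpowers_iff.1 h1
    rw [← zpow_mod_orderOf, ha] at hn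
    have h0 := Int.emod_nonneg n (show ((3 : ℕ) : ℤ) ≠ 0 by norm_num)
    have h3 := Int.emod_lt_of_pos n (show (0 : ℤ) < ((3 : ℕ) : ℤ) by norm_num)
    generalize n % ((3 : ℕ) : ℤ) = r at hn h0 h3
    interval_cases r
    · rw [zpow_zero] at hn
      refine absurd ?_ ha1
      calc a = b * (b * a * b) * b := by simp only [mul_assoc, hb2, mul_one]; rw [← mul_assoc, hb2, one_mul]
        _ = 1 := by rw [← hn, mul_one, hb2]
    · rw [zpow_one] at hn; exact Or.inl hn.symm
    · rw [show (2 : ℤ) = ((2 : ℕ) : ℤ) from rfl, zpow_natCast, pow_two] at hn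
      exact Or.inr hn.symm
  obtain ⟨i, hi⟩ := threes_fix (a : Equiv.Perm (Fin 4)) (congrArg Subtype.val ha3)
  have hbi : (b : Equiv.Perm (Fin 4)) i = i := sixes_fix a b (congrArg Subtype.val ha3)
    (fun h => ha1 (Subtype.ext h)) (congrArg Subtype.val hb2)
    (hconj.imp (congrArg Subtype.val) (congrArg Subtype.val)) i hi
  set S := (MulAction.stabilizer (Equiv.Perm (Fin 4)) i).subgroupOf H
  have haS : a ∈ S := mem_subgroupOf.2 hi
  have hbS : b ∈ S := mem_subgroupOf.2 hbi
  have h3 : 3 ∣ Nat.card S := ha ▸ Subgroup.orderOf_coe (⟨a, haS⟩ : S) ▸ orderOf_dvd_natCard _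
  have h2 : 2 ∣ Nat.card S := hb ▸ Subgroup.orderOf_coe (⟨b, hbS⟩ : S) ▸ orderOf_dvd_natCard _
  have h6 : 6 ∣ Nat.card S := (show Nat.Coprime 2 3 by norm_num).mul_dvd_of_dvd_of_dvd h2 h3
  have hS : S = ⊤ := Subgroup.eq_top_of_le_card S (by rw [hH]; exact Nat.le_of_dvd Nat.card_pos h6)
  refine ⟨i, eq_of_le_of_card_ge (subgroupOf_eq_top.1 hS) ?_⟩
  rw [hH, ← stab_card i, ← Fintype.card_subtype, ← Nat.card_eq_fintype_card]
  exact le_of_eq (Nat.card_congr (Equiv.refl _))

/-- Two subgroups of order six are conjugate. -/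
theorem conj_six (H K : Subgroup (Equiv.Perm (Fin 4))) (hH : Nat.card H = 6) (hK : Nat.card K = 6) :
    ∃ o : Equiv.Perm (Fin 4), H.map (MulAut.conj o).toMonoidHom = K := by
  obtain ⟨i, rfl⟩ := exists_eq_stabilizer H hH
  obtain ⟨j, rfl⟩ := exists_eq_stabilizer K hK
  refine ⟨Equiv.swap i j, ?_⟩
  ext x
  rw [mem_map_equiv, MulAction.mem_stabilizer_iff, MulAction.mem_stabilizer_iff, Equiv.Perm.smul_def,
    Equiv.Perm.smul_def, MulAut.conj_symm_apply, Equiv.Perm.mul_apply, Equiv.Perm.mul_apply, Equiv.swap_apply_left,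
    Equiv.swap_inv, Equiv.apply_eq_iff_eq_symm_apply, Equiv.symm_swap, Equiv.swap_apply_left]

variable {L : Type w} [Group L]

/-- Such a group is a subgroup of the automorphism group. -/
theorem exists_embedding [IsSimpleGroup L] (hna : center L ≠ ⊤) {G : Type u} [Group G] [Finite G]
    (hF : Nonempty (↥(Cfsg.generalizedFittingSubgroup G) ≃* L)) [(Cfsg.generalizedFittingSubgroup G).Normal]
    (hq : Nat.card (G ⧸ Cfsg.generalizedFittingSubgroup G) = 6) :
    ∃ A : Subgroup (MulAut L), Cfsg.Inn L ≤ A ∧ Nat.card (A.map (QuotientGroup.mk' (Cfsg.Inn L))) = 6 ∧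
      Nonempty (G ≃* A) := by
  obtain ⟨e⟩ := hF
  set F := Cfsg.generalizedFittingSubgroup G with hFdef
  have hz : center L = ⊥ := (inferInstance : (center L).Normal).eq_bot_or_eq_top.resolve_right hna
  haveI : Finite L := Finite.of_equiv _ e.toEquiv
  let ρ : G →* MulAut L := (MulAut.congr e).toMonoidHom.comp (MulAut.conjNormal : G →* MulAut F)
  have hρ : ∀ g l, ρ g l = e (MulAut.conjNormal g (e.symm l)) := fun g l => rfl
  have hinj : Function.Injective ρ := by
    refine (injective_iff_map_eq_one ρ).2 fun g hg => ?_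
    have hc : g ∈ centralizer (F : Set G) := mem_centralizer_iff.2 fun x hx => by
      have h1 : e (MulAut.conjNormal g (e.symm (e ⟨x, hx⟩))) = e ⟨x, hx⟩ := by
        rw [← hρ, hg]; rfl
      rw [e.symm_apply_apply] at h1
      have h2 : g * x * g⁻¹ = x := congrArg Subtype.val (e.injective h1)
      calc x * g = g * x * g⁻¹ * g := by rw [h2]
        _ = g * x := by group
    have hgF : g ∈ F := CfsgLib.Coprime.centralizer_generalizedFitting_le hc
    have h3 : e ⟨g, hgF⟩ ∈ center L := mem_center_iff.2 fun l => by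
      obtain ⟨y, rfl⟩ := e.surjective l
      rw [← map_mul, ← map_mul]
      exact congrArg e (Subtype.ext (mem_centralizer_iff.1 hc _ y.2))
    rw [hz, mem_bot, map_eq_one_iff _ e.injective] at h3
    exact congrArg Subtype.val h3
  have hinn : F.map ρ = Cfsg.Inn L := by
    ext α
    constructor
    · rintro ⟨x, hx, rfl⟩
      refine ⟨e ⟨x, hx⟩, MulEquiv.ext fun l => ?_⟩
      rw [hρ, MulAut.conj_apply]
      conv_lhs => rw [← e.apply_symm_apply l, ← map_inv, ← map_mul, ← map_mul]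
      rfl
    · rintro ⟨l, rfl⟩
      refine ⟨(e.symm l : G), (e.symm l).2, MulEquiv.ext fun m => ?_⟩
      rw [hρ, MulAut.conj_apply]
      have h : (MulAut.conjNormal ((e.symm l : F) : G) : MulAut F) (e.symm m) = e.symm (l * m * l⁻¹) := by
        rw [map_mul, map_mul, map_inv]
        rfl
      rw [h, e.apply_symm_apply]
  refine ⟨ρ.range, ?_, ?_, ⟨MonoidHom.ofInjective hinj⟩⟩
  · rw [← hinn]; exact map_le_range _ _
  · let f : G →* Cfsg.Out L := (QuotientGroup.mk' (Cfsg.Inn L)).comp ρ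
    have hker : f.ker = F := by
      rw [← MonoidHom.comap_ker, QuotientGroup.ker_mk', ← hinn, comap_map_eq_self_of_injective hinj]
    have h1 : Nat.card f.range = 6 := by
      rw [← Nat.card_congr (QuotientGroup.quotientKerEquivRange f).toEquiv,
        Nat.card_congr (QuotientGroup.quotientMulEquivOfEq hker).toEquiv, hq]
    rwa [MonoidHom.range_comp] at h1

/-- Uniqueness. -/
theorem nonempty_equiv [IsSimpleGroup L] (hna : center L ≠ ⊤) (out : Cfsg.Out L ≃* Equiv.Perm (Fin 4))
    {G : Type u} {G' : Type v} [Group G] [Finite G] [Group G'] [Finite G']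
    (hF : Nonempty (↥(Cfsg.generalizedFittingSubgroup G) ≃* L))
    (hF' : Nonempty (↥(Cfsg.generalizedFittingSubgroup G') ≃* L))
    [(Cfsg.generalizedFittingSubgroup G).Normal] [(Cfsg.generalizedFittingSubgroup G').Normal]
    (hq : Nat.card (G ⧸ Cfsg.generalizedFittingSubgroup G) = 6)
    (hq' : Nat.card (G' ⧸ Cfsg.generalizedFittingSubgroup G') = 6) : Nonempty (G ≃* G') := by
  obtain ⟨A, hA, hA6, ⟨f⟩⟩ := exists_embedding hna hF hq
  obtain ⟨B, hB, hB6, ⟨f'⟩⟩ := exists_embedding hna hF' hq'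
  let π := QuotientGroup.mk' (Cfsg.Inn L)
  obtain ⟨o, ho⟩ := conj_six ((A.map π).map out.toMonoidHom) ((B.map π).map out.toMonoidHom)
    (by rw [card_map_of_injective out.injective]; exact hA6) (by rw [card_map_of_injective out.injective]; exact hB6)
  obtain ⟨α, hα⟩ := QuotientGroup.mk'_surjective (Cfsg.Inn L) (out.symm o)
  have hmap : (A.map (MulAut.conj α).toMonoidHom).map π = B.map π := by
    refine map_injective out.injective (f := out.toMonoidHom) ?_
    rw [← ho, map_map, map_map, map_map, map_map]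
    congr 1
    refine MonoidHom.ext fun x => ?_
    show out (π (α * x * α⁻¹)) = o * out (π x) * o⁻¹
    rw [map_mul, map_mul, map_inv, map_mul, map_mul, map_inv, show π α = out.symm o from hα, out.apply_symm_apply]
  have hI : Cfsg.Inn L ≤ A.map (MulAut.conj α).toMonoidHom := by
    intro x hx
    refine ⟨α⁻¹ * x * α, hA ?_, ?_⟩
    · have := (Cfsg.innNormal L).conj_mem x hx α⁻¹
      rwa [inv_inv] at this
    · show α * (α⁻¹ * x * α) * α⁻¹ = x
      group
  have heq : A.map (MulAut.conj α).toMonoidHom = B := by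
    have h := congrArg (Subgroup.comap π) hmap
    rw [comap_map_eq, comap_map_eq, QuotientGroup.ker_mk', sup_eq_left.2 hI, sup_eq_left.2 hB] at h
    exact h
  exact ⟨f.trans (((MulAut.conj α).subgroupMap A).trans ((MulEquiv.subgroupCongr heq).trans f'.symm))⟩

theorem pomega_eight_three {G : Type u} {G' : Type v} [Group G] [Finite G] [Group G'] [Finite G']
    (hF : Nonempty (↥(Cfsg.generalizedFittingSubgroup G) ≃* Cfsg.POmega (ZMod 3) (Cfsg.quadFormPlus 4 (ZMod 3))))
    (hF' : Nonempty (↥(Cfsg.generalizedFittingSubgroup G') ≃* Cfsg.POmega (ZMod 3) (Cfsg.quadFormPlus 4 (ZMod 3))))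
    [(Cfsg.generalizedFittingSubgroup G).Normal] [(Cfsg.generalizedFittingSubgroup G').Normal]
    (hq : Nonempty (G ⧸ Cfsg.generalizedFittingSubgroup G ≃* Equiv.Perm (Fin 3)))
    (hq' : Nonempty (G' ⧸ Cfsg.generalizedFittingSubgroup G' ≃* Equiv.Perm (Fin 3))) : Nonempty (G ≃* G') := by
  haveI : Fact (Nat.Prime 3) := ⟨Nat.prime_three⟩
  haveI : IsSimpleGroup (Cfsg.POmega (ZMod 3) (Cfsg.quadFormPlus 4 (ZMod 3))) :=
    CfsgLib.Perm.Trans.Quad.pomega_isSimple CfsgLib.Perm.Trans.Quad.quadFormPlus_nd (by decide)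
  obtain ⟨out⟩ := (CfsgLib.Orth.out_plus_four (F := ZMod 3) (p := 3) (f := 1) le_rfl
    (by rw [ZMod.card, pow_one])).2.2 (by norm_num)
  haveI : Unique (Multiplicative (ZMod 1)) :=
    ⟨⟨1⟩, fun x => Multiplicative.toAdd.injective (Subsingleton.elim _ _)⟩
  have out' : Cfsg.Out (Cfsg.POmega (ZMod 3) (Cfsg.quadFormPlus 4 (ZMod 3))) ≃* Equiv.Perm (Fin 4) :=
    out.trans MulEquiv.prodUnique
  have six : Nat.card (Equiv.Perm (Fin 3)) = 6 := by rw [Nat.card_perm, Nat.card_fin]; rfl
  refine nonempty_equiv ?_ out' hF hF' (by rw [Nat.card_congr hq.some.toEquiv, six])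
    (by rw [Nat.card_congr hq'.some.toEquiv, six])
  intro htop
  -- otherwise the outer automorphism group would be abelian
  have hab : ∀ a b : Cfsg.POmega (ZMod 3) (Cfsg.quadFormPlus 4 (ZMod 3)), a * b = b * a := fun a b =>
    (mem_center_iff.1 (htop ▸ mem_top b) a)
  letI : CommGroup (Cfsg.POmega (ZMod 3) (Cfsg.quadFormPlus 4 (ZMod 3))) :=
    { (inferInstance : Group _) with mul_comm := hab }
  haveI : IsCyclic (Cfsg.POmega (ZMod 3) (Cfsg.quadFormPlus 4 (ZMod 3))) := IsSimpleGroup.isCyclic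
  obtain ⟨g, hg⟩ := IsCyclic.exists_generator (α := Cfsg.POmega (ZMod 3) (Cfsg.quadFormPlus 4 (ZMod 3)))
  have hcomm : ∀ α β : MulAut (Cfsg.POmega (ZMod 3) (Cfsg.quadFormPlus 4 (ZMod 3))), α * β = β * α := by
    intro α β
    obtain ⟨m, hm⟩ := mem_zpowers_iff.1 (hg (α g))
    obtain ⟨n, hn⟩ := mem_zpowers_iff.1 (hg (β g))
    refine MulEquiv.ext fun x => ?_
    obtain ⟨k, rfl⟩ := mem_zpowers_iff.1 (hg x)
    simp only [MulAut.mul_apply, map_zpow, ← hm, ← hn, ← zpow_mul]
    rw [mul_comm n m]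
  have habs : ∀ a b : Equiv.Perm (Fin 4), a * b = b * a := fun a b => by
    obtain ⟨x, hx⟩ := QuotientGroup.mk'_surjective _ (out'.symm a)
    obtain ⟨y, hy⟩ := QuotientGroup.mk'_surjective _ (out'.symm b)
    apply out'.symm.injective
    rw [map_mul, map_mul, ← hx, ← hy, ← map_mul, ← map_mul, hcomm]
  exact absurd (habs (Equiv.swap 0 1) (Equiv.swap 1 2)) (by decide +kernel)

end CfsgLib.Spor.AlmostSimpleSymThree
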