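import Cfsg.Agent.Lib.Spor.GolayModule
/-!
Linear maps of the binary Golay code which keep every weight up to complementation are, modulo the all-one word,
permutations from `M24`.
-/
set_option autoImplicit false

namespace Cfsg.Agent.Lib.Spor.GolayWeights

open Cfsg CfsgLib.Spor Finset
open scoped Pointwise

/-- The sign of an element of the field with two elements. -/
def sg (a : ZMod 2) : ℤ := if a = 0 then 1 else -1

theorem sg_add : ∀ a b : ZMod 2, sg (a + b) = sg a * sg b := by decide

theorem sg_one_add : ∀ a : ZMod 2, sg (a + 1) = - sg a := by decide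

theorem z2_cases : ∀ a : ZMod 2, a = 0 ∨ a = 1 := by decide

theorem z2_add_self : ∀ a : ZMod 2, a + a = 0 := by decide

theorem z2_add_eq_zero : ∀ a b : ZMod 2, a + b = 0 ↔ a = b := by decide

theorem char_sum {V : Type*} [AddCommGroup V] [Fintype V] (f : V →+ ZMod 2) :
    (f = 0 → ∑ c, sg (f c) = (Fintype.card V : ℤ)) ∧ (f ≠ 0 → ∑ c, sg (f c) = 0) := by
  constructor
  · rintro rfl
    simp [sg]
  · intro h
    obtain ⟨c0, hc0⟩ : ∃ c0, f c0 ≠ 0 := by
      by_contra hh
      push Not at hh
      exact h (AddMonoidHom.ext hh)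
    have h1 : f c0 = 1 := (z2_cases _).resolve_left hc0
    have : ∑ c, sg (f c) = ∑ c, sg (f (c + c0)) :=
      (Fintype.sum_equiv (Equiv.addRight c0) _ _ fun _ => rfl).symm
    simp only [map_add, h1, sg_one_add, Finset.sum_neg_distrib] at this
    omega

theorem char_sum_nonneg {V : Type*} [AddCommGroup V] [Fintype V] (f : V →+ ZMod 2) : 0 ≤ ∑ c, sg (f c) := by
  by_cases h : f = 0
  · rw [(char_sum f).1 h]; exact Int.natCast_nonneg _
  · rw [(char_sum f).2 h]

/-- Evaluation at a point as an additive map on the code. -/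
def ev (p : GolayPt) : ↥golayCode →+ ZMod 2 where
  toFun c := (c : GolayPt → ZMod 2) p
  map_zero' := rfl
  map_add' _ _ := rfl

@[simp] theorem ev_apply (p : GolayPt) (c : ↥golayCode) : ev p c = (c : GolayPt → ZMod 2) p := rfl

theorem sum_pair_mul (p q : GolayPt) (v : GolayPt → ZMod 2) :
    ∑ r, v r * pairWord p q r = v p + v q := by
  simp [pairWord, mul_add, Finset.sum_add_distrib, Pi.single_apply]

theorem word_row_dot {w : GolayPt → ZMod 2} (h : ∀ c : ↥golayCode, ∑ r, (c : GolayPt → ZMod 2) r * w r = 0) :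
    w ∈ golayCode :=
  mem_golayCode_iff.2 fun r hr => by rw [dotWord_apply]; exact h ⟨word r, word_row_mem hr⟩

theorem eq_zero_of_small {w : GolayPt → ZMod 2} (h : ∀ c : ↥golayCode, ∑ r, (c : GolayPt → ZMod 2) r * w r = 0)
    (s : Finset GolayPt) (hs : ∀ r, r ∉ s → w r = 0) (h6 : s.card ≤ 6) : w = 0 := by
  have hw := word_row_dot h
  have hle : (support₂ w).card ≤ s.card := Finset.card_le_card fun r hr => by
    by_contra hh
    simp [support₂, hs r hh] at hr
  have hd := card_of_mem_supports (s := support₂ w) ⟨w, hw, rfl⟩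
  have h0 : (support₂ w).card = 0 := by omega
  refine support₂_injective ?_
  rw [Finset.card_eq_zero.1 h0]
  simp [support₂]

theorem pair_ne_zero {p q : GolayPt} (h : p ≠ q) : ev p + ev q ≠ 0 := by
  intro h0
  have hz := eq_zero_of_small (w := pairWord p q) (fun c => by
    rw [sum_pair_mul]; exact DFunLike.congr_fun h0 c) {p, q} (fun r hr => by
    simp only [mem_insert, mem_singleton, not_or] at hr
    simp [pairWord, hr.1, hr.2]) (by have := Finset.card_le_two (a := p) (b := q); omega)
  have := congrFun hz p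
  simp [pairWord, h] at this

/-- The signed weight of a word. -/
def sw (c : ↥golayCode) : ℤ := ∑ p, sg ((c : GolayPt → ZMod 2) p)

variable (x : ↥golayCode ≃ₗ[ZMod 2] ↥golayCode)

theorem exists_pair (hx : ∀ c, sw (x c) ^ 2 = sw c ^ 2) {p q : GolayPt} (hpq : p ≠ q) :
    ∃ i j : GolayPt, i ≠ j ∧ ∀ c : ↥golayCode, ((x c : ↥golayCode) : GolayPt → ZMod 2) p +
      ((x c : ↥golayCode) : GolayPt → ZMod 2) q = (c : GolayPt → ZMod 2) i + (c : GolayPt → ZMod 2) j := by
  classical
  haveI : Fintype ↥golayCode := Fintype.ofFinite _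
  let g : ↥golayCode →+ ZMod 2 := ev p + ev q
  let f : ↥golayCode →+ ZMod 2 := g.comp x.toLinearMap.toAddMonoidHom
  have expand : ∀ h : ↥golayCode →+ ZMod 2,
      ∑ c, sg (h c) * sw c ^ 2 = ∑ i, ∑ j, ∑ c, sg ((h + ev i + ev j) c) := by
    intro h
    simp only [AddMonoidHom.add_apply, ev_apply, sg_add, sw, sq, Finset.sum_mul_sum]
    rw [Finset.sum_comm]
    simp only [Finset.mul_sum]
    rw [Finset.sum_comm]
    refine Finset.sum_congr rfl fun i _ => ?_
    rw [Finset.sum_comm]
    refine Finset.sum_congr rfl fun j _ => Finset.sum_congr rfl fun c _ => ?_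
    ring
  have hfg : ∑ c, sg (f c) * sw c ^ 2 = ∑ c, sg (g c) * sw c ^ 2 := by
    refine Fintype.sum_equiv x.toEquiv _ _ fun c => ?_
    simp only [LinearEquiv.coe_toEquiv]
    rw [hx c]
    rfl
  have hz : g + ev p + ev q = 0 := AddMonoidHom.ext fun c => by
    simp only [g, AddMonoidHom.add_apply, ev_apply, AddMonoidHom.zero_apply]
    exact (show ∀ a b : ZMod 2, a + b + a + b = 0 by decide) _ _
  have hpos : 0 < ∑ c, sg (g c) * sw c ^ 2 := by
    rw [expand]
    refine Finset.sum_pos' (fun i _ => Finset.sum_nonneg fun j _ => char_sum_nonneg _) ⟨p, mem_univ _, ?_⟩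
    refine Finset.sum_pos' (fun j _ => char_sum_nonneg _) ⟨q, mem_univ _, ?_⟩
    rw [(char_sum _).1 hz]
    exact_mod_cast Fintype.card_pos
  rw [← hfg, expand] at hpos
  obtain ⟨i, -, hi⟩ := Finset.exists_ne_zero_of_sum_ne_zero hpos.ne'
  obtain ⟨j, -, hj⟩ := Finset.exists_ne_zero_of_sum_ne_zero hi
  have h0 : f + ev i + ev j = 0 := by
    by_contra hh
    exact hj ((char_sum _).2 hh)
  have heq : ∀ c : ↥golayCode, f c = (c : GolayPt → ZMod 2) i + (c : GolayPt → ZMod 2) j := fun c => by
    have := DFunLike.congr_fun h0 c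
    simp only [AddMonoidHom.add_apply, ev_apply, AddMonoidHom.zero_apply, add_assoc] at this
    exact (z2_add_eq_zero _ _).1 this
  refine ⟨i, j, fun e => ?_, fun c => heq c⟩
  refine pair_ne_zero hpq (AddMonoidHom.ext fun c => ?_)
  have h1 := heq (x.symm c)
  rw [e, z2_add_self] at h1
  simpa [f, g] using h1

theorem common_point {ι α : Type*} [Fintype ι] [DecidableEq α] (s : ι → Finset α) (h2 : ∀ q, (s q).card = 2)
    (hinj : Function.Injective s) (hmeet : ∀ q r, q ≠ r → (s q ∩ s r).Nonempty) (h4 : 4 ≤ Fintype.card ι) :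
    ∃ a, ∀ q, a ∈ s q := by
  classical
  obtain ⟨q1, q2, h12⟩ := Fintype.exists_pair_of_one_lt_card (show 1 < Fintype.card ι by omega)
  obtain ⟨a, ha⟩ := hmeet q1 q2 h12
  rw [mem_inter] at ha
  refine ⟨a, fun q0 => ?_⟩
  by_contra h0
  obtain ⟨b, hb⟩ : ∃ b, s q1 = {a, b} ∧ a ≠ b := by
    obtain ⟨u, v, huv, e⟩ := Finset.card_eq_two.1 (h2 q1)
    have := ha.1
    rw [e, mem_insert, mem_singleton] at this
    rcases this with rfl | rfl
    · exact ⟨v, e, huv⟩
    · exact ⟨u, by rw [e, Finset.pair_comm], huv.symm⟩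
  obtain ⟨c, hc⟩ : ∃ c, s q2 = {a, c} ∧ a ≠ c := by
    obtain ⟨u, v, huv, e⟩ := Finset.card_eq_two.1 (h2 q2)
    have := ha.2
    rw [e, mem_insert, mem_singleton] at this
    rcases this with rfl | rfl
    · exact ⟨v, e, huv⟩
    · exact ⟨u, by rw [e, Finset.pair_comm], huv.symm⟩
  have hbc : b ≠ c := fun e => h12 (hinj (by rw [hb.1, hc.1, e]))
  have two : ∀ (q : ι) (u v : α), u ∈ s q → v ∈ s q → u ≠ v → s q = {u, v} := fun q u v hu hv huv =>
    (Finset.eq_of_subset_of_card_le (by simp [Finset.insert_subset_iff, hu, hv])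
      (by rw [h2, Finset.card_pair huv])).symm
  have bc_of : ∀ q, a ∉ s q → b ∈ s q ∧ c ∈ s q := by
    intro q hq
    refine ⟨?_, ?_⟩
    · obtain ⟨z, hz⟩ := hmeet q q1 (by rintro rfl; exact hq ha.1)
      rw [mem_inter, hb.1, mem_insert, mem_singleton] at hz
      rcases hz with ⟨hz, rfl | rfl⟩
      · exact absurd hz hq
      · exact hz
    · obtain ⟨z, hz⟩ := hmeet q q2 (by rintro rfl; exact hq ha.2)
      rw [mem_inter, hc.1, mem_insert, mem_singleton] at hz
      rcases hz with ⟨hz, rfl | rfl⟩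
      · exact absurd hz hq
      · exact hz
  have e0 : s q0 = {b, c} := two q0 b c (bc_of q0 h0).1 (bc_of q0 h0).2 hbc
  obtain ⟨q, -, hq⟩ : ∃ q ∈ (Finset.univ : Finset ι), q ∉ ({q0, q1, q2} : Finset ι) :=
    Finset.exists_mem_notMem_of_card_lt_card (by
      have := Finset.card_le_three (a := q0) (b := q1) (c := q2)
      rw [Finset.card_univ]; omega)
  simp only [mem_insert, mem_singleton, not_or] at hq
  by_cases haq : a ∈ s q
  · obtain ⟨z, hz⟩ := hmeet q q0 hq.1
    rw [mem_inter, e0, mem_insert, mem_singleton] at hz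
    rcases hz with ⟨hz, rfl | rfl⟩
    · exact hq.2.1 (hinj (by rw [two q a z haq hz hb.2, hb.1]))
    · exact hq.2.2 (hinj (by rw [two q a z haq hz hc.2, hc.1]))
  · exact hq.1 (hinj (by rw [two q b c (bc_of q haq).1 (bc_of q haq).2 hbc, e0]))

/-- A linear map of the code which keeps all weights up to complementation is a permutation modulo the all-one
word. -/
theorem exists_perm (hx : ∀ c, sw (x c) ^ 2 = sw c ^ 2) :
    ∃ σ ∈ M24, ∀ c : ↥golayCode,
      ((x c : ↥golayCode) : GolayPt → ZMod 2) = (fun p => (c : GolayPt → ZMod 2) (σ.symm p)) ∨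
      ((x c : ↥golayCode) : GolayPt → ZMod 2) =
        (fun p => (c : GolayPt → ZMod 2) (σ.symm p)) + fun _ => (1 : ZMod 2) := by
  classical
  choose I J hIJ hf using fun (q : {q : GolayPt // q ≠ none}) => exists_pair x hx (Ne.symm q.2)
  let s : {q : GolayPt // q ≠ none} → Finset GolayPt := fun q => {I q, J q}
  have hne : ∀ q r, q ≠ r → ¬ ∀ c : ↥golayCode, (c : GolayPt → ZMod 2) (I q) + (c : GolayPt → ZMod 2) (J q) =
      (c : GolayPt → ZMod 2) (I r) + (c : GolayPt → ZMod 2) (J r) := by
    intro q r hqr h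
    refine pair_ne_zero (show (q : GolayPt) ≠ r from fun e => hqr (Subtype.ext e)) (AddMonoidHom.ext fun c => ?_)
    have := h (x.symm c)
    rw [← hf q, ← hf r, LinearEquiv.apply_symm_apply] at this
    simpa [z2_add_eq_zero] using add_left_cancel this
  have hinj : Function.Injective s := by
    intro q r h
    by_contra hqr
    refine hne q r hqr fun c => ?_
    have hq : ∀ (u : {q : GolayPt // q ≠ none}), ∑ a ∈ s u, (c : GolayPt → ZMod 2) a =
        (c : GolayPt → ZMod 2) (I u) + (c : GolayPt → ZMod 2) (J u) := fun u => Finset.sum_pair (hIJ u)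
    rw [← hq, ← hq, h]
  have hmeet : ∀ q r, q ≠ r → (s q ∩ s r).Nonempty := by
    intro q r hqr
    obtain ⟨e, f, hef, hsum⟩ := exists_pair x hx (show (q : GolayPt) ≠ r from fun e => hqr (Subtype.ext e))
    have hw := eq_zero_of_small (w := pairWord (I q) (J q) + pairWord (I r) (J r) + pairWord e f) (fun c => by
      simp only [Pi.add_apply, mul_add, Finset.sum_add_distrib, sum_pair_mul]
      rw [← hf q, ← hf r, ← hsum]
      exact (show ∀ a b d : ZMod 2, a + b + (a + d) + (b + d) = 0 by decide) _ _ _)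
      ({I q, J q} ∪ {I r, J r} ∪ {e, f}) (fun t ht => by
        simp only [mem_union, mem_insert, mem_singleton, not_or] at ht
        simp [pairWord, ht.1.1.1, ht.1.1.2, ht.1.2.1, ht.1.2.2, ht.2.1, ht.2.2]) (by
        have h1 := Finset.card_union_le ({I q, J q} ∪ {I r, J r}) ({e, f} : Finset GolayPt)
        have h2 := Finset.card_union_le ({I q, J q} : Finset GolayPt) {I r, J r}
        have h3 := Finset.card_le_two (a := I q) (b := J q)
        have h4 := Finset.card_le_two (a := I r) (b := J r)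
        have h5 := Finset.card_le_two (a := e) (b := f)
        omega)
    by_contra hempty
    have hmem : ∀ t ∈ s q, t ∉ s r := fun t ht ht' => hempty ⟨t, mem_inter.2 ⟨ht, ht'⟩⟩
    have hm1 := hmem (I q) (by simp [s])
    have hm2 := hmem (J q) (by simp [s])
    simp only [s, mem_insert, mem_singleton, not_or] at hm1 hm2
    have ev1 := congrFun hw (I q)
    have ev2 := congrFun hw (J q)
    have ev3 := congrFun hw (I r)
    simp only [Pi.add_apply, Pi.zero_apply, pairWord, Pi.single_apply, hm1.1, hm1.2, Ne.symm hm1.1, Ne.symm hm1.2,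
      hm2.1, hm2.2, Ne.symm hm2.1, Ne.symm hm2.2, hIJ q, (hIJ q).symm, hIJ r, (hIJ r).symm, if_true, if_false,
      add_zero, zero_add] at ev1 ev2 ev3
    have g1 : I q = e ∨ I q = f := by by_contra hh; rw [not_or] at hh; simp [hh.1, hh.2] at ev1
    have g2 : J q = e ∨ J q = f := by by_contra hh; rw [not_or] at hh; simp [hh.1, hh.2] at ev2
    have g3 : I r = e ∨ I r = f := by by_contra hh; rw [not_or] at hh; simp [hh.1, hh.2] at ev3
    rcases g1 with g1 | g1 <;> rcases g2 with g2 | g2 <;> rcases g3 with g3 | g3 <;>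
      first
      | exact hIJ q (g1.trans g2.symm)
      | exact hm1.1 (g1.trans g3.symm)
      | exact hm2.1 (g2.trans g3.symm)
  obtain ⟨a, ha⟩ := common_point s (fun q => Finset.card_pair (hIJ q)) hinj hmeet (by decide)
  let π : GolayPt → GolayPt := fun t =>
    if h : t = none then a else if I ⟨t, h⟩ = a then J ⟨t, h⟩ else I ⟨t, h⟩
  have hπ : ∀ (q : {q : GolayPt // q ≠ none}) (c : ↥golayCode),
      (c : GolayPt → ZMod 2) (I q) + (c : GolayPt → ZMod 2) (J q) =
        (c : GolayPt → ZMod 2) a + (c : GolayPt → ZMod 2) (π q) ∧ π q ≠ a := by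
    intro q c
    have ha' := ha q
    simp only [s, mem_insert, mem_singleton] at ha'
    simp only [π, dif_neg q.2, Subtype.coe_eta]
    by_cases hI : I q = a
    · rw [if_pos hI, hI]
      exact ⟨rfl, fun e => hIJ q (hI.trans e.symm)⟩
    · rw [if_neg hI]
      exact ⟨by rw [ha'.resolve_left (Ne.symm hI)]; exact add_comm _ _, hI⟩
  have hπinj : Function.Injective π := by
    have h0 : π none = a := dif_pos rfl
    intro t u h
    by_cases ht : t = none
    · subst ht
      by_cases hu : u = none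
      · exact hu.symm
      · exact absurd (h0 ▸ h).symm (hπ ⟨u, hu⟩ 0).2
    · by_cases hu : u = none
      · subst hu
        exact absurd (h0 ▸ h) (hπ ⟨t, ht⟩ 0).2
      · by_contra htu
        refine hne ⟨t, ht⟩ ⟨u, hu⟩ (fun e => htu (congrArg Subtype.val e)) fun c => ?_
        rw [(hπ ⟨t, ht⟩ c).1, (hπ ⟨u, hu⟩ c).1]
        simp only [h]
  let τ : Equiv.Perm GolayPt := Equiv.ofBijective π (Finite.injective_iff_bijective.1 hπinj)
  have hform : ∀ (c : ↥golayCode) (t : GolayPt), ((x c : ↥golayCode) : GolayPt → ZMod 2) t =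
      (c : GolayPt → ZMod 2) (τ t) + (((x c : ↥golayCode) : GolayPt → ZMod 2) none + (c : GolayPt → ZMod 2) a) := by
    intro c t
    by_cases ht : t = none
    · subst ht
      have : τ none = a := by simp [τ, π]
      rw [this]
      exact (show ∀ u v : ZMod 2, u = v + (u + v) by decide) _ _
    · have h1 := hf ⟨t, ht⟩ c
      rw [(hπ ⟨t, ht⟩ c).1] at h1
      have h2 : τ t = π t := rfl
      rw [h2]
      revert h1
      exact (show ∀ u v w z : ZMod 2, u + v = w + z → v = z + (u + w) by decide) _ _ _ _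
  refine ⟨τ.symm, mem_M24_of_rows _ fun r hr => ?_, fun c => ?_⟩
  · refine ⟨permWord τ.symm (word r), ?_, by rw [support₂_permWord, support₂_word]⟩
    let c : ↥golayCode := ⟨word r, word_row_mem hr⟩
    have : permWord τ.symm (word r) = ((x c : ↥golayCode) : GolayPt → ZMod 2) +
        (((x c : ↥golayCode) : GolayPt → ZMod 2) none + word r a) • (fun _ => (1 : ZMod 2)) := by
      funext t
      simp only [permWord, Equiv.symm_symm, Pi.add_apply, Pi.smul_apply, smul_eq_mul, mul_one, hform c t]
      exact (show ∀ u v : ZMod 2, u = u + v + v by decide) _ _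
    rw [this]
    exact golayCode.add_mem (x c).2 (golayCode.smul_mem _ one_mem_golayCode)
  · rcases z2_cases (((x c : ↥golayCode) : GolayPt → ZMod 2) none + (c : GolayPt → ZMod 2) a) with h | h
    · refine Or.inl (funext fun t => ?_)
      rw [hform c t, h, add_zero, Equiv.symm_symm]
    · refine Or.inr (funext fun t => ?_)
      rw [hform c t, h, Pi.add_apply, Equiv.symm_symm]

end Cfsg.Agent.Lib.Spor.GolayWeights
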