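import Cfsg.Agent.Lib.Spor.LargeExtraSimple
import Cfsg.Agent.Lib.Spor.AffineExtraspecial
import Cfsg.Agent.Lib.Coprime.Action
import Mathlib.GroupTheory.SchurZassenhaus

/-!
# Large extraspecial subgroups in quotients of local subgroups
-/

set_option autoImplicit false
set_option linter.style.haveILetI false

open Subgroup
open scoped commutatorElement

namespace CfsgLib.Spor.LargeQ

variable {G : Type*} [Group G] [Finite G]

theorem core_of_data (z : G) (hz : orderOf z = 2) (Q : Subgroup G) (h2 : IsPGroup 2 Q) (hmem : z ∈ Q)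
    (hcz : ∀ q ∈ Q, q * z = z * q)
    (hcomm : ∀ a ∈ Q, ∀ b ∈ Q, a * b * a⁻¹ * b⁻¹ = 1 ∨ a * b * a⁻¹ * b⁻¹ = z)
    (hsq : ∀ q ∈ Q, q * q = 1 ∨ q * q = z)
    (hcent : ∀ c : G, (∀ q ∈ Q, q * c = c * q) → c = 1 ∨ c = z)
    (hnorm : ∀ c : G, c * z = z * c → ∀ q ∈ Q, c * q * c⁻¹ ∈ Q) (hbig : 3 ≤ Nat.card Q) : Core Q z := by
  haveI : Fact (Nat.Prime 2) := ⟨Nat.prime_two⟩
  have hz1 : z ≠ 1 := fun e => by rw [e, orderOf_one] at hz; omega
  set w : ↥Q := ⟨z, hmem⟩ with hw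
  have hw2 : w ^ 2 = 1 := Subtype.ext (by
    show z ^ 2 = 1
    rw [← hz, pow_orderOf_eq_one])
  have hwp : ∀ x : ↥Q, ((x : G) = 1 ∨ (x : G) = z) → x ∈ zpowers w := by
    intro x hx
    rcases hx with h | h
    · rw [show x = 1 from Subtype.ext h]; exact one_mem _
    · rw [show x = w from Subtype.ext h]; exact mem_zpowers _
  have hna : ∃ a ∈ (⊤ : Subgroup ↥Q), ∃ b ∈ (⊤ : Subgroup ↥Q), ⁅a, b⁆ ≠ 1 := by
    by_contra h
    push Not at h
    have hsub : ∀ q ∈ Q, q = 1 ∨ q = z := fun q hq => hcent q fun r hr =>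
      congrArg Subtype.val (commutatorElement_eq_one_iff_mul_comm.1 (h ⟨r, hr⟩ (mem_top _) ⟨q, hq⟩ (mem_top _)))
    haveI := Fintype.ofFinite ↥Q
    classical
    have h3 : Fintype.card ↥Q ≤ 2 := by
      refine le_trans (Fintype.card_le_of_injective (fun q : ↥Q => if (q : G) = 1 then (0 : Fin 2) else 1) ?_)
        (le_of_eq (Fintype.card_fin 2))
      intro a b hab
      rcases hsub a a.2 with ha | ha <;> rcases hsub b b.2 with hb | hb <;> simp [ha, hb, hz1] at hab <;>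
        exact Subtype.ext (ha.trans hb.symm)
    rw [← Nat.card_eq_fintype_card] at h3
    omega
  have hext : Cfsg.IsExtraspecial 2 Q := by
    refine CfsgLib.Spor.Affine.isExtraspecial_congr (Subgroup.topEquiv (G := ↥Q)) ?_
    refine CfsgLib.SympPairs.isExtraspecial_of_data (z := w) (⊤ : Subgroup ↥Q) (h2.of_equiv Subgroup.topEquiv.symm)
      ⟨hw2, fun e => hz1 (congrArg Subtype.val e), mem_top _, fun q => Subtype.ext (hcz q q.2), ?_⟩ ?_ ?_ hna
    · intro a _ b _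
      exact hwp _ (hcomm a a.2 b b.2)
    · intro a _
      rw [pow_two]
      exact hwp _ (hsq a a.2)
    · intro a _ ha
      exact hwp _ (hcent a fun q hq => congrArg Subtype.val (mem_centralizer_iff.1 ha ⟨q, hq⟩ (mem_top _)))
  have hiff : ∀ x, x ∈ (center Q).map Q.subtype ↔ x = 1 ∨ x = z := by
    intro x
    constructor
    · rintro ⟨y, hy, rfl⟩
      exact hcent _ fun q hq => congrArg Subtype.val (mem_center_iff.1 hy ⟨q, hq⟩)
    · rintro (rfl | rfl)
      · exact one_mem _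
      · exact ⟨w, mem_center_iff.2 fun q => Subtype.ext (hcz q q.2), rfl⟩
  refine ⟨hz, hext, fun q hq => mem_centralizer_singleton_iff.2 (hcz q hq), hmem, hiff,
    le_antisymm (fun c hc => (hiff c).2 (hcent c (mem_centralizer_iff.1 hc))) ?_, hnorm⟩
  rintro _ ⟨y, hy, rfl⟩
  exact mem_centralizer_iff.2 fun q hq => congrArg Subtype.val (mem_center_iff.1 hy ⟨q, hq⟩)

variable {Q : Subgroup G} {z : G}

theorem Core.comm_eq (h : Core Q z) : ∀ a ∈ Q, ∀ b ∈ Q, a * b * a⁻¹ * b⁻¹ = 1 ∨ a * b * a⁻¹ * b⁻¹ = z :=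
  fun a ha b hb => (h.center_iff _).1
    ⟨⁅(⟨a, ha⟩ : Q), ⟨b, hb⟩⁆, (CfsgLib.PGroup.smallCenter_of_extraspecial h.ext).1.comm_mem _ _, rfl⟩

theorem Core.sq_eq (h : Core Q z) : ∀ q ∈ Q, q * q = 1 ∨ q * q = z := by
  haveI : Fact (Nat.Prime 2) := ⟨Nat.prime_two⟩
  exact fun q hq => (h.center_iff _).1
    ⟨(⟨q, hq⟩ : Q) ^ 2, (CfsgLib.PGroup.smallCenter_of_extraspecial h.ext).1.pow_mem _, by simp [pow_two]⟩

/-- An element centralized by the fixed points of a coprime action on `Q` is central in `Q`. -/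
theorem Core.fixed_central (h : Core Q z) (A : Subgroup G) (hA : Odd (Nat.card A))
    (hAQ : ∀ a ∈ A, ∀ q ∈ Q, a * q * a⁻¹ ∈ Q) (hAz : ∀ a ∈ A, a * z = z * a) {c : G} (hc : c ∈ Q)
    (hcA : ∀ a ∈ A, a * c = c * a) (hR : ∀ r ∈ Q, (∀ a ∈ A, a * r = r * a) → r * c = c * r) :
    c = 1 ∨ c = z := by
  haveI : Fact (Nat.Prime 2) := ⟨Nat.prime_two⟩
  rw [← h.center_iff, ← h.cent]
  refine mem_centralizer_iff.2 fun p hp => ?_
  by_contra hpc
  set D := Q ⊓ centralizer ({c} : Set G) with hD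
  have hAD : A ≤ normalizer (D : Set G) := by
    intro a ha
    have key : ∀ a ∈ A, ∀ q ∈ D, a * q * a⁻¹ ∈ D := fun a ha q hq => by
      refine ⟨hAQ a ha q hq.1, mem_centralizer_singleton_iff.2 ?_⟩
      have h1 := mem_centralizer_singleton_iff.1 hq.2
      calc a * q * a⁻¹ * c = a * q * (a⁻¹ * c) := by group
        _ = a * q * (c * a⁻¹) := by rw [hcA a⁻¹ (inv_mem ha)]
        _ = a * (q * c) * a⁻¹ := by group
        _ = a * c * (q * a⁻¹) := by rw [h1]; group
        _ = c * a * (q * a⁻¹) := by rw [hcA a ha]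
        _ = _ := by group
    refine mem_normalizer_iff.2 fun q => ⟨fun hq => key a ha q hq, fun hq => ?_⟩
    simpa [mul_assoc] using key a⁻¹ (inv_mem ha) _ hq
  have hQn : ∀ q ∈ Q, ∀ d ∈ D, q * d * q⁻¹ ∈ D := fun q hq d hd => by
    refine ⟨Subgroup.mul_mem _ (Subgroup.mul_mem _ hq hd.1) (Subgroup.inv_mem _ hq), ?_⟩
    rcases h.comm_eq q hq d hd.1 with e | e
    · rw [show q * d * q⁻¹ = d from mul_inv_eq_one.1 e]; exact hd.2
    · rw [show q * d * q⁻¹ = z * d from mul_inv_eq_iff_eq_mul.1 e]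
      exact mul_mem (mem_centralizer_singleton_iff.2 (mem_centralizer_singleton_iff.1 (h.le hc)).symm) hd.2
  have hpn : p ∈ normalizer (D : Set G) := mem_normalizer_iff.2 fun d => ⟨fun hd => hQn p hp d hd,
    fun hd => by simpa [mul_assoc] using hQn p⁻¹ (inv_mem hp) _ hd⟩
  have hmove : ∀ q ∈ Q, q * c ≠ c * q → q * c * q⁻¹ = z * c := fun q hq hne => by
    rcases h.comm_eq q hq c hc with e | e
    · exact absurd (mul_inv_eq_iff_eq_mul.1 (mul_inv_eq_one.1 e)) hne
    · exact mul_inv_eq_iff_eq_mul.1 e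
  have hpz := hmove p hp hpc
  have hfix : ∀ a ∈ A, a * p * a⁻¹ * p⁻¹ ∈ D := by
    intro a ha
    refine ⟨Subgroup.mul_mem _ (hAQ a ha p hp) (Subgroup.inv_mem _ hp), mem_centralizer_singleton_iff.2 ?_⟩
    have h1 : a * p * a⁻¹ * c * (a * p * a⁻¹)⁻¹ = z * c := by
      calc a * p * a⁻¹ * c * (a * p * a⁻¹)⁻¹ = a * p * (a⁻¹ * c) * a * p⁻¹ * a⁻¹ := by group
        _ = a * p * (c * a⁻¹) * a * p⁻¹ * a⁻¹ := by rw [hcA a⁻¹ (inv_mem ha)]
        _ = a * (p * c * p⁻¹) * a⁻¹ := by group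
        _ = (a * z) * c * a⁻¹ := by rw [hpz]; group
        _ = z * (a * c) * a⁻¹ := by rw [hAz a ha]; group
        _ = _ := by rw [hcA a ha]; group
    have h2 : p⁻¹ * (z * c) * p = c := by rw [← hpz]; group
    calc a * p * a⁻¹ * p⁻¹ * c = a * p * a⁻¹ * (p⁻¹ * c * p) * p⁻¹ := by group
      _ = a * p * a⁻¹ * (p⁻¹ * (z * (z * c)) * p) * p⁻¹ := by
        rw [← mul_assoc z z c, ← pow_two, show z ^ 2 = 1 by rw [← h.ord, pow_orderOf_eq_one], one_mul]
      _ = a * p * a⁻¹ * (z * (p⁻¹ * (z * c) * p)) * p⁻¹ := by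
        rw [show p⁻¹ * (z * (z * c)) * p = (p⁻¹ * z) * (z * c) * p by group,
          (Commute.inv_left (show Commute p z from mem_centralizer_singleton_iff.1 (h.le hp))).eq]
        group
      _ = a * p * a⁻¹ * (z * c) * p⁻¹ := by rw [h2]
      _ = (a * p * a⁻¹ * z) * c * p⁻¹ := by group
      _ = z * (a * p * a⁻¹ * c * (a * p * a⁻¹)⁻¹) * (a * p * a⁻¹) * p⁻¹ := by
        rw [mem_centralizer_singleton_iff.1 (h.le (hAQ a ha p hp))]; group
      _ = c * (a * p * a⁻¹ * p⁻¹) := by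
        rw [h1, ← mul_assoc z z c, ← pow_two, show z ^ 2 = 1 by rw [← h.ord, pow_orderOf_eq_one], one_mul]
        group
  have hD2 : IsPGroup 2 D := h.ext.1.1.to_le inf_le_left
  have hcop : (Nat.card A).Coprime (Nat.card D) := by
    obtain ⟨k, hk⟩ := hD2.exists_card_eq
    rw [hk]
    exact Nat.Coprime.pow_right _ (Nat.coprime_two_right.2 hA)
  haveI : Group.IsNilpotent D := hD2.isNilpotent
  obtain ⟨d, hd, hpd⟩ := CfsgLib.Coprime.exists_fixed_in_coset hAD hcop (Or.inr inferInstance) hpn hfix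
  have h3 := hR (p * d) (mul_mem hp hd.1) fun a ha => mem_centralizer_iff.1 hpd a ha
  refine hpc ?_
  have h4 := mem_centralizer_singleton_iff.1 hd.2
  calc p * c = p * d * (d⁻¹ * c * d) * d⁻¹ := by group
    _ = p * d * c * d⁻¹ := by rw [mul_assoc d⁻¹ c d, ← h4]; group
    _ = c * (p * d) * d⁻¹ := by rw [h3]
    _ = _ := by group

/-- An element of `Q` commuting with everything commuting with `t`. -/
theorem Core.double_centralizer (h : Core Q z) {t c : G} (ht : t ∈ Q) (htz : t ≠ 1 ∧ t ≠ z) (hc : c ∈ Q)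
    (hc' : ∀ q ∈ Q, q * t = t * q → q * c = c * q) : c = 1 ∨ c = z ∨ c = t ∨ c = z * t := by
  have hzz : z * z = 1 := by rw [← pow_two, ← h.ord, pow_orderOf_eq_one]
  have hcent : ∀ u : G, (∀ q ∈ Q, q * u = u * q) → u = 1 ∨ u = z := fun u hu =>
    (h.center_iff u).1 (h.cent ▸ mem_centralizer_iff.2 hu)
  obtain ⟨y, hy, hyt⟩ : ∃ y ∈ Q, y * t ≠ t * y := by
    by_contra hcon
    push Not at hcon
    rcases hcent t hcon with e | e
    exacts [htz.1 e, htz.2 e]
  have move : ∀ q ∈ Q, ∀ u ∈ Q, q * u ≠ u * q → q * u * q⁻¹ = z * u := fun q hq u hu hne => by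
    rcases h.comm_eq q hq u hu with e | e
    · exact absurd (mul_inv_eq_iff_eq_mul.1 (mul_inv_eq_one.1 e)) hne
    · exact mul_inv_eq_iff_eq_mul.1 e
  have key : ∀ u ∈ Q, (∀ q ∈ Q, q * t = t * q → q * u = u * q) → y * u = u * y → u = 1 ∨ u = z := by
    intro u hu hu' hyu
    refine hcent u fun q hq => ?_
    by_cases hqt : q * t = t * q
    · exact hu' q hq hqt
    · have h1 : (y⁻¹ * q) * t = t * (y⁻¹ * q) := by
        calc y⁻¹ * q * t = y⁻¹ * (q * t * q⁻¹) * q := by group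
          _ = y⁻¹ * (y * t * y⁻¹) * q := by rw [move q hq t ht hqt, move y hy t ht hyt]
          _ = _ := by group
      calc q * u = y * ((y⁻¹ * q) * u) := by group
        _ = (y * u) * (y⁻¹ * q) := by rw [hu' _ (mul_mem (inv_mem hy) hq) h1]; group
        _ = (u * y) * (y⁻¹ * q) := by rw [hyu]
        _ = _ := by group
  by_cases hyc : y * c = c * y
  · rcases key c hc hc' hyc with e | e
    exacts [Or.inl e, Or.inr (Or.inl e)]
  · have h1 : y * (c * t⁻¹) = c * t⁻¹ * y := by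
      calc y * (c * t⁻¹) = (y * c * y⁻¹) * (y * t * y⁻¹)⁻¹ * y := by group
        _ = z * c * (z * t)⁻¹ * y := by rw [move y hy c hc hyc, move y hy t ht hyt]
        _ = z * (c * t⁻¹ * z⁻¹) * y := by group
        _ = z * (z⁻¹ * (c * t⁻¹)) * y := by
          rw [(Commute.inv_right (show Commute (c * t⁻¹) z from
            mem_centralizer_singleton_iff.1 (h.le (mul_mem hc (inv_mem ht))))).eq]
        _ = _ := by group
    rcases key (c * t⁻¹) (mul_mem hc (inv_mem ht)) (fun q hq hqt => by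
        calc q * (c * t⁻¹) = (q * c) * t⁻¹ := by group
          _ = c * (q * t⁻¹) := by rw [hc' q hq hqt]; group
          _ = c * (t⁻¹ * q) := by rw [(Commute.inv_right (show Commute q t from hqt)).eq]
          _ = _ := by group) h1 with e | e
    · exact Or.inr (Or.inr (Or.inl (mul_inv_eq_one.1 e)))
    · exact Or.inr (Or.inr (Or.inr (mul_inv_eq_iff_eq_mul.1 e)))

theorem quot_comm (R : Subgroup G) {N : Subgroup G} [N.Normal] (hcomm : ∀ a ∈ R, ∀ b ∈ R, a * b * a⁻¹ * b⁻¹ = 1 ∨ a * b * a⁻¹ * b⁻¹ = z)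
    (hsq : ∀ q ∈ R, q * q = 1 ∨ q * q = z) (hcz : ∀ q ∈ R, q * z = z * q) :
    (∀ a ∈ R.map (QuotientGroup.mk' N), a * (z : G ⧸ N) = (z : G ⧸ N) * a) ∧
    (∀ a ∈ R.map (QuotientGroup.mk' N), ∀ b ∈ R.map (QuotientGroup.mk' N),
      a * b * a⁻¹ * b⁻¹ = 1 ∨ a * b * a⁻¹ * b⁻¹ = (z : G ⧸ N)) ∧
    (∀ a ∈ R.map (QuotientGroup.mk' N), a * a = 1 ∨ a * a = (z : G ⧸ N)) := by
  refine ⟨?_, ?_, ?_⟩
  · rintro _ ⟨a, ha, rfl⟩
    exact congrArg (QuotientGroup.mk' N) (hcz a ha)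
  · rintro _ ⟨a, ha, rfl⟩ _ ⟨b, hb, rfl⟩
    rcases hcomm a ha b hb with e | e
    · exact Or.inl (by rw [← map_inv, ← map_inv, ← map_mul, ← map_mul, ← map_mul, e, map_one])
    · exact Or.inr (by rw [← map_inv, ← map_inv, ← map_mul, ← map_mul, ← map_mul, e]; rfl)
  · rintro _ ⟨a, ha, rfl⟩
    rcases hsq a ha with e | e
    · exact Or.inl (by rw [← map_mul, e, map_one])
    · exact Or.inr (by rw [← map_mul, e]; rfl)

/-- The odd-centralizer quotient. -/
theorem large_in_odd_quotient (h : Core Q z) (A : Subgroup G) (hA : A ≤ centralizer ({z} : Set G))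
    (hAodd : Odd (Nat.card A)) (R : Subgroup G) (hR : R = Q ⊓ centralizer (A : Set G)) (hR32 : 32 ≤ Nat.card R)
    (hO : (Cfsg.oddCore ↥(centralizer ((A ⊔ R : Subgroup G) : Set G))).map
      (centralizer ((A ⊔ R : Subgroup G) : Set G)).subtype ≤ A)
    (h4 : ¬ 4 ∣ Nat.card ↥(centralizer ((A ⊔ R : Subgroup G) : Set G))) (g : G) (hgR : g * z * g⁻¹ ∈ R)
    (hgZ : g * z * g⁻¹ ∉ (center ↥Q).map Q.subtype) (M : Subgroup G) (hM : M = centralizer (A : Set G) ⊔ A)
    [hn : (A.subgroupOf M).Normal] :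
    (M ⊓ centralizer ((R ⊔ A : Subgroup G) : Set G)) ⊔ A = A ⊔ (center ↥Q).map Q.subtype ∧
    Cfsg.IsLargeExtraspecial ((R.subgroupOf M).map (QuotientGroup.mk' (A.subgroupOf M))) ∧
    ∃ x ∈ R ⊔ ((Q).map (MulAut.conj g).toMonoidHom ⊓ centralizer (A : Set G)),
      x * (g * z * g⁻¹) * x⁻¹ = z := by
  haveI : Fact (Nat.Prime 2) := ⟨Nat.prime_two⟩
  subst hR
  have hAC : A ≤ M := hM ▸ le_sup_right
  have hCA : centralizer (A : Set G) ≤ M := hM ▸ le_sup_left
  set R := Q ⊓ centralizer (A : Set G)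
  set W := centralizer ((A ⊔ R : Subgroup G) : Set G) with hW
  have hAz : ∀ a ∈ A, a * z = z * a := fun a ha => mem_centralizer_singleton_iff.1 (hA ha)
  have hzA : z ∈ centralizer (A : Set G) := mem_centralizer_iff.2 fun a ha => hAz a ha
  have hzR : z ∈ R := ⟨h.mem, hzA⟩
  have hzz : z * z = 1 := by rw [← pow_two, ← h.ord, pow_orderOf_eq_one]
  have hz1 : z ≠ 1 := fun e => by have := h.ord; rw [e, orderOf_one] at this; omega
  have hmemW : ∀ c, c ∈ centralizer (A : Set G) → (∀ r ∈ R, r * c = c * r) → c ∈ W := by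
    intro c hcA hcR
    have hle : A ⊔ R ≤ centralizer ({c} : Set G) := sup_le
      (fun a ha => mem_centralizer_singleton_iff.2 (mem_centralizer_iff.1 hcA a ha))
      fun r hr => mem_centralizer_singleton_iff.2 (hcR r hr)
    exact mem_centralizer_iff.2 fun x hx => mem_centralizer_singleton_iff.1 (hle hx)
  have hzW : z ∈ W := hmemW z hzA fun r hr => mem_centralizer_singleton_iff.1 (h.le hr.1)
  -- the structure of `W`
  have hWdec : ∀ w ∈ W, w ∈ A ∨ w * z ∈ A := by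
    set N := zpowers (⟨z, hzW⟩ : ↥W) with hN
    have hzc : ∀ w : ↥W, w * ⟨z, hzW⟩ = ⟨z, hzW⟩ * w := fun w => Subtype.ext
      (mem_centralizer_iff.1 w.2 z (mem_sup_right hzR)).symm
    haveI : N.Normal := ⟨fun x hx w => by
      obtain ⟨i, rfl⟩ := mem_zpowers_iff.1 hx
      rw [(Commute.zpow_right (show Commute w ⟨z, hzW⟩ from hzc w) i).eq, mul_inv_cancel_right]
      exact ⟨i, rfl⟩⟩
    have hNc : Nat.card ↥N = 2 := by rw [hN, Nat.card_zpowers, ← Subgroup.orderOf_coe]; exact h.ord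
    have hcop : Nat.Coprime (Nat.card ↥N) N.index := by
      rw [hNc, Nat.coprime_two_left, ← Nat.not_even_iff_odd, even_iff_two_dvd]
      intro h2
      apply h4
      rw [← N.card_mul_index, hNc]
      exact Nat.mul_dvd_mul_left 2 h2
    obtain ⟨L, hL⟩ := Subgroup.exists_right_complement'_of_coprime hcop
    have hLodd : Odd (Nat.card L) := by
      rw [← hL.symm.index_eq_card, ← Nat.coprime_two_left]
      rwa [hNc] at hcop
    have hdec : ∀ w : ↥W, ∃ n ∈ N, ∃ l ∈ L, n * l = w := fun w => by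
      obtain ⟨⟨n, l⟩, e⟩ := hL.2 w
      exact ⟨n, n.2, l, l.2, e⟩
    haveI : L.Normal := ⟨fun l hl w => by
      obtain ⟨n, hn, l', hl', rfl⟩ := hdec w
      obtain ⟨i, rfl⟩ := mem_zpowers_iff.1 hn
      have hc : Commute (⟨z, hzW⟩ ^ i : ↥W) (l' * l * l'⁻¹) :=
        Commute.zpow_left (show Commute (⟨z, hzW⟩ : ↥W) _ from (hzc _).symm) i
      rw [show (⟨z, hzW⟩ : ↥W) ^ i * l' * l * ((⟨z, hzW⟩ : ↥W) ^ i * l')⁻¹ =
        (⟨z, hzW⟩ : ↥W) ^ i * (l' * l * l'⁻¹) * ((⟨z, hzW⟩ : ↥W) ^ i)⁻¹ by group, hc.eq, mul_inv_cancel_right]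
      exact mul_mem (mul_mem hl' hl) (inv_mem hl')⟩
    have hLA : ∀ l ∈ L, (l : G) ∈ A := fun l hl =>
      hO ⟨l, CfsgLib.Coprime.le_pPrimeCore (p := 2) (N := L) (Nat.coprime_two_right.2 hLodd) hl, rfl⟩
    intro w hw
    obtain ⟨n, hn, l, hl, hnl⟩ := hdec ⟨w, hw⟩
    have hn2 : (n : G) = 1 ∨ (n : G) = z := by
      obtain ⟨i, rfl⟩ := mem_zpowers_iff.1 hn
      rcases Int.even_or_odd i with ⟨k, rfl⟩ | ⟨k, rfl⟩
      · left; simp [← two_mul, zpow_mul, hzz, pow_two]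
      · right; simp [zpow_add, zpow_mul, hzz, pow_two]
    have e : (n : G) * (l : G) = w := congrArg Subtype.val hnl
    rcases hn2 with h1 | h1
    · left; rw [h1, one_mul] at e; exact e ▸ hLA l hl
    · right
      rw [h1] at e
      rw [← e, show z * (l : G) * z = (l : G) from by
        rw [← mem_centralizer_iff.1 l.2 z (mem_sup_right hzR) |>.symm, mul_assoc, hzz, mul_one]]
      exact hLA l hl
  have part1 : (M ⊓ centralizer ((R ⊔ A : Subgroup G) : Set G)) ⊔ A = A ⊔ (center ↥Q).map Q.subtype := by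
    refine le_antisymm (sup_le (fun w hw => ?_) le_sup_left) (sup_le le_sup_right fun w hw => mem_sup_left ?_)
    · have hw' : w ∈ W := by rw [hW, sup_comm]; exact hw.2
      rcases hWdec w hw' with h1 | h1
      · exact mem_sup_left h1
      · rw [show w = w * z * z by rw [mul_assoc, hzz, mul_one]]
        exact mul_mem (mem_sup_left h1) (mem_sup_right ((h.center_iff z).2 (Or.inr rfl)))
    · rcases (h.center_iff w).1 hw with rfl | rfl
      · exact one_mem _
      · exact ⟨hCA hzA, by rw [sup_comm]; exact hzW⟩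
  -- the two conjugates
  set t := g * z * g⁻¹ with ht
  have htz : t ≠ z := fun e => hgZ ((h.center_iff t).2 (Or.inr e))
  have htord : orderOf t = 2 := by rw [ht, show g * z * g⁻¹ = MulAut.conj g z from rfl, MulEquiv.orderOf_eq, h.ord]
  have ht1 : t ≠ 1 := fun e => by rw [e, orderOf_one] at htord; omega
  have hAt : ∀ a ∈ A, a * t = t * a := fun a ha => mem_centralizer_iff.1 hgR.2 a ha
  obtain ⟨Q', hQ'⟩ : ∃ Q', Q.map (MulAut.conj g).toMonoidHom = Q' := ⟨_, rfl⟩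
  have hbig : 32 ≤ Nat.card Q := le_trans hR32 (Subgroup.card_le_of_le inf_le_left)
  have hzQ' : z ∈ Q' := hQ' ▸ centre_mem_conj Q z h.ext h.center_iff h.ord h.cent h.norm hbig g htz hgR.1
  have hnotx : ¬ ∀ r ∈ Q, (∀ a ∈ A, a * r = r * a) → r * t = t * r := fun hall => by
    rcases h.fixed_central A hAodd (fun a ha q hq => h.norm a (hAz a ha) q hq) hAz hgR.1 hAt hall with e | e
    exacts [ht1 e, htz e]
  push Not at hnotx
  obtain ⟨x, hxQ, hxA, hxt⟩ := hnotx
  have hx : x * t * x⁻¹ = z * t := by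
    rcases h.comm_eq x hxQ t hgR.1 with e | e
    · exact absurd (mul_inv_eq_iff_eq_mul.1 (mul_inv_eq_one.1 e)) hxt
    · exact mul_inv_eq_iff_eq_mul.1 e
  -- transport to the conjugate
  obtain ⟨y, hyA, hyQ, hy⟩ : ∃ y, (∀ a ∈ A, a * y = y * a) ∧ y ∈ Q' ∧ y * z * y⁻¹ = t * z := by
    set B := A.map (MulAut.conj g⁻¹).toMonoidHom with hB
    have hBodd : Odd (Nat.card B) := by rw [hB, card_map_of_injective (MulAut.conj g⁻¹).injective]; exact hAodd
    have hBmem : ∀ b ∈ B, g * b * g⁻¹ ∈ A := by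
      rintro _ ⟨a, ha, rfl⟩
      show g * (g⁻¹ * a * g⁻¹⁻¹) * g⁻¹ ∈ A
      rwa [show g * (g⁻¹ * a * g⁻¹⁻¹) * g⁻¹ = a by group]
    have hBz : ∀ b ∈ B, b * z = z * b := fun b hb => by
      have h1 := hAt _ (hBmem b hb)
      calc b * z = g⁻¹ * ((g * b * g⁻¹) * t) * g := by rw [ht]; group
        _ = g⁻¹ * (t * (g * b * g⁻¹)) * g := by rw [h1]
        _ = _ := by rw [ht]; group
    set c := g⁻¹ * z * g with hc
    have hcQ : c ∈ Q := by
      rw [← hQ'] at hzQ'
      obtain ⟨q, hq, e⟩ := hzQ'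
      have e' : g * q * g⁻¹ = z := e
      rwa [show c = q by rw [hc, ← e']; group]
    have hBc : ∀ b ∈ B, b * c = c * b := fun b hb => by
      have h1 := hAz _ (hBmem b hb)
      calc b * c = g⁻¹ * ((g * b * g⁻¹) * z) * g := by rw [hc]; group
        _ = g⁻¹ * (z * (g * b * g⁻¹)) * g := by rw [h1]
        _ = _ := by rw [hc]; group
    have hn' : ¬ ∀ r ∈ Q, (∀ b ∈ B, b * r = r * b) → r * c = c * r := fun hall => by
      rcases h.fixed_central B hBodd (fun b hb q hq => h.norm b (hBz b hb) q hq) hBz hcQ hBc hall with e | e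
      · exact hz1 (by calc z = g * c * g⁻¹ := by rw [hc]; group
                      _ = 1 := by rw [e]; group)
      · exact htz (by calc t = g * c * g⁻¹ := by rw [ht, e]
                      _ = z := by rw [hc]; group)
    push Not at hn'
    obtain ⟨r, hr, hrB, hrc⟩ := hn'
    refine ⟨g * r * g⁻¹, fun a ha => ?_, hQ' ▸ ⟨r, hr, rfl⟩, ?_⟩
    · have h1 := hrB (g⁻¹ * a * g) ⟨a, ha, by show g⁻¹ * a * g⁻¹⁻¹ = g⁻¹ * a * g; group⟩
      calc a * (g * r * g⁻¹) = g * ((g⁻¹ * a * g) * r) * g⁻¹ := by group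
        _ = g * (r * (g⁻¹ * a * g)) * g⁻¹ := by rw [h1]
        _ = _ := by group
    · have h1 : r * c * r⁻¹ = z * c := by
        rcases h.comm_eq r hr c hcQ with e | e
        · exact absurd (mul_inv_eq_iff_eq_mul.1 (mul_inv_eq_one.1 e)) hrc
        · exact mul_inv_eq_iff_eq_mul.1 e
      calc g * r * g⁻¹ * z * (g * r * g⁻¹)⁻¹ = g * (r * c * r⁻¹) * g⁻¹ := by rw [hc]; group
        _ = _ := by rw [h1, hc, ht]; group
  have hyt : y * t = t * y := by
    rw [← hQ'] at hyQ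
    obtain ⟨q, hq, rfl⟩ := hyQ
    show g * q * g⁻¹ * t = t * (g * q * g⁻¹)
    calc g * q * g⁻¹ * t = g * (q * z) * g⁻¹ := by rw [ht]; group
      _ = g * (z * q) * g⁻¹ := by rw [mem_centralizer_singleton_iff.1 (h.le hq)]
      _ = _ := by rw [ht]; group
  have htt : t * t = 1 := by rw [← pow_two, ← htord, pow_orderOf_eq_one]
  have hztc : z * t = t * z := (mem_centralizer_singleton_iff.1 (h.le hgR.1)).symm
  have hyzt : y * z * y⁻¹ = z * t := hy.trans hztc.symm
  have hfin : (y⁻¹ * x) * t * (y⁻¹ * x)⁻¹ = z := by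
    calc (y⁻¹ * x) * t * (y⁻¹ * x)⁻¹ = y⁻¹ * (x * t * x⁻¹) * y := by group
      _ = y⁻¹ * (y * z * y⁻¹) * y := by rw [hx, hyzt]
      _ = z := by group
  have hxR : x ∈ R := ⟨hxQ, mem_centralizer_iff.2 hxA⟩
  have hyC : y ∈ centralizer (A : Set G) := mem_centralizer_iff.2 hyA
  refine ⟨part1, ?_, ⟨y⁻¹ * x, mul_mem (inv_mem (mem_sup_right ⟨hQ'.symm ▸ hyQ, hyC⟩)) (mem_sup_left hxR), hfin⟩⟩
  -- the quotient
  set π := QuotientGroup.mk' (A.subgroupOf M) with hπ
  have hRM : R ≤ M := inf_le_right.trans hCA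
  set z₀ : ↥M := ⟨z, hRM hzR⟩
  have htriv : ∀ r ∈ R, r ∈ A → r = 1 := fun r hr hrA => eq_one_of_odd_mem h.ext.1.1 hAodd hrA hr.1
  have hπone : ∀ m : ↥M, π m = 1 ↔ (m : G) ∈ A := fun m =>
    (QuotientGroup.eq_one_iff m).trans mem_subgroupOf
  have hπinj : ∀ r ∈ R.subgroupOf M, π r = 1 → r = 1 := fun r hr e =>
    Subtype.ext (htriv _ (mem_subgroupOf.1 hr) ((hπone r).1 e))
  -- lifting commuting elements
  have hlift : ∀ m : ↥M, ∃ c : ↥M, (c : G) ∈ centralizer (A : Set G) ∧ π c = π m := by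
    intro m
    have hm : (m : G) ∈ centralizer (A : Set G) ⊔ A := hM ▸ m.2
    have hAn : A ≤ normalizer ((centralizer (A : Set G) : Subgroup G) : Set G) := by
      intro a ha
      refine mem_normalizer_iff.2 fun c => ?_
      constructor <;> intro hc <;> refine mem_centralizer_iff.2 fun b hb => ?_
      · have h1 := mem_centralizer_iff.1 hc (a⁻¹ * b * a) (mul_mem (mul_mem (inv_mem ha) hb) ha)
        calc b * (a * c * a⁻¹) = a * ((a⁻¹ * b * a) * c) * a⁻¹ := by group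
          _ = a * (c * (a⁻¹ * b * a)) * a⁻¹ := by rw [h1]
          _ = _ := by group
      · have h1 := mem_centralizer_iff.1 hc (a * b * a⁻¹) (mul_mem (mul_mem ha hb) (inv_mem ha))
        calc b * c = a⁻¹ * ((a * b * a⁻¹) * (a * c * a⁻¹)) * a := by group
          _ = a⁻¹ * ((a * c * a⁻¹) * (a * b * a⁻¹)) * a := by rw [h1]
          _ = _ := by group
    rw [← SetLike.mem_coe, coe_mul_of_right_le_normalizer_left _ _ hAn] at hm
    obtain ⟨c, hc, a, ha, e⟩ := hm
    refine ⟨⟨c, hCA hc⟩, hc, ?_⟩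
    rw [show m = (⟨c, hCA hc⟩ : ↥M) * ⟨a, hAC ha⟩ from Subtype.ext e.symm, map_mul,
      (hπone ⟨a, hAC ha⟩).2 ha, mul_one]
  have hcommlift : ∀ c : ↥M, (c : G) ∈ centralizer (A : Set G) → ∀ r : ↥M, (r : G) ∈ R →
      π r * π c = π c * π r → (r : G) * c = c * r := by
    intro c hc r hr e
    set a := (c : G) * r * (c : G)⁻¹ * (r : G)⁻¹ with ha
    have haA : a ∈ A := (hπone (c * r * c⁻¹ * r⁻¹)).1 (by
      rw [map_mul, map_mul, map_mul, map_inv, map_inv, ← e, mul_inv_cancel_right, mul_inv_cancel])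
    have haC : a ∈ centralizer (A : Set G) :=
      mul_mem (mul_mem (mul_mem hc hr.2) (inv_mem hc)) (inv_mem hr.2)
    have har : a * r = r * a := mem_centralizer_iff.1 hr.2 a haA
    have hr4 : ((r : G)) ^ 4 = 1 := by
      rw [show 4 = 2 * 2 from rfl, pow_mul, pow_two (r : G)]
      rcases h.sq_eq _ hr.1 with e2 | e2 <;> rw [e2]
      · exact one_pow 2
      · rw [pow_two, hzz]
    have h4' : a ^ 4 = 1 := by
      have e3 : (a * r) ^ 4 = ((c : G) * r * (c : G)⁻¹) ^ 4 := by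
        rw [show a * r = (c : G) * r * (c : G)⁻¹ by rw [ha]; group]
      rwa [(show Commute a (r : G) from har).mul_pow, hr4, mul_one, conj_pow, hr4, mul_one,
        mul_inv_cancel] at e3
    have ha1 : a = 1 := by
      have hd : orderOf a ∣ 4 := orderOf_dvd_of_pow_eq_one h4'
      have hodd : Odd (orderOf a) := by
        have := orderOf_dvd_natCard (⟨a, haA⟩ : ↥A)
        rw [← Subgroup.orderOf_coe] at this
        exact hAodd.of_dvd_nat this
      have hle := Nat.le_of_dvd (by norm_num) hd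
      rw [← orderOf_eq_one_iff]
      obtain ⟨k, hk⟩ := hodd
      rcases (show k = 0 ∨ k = 1 by omega) with rfl | rfl
      · simpa using hk
      · rw [hk] at hd; norm_num at hd
    exact (mul_inv_eq_iff_eq_mul.1 (mul_inv_eq_one.1 ha1)).symm
  obtain ⟨hcz', hcomm', hsq'⟩ := quot_comm (z := z₀) (R.subgroupOf M) (N := A.subgroupOf M)
    (fun a ha b hb => (h.comm_eq _ (mem_subgroupOf.1 ha).1 _ (mem_subgroupOf.1 hb).1).imp
      (fun e => Subtype.ext e) fun e => Subtype.ext e)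
    (fun a ha => (h.sq_eq _ (mem_subgroupOf.1 ha).1).imp (fun e => Subtype.ext e) fun e => Subtype.ext e)
    fun a ha => Subtype.ext (mem_centralizer_singleton_iff.1 (h.le (mem_subgroupOf.1 ha).1))
  have hinjOn : ∀ r ∈ R.subgroupOf M, ∀ s ∈ R.subgroupOf M, π r = π s → r = s := fun r hr s hs e =>
    inv_mul_eq_one.1 (hπinj (r⁻¹ * s) (mul_mem (inv_mem hr) hs) (by rw [map_mul, map_inv, e, inv_mul_cancel]))
  have hcard : Nat.card ↥((R.subgroupOf M).map π) = Nat.card ↥R := by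
    rw [← Nat.card_congr (subgroupOfEquivOfLe hRM).toEquiv]
    refine (Nat.card_eq_of_bijective (fun r : ↥(R.subgroupOf M) =>
      (⟨π r, mem_map_of_mem π r.2⟩ : ↥((R.subgroupOf M).map π)))
      ⟨fun a b e => Subtype.ext (hinjOn _ a.2 _ b.2 (congrArg Subtype.val e)), ?_⟩).symm
    rintro ⟨_, r, hr, rfl⟩
    exact ⟨⟨r, hr⟩, rfl⟩
  have hord₀ : orderOf (π z₀) = 2 := orderOf_eq_prime
    (by rw [← map_pow, show z₀ ^ 2 = 1 from Subtype.ext (by simpa [pow_two] using hzz), map_one])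
    fun e => hz1 (htriv z hzR ((hπone z₀).1 e))
  have hcore : Core ((R.subgroupOf M).map π) (π z₀) := by
    refine core_of_data _ hord₀ _
      (((h.ext.1.1.to_le (inf_le_left (b := centralizer (A : Set G)))).of_equiv
        (subgroupOfEquivOfLe hRM).symm).map π)
      (mem_map_of_mem π (mem_subgroupOf.2 hzR)) hcz' hcomm' hsq' ?_ ?_ (by omega)
    · intro m hm
      obtain ⟨m', rfl⟩ := QuotientGroup.mk'_surjective _ m
      obtain ⟨c, hc, e⟩ := hlift m'
      rw [← e] at hm ⊢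
      have hcW : (c : G) ∈ W := hmemW _ hc fun r hr =>
        hcommlift c hc ⟨r, hRM hr⟩ hr (hm _ (mem_map_of_mem π (mem_subgroupOf.2 hr)))
      rcases hWdec _ hcW with h1 | h1
      · exact Or.inl ((hπone c).2 h1)
      · right
        have h2 : π (c * z₀) = 1 := (hπone _).2 h1
        rw [map_mul] at h2
        exact (eq_inv_of_mul_eq_one_left h2).trans (inv_eq_of_mul_eq_one_right (by
          rw [← map_mul, show z₀ * z₀ = 1 from Subtype.ext hzz, map_one]))
    · intro m hm q hq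
      obtain ⟨m', rfl⟩ := QuotientGroup.mk'_surjective _ m
      obtain ⟨c, hc, e⟩ := hlift m'
      rw [← e] at hm ⊢
      obtain ⟨r, hr, rfl⟩ := hq
      have hcz0 := (hcommlift c hc z₀ hzR hm.symm).symm
      refine ⟨c * r * c⁻¹, mem_subgroupOf.2 ⟨h.norm _ hcz0 _ (mem_subgroupOf.1 hr).1,
        Subgroup.mul_mem _ (Subgroup.mul_mem _ hc (mem_subgroupOf.1 hr).2) (Subgroup.inv_mem _ hc)⟩, ?_⟩
      simp
  have hxM : y⁻¹ * x ∈ M := mul_mem (inv_mem (hCA hyC)) (hRM hxR)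
  set w : ↥M := ⟨(y⁻¹ * x)⁻¹, inv_mem hxM⟩
  have hconj : π w * π z₀ * (π w)⁻¹ = π ⟨t, hRM hgR⟩ := by
    rw [← map_inv, ← map_mul, ← map_mul]
    refine congrArg π (Subtype.ext ?_)
    show (y⁻¹ * x)⁻¹ * z * (y⁻¹ * x)⁻¹⁻¹ = t
    rw [← hfin]; group
  refine hcore.large_of_conj (by rw [hcard]; exact hR32) (π w) ?_ ?_
  · rw [hconj]
    intro e
    exact htz (congrArg Subtype.val (hinjOn ⟨t, hRM hgR⟩ (mem_subgroupOf.2 hgR) z₀ (mem_subgroupOf.2 hzR) e))
  · rw [hconj]; exact mem_map_of_mem π (mem_subgroupOf.2 hgR)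

/-- The involution-centralizer quotient. -/
theorem large_in_involution_quotient (h : Core Q z) (w : ℕ) (hw : 3 ≤ w) (hcard : Nat.card ↥Q = 2 ^ (2 * w + 1))
    (g : G) (hgQ : g * z * g⁻¹ ∈ Q) (hgZ : g * z * g⁻¹ ∉ (center ↥Q).map Q.subtype) (t : G)
    (ht : orderOf t = 2) (htQ : t ∈ Q ⊓ (Q).map (MulAut.conj g).toMonoidHom) (htz : ¬ IsConj z t)
    (P : Subgroup G) (hP : P = Q ⊓ centralizer ({t} : Set G))
    (hCP : ∀ c ∈ centralizer ({z} : Set G),
      (∀ x ∈ P, ∃ y ∈ closure ({t, z} : Set G), c * x * c⁻¹ = x * y) ↔ c ∈ Q)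
    [hn : ((zpowers t).subgroupOf (centralizer ({t} : Set G))).Normal] :
    Cfsg.IsLargeExtraspecial ((P.subgroupOf (centralizer ({t} : Set G))).map
      (QuotientGroup.mk' ((zpowers t).subgroupOf (centralizer ({t} : Set G))))) ∧
    ∃ x ∈ P ⊔ ((Q).map (MulAut.conj g).toMonoidHom ⊓ centralizer ({t} : Set G)),
      x * (g * z * g⁻¹) * x⁻¹ = z := by
  haveI : Fact (Nat.Prime 2) := ⟨Nat.prime_two⟩
  subst hP
  set Ct := centralizer ({t} : Set G) with hCt
  set P := Q ⊓ Ct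
  obtain ⟨Q', hQ'⟩ : ∃ Q', Q.map (MulAut.conj g).toMonoidHom = Q' := ⟨_, rfl⟩
  rw [hQ'] at htQ ⊢
  set z' := g * z * g⁻¹ with hz'
  have hzz : z * z = 1 := by rw [← pow_two, ← h.ord, pow_orderOf_eq_one]
  have hz1 : z ≠ 1 := fun e => by have := h.ord; rw [e, orderOf_one] at this; omega
  have htt : t * t = 1 := by rw [← pow_two, ← ht, pow_orderOf_eq_one]
  have ht1 : t ≠ 1 := fun e => by rw [e, orderOf_one] at ht; omega
  have htne : t ≠ z := fun e => htz (e ▸ IsConj.refl _)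
  have hz'ne : z' ≠ z := fun e => hgZ ((h.center_iff z').2 (Or.inr e))
  have hz'1 : z' ≠ 1 := fun e => hgZ ((h.center_iff z').2 (Or.inl e))
  have hzcom : ∀ q ∈ Q, q * z = z * q := fun q hq => mem_centralizer_singleton_iff.1 (h.le hq)
  have hzt : z * t = t * z := (hzcom t htQ.1).symm
  have hnotconj : ∀ k : G, k * z * k⁻¹ ≠ t := fun k e => htz (isConj_iff.2 ⟨k, e⟩)
  have hbig : 32 ≤ Nat.card Q := by
    rw [hcard]; exact le_trans (by norm_num) (Nat.pow_le_pow_right (by norm_num) (show 5 ≤ 2 * w + 1 by omega))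
  -- an element moving `t`
  obtain ⟨y₀, hy₀, hy₀t⟩ : ∃ y ∈ Q, y * t * y⁻¹ = z * t := by
    by_contra hcon
    push Not at hcon
    have hc : t ∈ centralizer (Q : Set G) := mem_centralizer_iff.2 fun q hq => by
      rcases h.comm_eq q hq t htQ.1 with e | e
      · exact mul_inv_eq_iff_eq_mul.1 (mul_inv_eq_one.1 e)
      · exact absurd (mul_inv_eq_iff_eq_mul.1 e) (hcon q hq)
    rw [h.cent, h.center_iff] at hc
    exact hc.elim ht1 htne
  have hztnc : ∀ k : G, k * z * k⁻¹ ≠ z * t := fun k e => hnotconj (y₀⁻¹ * k) (by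
    calc y₀⁻¹ * k * z * (y₀⁻¹ * k)⁻¹ = y₀⁻¹ * (k * z * k⁻¹) * y₀ := by group
      _ = y₀⁻¹ * (y₀ * t * y₀⁻¹) * y₀ := by rw [e, hy₀t]
      _ = t := by group)
  have hz'comm : ∀ q ∈ Q', q * z' = z' * q := by
    intro q hq
    rw [← hQ'] at hq
    obtain ⟨r, hr, rfl⟩ := hq
    show g * r * g⁻¹ * (g * z * g⁻¹) = g * z * g⁻¹ * (g * r * g⁻¹)
    calc g * r * g⁻¹ * (g * z * g⁻¹) = g * (r * z) * g⁻¹ := by group
      _ = g * (z * r) * g⁻¹ := by rw [hzcom r hr]
      _ = _ := by group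
  have hz't : z' * t = t * z' := (hz'comm t htQ.2).symm
  have hz'P : z' ∈ P := ⟨hgQ, mem_centralizer_singleton_iff.2 hz't⟩
  have htP : t ∈ P := ⟨htQ.1, mem_centralizer_singleton_iff.2 rfl⟩
  have hzP : z ∈ P := ⟨h.mem, mem_centralizer_singleton_iff.2 hzt⟩
  -- moving `z'` inside `P`
  obtain ⟨x, hxP, hx⟩ : ∃ x ∈ P, x * z' * x⁻¹ = z * z' := by
    by_contra hcon
    push Not at hcon
    rcases h.double_centralizer htQ.1 ⟨ht1, htne⟩ hgQ (fun q hq hqt => by
      rcases h.comm_eq q hq z' hgQ with e | e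
      · exact mul_inv_eq_iff_eq_mul.1 (mul_inv_eq_one.1 e)
      · exact absurd (mul_inv_eq_iff_eq_mul.1 e) (hcon q ⟨hq, mem_centralizer_singleton_iff.2 hqt⟩))
      with e | e | e | e
    exacts [hz'1 e, hz'ne e, hnotconj g e, hztnc g e]
  -- moving `z` inside the conjugate
  have hzQ' : z ∈ Q' := hQ' ▸ centre_mem_conj Q z h.ext h.center_iff h.ord h.cent h.norm hbig g hz'ne hgQ
  obtain ⟨y, hyQ, hyt, hy⟩ : ∃ y ∈ Q', y * t = t * y ∧ y * z * y⁻¹ = z' * z := by
    by_contra hcon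
    push Not at hcon
    set c := g⁻¹ * z * g with hc
    set t' := g⁻¹ * t * g with ht'
    obtain ⟨c₁, hc₁, ec⟩ : ∃ q ∈ Q, g * q * g⁻¹ = z := by rw [← hQ'] at hzQ'; exact hzQ'
    obtain ⟨t₁, ht₁, et⟩ : ∃ q ∈ Q, g * q * g⁻¹ = t := by
      have h2 := htQ.2
      rw [← hQ'] at h2; exact h2
    have hcQ : c ∈ Q := by rwa [show c = c₁ by rw [hc, ← ec]; group]
    have ht'Q : t' ∈ Q := by rwa [show t' = t₁ by rw [ht', ← et]; group]
    have hrest : ∀ q ∈ Q, q * t' = t' * q → q * c = c * q := fun q hq hqt => by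
      have hq' : g * q * g⁻¹ ∈ Q' := hQ' ▸ ⟨q, hq, rfl⟩
      have h1 : g * q * g⁻¹ * t = t * (g * q * g⁻¹) := by
        calc g * q * g⁻¹ * t = g * (q * t') * g⁻¹ := by rw [ht']; group
          _ = g * (t' * q) * g⁻¹ := by rw [hqt]
          _ = _ := by rw [ht']; group
      rcases h.comm_eq q hq c hcQ with e | e
      · exact mul_inv_eq_iff_eq_mul.1 (mul_inv_eq_one.1 e)
      · exfalso
        refine hcon _ hq' h1 ?_
        calc g * q * g⁻¹ * z * (g * q * g⁻¹)⁻¹ = g * (q * c * q⁻¹) * g⁻¹ := by rw [hc]; group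
          _ = g * (z * c) * g⁻¹ := by rw [show q * c * q⁻¹ = z * c from mul_inv_eq_iff_eq_mul.1 e]
          _ = _ := by rw [hc, hz']; group
    have ht'1 : t' ≠ 1 ∧ t' ≠ z := ⟨fun e => ht1 (by
      calc t = g * t' * g⁻¹ := by rw [ht']; group
        _ = 1 := by rw [e]; group), fun e => hnotconj g (by rw [← e, ht']; group)⟩
    rcases h.double_centralizer ht'Q ht'1 hcQ hrest with e | e | e | e
    · exact hz1 (by calc z = g * c * g⁻¹ := by rw [hc]; group
                    _ = 1 := by rw [e]; group)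
    · exact hz'ne (by
        calc z' = g * c * g⁻¹ := by rw [e, hz']
          _ = z := by rw [hc]; group)
    · exact htne.symm (by calc z = g * c * g⁻¹ := by rw [hc]; group
                          _ = t := by rw [e, ht']; group)
    · have e2 : z = z' * t := by
        calc z = g * c * g⁻¹ := by rw [hc]; group
          _ = _ := by rw [e, ht', hz']; group
      refine hztnc g ?_
      show z' = z * t
      rw [e2, mul_assoc, htt, mul_one]
  have hcz'z : z' * z = z * z' := hzcom z' hgQ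
  have hfin : (y⁻¹ * x) * z' * (y⁻¹ * x)⁻¹ = z := by
    calc (y⁻¹ * x) * z' * (y⁻¹ * x)⁻¹ = y⁻¹ * (x * z' * x⁻¹) * y := by group
      _ = y⁻¹ * (y * z * y⁻¹) * y := by rw [hx, hy, hcz'z]
      _ = z := by group
  refine ⟨?_, y⁻¹ * x,
    mul_mem (inv_mem (mem_sup_right ⟨hyQ, mem_centralizer_singleton_iff.2 hyt⟩)) (mem_sup_left hxP), hfin⟩
  -- the quotient
  set π := QuotientGroup.mk' ((zpowers t).subgroupOf Ct) with hπ
  have hPC : P ≤ Ct := inf_le_right
  have hpow : ∀ a : G, a ∈ zpowers t ↔ a = 1 ∨ a = t := fun a => by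
    refine ⟨fun ha => ?_, ?_⟩
    · obtain ⟨i, rfl⟩ := mem_zpowers_iff.1 ha
      rcases Int.even_or_odd i with ⟨k, rfl⟩ | ⟨k, rfl⟩
      · left; simp [← two_mul, zpow_mul, htt, pow_two]
      · right; simp [zpow_add, zpow_mul, htt, pow_two]
    · rintro (rfl | rfl)
      exacts [one_mem _, mem_zpowers _]
  have hπone : ∀ m : ↥Ct, π m = 1 ↔ ((m : G) = 1 ∨ (m : G) = t) := fun m =>
    (QuotientGroup.eq_one_iff m).trans (mem_subgroupOf.trans (hpow _))
  set z₀ : ↥Ct := ⟨z, hPC hzP⟩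
  obtain ⟨hcz', hcomm', hsq'⟩ := quot_comm (z := z₀) (P.subgroupOf Ct) (N := (zpowers t).subgroupOf Ct)
    (fun a ha b hb => (h.comm_eq _ (mem_subgroupOf.1 ha).1 _ (mem_subgroupOf.1 hb).1).imp
      (fun e => Subtype.ext e) fun e => Subtype.ext e)
    (fun a ha => (h.sq_eq _ (mem_subgroupOf.1 ha).1).imp (fun e => Subtype.ext e) fun e => Subtype.ext e)
    fun a ha => Subtype.ext (hzcom _ (mem_subgroupOf.1 ha).1)
  have hlift : ∀ c r : ↥Ct, π r * π c = π c * π r →
      (c : G) * r * (c : G)⁻¹ = r ∨ (c : G) * r * (c : G)⁻¹ = t * r := by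
    intro c r e
    have h1 : π (c * r * c⁻¹ * r⁻¹) = 1 := by
      rw [map_mul, map_mul, map_mul, map_inv, map_inv, ← e, mul_inv_cancel_right, mul_inv_cancel]
    rcases (hπone _).1 h1 with e1 | e1
    · exact Or.inl (mul_inv_eq_one.1 e1)
    · exact Or.inr (mul_inv_eq_iff_eq_mul.1 e1)
  have hfixz : ∀ c : ↥Ct, π z₀ * π c = π c * π z₀ → (c : G) * z = z * (c : G) := by
    intro c e
    rcases hlift c z₀ e with e1 | e1
    · exact mul_inv_eq_iff_eq_mul.1 e1
    · exact absurd (e1.trans hzt.symm) (hztnc c)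
  have hord₀ : orderOf (π z₀) = 2 := orderOf_eq_prime
    (by rw [← map_pow, show z₀ ^ 2 = 1 from Subtype.ext (by simpa [pow_two] using hzz), map_one])
    fun e => ((hπone z₀).1 e).elim hz1 htne.symm
  have hcardP : 32 ≤ Nat.card ↥((P.subgroupOf Ct).map π) := by
    let τ : ↥Q →* ↥Q := CfsgLib.PGroup.commHom
      (CfsgLib.PGroup.smallCenter_of_extraspecial h.ext).1.comm_mem ⟨t, htQ.1⟩
    have hker : τ.ker.map Q.subtype ≤ P := by
      rintro _ ⟨q, hq, rfl⟩
      have h2 : ⁅q, (⟨t, htQ.1⟩ : ↥Q)⁆ = 1 := hq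
      exact ⟨q.2, mem_centralizer_singleton_iff.2 (congrArg Subtype.val (commutatorElement_eq_one_iff_mul_comm.1 h2))⟩
    have hidx : τ.ker.index ≤ 2 := by
      rw [index_ker]
      refine le_trans (Subgroup.card_le_of_le ?_) (CfsgLib.PGroup.smallCenter_of_extraspecial h.ext).1.card_center.le
      rintro _ ⟨q, rfl⟩
      exact (CfsgLib.PGroup.smallCenter_of_extraspecial h.ext).1.comm_mem _ _
    have h1 : 2 ^ (2 * w) ≤ Nat.card P := by
      have h2 := τ.ker.card_mul_index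
      rw [hcard, pow_succ] at h2
      have h3 : Nat.card ↥(τ.ker.map Q.subtype) ≤ Nat.card P := Subgroup.card_le_of_le hker
      rw [card_map_of_injective Q.subtype_injective] at h3
      nlinarith
    have h4 := (π.comp (P.subgroupOf Ct).subtype).ker.card_mul_index
    rw [index_ker, MonoidHom.range_comp, Subgroup.range_subtype,
      Nat.card_congr (subgroupOfEquivOfLe hPC).toEquiv] at h4
    have h5 : Nat.card ↥(π.comp (P.subgroupOf Ct).subtype).ker ≤ 2 := by
      refine le_trans (Nat.card_le_card_of_injective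
        (fun k : ↥(π.comp (P.subgroupOf Ct).subtype).ker =>
          (⟨((k.1 : ↥Ct) : G), (hpow _).2 ((hπone _).1 k.2)⟩ : ↥(zpowers t))) ?_) ?_
      · intro a b e
        exact Subtype.ext (Subtype.ext (Subtype.ext (congrArg Subtype.val e :)))
      · rw [Nat.card_zpowers, ht]
    have h6 : 2 ^ 6 ≤ 2 ^ (2 * w) := Nat.pow_le_pow_right (by norm_num) (by omega)
    nlinarith
  have hcore : Core ((P.subgroupOf Ct).map π) (π z₀) := by
    refine core_of_data _ hord₀ _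
      (((h.ext.1.1.to_le (inf_le_left (b := Ct))).of_equiv (subgroupOfEquivOfLe hPC).symm).map π)
      (mem_map_of_mem π (mem_subgroupOf.2 hzP)) hcz' hcomm' hsq' ?_ ?_ (by omega)
    · intro m hm
      obtain ⟨c, rfl⟩ := QuotientGroup.mk'_surjective _ m
      have hcz0 := hfixz c (hm _ (mem_map_of_mem π (mem_subgroupOf.2 hzP)))
      have hcQ : (c : G) ∈ Q := (hCP c (mem_centralizer_singleton_iff.2 hcz0)).1 fun a ha => by
        rcases hlift c ⟨a, hPC ha⟩ (hm _ (mem_map_of_mem π (mem_subgroupOf.2 ha))) with e | e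
        · exact ⟨1, one_mem _, by rw [mul_one]; exact e⟩
        · exact ⟨t, subset_closure (Set.mem_insert _ _), e.trans (mem_centralizer_singleton_iff.1 ha.2).symm⟩
      have hcP : ∀ a ∈ Q, a * t = t * a → a * c = c * a := by
        intro a ha hat
        rcases hlift c ⟨a, mem_centralizer_singleton_iff.2 hat⟩
          (hm _ (mem_map_of_mem π (mem_subgroupOf.2 ⟨ha, mem_centralizer_singleton_iff.2 hat⟩))) with e | e
        · exact (mul_inv_eq_iff_eq_mul.1 e).symm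
        · rcases h.comm_eq _ hcQ a ha with e2 | e2
          · exact (mul_inv_eq_iff_eq_mul.1 (mul_inv_eq_one.1 e2)).symm
          · exact absurd (mul_right_cancel ((mul_inv_eq_iff_eq_mul.1 e2).symm.trans e)) htne.symm
      rcases h.double_centralizer htQ.1 ⟨ht1, htne⟩ hcQ hcP with e | e | e | e
      · exact Or.inl ((hπone c).2 (Or.inl e))
      · exact Or.inr (congrArg π (show c = z₀ from Subtype.ext e))
      · exact Or.inl ((hπone c).2 (Or.inr e))
      · right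
        rw [show c = z₀ * ⟨t, hPC htP⟩ from Subtype.ext e, map_mul, (hπone ⟨t, hPC htP⟩).2 (Or.inr rfl), mul_one]
    · intro m hm q hq
      obtain ⟨c, rfl⟩ := QuotientGroup.mk'_surjective _ m
      obtain ⟨r, hr, rfl⟩ := hq
      have hcz0 := hfixz c hm.symm
      refine ⟨c * r * c⁻¹, mem_subgroupOf.2 ⟨h.norm _ hcz0 _ (mem_subgroupOf.1 hr).1,
        (c * r * c⁻¹).2⟩, ?_⟩
      rw [map_mul, map_mul, map_inv]
  have hxC : y⁻¹ * x ∈ Ct := mul_mem (inv_mem (mem_centralizer_singleton_iff.2 hyt)) hxP.2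
  set v : ↥Ct := ⟨(y⁻¹ * x)⁻¹, inv_mem hxC⟩
  have hconj : π v * π z₀ * (π v)⁻¹ = π ⟨z', hPC hz'P⟩ := by
    rw [← map_inv, ← map_mul, ← map_mul]
    refine congrArg π (Subtype.ext ?_)
    show (y⁻¹ * x)⁻¹ * z * (y⁻¹ * x)⁻¹⁻¹ = z'
    rw [← hfin]; group
  refine hcore.large_of_conj hcardP (π v) ?_ ?_
  · rw [hconj]
    intro e
    have e2 : π (⟨z', hPC hz'P⟩ * z₀⁻¹) = 1 := by rw [map_mul, map_inv, e, mul_inv_cancel]
    rcases (hπone _).1 e2 with e3 | e3
    · exact hz'ne (mul_inv_eq_one.1 e3)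
    · refine hztnc g ?_
      show z' = z * t
      exact (mul_inv_eq_iff_eq_mul.1 e3).trans hzt.symm
  · rw [hconj]; exact mem_map_of_mem π (mem_subgroupOf.2 hz'P)

end CfsgLib.Spor.LargeQ
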