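/-
The odd primes dividing an order exactly three times.
-/
import Cfsg.Prelude.Def_Sporadic
import Cfsg.Prelude.Def_Classical

set_option autoImplicit false

namespace CfsgLib.Spor.CubePrime

variable {G : Type*} [Group G] [Finite G] {p : ℕ}

theorem of_list (hp : p.Prime) {N : ℕ} (hN : Nat.card G = N) (h3 : (Nat.card G).factorization p = 3)
    (hodd : p ≠ 2) (l : List (ℕ × ℕ)) (a : ℕ) (hl : (l.map fun x => x.1 ^ x.2).prod = N)
    (hprime : ∀ x ∈ l, x.1.Prime) (ha : 2 ^ a ∣ N)
    (hcheck : (l.all fun x => decide (x.1 = 2 ∨ x.1 ^ 4 ∣ N ∨ ¬ x.1 ^ 3 ∣ N ∨ x.1 ^ 3 < 2 ^ a)) = true) :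
    p ^ 3 < 2 ^ (Nat.card G).factorization 2 := by
  have hN0 : N ≠ 0 := hN ▸ Nat.card_pos.ne'
  rw [hN] at h3 ⊢
  have hd : p ^ 3 ∣ N := (hp.pow_dvd_iff_le_factorization hN0).2 h3.ge
  have hd4 : ¬ p ^ 4 ∣ N := fun h => by have := (hp.pow_dvd_iff_le_factorization hN0).1 h; omega
  have hpl : p ∣ (l.map fun x => x.1 ^ x.2).prod := hl ▸ (dvd_pow_self p three_ne_zero).trans hd
  obtain ⟨y, hy, hpy⟩ := (Prime.dvd_prod_iff hp.prime).1 hpl
  obtain ⟨x, hx, rfl⟩ := List.mem_map.1 hy
  obtain rfl : p = x.1 := (Nat.prime_dvd_prime_iff_eq hp (hprime x hx)).1 (hp.dvd_of_dvd_pow hpy)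
  have h := of_decide_eq_true (List.all_eq_true.1 hcheck x hx)
  have ha' := (Nat.prime_two.pow_dvd_iff_le_factorization hN0).1 ha
  rcases h with h | h | h | h
  · exact absurd h hodd
  · exact absurd h hd4
  · exact absurd hd h
  · exact h.trans_le (Nat.pow_le_pow_right two_pos ha')

theorem cube_lt_four_pow : ∀ p : ℕ, p ^ 3 < 4 ^ p
  | 0 => by norm_num
  | 1 => by norm_num
  | 2 => by norm_num
  | p + 3 => by
    have ih := cube_lt_four_pow (p + 2)
    calc (p + 3) ^ 3 ≤ 4 * (p + 2) ^ 3 := by nlinarith [Nat.zero_le p, mul_self_nonneg (p : ℤ)]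
      _ < 4 * 4 ^ (p + 2) := by omega
      _ = 4 ^ (p + 3) := by rw [pow_succ' 4 (p + 2)]

theorem alternating {n : ℕ} (hn : 5 ≤ n) (e : G ≃* alternatingGroup (Fin n)) (hp : p.Prime) (hodd : p ≠ 2)
    (h3 : (Nat.card G).factorization p = 3) : p ^ 3 < 2 ^ (Nat.card G).factorization 2 := by
  haveI : Fact p.Prime := ⟨hp⟩
  haveI : Fact (Nat.Prime 2) := ⟨Nat.prime_two⟩
  haveI : Nontrivial (Fin n) := Fin.nontrivial_iff_two_le.2 (by omega)
  have hc : 2 * Nat.card G = n.factorial := by
    rw [Nat.card_congr e.toEquiv, two_mul_nat_card_alternatingGroup, Nat.card_perm, Nat.card_eq_fintype_card,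
      Fintype.card_fin]
  have hG0 : Nat.card G ≠ 0 := Nat.card_pos.ne'
  have hfac : ∀ q, (n.factorial).factorization q = (Nat.factorization 2) q + (Nat.card G).factorization q := fun q => by
    rw [← hc, Nat.factorization_mul two_ne_zero hG0]; rfl
  have hp3 : (n.factorial).factorization p = 3 := by
    rw [hfac, h3, Nat.prime_two.factorization, Finsupp.single_apply, if_neg (Ne.symm hodd)]
  have h2 : (n.factorial).factorization 2 = 1 + (Nat.card G).factorization 2 := by
    rw [hfac, Nat.prime_two.factorization, Finsupp.single_eq_same]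
  have hpo : 3 ≤ p := by have := hp.two_le; omega
  have hlog : ∀ q, Nat.Prime q → Nat.log q n < n + 4 := fun q _ => by
    have := Nat.log_le_self q n; omega
  rw [Nat.factorization_def _ hp, padicValNat_factorial (hlog p hp)] at hp3
  -- `n` is at least three times the prime
  have hn3 : 3 * p ≤ n ∨ p = 3 := by
    by_contra hcon
    push Not at hcon
    obtain ⟨hlt, hne⟩ := hcon
    rw [Finset.sum_Ico_eq_sum_range, show n + 4 - 1 = (n + 2) + 1 from rfl, Finset.sum_range_succ'] at hp3
    have hz : ∀ k, n / p ^ (1 + (k + 1)) = 0 := fun k => by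
      refine Nat.div_eq_of_lt (lt_of_lt_of_le hlt ?_)
      calc 3 * p ≤ p * p := Nat.mul_le_mul_right p hpo
        _ = p ^ 2 := (pow_two p).symm
        _ ≤ p ^ (1 + (k + 1)) := Nat.pow_le_pow_right hp.pos (by omega)
    simp only [hz, Finset.sum_const_zero, zero_add, add_zero, pow_one] at hp3
    have := (Nat.le_div_iff_mul_le hp.pos).1 hp3.ge
    omega
  rw [Nat.factorization_def _ Nat.prime_two, padicValNat_factorial (hlog 2 Nat.prime_two)] at h2
  have hsub : ∑ i ∈ ({1, 2, 3} : Finset ℕ), n / 2 ^ i ≤ ∑ i ∈ Finset.Ico 1 (n + 4), n / 2 ^ i := by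
    refine Finset.sum_le_sum_of_subset fun i hi => ?_
    simp only [Finset.mem_insert, Finset.mem_singleton] at hi
    rw [Finset.mem_Ico]; omega
  simp only [Finset.sum_insert (show (1 : ℕ) ∉ ({2, 3} : Finset ℕ) by decide),
    Finset.sum_insert (show (2 : ℕ) ∉ ({3} : Finset ℕ) by decide), Finset.sum_singleton] at hsub
  rcases eq_or_ne p 3 with rfl | hne
  · -- three factors 3 need n ≥ 9, which gives four
    rw [Finset.sum_Ico_eq_sum_range, show n + 4 - 1 = ((n + 1) + 1) + 1 from rfl, Finset.sum_range_succ',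
      Finset.sum_range_succ'] at hp3
    exfalso
    rcases Nat.lt_or_ge n 9 with h9 | h9
    · have hz : ∀ k, n / 3 ^ (1 + (k + 1 + 1)) = 0 := fun k => Nat.div_eq_of_lt (lt_of_lt_of_le h9
        (Nat.pow_le_pow_right (by norm_num : 0 < 3) (by omega : 2 ≤ 1 + (k + 1 + 1))))
      simp only [hz, Finset.sum_const_zero] at hp3
      norm_num at hp3
      omega
    · norm_num at hp3
      omega
  · have hp5 : 5 ≤ p := by
      rcases hp.eq_two_or_odd with h | h <;> omega
    have h3p := hn3.resolve_right hne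
    have hkey : 2 * p ≤ (Nat.card G).factorization 2 := by
      norm_num at hsub
      omega
    calc p ^ 3 < 4 ^ p := cube_lt_four_pow p
      _ = 2 ^ (2 * p) := by rw [pow_mul]; norm_num
      _ ≤ _ := Nat.pow_le_pow_right two_pos hkey

theorem main (hG : Cfsg.IsAlternating G ∨ Cfsg.IsSporadic G) (hp : p.Prime) (hodd : p ≠ 2)
    (h3 : (Nat.card G).factorization p = 3) : p ^ 3 < 2 ^ (Nat.card G).factorization 2 := by
  rcases hG with ⟨n, hn, ⟨e⟩⟩ | h
  · exact alternating hn e hp hodd h3
  rcases h with h | h | h | h | h | h | h | h | h | h | h | h | h | h | h | h | h | h | h | h | h | h | h | h | h | h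
  · exact of_list hp h.2 h3 hodd [(2, 4), (3, 2), (5, 1), (11, 1)] 4 (by decide +kernel) (by decide +kernel) (by decide +kernel) (by decide +kernel)
  · exact of_list hp h.2 h3 hodd [(2, 6), (3, 3), (5, 1), (11, 1)] 6 (by decide +kernel) (by decide +kernel) (by decide +kernel) (by decide +kernel)
  · exact of_list hp h.2 h3 hodd [(2, 7), (3, 2), (5, 1), (7, 1), (11, 1)] 7 (by decide +kernel) (by decide +kernel) (by decide +kernel) (by decide +kernel)
  · exact of_list hp h.2 h3 hodd [(2, 7), (3, 2), (5, 1), (7, 1), (11, 1), (23, 1)] 7 (by decide +kernel) (by decide +kernel) (by decide +kernel) (by decide +kernel)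
  · exact of_list hp h.2 h3 hodd [(2, 10), (3, 3), (5, 1), (7, 1), (11, 1), (23, 1)] 10 (by decide +kernel) (by decide +kernel) (by decide +kernel) (by decide +kernel)
  · exact of_list hp h.2 h3 hodd [(2, 3), (3, 1), (5, 1), (7, 1), (11, 1), (19, 1)] 3 (by decide +kernel) (by decide +kernel) (by decide +kernel) (by decide +kernel)
  · exact of_list hp h.2 h3 hodd [(2, 7), (3, 3), (5, 2), (7, 1)] 7 (by decide +kernel) (by decide +kernel) (by decide +kernel) (by decide +kernel)
  · exact of_list hp h.2 h3 hodd [(2, 7), (3, 5), (5, 1), (17, 1), (19, 1)] 7 (by decide +kernel) (by decide +kernel) (by decide +kernel) (by decide +kernel)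
  · exact of_list hp h.2 h3 hodd [(2, 21), (3, 3), (5, 1), (7, 1), (11, 3), (23, 1), (29, 1), (31, 1), (37, 1), (43, 1)] 21 (by decide +kernel) (by decide +kernel) (by decide +kernel) (by decide +kernel)
  · exact of_list hp h.2 h3 hodd [(2, 21), (3, 9), (5, 4), (7, 2), (11, 1), (13, 1), (23, 1)] 21 (by decide +kernel) (by decide +kernel) (by decide +kernel) (by decide +kernel)
  · exact of_list hp h.2 h3 hodd [(2, 18), (3, 6), (5, 3), (7, 1), (11, 1), (23, 1)] 18 (by decide +kernel) (by decide +kernel) (by decide +kernel) (by decide +kernel)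
  · exact of_list hp h.2 h3 hodd [(2, 10), (3, 7), (5, 3), (7, 1), (11, 1), (23, 1)] 10 (by decide +kernel) (by decide +kernel) (by decide +kernel) (by decide +kernel)
  · exact of_list hp h.2 h3 hodd [(2, 17), (3, 9), (5, 2), (7, 1), (11, 1), (13, 1)] 17 (by decide +kernel) (by decide +kernel) (by decide +kernel) (by decide +kernel)
  · exact of_list hp h.2 h3 hodd [(2, 18), (3, 13), (5, 2), (7, 1), (11, 1), (13, 1), (17, 1), (23, 1)] 18 (by decide +kernel) (by decide +kernel) (by decide +kernel) (by decide +kernel)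
  · exact of_list hp h.2 h3 hodd [(2, 21), (3, 16), (5, 2), (7, 3), (11, 1), (13, 1), (17, 1), (23, 1), (29, 1)] 21 (by decide +kernel) (by decide +kernel) (by decide +kernel) (by decide +kernel)
  · exact of_list hp h.2 h3 hodd [(2, 9), (3, 2), (5, 3), (7, 1), (11, 1)] 9 (by decide +kernel) (by decide +kernel) (by decide +kernel) (by decide +kernel)
  · exact of_list hp h.2 h3 hodd [(2, 7), (3, 6), (5, 3), (7, 1), (11, 1)] 7 (by decide +kernel) (by decide +kernel) (by decide +kernel) (by decide +kernel)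
  · exact of_list hp h.2 h3 hodd [(2, 10), (3, 3), (5, 2), (7, 3), (17, 1)] 10 (by decide +kernel) (by decide +kernel) (by decide +kernel) (by decide +kernel)
  · exact of_list hp h.2 h3 hodd [(2, 14), (3, 3), (5, 3), (7, 1), (13, 1), (29, 1)] 14 (by decide +kernel) (by decide +kernel) (by decide +kernel) (by decide +kernel)
  · exact of_list hp h.2 h3 hodd [(2, 13), (3, 7), (5, 2), (7, 1), (11, 1), (13, 1)] 13 (by decide +kernel) (by decide +kernel) (by decide +kernel) (by decide +kernel)
  · exact of_list hp h.2 h3 hodd [(2, 9), (3, 4), (5, 1), (7, 3), (11, 1), (19, 1), (31, 1)] 9 (by decide +kernel) (by decide +kernel) (by decide +kernel) (by decide +kernel)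
  · exact of_list hp h.2 h3 hodd [(2, 14), (3, 6), (5, 6), (7, 1), (11, 1), (19, 1)] 14 (by decide +kernel) (by decide +kernel) (by decide +kernel) (by decide +kernel)
  · exact of_list hp h.2 h3 hodd [(2, 8), (3, 7), (5, 6), (7, 1), (11, 1), (31, 1), (37, 1), (67, 1)] 8 (by decide +kernel) (by decide +kernel) (by decide +kernel) (by decide +kernel)
  · exact of_list hp h.2 h3 hodd [(2, 15), (3, 10), (5, 3), (7, 2), (13, 1), (19, 1), (31, 1)] 15 (by decide +kernel) (by decide +kernel) (by decide +kernel) (by decide +kernel)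
  · exact of_list hp h.2 h3 hodd [(2, 41), (3, 13), (5, 6), (7, 2), (11, 1), (13, 1), (17, 1), (19, 1), (23, 1), (31, 1), (47, 1)] 41 (by decide +kernel) (by decide +kernel) (by decide +kernel) (by decide +kernel)
  · exact of_list hp h.2 h3 hodd [(2, 46), (3, 20), (5, 9), (7, 6), (11, 2), (13, 3), (17, 1), (19, 1), (23, 1), (29, 1), (31, 1), (41, 1), (47, 1), (59, 1), (71, 1)] 46 (by decide +kernel) (by decide +kernel) (by decide +kernel) (by decide +kernel)

end CfsgLib.Spor.CubePrime
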