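import Cfsg.Agent.Lib.PGroup.InvolutionCount
import Cfsg.Prelude.Def_Classical
import Cfsg.Prelude.Def_KGroupFacts
import Cfsg.Prelude.Def_Transfer
import Mathlib

/-!
# Outer automorphisms of extraspecial two-groups

A bilinear form `B` over the field with two elements defines a group of pairs; its outer automorphisms
are the isometries of the quadratic form `v ↦ vᵀ B v`.
-/

set_option autoImplicit false
set_option linter.unusedSectionVars false
set_option linter.style.haveILetI false

open Matrix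
open scoped commutatorElement

namespace CfsgLib.Spor.ExtraOut

local notation "F2" => ZMod 2

variable {ι : Type} [Fintype ι] [DecidableEq ι]

/-- The bilinear form of a matrix. -/
def bl (B : Matrix ι ι F2) (u v : ι → F2) : F2 := u ⬝ᵥ (B *ᵥ v)

variable (B : Matrix ι ι F2)

theorem bl_add_left (u u' v : ι → F2) : bl B (u + u') v = bl B u v + bl B u' v :=
  add_dotProduct _ _ _

theorem bl_add_right (u v v' : ι → F2) : bl B u (v + v') = bl B u v + bl B u v' := by
  rw [bl, mulVec_add, dotProduct_add]; rfl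

theorem bl_zero_left (v : ι → F2) : bl B 0 v = 0 := zero_dotProduct _

theorem bl_zero_right (u : ι → F2) : bl B u 0 = 0 := by rw [bl, mulVec_zero, dotProduct_zero]

theorem bl_matrix_add (C : Matrix ι ι F2) (u v : ι → F2) : bl (B + C) u v = bl B u v + bl C u v := by
  rw [bl, add_mulVec, dotProduct_add]; rfl

theorem bl_transpose (u v : ι → F2) : bl Bᵀ u v = bl B v u := by
  rw [bl, bl, mulVec_transpose, dotProduct_comm, ← dotProduct_mulVec]

theorem bl_single (i j : ι) : bl B (Pi.single i 1) (Pi.single j 1) = B i j := by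
  simp [bl, single_dotProduct, mulVec_single]

theorem bl_conj (g : Matrix ι ι F2) (u v : ι → F2) : bl (gᵀ * B * g) u v = bl B (g *ᵥ u) (g *ᵥ v) := by
  rw [bl, bl, ← mulVec_mulVec, ← mulVec_mulVec, dotProduct_mulVec, vecMul_transpose]

theorem two0 : (2 : F2) = 0 := by decide

theorem vec_add_self {κ : Type} (v : κ → F2) : v + v = 0 := funext fun _ => CharTwo.add_self_eq_zero _

/-- The group of a bilinear form. -/
@[ext]
structure Model (B : Matrix ι ι F2) where
  /-- The vector. -/
  v : ι → F2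
  /-- The central coordinate. -/
  c : F2

instance modelGroup : Group (Model B) where
  mul x y := ⟨x.v + y.v, x.c + y.c + bl B x.v y.v⟩
  one := ⟨0, 0⟩
  inv x := ⟨x.v, x.c + bl B x.v x.v⟩
  mul_assoc x y z := by
    refine Model.ext (add_assoc _ _ _) ?_
    show x.c + y.c + bl B x.v y.v + z.c + bl B (x.v + y.v) z.v =
      x.c + (y.c + z.c + bl B y.v z.v) + bl B x.v (y.v + z.v)
    rw [bl_add_left, bl_add_right]; ring
  one_mul x := Model.ext (zero_add _) (by
    show 0 + x.c + bl B 0 x.v = x.c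
    rw [bl_zero_left]; ring)
  mul_one x := Model.ext (add_zero _) (by
    show x.c + 0 + bl B x.v 0 = x.c
    rw [bl_zero_right]; ring)
  inv_mul_cancel x := Model.ext (vec_add_self x.v) (by
    show x.c + bl B x.v x.v + x.c + bl B x.v x.v = 0
    linear_combination (x.c + bl B x.v x.v) * two0)

theorem mul_v (x y : Model B) : (x * y).v = x.v + y.v := rfl

theorem mul_c (x y : Model B) : (x * y).c = x.c + y.c + bl B x.v y.v := rfl

theorem inv_v (x : Model B) : x⁻¹.v = x.v := rfl

theorem inv_c (x : Model B) : x⁻¹.c = x.c + bl B x.v x.v := rfl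

theorem one_v : (1 : Model B).v = 0 := rfl

theorem one_c : (1 : Model B).c = 0 := rfl

/-- The underlying set. -/
def toProd : Model B ≃ (ι → F2) × F2 where
  toFun x := (x.v, x.c)
  invFun p := ⟨p.1, p.2⟩

instance modelFinite : Finite (Model B) := Finite.of_equiv _ (toProd B).symm

theorem card_model : Nat.card (Model B) = 2 ^ (Fintype.card ι + 1) := by
  rw [Nat.card_congr (toProd B), Nat.card_prod, Nat.card_fun, Nat.card_eq_fintype_card (α := ι),
    Nat.card_zmod, pow_succ]

theorem sq_eq (x : Model B) : x ^ 2 = ⟨0, bl B x.v x.v⟩ := by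
  refine Model.ext ?_ ?_
  · rw [pow_two, mul_v, vec_add_self]
  · rw [pow_two, mul_c, CharTwo.add_self_eq_zero, zero_add]

theorem sq_eq_one_iff (x : Model B) : x ^ 2 = 1 ↔ bl B x.v x.v = 0 := by
  rw [sq_eq, Model.ext_iff]
  exact ⟨fun h => h.2, fun h => ⟨rfl, h⟩⟩

theorem commute_iff (x y : Model B) : x * y = y * x ↔ bl B x.v y.v + bl B y.v x.v = 0 := by
  rw [Model.ext_iff, mul_v, mul_v, mul_c, mul_c, add_comm y.v, and_iff_right rfl, CharTwo.add_eq_zero]
  constructor <;> intro h <;> linear_combination h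

/-- The form is nondegenerate. -/
def Nondeg : Prop := ∀ u : ι → F2, (∀ v, bl B u v + bl B v u = 0) → u = 0

variable {B} (hB : Nondeg B)

theorem mk_mem_center (c : F2) : (⟨0, c⟩ : Model B) ∈ Subgroup.center (Model B) :=
  Subgroup.mem_center_iff.2 fun y => (commute_iff B y _).2 (by simp [bl_zero_left, bl_zero_right])

include hB in
theorem v_of_mem_center {x : Model B} (hx : x ∈ Subgroup.center (Model B)) : x.v = 0 :=
  hB _ fun v => (commute_iff B x ⟨v, 0⟩).1 (Subgroup.mem_center_iff.1 hx _).symm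

include hB in
theorem card_center : Nat.card (Subgroup.center (Model B)) = 2 := by
  refine (Nat.card_congr (β := F2) ⟨fun x : Subgroup.center (Model B) => (x : Model B).c, fun c => ⟨⟨0, c⟩, mk_mem_center c⟩,
    fun x => Subtype.ext (Model.ext (v_of_mem_center hB x.2).symm rfl), fun c => rfl⟩).trans
    (Nat.card_zmod 2)

include hB in
theorem smallCenter : CfsgLib.PGroup.SmallCenter 2 (Model B) where
  card_center := card_center hB
  comm_mem a b := by
    have h : ⁅a, b⁆ = ⟨0, ⁅a, b⁆.c⟩ := Model.ext (by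
      rw [commutatorElement_def, mul_v, mul_v, mul_v, inv_v, inv_v]
      show a.v + b.v + a.v + b.v = 0
      linear_combination (norm := abel_nf) vec_add_self (a.v + b.v)) rfl
    rw [h]
    exact mk_mem_center _
  pow_mem g := by
    rw [sq_eq]
    exact mk_mem_center _

theorem cen_ne_one : (⟨0, 1⟩ : Model B) ≠ 1 := fun h => one_ne_zero (α := F2) (congrArg Model.c h)

section aut

include hB

theorem aut_cen (φ : MulAut (Model B)) (c : F2) : φ ⟨0, c⟩ = ⟨0, c⟩ := by
  have h01 : c = 0 ∨ c = 1 := by revert c; decide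
  rcases h01 with rfl | rfl
  · exact map_one φ
  · have hz : φ ⟨0, 1⟩ ∈ Subgroup.center (Model B) :=
      Subgroup.mem_center_iff.2 fun y => by
        obtain ⟨y, rfl⟩ := φ.surjective y
        rw [← map_mul, ← map_mul, Subgroup.mem_center_iff.1 (mk_mem_center 1) y]
    refine (CfsgLib.PGroup.mem_pair_of_card_two (card_center hB) (mk_mem_center 1) cen_ne_one hz).resolve_left
      fun h => cen_ne_one (φ.injective (h.trans (map_one φ).symm))

theorem aut_split (φ : MulAut (Model B)) (x : Model B) : φ x = φ ⟨x.v, 0⟩ * ⟨0, x.c⟩ := by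
  rw [← aut_cen hB φ x.c, ← map_mul]
  exact congrArg φ (Model.ext (add_zero _).symm (by rw [mul_c, bl_zero_right, zero_add, add_zero]))

theorem aut_v (φ : MulAut (Model B)) (x : Model B) : (φ x).v = (φ ⟨x.v, 0⟩).v := by
  rw [aut_split hB φ x, mul_v, add_zero]

theorem aut_v_add (φ : MulAut (Model B)) (u v : ι → F2) :
    (φ ⟨u + v, 0⟩).v = (φ ⟨u, 0⟩).v + (φ ⟨v, 0⟩).v := by
  rw [← mul_v, ← map_mul]
  exact (aut_v hB φ (⟨u, 0⟩ * ⟨v, 0⟩)).symm

theorem aut_c_add (φ : MulAut (Model B)) (hv : ∀ w, (φ ⟨w, 0⟩).v = w) (u v : ι → F2) :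
    (φ ⟨u + v, 0⟩).c = (φ ⟨u, 0⟩).c + (φ ⟨v, 0⟩).c := by
  have e : φ (⟨u, 0⟩ * ⟨v, 0⟩) = φ ⟨u, 0⟩ * φ ⟨v, 0⟩ := map_mul φ _ _
  rw [aut_split hB φ] at e
  have := congrArg Model.c e
  simp only [mul_c, mul_v, hv, zero_add, add_zero, bl_zero_right] at this
  linear_combination this

end aut

/-- The linear map induced by an automorphism. -/
def lin (φ : MulAut (Model B)) : (ι → F2) →ₗ[F2] (ι → F2) :=
  (AddMonoidHom.mk' (fun v => (φ ⟨v, 0⟩).v) (aut_v_add hB φ)).toZModLinearMap 2

theorem lin_apply (φ : MulAut (Model B)) (v : ι → F2) : lin hB φ v = (φ ⟨v, 0⟩).v := rfl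

/-- The matrix of an automorphism. -/
def matHom : MulAut (Model B) →* Matrix ι ι F2 where
  toFun φ := LinearMap.toMatrix' (lin hB φ)
  map_one' := by
    rw [← LinearMap.toMatrix'_id]
    exact congrArg _ (LinearMap.ext fun v => rfl)
  map_mul' φ ψ := by
    rw [← LinearMap.toMatrix'_comp]
    exact congrArg _ (LinearMap.ext fun v => aut_v hB φ (ψ ⟨v, 0⟩))

theorem matHom_mulVec (φ : MulAut (Model B)) (v : ι → F2) : matHom hB φ *ᵥ v = (φ ⟨v, 0⟩).v :=
  LinearMap.toMatrix'_mulVec _ _

variable {Q : (ι → F2) → F2} (hQ : ∀ v, Q v = bl B v v)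

include hQ in
theorem matHom_mem (φ : MulAut (Model B)) : (matHom hB).toHomUnits φ ∈ Cfsg.isometryGroup F2 Q := by
  intro u _
  show Q (matHom hB φ *ᵥ u) = Q u
  rw [hQ, hQ, matHom_mulVec]
  have h1 : φ (⟨u, 0⟩ ^ 2) = (φ ⟨u, 0⟩) ^ 2 := map_pow φ _ _
  rw [sq_eq, sq_eq, aut_cen hB] at h1
  exact (congrArg Model.c h1).symm

/-- The map onto the isometry group. -/
def toIso : MulAut (Model B) →* Cfsg.isometryGroup F2 Q :=
  (matHom hB).toHomUnits.codRestrict _ (matHom_mem hB hQ)

theorem toIso_surjective : Function.Surjective (toIso hB hQ) := by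
  intro g
  set M : Matrix ι ι F2 := ((g : GL ι F2) : Matrix ι ι F2) with hM
  have hg : ∀ u, bl B (M *ᵥ u) (M *ᵥ u) = bl B u u := fun u => by
    have := g.2 u u
    rw [← hQ, ← hQ]
    exact this
  let D : Matrix ι ι F2 := Mᵀ * B * M + B
  have hD : ∀ u v, bl D u v = bl B (M *ᵥ u) (M *ᵥ v) + bl B u v := fun u v => by
    rw [bl_matrix_add, bl_conj]
  have hD0 : ∀ w, bl D w w = 0 := fun w => by rw [hD, hg, CharTwo.add_self_eq_zero]
  have hdiag : ∀ i, D i i = 0 := fun i => by rw [← bl_single D i i, hD0]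
  have hsym : ∀ i j, D i j + D j i = 0 := fun i j => by
    have := hD0 (Pi.single i 1 + Pi.single j 1)
    rw [bl_add_left, bl_add_right, bl_add_right, bl_single, bl_single, bl_single, bl_single, hdiag, hdiag] at this
    linear_combination this
  let e := Fintype.equivFin ι
  let T : Matrix ι ι F2 := Matrix.of fun i j => if e i < e j then D i j else 0
  have hT : T + Tᵀ = D := by
    ext i j
    show (if e i < e j then D i j else 0) + (if e j < e i then D j i else 0) = D i j
    rcases lt_trichotomy (e i) (e j) with h | h | h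
    · rw [if_pos h, if_neg h.not_gt, add_zero]
    · rw [e.injective h]; simp [hdiag]
    · rw [if_neg h.not_gt, if_pos h, zero_add]
      exact CharTwo.add_eq_zero.1 (hsym j i)
  have key : ∀ u v, bl T (u + v) (u + v) =
      bl T u u + bl T v v + bl B (M *ᵥ u) (M *ᵥ v) + bl B u v := fun u v => by
    rw [add_assoc _ (bl B (M *ᵥ u) (M *ᵥ v)), ← hD, ← hT, bl_matrix_add, bl_transpose, bl_add_left,
      bl_add_right, bl_add_right]
    ring
  let f : Model B →* Model B := MonoidHom.mk' (fun x => ⟨M *ᵥ x.v, x.c + bl T x.v x.v⟩) fun x y => by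
    refine Model.ext (mulVec_add _ _ _) ?_
    simp only [mul_c, mul_v]
    linear_combination key x.v y.v + bl B x.v y.v * two0
  have hinj : Function.Injective f := by
    intro x y h
    have hv : x.v = y.v := by
      have h1 := congrArg (fun w => ((g : GL ι F2)⁻¹ : GL ι F2).1 *ᵥ w) (congrArg Model.v h)
      simp only [f, MonoidHom.mk'_apply, hM, mulVec_mulVec, Units.inv_mul, one_mulVec] at h1
      exact h1
    have hc := congrArg Model.c h
    simp only [f, MonoidHom.mk'_apply, hv] at hc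
    exact Model.ext hv (add_right_cancel hc)
  refine ⟨MulEquiv.ofBijective f (Finite.injective_iff_bijective.1 hinj), ?_⟩
  refine Subtype.ext (Units.ext (Matrix.toLin'.injective (LinearMap.ext fun v => ?_)))
  rw [toLin'_apply, toLin'_apply]
  exact matHom_mulVec hB _ v

theorem ker_toIso : (toIso hB hQ).ker = Cfsg.Inn (Model B) := by
  ext φ
  rw [MonoidHom.mem_ker]
  constructor
  · intro h
    have hv : ∀ w, (φ ⟨w, 0⟩).v = w := fun w => by
      rw [← matHom_mulVec hB φ w,
        show matHom hB φ = 1 from congrArg (fun x : Cfsg.isometryGroup F2 Q => ((x : GL ι F2) : Matrix ι ι F2)) h,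
        one_mulVec]
    let L : (ι → F2) →ₗ[F2] F2 :=
      (AddMonoidHom.mk' (fun v => (φ ⟨v, 0⟩).c) (aut_c_add hB φ hv)).toZModLinearMap 2
    let r : ι → F2 := fun i => L (Pi.single i 1)
    have hL : ∀ v, L v = r ⬝ᵥ v := fun v => by
      conv_lhs => rw [← Finset.univ_sum_single v]
      rw [map_sum]
      refine Finset.sum_congr rfl fun i _ => ?_
      rw [show (Pi.single i (v i) : ι → F2) = v i • Pi.single i 1 by rw [← Pi.single_smul]; simp, map_smul,
        smul_eq_mul, mul_comm]
    have hinj : Function.Injective fun w => w ᵥ* (B + Bᵀ) := by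
      intro a b hab
      refine sub_eq_zero.1 (hB _ fun v => ?_)
      rw [← bl_transpose B _ v, ← bl_matrix_add, bl, dotProduct_mulVec, sub_vecMul]
      simp only at hab
      rw [hab, sub_self, zero_dotProduct]
    obtain ⟨w, hw⟩ := Finite.surjective_of_injective hinj r
    refine ⟨⟨w, 0⟩, MulEquiv.ext fun x => ?_⟩
    rw [MulAut.conj_apply, aut_split hB φ x]
    refine Model.ext ?_ ?_
    · simp only [mul_v, inv_v, hv, add_zero]
      linear_combination (norm := abel_nf) vec_add_self w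
    · have hl : (φ ⟨x.v, 0⟩).c = bl B w x.v + bl B x.v w := by
        show L x.v = _
        rw [hL, ← hw, ← bl_transpose B w x.v, ← bl_matrix_add, bl, dotProduct_mulVec]
      simp only [mul_c, mul_v, inv_v, inv_c, hv, hl, bl_add_left, bl_zero_right, zero_add, add_zero]
      linear_combination bl B w w * two0
  · rintro ⟨x, rfl⟩
    refine Subtype.ext (Units.ext (Matrix.toLin'.injective (LinearMap.ext fun v => ?_)))
    rw [toLin'_apply, toLin'_apply]
    refine (matHom_mulVec hB _ v).trans ?_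
    show (x * ⟨v, 0⟩ * x⁻¹).v = (1 : Matrix ι ι F2) *ᵥ v
    rw [one_mulVec, mul_v, mul_v, inv_v]
    linear_combination (norm := abel_nf) vec_add_self x.v

include hB hQ in
/-- The outer automorphism group of a group isomorphic to the model. -/
theorem out_equiv {E : Type*} [Group E] (e : E ≃* Model B) :
    Nonempty (Cfsg.Out E ≃* Cfsg.isometryGroup F2 Q) := by
  let ψ : MulAut E →* Cfsg.isometryGroup F2 Q := (toIso hB hQ).comp (MulAut.congr e).toMonoidHom
  have hs : Function.Surjective ψ := (toIso_surjective hB hQ).comp (MulAut.congr e).surjective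
  have key : ∀ x : E, MulAut.congr e (MulAut.conj x) = MulAut.conj (e x) := fun x =>
    MulEquiv.ext fun y => by simp [MulAut.congr]
  have hk : ψ.ker = Cfsg.Inn E := by
    ext φ
    show MulAut.congr e φ ∈ (toIso hB hQ).ker ↔ _
    rw [ker_toIso]
    constructor
    · rintro ⟨y, hy⟩
      exact ⟨e.symm y, (MulAut.congr e).injective (by rw [key, e.apply_symm_apply, hy])⟩
    · rintro ⟨x, rfl⟩
      exact ⟨e x, (key x).symm⟩
  exact ⟨(QuotientGroup.quotientMulEquivOfEq hk.symm).trans
    (QuotientGroup.quotientKerEquivOfSurjective ψ hs)⟩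

section sign

open CfsgLib.PGroup

variable {G : Type*} [Group G] [Finite G] {n : ℕ}

theorem sign_pos (h : SmallCenter 2 G) (hn : Nat.card G = 2 ^ (2 * n + 1)) (A : Subgroup G)
    (hA : ∀ a ∈ A, a ^ 2 = 1) (hc : Nat.card A = 2 ^ (n + 1)) : signSum G = 2 ^ (n + 1) := by
  obtain ⟨A', hAA, hA', hmax⟩ := exists_maximal_exponent_two A hA
  rcases h.maximal_card hn A' hA' hmax with ⟨e, -⟩ | ⟨-, hc'⟩
  · exact e
  · exfalso
    have := Subgroup.card_le_of_le hAA
    rw [hc, hc', Nat.pow_le_pow_iff_right one_lt_two] at this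
    omega

theorem sign_neg (h : SmallCenter 2 G) (hn : Nat.card G = 2 ^ (2 * n + 1))
    (hno : ¬ ∃ A : Subgroup G, Cfsg.IsElementaryAbelian 2 A ∧ Nat.card A = 2 ^ (n + 1)) :
    signSum G = -(2 ^ (n + 1)) := by
  obtain ⟨A, -, hA, hmax⟩ := exists_maximal_exponent_two (⊥ : Subgroup G)
    (fun b hb => by rw [Subgroup.mem_bot.1 hb, one_pow])
  rcases h.maximal_card hn A hA hmax with ⟨-, hc⟩ | ⟨e, -⟩
  · refine absurd ⟨A, ⟨⟨⟨fun a b => ?_⟩⟩, hA⟩, hc⟩ hno
    have h1 := hA _ (A.mul_mem a.2 b.2)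
    have ha := hA _ a.2
    have hb := hA _ b.2
    rw [pow_two] at h1 ha hb
    apply Subtype.ext
    show (a : G) * b = b * a
    rw [← inv_eq_of_mul_eq_one_left h1, _root_.mul_inv_rev, inv_eq_of_mul_eq_one_left ha,
      inv_eq_of_mul_eq_one_left hb]
  · exact e

end sign

/-- The hyperbolic form. -/
def plusMat (n : ℕ) : Matrix (Fin n ⊕ Fin n) (Fin n ⊕ Fin n) F2 := fromBlocks 0 1 0 0

/-- The elliptic form. -/
def minusMat (m : ℕ) : Matrix ((Fin m ⊕ Fin m) ⊕ Fin 2) ((Fin m ⊕ Fin m) ⊕ Fin 2) F2 :=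
  fromBlocks (plusMat m) 0 0 !![1, 1; 0, 1]

theorem bl_plus {n : ℕ} (u v : Fin n ⊕ Fin n → F2) :
    bl (plusMat n) u v = ∑ i, u (.inl i) * v (.inr i) := by
  simp [bl, plusMat, fromBlocks_mulVec, dotProduct, Fintype.sum_sum_type]

theorem bl_minus {m : ℕ} (u v : (Fin m ⊕ Fin m) ⊕ Fin 2 → F2) :
    bl (minusMat m) u v = (∑ i, u (.inl (.inl i)) * v (.inl (.inr i))) +
      (u (.inr 0) * v (.inr 0) + u (.inr 0) * v (.inr 1) + u (.inr 1) * v (.inr 1)) := by
  simp [bl, minusMat, plusMat, fromBlocks_mulVec, dotProduct, Fintype.sum_sum_type, mulVec,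
    Fin.sum_univ_two, Matrix.one_apply]
  ring

theorem nondeg_plus (n : ℕ) : Nondeg (plusMat n) := by
  intro u hu
  funext j
  rcases j with j | j
  · have := hu (Pi.single (.inr j) 1)
    simpa [bl_plus, Pi.single_apply] using this
  · have := hu (Pi.single (.inl j) 1)
    simpa [bl_plus, Pi.single_apply] using this

theorem nondeg_minus (m : ℕ) : Nondeg (minusMat m) := by
  intro u hu
  funext j
  rcases j with (j | j) | j
  · have := hu (Pi.single (.inl (.inr j)) 1)
    simpa [bl_minus, Pi.single_apply] using this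
  · have := hu (Pi.single (.inl (.inl j)) 1)
    simpa [bl_minus, Pi.single_apply] using this
  · revert j
    refine Fin.forall_fin_two.2 ⟨?_, ?_⟩
    · have := hu (Pi.single (.inr 1) 1)
      simp [bl_minus, Pi.single_apply] at this
      rw [Pi.zero_apply]
      linear_combination this - u (.inr 1) * two0
    · have := hu (Pi.single (.inr 0) 1)
      simp [bl_minus, Pi.single_apply] at this
      rw [Pi.zero_apply]
      linear_combination this - u (.inr 0) * two0

theorem plus_eq {n : ℕ} (v : Fin n ⊕ Fin n → F2) : Cfsg.quadFormPlus n F2 v = bl (plusMat n) v v :=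
  (bl_plus v v).symm

theorem minus_eq {m : ℕ} (v : (Fin m ⊕ Fin m) ⊕ Fin 2 → F2) :
    Cfsg.quadFormMinus m F2 1 1 v = bl (minusMat m) v v := by
  rw [bl_minus, Cfsg.quadFormMinus]
  ring

theorem sign_plus (n : ℕ) : CfsgLib.PGroup.signSum (Model (plusMat n)) = 2 ^ (n + 1) := by
  let A : Subgroup (Model (plusMat n)) :=
    { carrier := {x | ∀ i, x.v (.inr i) = 0}
      mul_mem' := fun {a b} ha hb i => by rw [mul_v, Pi.add_apply, ha i, hb i, add_zero]
      one_mem' := fun i => rfl
      inv_mem' := fun {a} ha => ha }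
  have hmem : ∀ x, x ∈ A ↔ ∀ i, x.v (.inr i) = 0 := fun x => Iff.rfl
  refine sign_pos (smallCenter (nondeg_plus n)) ?_ A (fun a ha => ?_) ?_
  · rw [card_model, Fintype.card_sum, Fintype.card_fin, two_mul]
  · rw [sq_eq_one_iff, bl_plus]
    exact Finset.sum_eq_zero fun i _ => by rw [(hmem a).1 ha i, mul_zero]
  · rw [Nat.card_congr (β := (Fin n → F2) × F2)
      ⟨fun x : A => (fun i => (x : Model (plusMat n)).v (.inl i), (x : Model (plusMat n)).c),
       fun p => ⟨⟨Sum.elim p.1 0, p.2⟩, fun i => rfl⟩,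
       fun x => Subtype.ext (Model.ext (funext fun j => by
        rcases j with j | j
        · rfl
        · exact ((hmem _).1 x.2 j).symm) rfl),
       fun p => rfl⟩, Nat.card_prod, Nat.card_fun, Nat.card_fin, Nat.card_zmod, pow_succ]

theorem sign_minus (m : ℕ) : CfsgLib.PGroup.signSum (Model (minusMat m)) = -(2 ^ (m + 2)) := by
  let A : Subgroup (Model (minusMat m)) :=
    { carrier := {x | (∀ i, x.v (.inl (.inr i)) = 0) ∧ ∀ i, x.v (.inr i) = 0}
      mul_mem' := fun {a b} ha hb => ⟨fun i => by rw [mul_v, Pi.add_apply, ha.1 i, hb.1 i, add_zero],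
        fun i => by rw [mul_v, Pi.add_apply, ha.2 i, hb.2 i, add_zero]⟩
      one_mem' := ⟨fun i => rfl, fun i => rfl⟩
      inv_mem' := fun {a} ha => ha }
  have hmem : ∀ x, x ∈ A ↔ (∀ i, x.v (.inl (.inr i)) = 0) ∧ ∀ i, x.v (.inr i) = 0 := fun x => Iff.rfl
  have hc : Nat.card A = 2 ^ (m + 1) := by
    rw [Nat.card_congr (β := (Fin m → F2) × F2)
      ⟨fun x : A => (fun i => (x : Model (minusMat m)).v (.inl (.inl i)), (x : Model (minusMat m)).c),
       fun p => ⟨⟨Sum.elim (Sum.elim p.1 0) 0, p.2⟩, fun i => rfl, fun i => rfl⟩,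
       fun x => Subtype.ext (Model.ext (funext fun j => by
        rcases j with (j | j) | j
        · rfl
        · exact (((hmem _).1 x.2).1 j).symm
        · exact (((hmem _).1 x.2).2 j).symm) rfl),
       fun p => rfl⟩, Nat.card_prod, Nat.card_fun, Nat.card_fin, Nat.card_zmod, pow_succ]
  have hn : Nat.card (Model (minusMat m)) = 2 ^ (2 * (m + 1) + 1) := by
    rw [card_model, Fintype.card_sum, Fintype.card_sum, Fintype.card_fin, Fintype.card_fin]
    ring_nf
  have hA : ∀ a ∈ A, a ^ 2 = 1 := fun a ha => by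
    rw [sq_eq_one_iff, bl_minus, ((hmem a).1 ha).2 0, ((hmem a).1 ha).2 1,
      Finset.sum_eq_zero fun i _ => by rw [((hmem a).1 ha).1 i, mul_zero]]
    ring
  have hmax : ∀ g, g ∈ Subgroup.centralizer (A : Set (Model (minusMat m))) → g ^ 2 = 1 → g ∈ A := by
    intro g hg hg2
    rw [hmem]
    have h1 : ∀ i, g.v (.inl (.inr i)) = 0 := fun i => by
      have hx : (⟨Pi.single (.inl (.inl i)) 1, 0⟩ : Model (minusMat m)) ∈ A :=
        (hmem _).2 ⟨fun j => by simp, fun j => by simp⟩
      have := (commute_iff (minusMat m) _ _).1 (Subgroup.mem_centralizer_iff.1 hg _ hx)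
      simpa [bl_minus, Pi.single_apply] using this
    rw [sq_eq_one_iff, bl_minus, Finset.sum_eq_zero fun i _ => by rw [h1 i, mul_zero], zero_add] at hg2
    have key : ∀ a b : F2, a * a + a * b + b * b = 0 → a = 0 ∧ b = 0 := by decide
    obtain ⟨a0, a1⟩ := key _ _ hg2
    exact ⟨h1, Fin.forall_fin_two.2 ⟨a0, a1⟩⟩
  rcases (smallCenter (nondeg_minus m)).maximal_card hn A hA hmax with ⟨-, h⟩ | ⟨h, -⟩
  · exfalso
    rw [hc] at h
    have := Nat.pow_right_injective (le_refl 2) h
    omega
  · exact h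

/-- The outer automorphism groups of the extraspecial two-groups. -/
theorem extraspecial_out {E : Type*} [Group E] [Finite E] (hE : Cfsg.IsExtraspecial 2 E) (n : ℕ) (hn : 1 ≤ n)
    (hcard : Nat.card E = 2 ^ (2 * n + 1)) :
    ((∃ A : Subgroup E, Cfsg.IsElementaryAbelian 2 A ∧ Nat.card ↥A = 2 ^ (n + 1)) →
      Nonempty (Cfsg.Out E ≃* Cfsg.isometryGroup F2 (Cfsg.quadFormPlus n F2))) ∧
    ((¬ ∃ A : Subgroup E, Cfsg.IsElementaryAbelian 2 A ∧ Nat.card ↥A = 2 ^ (n + 1)) →
      Nonempty (Cfsg.Out E ≃* Cfsg.isometryGroup F2 (Cfsg.quadFormMinus (n - 1) F2 1 1))) := by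
  haveI := Fact.mk Nat.prime_two
  obtain ⟨hS, z, hz, hz1⟩ := CfsgLib.PGroup.smallCenter_of_extraspecial hE
  constructor
  · rintro ⟨A, hA, hc⟩
    obtain ⟨e, -⟩ := CfsgLib.PGroup.exists_equiv_of_signSum n hn E (Model (plusMat n)) hS
      (smallCenter (nondeg_plus n)) hcard
      (by rw [card_model, Fintype.card_sum, Fintype.card_fin, two_mul])
      ((sign_pos hS hcard A hA.2 hc).trans (sign_plus n).symm) z hz hz1 _ (mk_mem_center 1) cen_ne_one
    exact out_equiv (nondeg_plus n) plus_eq e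
  · intro hno
    obtain ⟨m, rfl⟩ : ∃ m, n = m + 1 := ⟨n - 1, by omega⟩
    obtain ⟨e, -⟩ := CfsgLib.PGroup.exists_equiv_of_signSum (m + 1) hn E (Model (minusMat m)) hS
      (smallCenter (nondeg_minus m)) hcard
      (by rw [card_model, Fintype.card_sum, Fintype.card_sum, Fintype.card_fin, Fintype.card_fin]; ring_nf)
      ((sign_neg hS hcard hno).trans (sign_minus m).symm) z hz hz1 _ (mk_mem_center 1) cen_ne_one
    exact out_equiv (nondeg_minus m) minus_eq e

end CfsgLib.Spor.ExtraOut
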