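/-
Families of point sets as packed increasing lists of masks.
-/
import Cfsg.Agent.Lib.Spor.OrbitExact

namespace CfsgLib.Spor

open Cfsg
open scoped Pointwise

/-- Image of a mask read from a table of the images of its three bytes. -/
def permMaskT (T m : ℕ) : ℕ :=
  arrGet 24 T (m &&& 255) ||| (arrGet 24 T (256 + ((m >>> 8) &&& 255)) |||
    arrGet 24 T (512 + ((m >>> 16) &&& 255)))

/-- Whether a number is the byte table of a packed permutation. -/
def tabCheck (g T : ℕ) : Bool :=
  isPermCode g && (List.range 768).all fun i =>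
    arrGet 24 T i == permMask g ((i % 256) <<< (8 * (i / 256)))

theorem permMask_or (g a b : ℕ) : permMask g (a ||| b) = permMask g a ||| permMask g b := by
  refine Nat.eq_of_testBit_eq fun j => Bool.eq_iff_iff.2 ?_
  simp only [permMask, Nat.testBit_or, Bool.or_eq_true, testBit_permMaskN]
  constructor
  · rintro ⟨i, hi, h | h, e⟩
    exacts [Or.inl ⟨i, hi, h, e⟩, Or.inr ⟨i, hi, h, e⟩]
  · rintro (⟨i, hi, h, e⟩ | ⟨i, hi, h, e⟩)
    exacts [⟨i, hi, Or.inl h, e⟩, ⟨i, hi, Or.inr h, e⟩]

theorem permMaskT_eq {g T : ℕ} (h : tabCheck g T = true) {m : ℕ} (hm : m < 2 ^ 24) :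
    permMaskT T m = permMask g m := by
  simp only [tabCheck, Bool.and_eq_true, List.all_eq_true, List.mem_range, beq_iff_eq] at h
  have key : ∀ j < 3, ∀ b < 256, arrGet 24 T (256 * j + b) = permMask g (b <<< (8 * j)) := by
    intro j hj b hb
    rw [h.2 (256 * j + b) (by omega), Nat.mul_add_mod, Nat.mod_eq_of_lt hb, Nat.mul_add_div (by norm_num),
      Nat.div_eq_of_lt hb, Nat.add_zero]
  have hb : ∀ x, x &&& 255 < 256 := fun x => Nat.lt_succ_of_le Nat.and_le_right
  have e : m = (m &&& 255) <<< (8 * 0) ||| (((m >>> 8) &&& 255) <<< (8 * 1) |||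
      ((m >>> 16) &&& 255) <<< (8 * 2)) := by
    refine Nat.eq_of_testBit_eq fun i => ?_
    have h255 : ∀ i, (255 : ℕ).testBit i = decide (i < 8) := fun i => Nat.testBit_two_pow_sub_one 8 i
    simp only [Nat.testBit_or, Nat.testBit_shiftLeft, Nat.testBit_and, Nat.testBit_shiftRight, h255]
    by_cases h24 : i < 24
    · rcases (by omega : i < 8 ∨ (8 ≤ i ∧ i < 16) ∨ 16 ≤ i) with h' | ⟨h', h''⟩ | h'
      · simp [h', Nat.not_le.2 h', Nat.not_le.2 (h'.trans (by norm_num : 8 < 16))]
      · simp [h', h'', Nat.not_lt.2 h', Nat.not_le.2 h'', show i - 8 < 8 by omega, Nat.add_sub_cancel' h']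
      · simp [h', le_trans (by norm_num : 8 ≤ 16) h', Nat.not_lt.2 (le_trans (by norm_num : 8 ≤ 16) h'),
          show ¬ i - 8 < 8 by omega, show i - 16 < 8 by omega, Nat.add_sub_cancel' h']
    · have hz : m.testBit i = false := Nat.testBit_lt_two_pow
        (lt_of_lt_of_le hm (Nat.pow_le_pow_right (by norm_num) (Nat.not_lt.1 h24)))
      simp [hz, show ¬ i < 8 by omega, show ¬ i - 8 < 8 by omega, show ¬ i - 16 < 8 by omega]
  conv_rhs => rw [e, permMask_or, permMask_or, ← key 0 (by norm_num) _ (hb _), ← key 1 (by norm_num) _ (hb _),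
    ← key 2 (by norm_num) _ (hb _)]
  rw [permMaskT, Nat.mul_zero, Nat.zero_add]

/-- Every listed generator has its byte table. -/
def tabsCheck (gens tabs : List ℕ) : Bool :=
  (tabs.length == gens.length) &&
    (List.range gens.length).all fun m => tabCheck (gens.getD m 0) (tabs.getD m 0)

/-- Pack masks, 24 digits each. -/
def packList : List ℕ → ℕ
  | [] => 0
  | a :: l => a + 2 ^ 24 * packList l

/-- The `k` masks in a packed family. -/
def famList (k x : ℕ) : List ℕ := (List.range k).map (arrGet 24 x)

/-- The family of point sets of a packed family. -/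
def famSet (k x : ℕ) : Finset (Finset GolayPt) := ((famList k x).map pts).toFinset

/-- Insert into an increasing list. -/
def insMask (a : ℕ) : List ℕ → List ℕ
  | [] => [a]
  | b :: l => bif Nat.ble a b then a :: b :: l else b :: insMask a l

/-- Sort by insertion. -/
def sortMasks : List ℕ → List ℕ
  | [] => []
  | a :: l => insMask a (sortMasks l)

/-- Action of a packed permutation on packed families. -/
def famAct (k T x : ℕ) : ℕ := packList (sortMasks ((famList k x).map (permMaskT T)))

/-- Whether a number is the packing of an increasing list of `k` masks. -/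
def famOk (k x : ℕ) : Bool :=
  decide ((famList k x).IsChain (· < ·)) &&
    ((famList k x).all (fun m => decide (m < 2 ^ 24)) && (packList (famList k x) == x))

theorem mem_insMask (a b : ℕ) : ∀ l, b ∈ insMask a l ↔ b = a ∨ b ∈ l
  | [] => by simp [insMask]
  | c :: l => by
    rw [insMask]; cases Nat.ble a c
    · simp [mem_insMask a b l, or_left_comm]
    · simp

theorem length_insMask (a : ℕ) : ∀ l, (insMask a l).length = l.length + 1
  | [] => rfl
  | c :: l => by rw [insMask]; cases Nat.ble a c <;> simp [length_insMask a l]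

theorem mem_sortMasks (b : ℕ) : ∀ l, b ∈ sortMasks l ↔ b ∈ l
  | [] => Iff.rfl
  | c :: l => by simp [sortMasks, mem_insMask, mem_sortMasks b l]

theorem length_sortMasks : ∀ l, (sortMasks l).length = l.length
  | [] => rfl
  | c :: l => by simp [sortMasks, length_insMask, length_sortMasks l]

theorem famList_packList : ∀ (l : List ℕ), (∀ m ∈ l, m < 2 ^ 24) → famList l.length (packList l) = l := by
  intro l
  induction l with
  | nil => intro _; rfl
  | cons a l ih =>
    intro h
    have ha : a < 2 ^ 24 := h a List.mem_cons_self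
    have e0 : arrGet 24 (packList (a :: l)) 0 = a := by
      rw [arrGet, Nat.mul_zero, Nat.shiftRight_zero, Nat.and_two_pow_sub_one_eq_mod, packList,
        Nat.add_mul_mod_self_left, Nat.mod_eq_of_lt ha]
    have e1 : ∀ i, arrGet 24 (packList (a :: l)) (i + 1) = arrGet 24 (packList l) i := fun i => by
      rw [arrGet, arrGet, packList, Nat.shiftRight_eq_div_pow, Nat.shiftRight_eq_div_pow,
        show 24 * (i + 1) = 24 + 24 * i by ring, pow_add, ← Nat.div_div_eq_div_mul,
        Nat.add_mul_div_left _ _ (by positivity), Nat.div_eq_of_lt ha, Nat.zero_add]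
    rw [famList, List.length_cons, List.range_succ_eq_map, List.map_cons, List.map_map, e0]
    congr 1
    refine Eq.trans ?_ (ih fun m hm => h m (List.mem_cons_of_mem a hm))
    exact List.map_congr_left fun i _ => e1 i

theorem mem_famSet {k x : ℕ} {s : Finset GolayPt} : s ∈ famSet k x ↔ ∃ m ∈ famList k x, pts m = s := by
  simp [famSet]

theorem arrGet_lt (w A i : ℕ) : arrGet w A i < 2 ^ w := by
  have := Nat.and_two_pow_sub_one_eq_mod (A >>> (w * i)) w
  rw [arrGet, this]; exact Nat.mod_lt _ (Nat.two_pow_pos w)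

theorem smul_famSet {g T : ℕ} (hT : tabCheck g T = true) (k x : ℕ) :
    permOf g • famSet k x = famSet k (famAct k T x) := by
  have hg : isPermCode g = true := ((Bool.and_eq_true _ _).mp hT).1
  have hTm : (famList k x).map (permMaskT T) = (famList k x).map (permMask g) := by
    refine List.map_congr_left fun m hm => permMaskT_eq hT ?_
    obtain ⟨i, -, rfl⟩ := List.mem_map.1 hm
    exact arrGet_lt _ _ _
  rw [famAct, hTm]
  have hlt : ∀ m ∈ sortMasks ((famList k x).map (permMask g)), m < 2 ^ 24 := by
    intro m hm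
    rw [mem_sortMasks] at hm
    obtain ⟨m', _, rfl⟩ := List.mem_map.1 hm
    exact permMask_lt hg m'
  have hlen : (sortMasks ((famList k x).map (permMask g))).length = k := by
    simp [length_sortMasks, famList]
  have e : famList k (packList (sortMasks ((famList k x).map (permMask g)))) =
      sortMasks ((famList k x).map (permMask g)) := by
    conv_lhs => arg 1; rw [← hlen]
    exact famList_packList _ hlt
  ext s
  rw [mem_famSet, e, Finset.smul_finset_def, Finset.mem_image]
  constructor
  · rintro ⟨t, ht, rfl⟩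
    obtain ⟨m, hm, rfl⟩ := mem_famSet.1 ht
    exact ⟨permMask g m, (mem_sortMasks _ _).2 (List.mem_map.2 ⟨m, hm, rfl⟩), (smul_pts hg m).symm⟩
  · rintro ⟨m, hm, rfl⟩
    rw [mem_sortMasks] at hm
    obtain ⟨m', hm', rfl⟩ := List.mem_map.1 hm
    exact ⟨pts m', mem_famSet.2 ⟨m', hm', rfl⟩, smul_pts hg m'⟩

theorem famOk_spec {k x : ℕ} (h : famOk k x = true) : (famList k x).Pairwise (· < ·) ∧
    (∀ m ∈ famList k x, m < 2 ^ 24) ∧ packList (famList k x) = x := by
  simp only [famOk, Bool.and_eq_true, decide_eq_true_eq, List.all_eq_true, beq_iff_eq] at h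
  exact ⟨List.isChain_iff_pairwise.1 h.1, h.2.1, h.2.2⟩

theorem famSet_injective {k x y : ℕ} (hx : famOk k x = true) (hy : famOk k y = true)
    (h : famSet k x = famSet k y) : x = y := by
  obtain ⟨p1, b1, e1⟩ := famOk_spec hx
  obtain ⟨p2, b2, e2⟩ := famOk_spec hy
  rw [← e1, ← e2]
  congr 1
  have hsub : ∀ {a b}, (∀ m ∈ famList k a, m < 2 ^ 24) → (∀ m ∈ famList k b, m < 2 ^ 24) →
      famSet k a = famSet k b → ∀ m ∈ famList k a, m ∈ famList k b := by
    intro a b ha hb e m hm
    have : pts m ∈ famSet k b := e ▸ mem_famSet.2 ⟨m, hm, rfl⟩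
    obtain ⟨m', hm', e'⟩ := mem_famSet.1 this
    rwa [← eq_of_pts_eq (hb m' hm') (ha m hm) e']
  refine List.Perm.eq_of_pairwise' (r := (· < ·)) p1 p2 ?_
  rw [List.perm_ext_iff_of_nodup p1.nodup p2.nodup]
  exact fun m => ⟨hsub b1 b2 h m, hsub b2 b1 h.symm m⟩

theorem card_famSet {k x : ℕ} (h : famOk k x = true) : (famSet k x).card = k := by
  obtain ⟨p, b, -⟩ := famOk_spec h
  rw [famSet, List.toFinset_card_of_nodup]
  · simp [famList]
  · exact (List.nodup_map_iff_inj_on p.nodup).2 fun a ha c hc e => eq_of_pts_eq (b a ha) (b c hc) e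

theorem actsAs_famSet {gens tabs : List ℕ} (h : tabsCheck gens tabs = true) (k : ℕ) :
    ActsAs (famAct k) gens tabs (famSet k) := by
  simp only [tabsCheck, Bool.and_eq_true, beq_iff_eq, List.all_eq_true, List.mem_range] at h
  exact ⟨h.1, fun m hm x => smul_famSet (h.2 m hm) k x⟩

theorem actsAs_pts {gens tabs : List ℕ} (h : tabsCheck gens tabs = true) :
    ActsAs (fun T x => permMaskT T (arrGet 24 x 0)) gens tabs (fun x => pts (arrGet 24 x 0)) := by
  simp only [tabsCheck, Bool.and_eq_true, beq_iff_eq, List.all_eq_true, List.mem_range] at h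
  refine ⟨h.1, fun m hm x => ?_⟩
  show permOf _ • pts _ = pts (arrGet 24 (permMaskT _ (arrGet 24 x 0)) 0)
  have hg : isPermCode (gens.getD m 0) = true := ((Bool.and_eq_true _ _).mp (h.2 m hm)).1
  rw [permMaskT_eq (h.2 m hm) (arrGet_lt _ _ _), smul_pts hg]
  congr 1
  simp only [arrGet, Nat.mul_zero, Nat.shiftRight_zero, Nat.and_two_pow_sub_one_eq_mod,
    Nat.mod_eq_of_lt (permMask_lt hg _)]

/-- All values of an array are packed families. -/
def famAllOk (k w V N : ℕ) : Bool := (List.range N).all fun i => famOk k (arrGet w V i)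

theorem injOn_famSet {k w V S N : ℕ} (hd : distinctCheck w V S N = true) (hok : famAllOk k w V N = true) :
    Set.InjOn (fun i => famSet k (arrGet w V i)) (Set.Iio N) := by
  intro i hi j hj e
  simp only [famAllOk, List.all_eq_true, List.mem_range] at hok
  exact injOn_of_distinctCheck hd hi hj (famSet_injective (hok i hi) (hok j hj) e)

/-- All values of an array are masks. -/
def maskAllOk (w V N : ℕ) : Bool := (List.range N).all fun i => decide (arrGet w V i < 2 ^ 24)

theorem injOn_pts {w V S N : ℕ} (hd : distinctCheck w V S N = true) (hok : maskAllOk w V N = true) :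
    Set.InjOn (fun i => pts (arrGet w V i)) (Set.Iio N) := by
  intro i hi j hj e
  simp only [maskAllOk, List.all_eq_true, List.mem_range, decide_eq_true_eq] at hok
  exact injOn_of_distinctCheck hd hi hj (eq_of_pts_eq (hok i hi) (hok j hj) e)

end CfsgLib.Spor
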