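/-
The class of reflections of one norm of an orthogonal space over the field with three elements.
-/
import Cfsg.Agent.Lib.Spor.Tri.Quasi
import Cfsg.Agent.Lib.Perm.Trans.QuadTransitive
import Cfsg.Agent.Lib.Perm.Trans.QuadDecompBase
import Cfsg.Agent.Lib.Orth.Facts
import Cfsg.Agent.Lib.Orth.ReflProducts

set_option autoImplicit false

namespace CfsgLib.Spor.ReflectionClass

open scoped Matrix
open Matrix Cfsg.Geo CfsgLib.Perm.Asch CfsgLib.Perm.Trans CfsgLib.Perm.Trans.Quad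

variable {n : ℕ} (Q : QuadraticForm (ZMod 3) (Fin n → ZMod 3)) (c : ZMod 3)

local notation "V" => (Fin n → ZMod 3)

/-- The class. -/
def cls : Set ↥(Cfsg.reflectionSubgroup (⇑Q) c) :=
  {g | (g : ↥(Cfsg.isometryGroup (ZMod 3) (⇑Q))) ∈ Cfsg.reflectionsOfNorm (⇑Q) c}

/-- The matrix group element. -/
def up (g : ↥(Cfsg.reflectionSubgroup (⇑Q) c)) : GL (Fin n) (ZMod 3) := g.1.1

theorem up_mul (a b : ↥(Cfsg.reflectionSubgroup (⇑Q) c)) : up Q c (a * b) = up Q c a * up Q c b := rfl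

theorem up_inv (a : ↥(Cfsg.reflectionSubgroup (⇑Q) c)) : up Q c a⁻¹ = (up Q c a)⁻¹ := rfl

theorem up_injective : Function.Injective (up Q c) := fun _ _ h => Subtype.ext (Subtype.ext h)

variable {Q c}
variable (hQ : IsNondegenerateQuadraticForm (⇑Q)) (h5 : 5 ≤ n) (hc : c ≠ 0)

include hQ hc

theorem mem_cls {g : ↥(Cfsg.reflectionSubgroup (⇑Q) c)} :
    g ∈ cls Q c ↔ ∃ v, Q v = c ∧ IsRefl (⇑Q) v (up Q c g) := by
  constructor
  · rintro ⟨v, hv, hg⟩
    exact ⟨v, hv, CfsgLib.Orth.isRefl_reflectionMatrix hg⟩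
  · rintro ⟨v, hv, hg⟩
    obtain ⟨g', hg'⟩ : ∃ g' : ↥(Cfsg.isometryGroup (ZMod 3) (⇑Q)),
        ((g' : GL (Fin n) (ZMod 3)) : Matrix (Fin n) (Fin n) (ZMod 3)) = Cfsg.reflectionMatrix (⇑Q) v :=
      ⟨CfsgLib.Classical.reflectionIso Q v (hv ▸ hc), CfsgLib.Classical.reflectionIso_coe Q v (hv ▸ hc)⟩
    exact ⟨v, hv, by rw [← hg', (CfsgLib.Orth.isRefl_reflectionMatrix hg').unique hg]; rfl⟩

theorem exists_el {v : V} (hv : Q v = c) : ∃ g ∈ cls Q c, IsRefl (⇑Q) v (up Q c g) := by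
  have hg := CfsgLib.Classical.reflectionIso_coe Q v (hv ▸ hc)
  exact ⟨⟨_, Subgroup.subset_closure ⟨v, hv, hg⟩⟩, ⟨v, hv, hg⟩, CfsgLib.Orth.isRefl_reflectionMatrix hg⟩

theorem refl_vec {v : V} (hv : Q v = c) {g : GL (Fin n) (ZMod 3)} (hg : IsRefl (⇑Q) v g) :
    (g : Matrix (Fin n) (Fin n) (ZMod 3)) *ᵥ v = -v := by
  rw [hg, pself hQ, hv, show c⁻¹ * (2 * c) = 2 by field_simp]
  rw [show (2 : ZMod 3) = -1 by decide, neg_one_smul, sub_neg_eq_add]
  have h : ∀ a : ZMod 3, a + a = -a := by decide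
  funext i; simp [h]

theorem eq_iff {u v : V} (hu : Q u = c) (hv : Q v = c) {g k : GL (Fin n) (ZMod 3)} (hg : IsRefl (⇑Q) u g)
    (hk : IsRefl (⇑Q) v k) : g = k ↔ v = u ∨ v = -u := by
  constructor
  · intro e
    have h := refl_vec hQ hc hv hk
    rw [← e, hg, hu] at h
    set t := c⁻¹ * QuadraticMap.polar (⇑Q) v u with ht
    have h2 : v = -(t • u) := by
      funext i
      have hi := congrFun h i
      simp only [Pi.sub_apply, Pi.smul_apply, smul_eq_mul, Pi.neg_apply] at hi ⊢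
      have key : ∀ a b : ZMod 3, a - b = -a → a = -b := by decide
      exact key _ _ hi
    rw [h2, qneg hQ, qsmul hQ, hu] at hv
    have ht2 : ∀ t c : ZMod 3, c ≠ 0 → t ^ 2 * c = c → t = 1 ∨ t = -1 := by decide
    rcases ht2 t c hc hv with e1 | e1
    · right; rw [h2, e1, one_smul]
    · left; rw [h2, e1, neg_one_smul, neg_neg]
  · rintro (rfl | rfl)
    · exact hg.unique hk
    · refine hg.unique ?_
      have := hk.smul hQ (c := (-1 : ZMod 3)) (by decide)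
      rwa [neg_one_smul, neg_neg] at this

theorem conj_refl {u v : V} (hu : Q u = c) (hv : Q v = c) {a b : ↥(Cfsg.reflectionSubgroup (⇑Q) c)}
    (ha : IsRefl (⇑Q) u (up Q c a)) (hb : IsRefl (⇑Q) v (up Q c b)) :
    Q (v - (c⁻¹ * QuadraticMap.polar (⇑Q) v u) • u) = c ∧
      IsRefl (⇑Q) (v - (c⁻¹ * QuadraticMap.polar (⇑Q) v u) • u) (up Q c (a * b * a⁻¹)) := by
  have h := hb.conj (k := up Q c a) a.1.2
  rw [ha, hu] at h
  refine ⟨?_, by rw [up_mul, up_mul, up_inv]; exact h⟩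
  have e : (up Q c a : Matrix (Fin n) (Fin n) (ZMod 3)) *ᵥ v = v - (c⁻¹ * QuadraticMap.polar (⇑Q) v u) • u := by
    rw [ha, hu]
  rw [← e]; exact (mem_iso.1 a.1.2 v).trans hv

theorem conj_mem_cls (g : ↥(Cfsg.reflectionSubgroup (⇑Q) c)) {d : ↥(Cfsg.reflectionSubgroup (⇑Q) c)}
    (hd : d ∈ cls Q c) : g * d * g⁻¹ ∈ cls Q c := by
  obtain ⟨v, hv, hdv⟩ := (mem_cls hQ hc).1 hd
  refine (mem_cls hQ hc).2 ⟨_, ?_, hdv.conj (k := up Q c g) g.1.2⟩
  exact (mem_iso.1 g.1.2 v).trans hv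

theorem mul_self_cls {a : ↥(Cfsg.reflectionSubgroup (⇑Q) c)} (ha : a ∈ cls Q c) : a * a = 1 := by
  obtain ⟨u, hu, hau⟩ := (mem_cls hQ hc).1 ha
  exact up_injective Q c (CfsgLib.Orth.refl_mul_self hQ hau (hu ▸ hc))

theorem commute_iff {u v : V} (hu : Q u = c) (hv : Q v = c) {a b : ↥(Cfsg.reflectionSubgroup (⇑Q) c)}
    (ha : IsRefl (⇑Q) u (up Q c a)) (hb : IsRefl (⇑Q) v (up Q c b)) (h1 : v ≠ u) (h2 : v ≠ -u) :
    Commute a b ↔ QuadraticMap.polar (⇑Q) v u = 0 := by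
  obtain ⟨hQw, hw⟩ := conj_refl hQ hc hu hv ha hb
  constructor
  · intro h
    rw [h.eq, mul_inv_cancel_right] at hw
    by_contra hne
    rcases (eq_iff hQ hc hv hQw hb hw).1 rfl with e | e
    · have hu0 : u ≠ 0 := fun h => hc (by rw [← hu, h, qzero hQ])
      rw [sub_eq_self, smul_eq_zero] at e
      exact e.elim (mul_ne_zero (inv_ne_zero hc) hne) hu0
    · set t := c⁻¹ * QuadraticMap.polar (⇑Q) v u with ht
      have e1 : v = -(t • u) := by
        funext i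
        have hi := congrFun e i
        simp only [Pi.sub_apply, Pi.smul_apply, smul_eq_mul, Pi.neg_apply] at hi ⊢
        have key : ∀ a b : ZMod 3, a - b = -a → a = -b := by decide
        exact key _ _ hi
      have htn : t ≠ 0 := mul_ne_zero (inv_ne_zero hc) hne
      rcases (by decide : ∀ t : ZMod 3, t ≠ 0 → t = 1 ∨ t = -1) t htn with e2 | e2
      · exact h2 (by rw [e1, e2, one_smul])
      · exact h1 (by rw [e1, e2, neg_one_smul, neg_neg])
  · intro h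
    rw [h, mul_zero, zero_smul, sub_zero] at hw
    have e : a * b * a⁻¹ = b := up_injective Q c (hw.unique hb)
    exact mul_inv_eq_iff_eq_mul.1 e

theorem braid {u v : V} (hu : Q u = c) (hv : Q v = c) {a b : ↥(Cfsg.reflectionSubgroup (⇑Q) c)}
    (ha : IsRefl (⇑Q) u (up Q c a)) (hb : IsRefl (⇑Q) v (up Q c b)) (hne : QuadraticMap.polar (⇑Q) v u ≠ 0) :
    a * b * a⁻¹ = b * a * b⁻¹ := by
  obtain ⟨hQw, hw⟩ := conj_refl hQ hc hu hv ha hb
  obtain ⟨hQw', hw'⟩ := conj_refl hQ hc hv hu hb ha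
  apply up_injective Q c
  refine (eq_iff hQ hc hQw hQw' hw hw').2 ?_
  rw [pcomm u v]
  rcases (by decide : ∀ t : ZMod 3, t ≠ 0 → t = 1 ∨ t = -1) _ (mul_ne_zero (inv_ne_zero hc) hne) with e | e <;>
    rw [e]
  · right; simp
  · left; simp [add_comm]

theorem hyp_set : Cfsg.IsThreeTranspositionSet (cls Q c) := by
  refine ⟨fun a ha => orderOf_eq_prime ?_ ?_, fun a ha b hb => ?_⟩
  · rw [pow_two]; exact mul_self_cls hQ hc ha
  · intro e
    obtain ⟨u, hu, hau⟩ := (mem_cls hQ hc).1 ha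
    have h := refl_vec hQ hc hu hau
    rw [e, show up Q c (1 : ↥(Cfsg.reflectionSubgroup (⇑Q) c)) = 1 from rfl, Units.val_one, one_mulVec] at h
    refine hc ?_
    rw [← hu]
    have key : ∀ a : ZMod 3, a = -a → a = 0 := by decide
    rw [show u = 0 from funext fun i => key _ (congrFun h i), qzero hQ]
  · obtain ⟨u, hu, hau⟩ := (mem_cls hQ hc).1 ha
    obtain ⟨v, hv, hbv⟩ := (mem_cls hQ hc).1 hb
    have haa := mul_self_cls hQ hc ha
    have hbb := mul_self_cls hQ hc hb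
    by_cases hcm : Commute a b
    · left; rw [hcm.mul_pow, pow_two, pow_two, haa, hbb, one_mul]
    · right
      have h1 : v ≠ u := fun e => hcm (by rw [up_injective Q c (hau.unique (e ▸ hbv))])
      have h2 : v ≠ -u := fun e => hcm (by
        rw [up_injective Q c ((eq_iff hQ hc hu hv hau hbv).2 (Or.inr e))])
      have e := braid hQ hc hu hv hau hbv fun h => hcm ((commute_iff hQ hc hu hv hau hbv h1 h2).2 h)
      rw [inv_eq_of_mul_eq_one_right haa, inv_eq_of_mul_eq_one_right hbb] at e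
      calc (a * b) ^ 3 = (a * b * a) * (b * a * b) := by rw [pow_succ, pow_two]; group
        _ = (a * b * a) * (a * b * a) := by rw [e]
        _ = a * b * (a * a) * b * a := by group
        _ = 1 := by rw [haa, mul_one, mul_assoc a b b, hbb, mul_one, haa]

theorem ne_of_perp {u w : V} (hu : Q u = c) (hwu : QuadraticMap.polar (⇑Q) w u = 0) : w ≠ u ∧ w ≠ -u := by
  have h2c : (2 : ZMod 3) * c ≠ 0 := mul_ne_zero (by decide) hc
  exact ⟨fun e => h2c (by rw [e, pself hQ, hu] at hwu; exact hwu),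
    fun e => h2c (by rw [e, pneg_left hQ, pself hQ, hu, neg_eq_zero] at hwu; exact hwu)⟩

include h5

theorem perp_rank {u : V} (hu : Q u = c) :
    NdOn (⇑Q) ((⊤ : Submodule (ZMod 3) V) ⊓ LinearMap.ker (pfl hQ u)) ∧
      4 ≤ Module.finrank (ZMod 3) ↥((⊤ : Submodule (ZMod 3) V) ⊓ LinearMap.ker (pfl hQ u)) := by
  refine ⟨nd_inf_perp hQ (ndOn_top hQ) Submodule.mem_top (by decide) (hu ▸ hc), ?_⟩
  have h := finrank_inf_pfl hQ (⊤ : Submodule (ZMod 3) V) u
  rw [finrank_top, Module.finrank_fintype_fun_eq_card, Fintype.card_fin] at h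
  omega

/-- A vector of the norm orthogonal to the first and not to the second. -/
theorem exists_separating {u v : V} (hu : Q u = c) (hv : Q v = c) (h1 : v ≠ u) (h2 : v ≠ -u) :
    ∃ w, Q w = c ∧ QuadraticMap.polar (⇑Q) w u = 0 ∧ QuadraticMap.polar (⇑Q) w v ≠ 0 := by
  obtain ⟨hnd, hd⟩ := perp_rank hQ h5 hc hu
  by_contra hno
  push Not at hno
  have hle := le_of_value_mem hQ hnd (by omega) (S := LinearMap.ker (pfl hQ v)) c
    fun w hw hwc => hno w hwc hw.2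
  have h2c : 2 * c ≠ 0 := mul_ne_zero (by decide) hc
  set t := QuadraticMap.polar (⇑Q) v u / (2 * c) with ht
  have hr : v - t • u = 0 := by
    refine eq_zero_of_perp_top hQ fun y => ?_
    have hzu : QuadraticMap.polar (⇑Q) (v - t • u) u = 0 := by
      rw [psub_left hQ, psmul_left hQ, pself hQ, hu, ht, div_mul_cancel₀ _ h2c, sub_self]
    set s := QuadraticMap.polar (⇑Q) y u / (2 * c) with hs
    have hyP : y - s • u ∈ (⊤ : Submodule (ZMod 3) V) ⊓ LinearMap.ker (pfl hQ u) := ⟨Submodule.mem_top, by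
      show QuadraticMap.polar (⇑Q) (y - s • u) u = 0
      rw [psub_left hQ, psmul_left hQ, pself hQ, hu, hs, div_mul_cancel₀ _ h2c, sub_self]⟩
    have hyv : QuadraticMap.polar (⇑Q) (y - s • u) v = 0 := hle hyP
    have hyu : QuadraticMap.polar (⇑Q) (y - s • u) u = 0 := hyP.2
    have e : y = (y - s • u) + s • u := (sub_add_cancel _ _).symm
    rw [e, padd_right hQ, psmul_right hQ, hzu, mul_zero, add_zero, pcomm, psub_right hQ, psmul_right hQ, hyv, hyu,
      mul_zero, sub_zero]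
  rw [sub_eq_zero] at hr
  rw [hr, qsmul hQ, hu] at hv
  rcases (by decide : ∀ t c : ZMod 3, c ≠ 0 → t ^ 2 * c = c → t = 1 ∨ t = -1) t c hc hv with e | e
  · exact h1 (by rw [hr, e, one_smul])
  · exact h2 (by rw [hr, e, neg_one_smul])

theorem exists_separating' {u v : V} (hu : Q u = c) (hv : Q v = c) (h1 : v ≠ u) (h2 : v ≠ -u) :
    ∃ w, Q w = c ∧ QuadraticMap.polar (⇑Q) w u = 0 ∧ QuadraticMap.polar (⇑Q) w v ≠ 0 ∧ w ≠ v ∧ w ≠ -v := by
  by_cases hb : QuadraticMap.polar (⇑Q) v u = 0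
  swap
  · obtain ⟨w, hw, hwu, hwv⟩ := exists_separating hQ h5 hc hu hv h1 h2
    exact ⟨w, hw, hwu, hwv, fun e => hb (e ▸ hwu), fun e => hb (by rw [e, pneg_left hQ, neg_eq_zero] at hwu; exact hwu)⟩
  obtain ⟨hnd, hd⟩ := perp_rank hQ h5 hc hu
  have hvP : v ∈ (⊤ : Submodule (ZMod 3) V) ⊓ LinearMap.ker (pfl hQ u) := ⟨Submodule.mem_top, hb⟩
  have hd' := finrank_inf_pfl hQ ((⊤ : Submodule (ZMod 3) V) ⊓ LinearMap.ker (pfl hQ u)) v
  obtain ⟨z, hz, hz0, hQz⟩ := exists_qsingular hQ (nd_inf_perp hQ hnd hvP (by decide) (hv ▸ hc)) (by omega)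
  have hzv : QuadraticMap.polar (⇑Q) z v = 0 := hz.2
  have hzu : QuadraticMap.polar (⇑Q) z u = 0 := hz.1.2
  refine ⟨v + z, ?_, ?_, ?_, fun e => hz0 (add_eq_left.1 e), fun e => ?_⟩
  · rw [qadd hQ, hv, hQz, pcomm, hzv, add_zero, add_zero]
  · rw [padd_left hQ, hb, hzu, add_zero]
  · rw [padd_left hQ, pself hQ, hv, hzv, add_zero]
    exact mul_ne_zero (by decide) hc
  · have e' : z = v := by
      funext i
      have hi := congrFun e i
      simp only [Pi.add_apply, Pi.neg_apply] at hi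
      have key : ∀ a b : ZMod 3, a + b = -a → b = a := by decide
      exact key _ _ hi
    exact hc (by rw [← hv, ← e', hQz])

/-- A vector of the norm orthogonal to two given ones. -/
theorem exists_common {u v : V} (hu : Q u = c) (hv : Q v = c) :
    ∃ w, Q w = c ∧ QuadraticMap.polar (⇑Q) w u = 0 ∧ QuadraticMap.polar (⇑Q) w v = 0 := by
  obtain ⟨hnd, hd⟩ := perp_rank hQ h5 hc hu
  set P := (⊤ : Submodule (ZMod 3) V) ⊓ LinearMap.ker (pfl hQ u) with hP
  have h2c : 2 * c ≠ 0 := mul_ne_zero (by decide) hc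
  by_cases hb : QuadraticMap.polar (⇑Q) v u = 0
  · have hvP : v ∈ P := ⟨Submodule.mem_top, hb⟩
    obtain ⟨w, hw, hQw, hwv⟩ := exists_value_perp hQ hnd (by omega) hvP (hv ▸ hc) c
    exact ⟨w, hQw, hw.2, hwv⟩
  set t := QuadraticMap.polar (⇑Q) v u / (2 * c) with ht
  have hr0 : Q (v - t • u) = 0 := by
    rw [qsub hQ, qsmul hQ, psmul_right hQ, hv, hu, ht]
    have key : ∀ b c : ZMod 3, b ≠ 0 → c ≠ 0 → c + (b / (2 * c)) ^ 2 * c - b / (2 * c) * b = 0 := by decide +kernel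
    exact key _ _ hb hc
  have hrP : v - t • u ∈ P := ⟨Submodule.mem_top, by
    show QuadraticMap.polar (⇑Q) (v - t • u) u = 0
    rw [psub_left hQ, psmul_left hQ, pself hQ, hu, ht, div_mul_cancel₀ _ h2c, sub_self]⟩
  by_cases hr : v - t • u = 0
  · obtain ⟨w, hw, hQw⟩ := exists_value_two hQ hnd (by omega) c
    refine ⟨w, hQw, hw.2, ?_⟩
    rw [sub_eq_zero.1 hr, psmul_right hQ, show QuadraticMap.polar (⇑Q) w u = 0 from hw.2, mul_zero]
  obtain ⟨f, hf, hQf, hrf⟩ := exists_qpartner hQ hnd hrP hr hr0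
  have h3 := pair_finrank hQ (e := v - t • u) (f := f) hrP hf hr0 hQf hrf
  obtain ⟨w, hw, hQw⟩ := exists_value_two hQ (pair_nd hQ hrP hf hr0 hQf hrf hnd) (by omega) c
  obtain ⟨hwP, hwr, -⟩ := (mem_pairPerp hQ).1 hw
  refine ⟨w, hQw, hwP.2, ?_⟩
  rw [psub_right hQ, psmul_right hQ, show QuadraticMap.polar (⇑Q) w u = 0 from hwP.2, mul_zero, sub_zero] at hwr
  exact hwr

theorem transitive {a b : ↥(Cfsg.reflectionSubgroup (⇑Q) c)} (ha : a ∈ cls Q c) (hb : b ∈ cls Q c) :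
    ∃ g, g * a * g⁻¹ = b := by
  have adj : ∀ {a b : ↥(Cfsg.reflectionSubgroup (⇑Q) c)}, a ∈ cls Q c → b ∈ cls Q c →
      ¬ Commute a b → ∃ g, g * a * g⁻¹ = b := by
    intro a b ha hb hn
    refine ⟨a * b, ?_⟩
    have h3 : (a * b) ^ 3 = 1 := ((hyp_set hQ hc).2 a ha b hb).resolve_left fun h2 => hn (by
      have e := eq_inv_of_mul_eq_one_left (show a * b * (a * b) = 1 by rw [← pow_two]; exact h2)
      rwa [_root_.mul_inv_rev, inv_eq_of_mul_eq_one_right (mul_self_cls hQ hc ha),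
        inv_eq_of_mul_eq_one_right (mul_self_cls hQ hc hb)] at e)
    calc a * b * a * (a * b)⁻¹ = a * b * a * (a * b) ^ 2 := by
          rw [← inv_eq_of_mul_eq_one_right (show (a * b) * (a * b) ^ 2 = 1 by rw [← pow_succ']; exact h3)]
      _ = a * b * (a * a) * b * (a * b) := by rw [pow_two]; group
      _ = b := by
          rw [mul_self_cls hQ hc ha, mul_one, mul_assoc a b b, mul_self_cls hQ hc hb, mul_one, ← mul_assoc,
            mul_self_cls hQ hc ha, one_mul]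
  by_cases hn : Commute a b
  swap
  · exact adj ha hb hn
  obtain ⟨u, hu, hau⟩ := (mem_cls hQ hc).1 ha
  obtain ⟨v, hv, hbv⟩ := (mem_cls hQ hc).1 hb
  by_cases hab : a = b
  · exact ⟨1, by simp [hab]⟩
  have h1 : v ≠ u := fun e => hab (up_injective Q c ((eq_iff hQ hc hu hv hau hbv).2 (Or.inl e)))
  have h2 : v ≠ -u := fun e => hab (up_injective Q c ((eq_iff hQ hc hu hv hau hbv).2 (Or.inr e)))
  have hvu := (commute_iff hQ hc hu hv hau hbv h1 h2).1 hn
  have hsp : v ∉ Submodule.span (ZMod 3) {u} := by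
    intro hm
    obtain ⟨k, rfl⟩ := Submodule.mem_span_singleton.1 hm
    rw [qsmul hQ, hu] at hv
    rcases (by decide : ∀ t c : ZMod 3, c ≠ 0 → t ^ 2 * c = c → t = 1 ∨ t = -1) k c hc hv with e | e
    · exact h1 (by rw [e, one_smul])
    · exact h2 (by rw [e, neg_one_smul])
  obtain ⟨y, -, hy, hyu, hyv⟩ := exists_connect hQ (ndOn_top hQ)
    (by rw [finrank_top, Module.finrank_fintype_fun_eq_card, Fintype.card_fin]; omega)
    (fun _ => by rw [finrank_top, Module.finrank_fintype_fun_eq_card, Fintype.card_fin]; omega)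
    (fun h => absurd h (by rw [ZMod.card]; decide)) hc Submodule.mem_top Submodule.mem_top hu hv
    (by rw [pcomm]; exact hvu) hsp
  obtain ⟨e, he, hey⟩ := exists_el hQ hc hy
  have k1 : ¬ Commute a e := fun h => by
    rcases eq_or_ne y u with rfl | g1
    · exact hyv (by rw [pcomm]; exact hvu)
    rcases eq_or_ne y (-u) with rfl | g2
    · exact hyv (by rw [pneg_left hQ, pcomm, hvu, neg_zero])
    exact hyu ((commute_iff hQ hc hu hy hau hey g1 g2).1 h)
  have k2 : ¬ Commute e b := fun h => by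
    rcases eq_or_ne v y with rfl | g1
    · exact hyu hvu
    rcases eq_or_ne v (-y) with rfl | g2
    · exact hyu (by rw [pneg_left hQ, neg_eq_zero] at hvu; exact hvu)
    exact hyv (by rw [pcomm]; exact (commute_iff hQ hc hy hv hey hbv g1 g2).1 h)
  obtain ⟨g, hg⟩ := adj ha he k1
  obtain ⟨k, hk⟩ := adj he hb k2
  exact ⟨k * g, by rw [← hk, ← hg]; group⟩

theorem closure_cls : Subgroup.closure (cls Q c) = ⊤ :=
  Subgroup.closure_closure_coe_preimage (k := Cfsg.reflectionsOfNorm (⇑Q) c)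

theorem isClass : Cfsg.IsThreeTranspositionClass (cls Q c) := by
  obtain ⟨v, hv⟩ := CfsgLib.Orth.exists_value hQ (by decide) (by rw [Fintype.card_fin]; omega) c
  obtain ⟨d, hd, -⟩ := exists_el hQ hc hv
  refine ⟨hyp_set hQ hc, ⟨d, hd, Set.ext fun x => ?_⟩, closure_cls hQ h5 hc⟩
  rw [conjugatesOf, Set.mem_setOf_eq, isConj_iff]
  exact ⟨fun hx => transitive hQ h5 hc hd hx, fun ⟨g, hg⟩ => hg ▸ conj_mem_cls hQ hc g hd⟩

theorem facts : Cfsg.pCore 2 ↥(Cfsg.reflectionSubgroup (⇑Q) c) ≤ Subgroup.center _ ∧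
    Cfsg.pCore 3 ↥(Cfsg.reflectionSubgroup (⇑Q) c) ≤ Subgroup.center _ ∧
    (∃ a ∈ cls Q c, ∃ b ∈ cls Q c, a ≠ b) ∧
    ∀ a ∈ cls Q c, ∀ b ∈ cls Q c, Relation.ReflTransGen (CfsgLib.Spor.Tri.CAdj (cls Q c)) a b := by
  have h := CfsgLib.Spor.Tri.hyp_of_class (isClass hQ h5 hc)
  have hw : ∃ a ∈ cls Q c, ∃ b ∈ cls Q c, a ≠ b ∧ Commute a b := by
    obtain ⟨u, hu⟩ := CfsgLib.Orth.exists_value hQ (by decide) (by rw [Fintype.card_fin]; omega) c
    obtain ⟨w, hw', hwu, -⟩ := exists_common hQ h5 hc hu hu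
    obtain ⟨a, ha, hau⟩ := exists_el hQ hc hu
    obtain ⟨b, hb, hbw⟩ := exists_el hQ hc hw'
    obtain ⟨g1, g2⟩ := ne_of_perp hQ hc hu hwu
    refine ⟨a, ha, b, hb, fun e => ?_, (commute_iff hQ hc hu hw' hau hbw g1 g2).2 hwu⟩
    exact ((eq_iff hQ hc hu hw' hau hbw).1 (congrArg (up Q c) e)).elim g1 g2
  have sep : ∀ {d v : ↥(Cfsg.reflectionSubgroup (⇑Q) c)}, d ∈ cls Q c → v ∈ cls Q c → v ≠ d →
      ∃ w ∈ cls Q c, w ≠ d ∧ Commute d w ∧ ¬ Commute v w := by
    intro d v hd hv hne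
    obtain ⟨u, hu, hdu⟩ := (mem_cls hQ hc).1 hd
    obtain ⟨x, hx, hvx⟩ := (mem_cls hQ hc).1 hv
    have h1 : x ≠ u := fun e => hne (up_injective Q c ((eq_iff hQ hc hu hx hdu hvx).2 (Or.inl e))).symm
    have h2 : x ≠ -u := fun e => hne (up_injective Q c ((eq_iff hQ hc hu hx hdu hvx).2 (Or.inr e))).symm
    obtain ⟨w, hw, hwu, hwx, k1, k2⟩ := exists_separating' hQ h5 hc hu hx h1 h2
    obtain ⟨e, he, hew⟩ := exists_el hQ hc hw
    obtain ⟨g1, g2⟩ := ne_of_perp hQ hc hu hwu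
    refine ⟨e, he, fun e' => ?_, (commute_iff hQ hc hu hw hdu hew g1 g2).2 hwu, fun hcm => ?_⟩
    · rcases (eq_iff hQ hc hu hw hdu hew).1 (congrArg (up Q c) e'.symm) with e'' | e''
      · exact g1 e''
      · exact g2 e''
    · exact hwx ((commute_iff hQ hc hx hw hvx hew k1 k2).1 hcm)
  haveI := Fact.mk Nat.prime_two
  have hcore : ∀ p, (∀ d v, d ∈ cls Q c → v ∈ cls Q c → v ≠ d →
      d⁻¹ * v ∈ Cfsg.pCore p ↥(Cfsg.reflectionSubgroup (⇑Q) c) → False) →
      Cfsg.pCore p ↥(Cfsg.reflectionSubgroup (⇑Q) c) ≤ Subgroup.center _ := by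
    intro p hp
    haveI := CfsgLib.Coprime.pCore_normal' (G := ↥(Cfsg.reflectionSubgroup (⇑Q) c)) p
    by_contra hne
    obtain ⟨d, hd, hD'⟩ := (isClass hQ h5 hc).2.1
    obtain ⟨g, hg, hgd⟩ := h.exists_moved hne hd
    exact hp d (g * d * g⁻¹) hd (h.conj g d hd) hgd (h.mul_conj_mem hd hg)
  refine ⟨hcore 2 fun d v hd hv hne hm => ?_, hcore 3 fun d v hd hv hne hm => ?_, ?_, ?_⟩
  · obtain ⟨e, he, hed, h1, h2⟩ := sep hd hv hne
    exact h2 (((h.nbhd_iff_two_core hd hv).2 hm e he).2 h1)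
  · obtain ⟨e, he, hed, h1, h2⟩ := sep hd hv hne
    have hmem : e ∈ CfsgLib.Spor.Tri.perp (cls Q c) d := ⟨he, hed, h1⟩
    rw [(h.perp_iff_three_core hd hv).2 hm] at hmem
    exact h2 hmem.2.2
  · obtain ⟨a, ha, b, hb, hab, -⟩ := hw
    exact ⟨a, ha, b, hb, hab⟩
  · intro a ha b hb
    obtain ⟨u, hu, hau⟩ := (mem_cls hQ hc).1 ha
    obtain ⟨v, hv, hbv⟩ := (mem_cls hQ hc).1 hb
    obtain ⟨w, hw', hwu, hwv⟩ := exists_common hQ h5 hc hu hv
    obtain ⟨e, he, hew⟩ := exists_el hQ hc hw'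
    have key : ∀ {a : ↥(Cfsg.reflectionSubgroup (⇑Q) c)} {u : V}, Q u = c → IsRefl (⇑Q) u (up Q c a) →
        QuadraticMap.polar (⇑Q) w u = 0 → Commute a e := by
      intro a u hu hau hwu
      obtain ⟨g1, g2⟩ := ne_of_perp hQ hc hu hwu
      exact (commute_iff hQ hc hu hw' hau hew g1 g2).2 hwu
    exact (Relation.ReflTransGen.single ⟨ha, he, key hu hau hwu⟩).tail ⟨he, hb, (key hv hbv hwv).symm⟩

end CfsgLib.Spor.ReflectionClass
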