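/-
The subgroup generated by one class of reflections has index two, in dimension at least five.
-/
import Cfsg.Agent.Lib.Orth.NormClass
import Cfsg.Agent.Lib.Perm.Trans.QuadTransitive

set_option autoImplicit false
set_option linter.all false

namespace CfsgLib.Spor.ReflectionIndex

open scoped Matrix
open Matrix Cfsg.Geo CfsgLib.Perm.Asch CfsgLib.Perm.Trans CfsgLib.Perm.Trans.Quad CfsgLib.Orth

variable {ι : Type} [Fintype ι] [DecidableEq ι] {F : Type*} [Field F] [Fintype F]
variable {Q : (ι → F) → F}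

local notation "pol" => QuadraticMap.polar

variable (hQ : IsNondegenerateQuadraticForm Q)
include hQ

/-- pairs of reflections of the same class -/
theorem pair_mem_five (h2 : (2 : F) ≠ 0) (h5 : 5 ≤ Fintype.card ι)
    {κ : SqClass F} {c : F} (hc0 : c ≠ 0) (hc : sqc c = κ) {r s : GL ι F}
    (hr : r ∈ Cfsg.isometryGroup F Q) (hs : s ∈ Cfsg.isometryGroup F Q) {u v : ι → F} (hu : Q u ≠ 0) (hv : Q v ≠ 0)
    (hru : IsRefl Q u r) (hsv : IsRefl Q v s) (huv : sqc (Q u) = sqc (Q v)) : r * s ∈ classGroup Q κ := by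
  by_cases hnd : pol Q u v * pol Q u v ≠ 4 * (Q u * Q v)
  · exact pair_mem_of_nd hQ h2 hc0 hc hr hs hu hv hru hsv huv hnd
  push Not at hnd
  have hB : pol Q u v ≠ 0 := fun e => mul_ne_zero (mul_ne_zero h2 h2) (mul_ne_zero hu hv) (by
    rw [e, zero_mul] at hnd; linear_combination -hnd)
  obtain ⟨α, hα⟩ : ∃ α, α = 2 * Q u / pol Q u v := ⟨_, rfl⟩
  have hα0 : α ≠ 0 := hα ▸ div_ne_zero (mul_ne_zero h2 hu) hB
  obtain ⟨v', hv'⟩ : ∃ v', v' = α • v := ⟨_, rfl⟩
  have hBv : pol Q u v' = 2 * Q u := by rw [hv', psmul_right hQ, hα, div_mul_cancel₀ _ hB]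
  have hQv : Q v' = Q u := by
    rw [hv', qsmul hQ, hα]
    field_simp
    linear_combination -hnd
  have hsv' : IsRefl Q v' s := hv' ▸ hsv.smul hQ hα0
  obtain ⟨e, he⟩ : ∃ e, e = v' - u := ⟨_, rfl⟩
  have hQe : Q e = 0 := by rw [he, qsub hQ, pcomm, hBv, hQv]; ring
  have hue : pol Q u e = 0 := by rw [he, psub_right hQ, hBv, pself hQ, sub_self]
  by_cases he0 : e = 0
  · have hvu : v' = u := by rw [he, sub_eq_zero] at he0; exact he0
    rw [hvu] at hsv'
    rw [← hru.unique hsv', refl_mul_self hQ hru hu]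
    exact one_mem _
  obtain ⟨P, hP⟩ : ∃ P, P = qperp hQ (Submodule.span F {u}) := ⟨_, rfl⟩
  have hPmem : ∀ x, x ∈ P ↔ pol Q x u = 0 := fun x => by
    rw [hP, mem_qperp_span hQ]; simp
  have hPnd : NdOn Q P := by
    intro x hx hx0
    obtain ⟨-, y, hy⟩ := hQ.nondegenerate x hx0
    obtain ⟨z, hz⟩ : ∃ z, z = y - (pol Q y u / (2 * Q u)) • u := ⟨_, rfl⟩
    have hzP : z ∈ P := (hPmem z).2 (by
      rw [hz, psub_left hQ, psmul_left hQ, pself hQ, div_mul_cancel₀ _ (mul_ne_zero h2 hu), sub_self])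
    have hxz : pol Q x z ≠ 0 := by
      rw [hz, psub_right hQ, psmul_right hQ, (hPmem x).1 hx, mul_zero, sub_zero]; exact hy
    exact ⟨⟨z, hzP, by rw [pcomm]; exact hxz⟩, ⟨z, hzP, hxz⟩⟩
  have heP : e ∈ P := (hPmem e).2 (by rw [pcomm]; exact hue)
  obtain ⟨f, hf, hQf, hef⟩ := exists_qpartner hQ hPnd heP he0 hQe
  obtain ⟨d, hdP, hQd, hde1, hde2⟩ : ∃ d ∈ P, Q d = Q u ∧ pol Q d e ≠ 2 * Q u ∧ pol Q d e ≠ -(2 * Q u) := by
    by_cases hq : Fintype.card F = 3
    · have hd1 : Fintype.card ι ≤ Module.finrank F P + 1 := by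
        have h1 := finrank_qperp hQ (Submodule.span F {u})
        have h2' : Module.finrank F ↥(Submodule.span F {u}) = 1 :=
          finrank_span_singleton (fun h => hu (by rw [h, qzero hQ]))
        rw [hP]; omega
      have hd2 : 2 ≤ Module.finrank F P := by
        have hli : LinearIndependent F ![e, f] := (LinearIndependent.pair_iff' he0).2 fun a ha => by
          have : pol Q e (a • e) = pol Q e f := by rw [ha]
          rw [psmul_right hQ, pself hQ, hQe, hef, mul_zero, mul_zero] at this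
          exact zero_ne_one this
        have h := Submodule.finrank_mono (Submodule.span_le.2 (show Set.range ![e, f] ⊆ (P : Set (ι → F)) by
          rintro _ ⟨i, rfl⟩
          fin_cases i
          · exact heP
          · exact hf))
        rwa [finrank_span_eq_card hli, Fintype.card_fin] at h
      have hd3 : Module.finrank F P + 1 ≤ Fintype.card ι := by
        have h1 := finrank_qperp_le hQ (Submodule.span F {u})
        have h2' : Module.finrank F ↥(Submodule.span F {u}) = 1 :=
          finrank_span_singleton (fun h => hu (by rw [h, qzero hQ]))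
        rw [hP]; omega
      have hd4 : 2 ≤ Module.finrank F (pairPerp hQ P e f) := by
        have h3 := pair_finrank hQ heP hf hQe hQf hef
        omega
      obtain ⟨z, hz, hQz⟩ := exists_value_two hQ (pair_nd hQ heP hf hQe hQf hef hPnd) hd4 (Q u)
      obtain ⟨hzP, hze, -⟩ := (mem_pairPerp hQ).1 hz
      refine ⟨z, hzP, hQz, ?_, ?_⟩ <;> rw [hze]
      · exact (mul_ne_zero h2 hu).symm
      · exact (neg_ne_zero.2 (mul_ne_zero h2 hu)).symm
    · obtain ⟨b, hb0, hb1, hb2⟩ : ∃ b : F, b ≠ 0 ∧ b ≠ 2 * Q u ∧ b ≠ -(2 * Q u) := by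
        classical
        have hlt : ({0, 2 * Q u, -(2 * Q u)} : Finset F).card < (Finset.univ : Finset F).card := by
          rw [Finset.card_univ]
          have h1 := Fintype.one_lt_card (α := F)
          have hne2 : Fintype.card F ≠ 2 := fun h => h2 (by
            have := FiniteField.cast_card_eq_zero F
            rwa [h, Nat.cast_ofNat] at this)
          have h3 : ({0, 2 * Q u, -(2 * Q u)} : Finset F).card ≤ 3 := Finset.card_le_three
          omega
        obtain ⟨b, -, hb⟩ := Finset.exists_mem_notMem_of_card_lt_card hlt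
        exact ⟨b, fun h => hb (by simp [h]), fun h => hb (by simp [h]), fun h => hb (by simp [h])⟩
      refine ⟨(Q u / b) • e + b • f, P.add_mem (P.smul_mem _ heP) (P.smul_mem _ hf), ?_, ?_, ?_⟩
      · rw [qadd hQ, qsmul hQ, qsmul hQ, psmul_left hQ, psmul_right hQ, hQe, hQf, hef]
        field_simp
        ring
      all_goals
        rw [padd_left hQ, psmul_left hQ, psmul_left hQ, pself hQ, hQe, pcomm f e, hef, mul_zero, mul_zero, zero_add,
          mul_one]
      · exact hb1
      · exact hb2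
  have hd0 : Q d ≠ 0 := hQd ▸ hu
  obtain ⟨t, ht, htd⟩ := exists_refl hQ hd0
  have hdu : pol Q d u = 0 := (hPmem d).1 hdP
  have h1 : r * t ∈ classGroup Q κ := pair_mem_of_nd hQ h2 hc0 hc hr ht hu hd0 hru htd (by rw [hQd]) (by
    rw [pcomm, hdu, zero_mul, hQd]
    exact (mul_ne_zero (fun h => mul_ne_zero h2 h2 (by linear_combination h)) (mul_ne_zero hu hu)).symm)
  have h2' : t * s ∈ classGroup Q κ := pair_mem_of_nd hQ h2 hc0 hc ht hs hd0 (hQv.symm ▸ hu) htd hsv'
    (by rw [hQd, hQv]) (by
    have hdv : pol Q d v' = pol Q d e := by rw [he, psub_right hQ, hdu, sub_zero]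
    rw [hdv, hQd, hQv]
    intro h
    have : (pol Q d e - 2 * Q u) * (pol Q d e + 2 * Q u) = 0 := by linear_combination h
    rcases mul_eq_zero.1 this with h' | h'
    · exact hde1 (sub_eq_zero.1 h')
    · exact hde2 (eq_neg_of_add_eq_zero_left h'))
  have := mul_mem h1 h2'
  rwa [show r * t * (t * s) = r * (t * t) * s by group, refl_mul_self hQ htd hd0, mul_one] at this

/-- the subgroup generated by one class of reflections has index two -/
theorem classGroup_index_five (h2 : (2 : F) ≠ 0) (h5 : 5 ≤ Fintype.card ι) {c : F} (hc0 : c ≠ 0) :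
    ((classGroup Q (sqc c)).subgroupOf (Cfsg.isometryGroup F Q)).index = 2 := by
  have hex : Fintype.card F ≠ 2 ∨ Fintype.card ι ≠ 4 := hex_of_two h2
  obtain ⟨H, hH⟩ : ∃ H, H = classGroup Q (sqc c) := ⟨_, rfl⟩
  obtain ⟨ψ, hψ⟩ : ∃ ψ : ↥(Cfsg.isometryGroup F Q) →* SqClass F,
      ∀ g, ψ g = spn Q g.1 * sqc c ^ wrk g.1 := by
    refine ⟨{ toFun := fun g => spn Q g.1 * sqc c ^ wrk g.1, map_one' := ?_, map_mul' := fun a b => ?_ }, fun _ => rfl⟩
    · show spn Q (1 : GL ι F) * sqc c ^ wrk (1 : GL ι F) = 1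
      rw [(spn_one hQ).1, (spn_one hQ).2, pow_zero, mul_one]
    · obtain ⟨p, q⟩ := spn_mul hQ (iso_le_reflGroup hQ hex a.2) b.2
      show spn Q (a.1 * b.1) * sqc c ^ wrk (a.1 * b.1) = _
      have hper : ∀ m : ℕ, sqc c ^ m = sqc c ^ (m % 2) := fun m => by
        conv_lhs => rw [← Nat.div_add_mod m 2, pow_add, pow_mul, pow_two, sqc_mul_self hc0, one_pow, one_mul]
      have he : sqc c ^ wrk (a.1 * b.1) = sqc c ^ wrk a.1 * sqc c ^ wrk b.1 := by
        rw [← pow_add, hper, hper (wrk a.1 + wrk b.1)]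
        rw [Nat.even_iff, Nat.even_iff, Nat.even_iff] at q
        congr 1
        omega
      rw [p, he, mul_mul_mul_comm]
  obtain ⟨δ, hδ⟩ := FiniteField.exists_nonsquare (F := F) (fun e => h2 (by
    haveI := ringChar.of_eq e; exact CharTwo.two_eq_zero))
  have hd0 : δ ≠ 0 := fun e => hδ (e ▸ IsSquare.zero)
  have hδ1 : sqc δ ≠ 1 := fun e => hδ ((sqc_eq_one_iff hd0).1 e)
  obtain ⟨vd, hvd⟩ := exists_value hQ h2 (by omega) (c * δ)
  have hvd0 : Q vd ≠ 0 := hvd ▸ mul_ne_zero hc0 hd0
  obtain ⟨rd, hrd, hrvd⟩ := exists_refl hQ hvd0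
  have hψrd : ψ ⟨rd, hrd⟩ = sqc δ := by
    obtain ⟨e1, e2⟩ := refl_spn hQ hrd hrvd hvd0
    rw [hψ, e1, e2, pow_one, hvd, sqc_mul hc0 hd0, mul_comm (sqc c), mul_assoc, sqc_mul_self hc0, mul_one]
  have hrr := refl_mul_self hQ hrvd hvd0
  have hle : ∀ g : ↥(Cfsg.isometryGroup F Q), g.1 ∈ H → ψ g = 1 := by
    rintro ⟨g, hg⟩ hgH
    change g ∈ H at hgH
    rw [hH] at hgH
    induction hgH using Subgroup.closure_induction with
    | mem r hr =>
      obtain ⟨hri, v, hv, hvc, hrv⟩ := hr
      obtain ⟨e1, e2⟩ := refl_spn hQ hri hrv hv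
      rw [hψ]
      show spn Q r * sqc c ^ wrk r = 1
      rw [e1, e2, pow_one, hvc, sqc_mul_self hc0]
    | one => exact map_one ψ
    | mul a b ha hb iha ihb =>
      have := map_mul ψ ⟨a, classGroup_le _ ha⟩ ⟨b, classGroup_le _ hb⟩
      rw [iha (classGroup_le _ ha), ihb (classGroup_le _ hb), one_mul] at this
      exact this
    | inv a ha iha =>
      have := map_inv ψ ⟨a, classGroup_le _ ha⟩
      rw [iha (classGroup_le _ ha), inv_one] at this
      exact this
  have hconj : ∀ x ∈ H, rd * x * rd ∈ H := by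
    intro x hx
    rw [hH] at hx ⊢
    induction hx using Subgroup.closure_induction with
    | mem r hr =>
      obtain ⟨hri, v, hv, hvc, hrv⟩ := hr
      have := classGroup_conj_refl hQ hri hv hvc hrv hrd
      rwa [inv_eq_of_mul_eq_one_left hrr] at this
    | one => rw [mul_one, hrr]; exact one_mem _
    | mul a b _ _ iha ihb =>
      have := mul_mem iha ihb
      rwa [show rd * a * rd * (rd * b * rd) = rd * a * (rd * rd) * b * rd by group, hrr, mul_one,
        show rd * a * b * rd = rd * (a * b) * rd by group] at this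
    | inv a _ iha =>
      have := inv_mem iha
      rwa [_root_.mul_inv_rev, _root_.mul_inv_rev, inv_eq_of_mul_eq_one_left hrr, ← mul_assoc] at this
  have hall : ∀ g : GL ι F, g ∈ reflGroup Q → g ∈ H ∨ rd * g ∈ H := by
    intro g hg
    induction hg using Subgroup.closure_induction_left with
    | one => exact Or.inl (one_mem _)
    | mul_left r hr z hz ih =>
      obtain ⟨hri, v, hv, hrv⟩ := hr
      by_cases hvc : sqc (Q v) = sqc c
      · have hrH : r ∈ H := hH ▸ Subgroup.subset_closure ⟨hri, v, hv, hvc, hrv⟩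
        rcases ih with h | h
        · exact Or.inl (mul_mem hrH h)
        · refine Or.inr ?_
          have := mul_mem (hconj r hrH) h
          rwa [show rd * r * rd * (rd * z) = rd * r * (rd * rd) * z by group, hrr, mul_one, mul_assoc] at this
      · have hvd' : sqc (Q v) = sqc (Q vd) := by
          rw [hvd, sqc_mul hc0 hd0]
          rcases sqc_dichotomy hδ hv with h | h <;> rcases sqc_dichotomy hδ hc0 with h' | h' <;>
            rw [h, h'] at hvc ⊢
          · exact absurd rfl hvc
          · exact (sqc_mul_self hd0).symm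
          · rw [one_mul]
          · exact absurd rfl hvc
        have hp : rd * r ∈ H := hH ▸ pair_mem_five hQ h2 h5 hc0 rfl hrd hri hvd0 hv hrvd hrv hvd'.symm
        have hp' : r * rd ∈ H := hH ▸ pair_mem_five hQ h2 h5 hc0 rfl hri hrd hv hvd0 hrv hrvd hvd'
        rcases ih with h | h
        · exact Or.inr (mul_assoc rd r z ▸ mul_mem hp h)
        · refine Or.inl ?_
          have := mul_mem hp' h
          rwa [show r * rd * (rd * z) = r * (rd * rd) * z by group, hrr, mul_one] at this
    | inv_mul_cancel r hr z hz ih =>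
      obtain ⟨hri, v, hv, hrv⟩ := hr
      rw [inv_eq_of_mul_eq_one_left (refl_mul_self hQ hrv hv)]
      by_cases hvc : sqc (Q v) = sqc c
      · have hrH : r ∈ H := hH ▸ Subgroup.subset_closure ⟨hri, v, hv, hvc, hrv⟩
        rcases ih with h | h
        · exact Or.inl (mul_mem hrH h)
        · refine Or.inr ?_
          have := mul_mem (hconj r hrH) h
          rwa [show rd * r * rd * (rd * z) = rd * r * (rd * rd) * z by group, hrr, mul_one, mul_assoc] at this
      · have hvd' : sqc (Q v) = sqc (Q vd) := by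
          rw [hvd, sqc_mul hc0 hd0]
          rcases sqc_dichotomy hδ hv with h | h <;> rcases sqc_dichotomy hδ hc0 with h' | h' <;>
            rw [h, h'] at hvc ⊢
          · exact absurd rfl hvc
          · exact (sqc_mul_self hd0).symm
          · rw [one_mul]
          · exact absurd rfl hvc
        have hp : rd * r ∈ H := hH ▸ pair_mem_five hQ h2 h5 hc0 rfl hrd hri hvd0 hv hrvd hrv hvd'.symm
        have hp' : r * rd ∈ H := hH ▸ pair_mem_five hQ h2 h5 hc0 rfl hri hrd hv hvd0 hrv hrvd hvd'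
        rcases ih with h | h
        · exact Or.inr (mul_assoc rd r z ▸ mul_mem hp h)
        · refine Or.inl ?_
          have := mul_mem hp' h
          rwa [show r * rd * (rd * z) = r * (rd * rd) * z by group, hrr, mul_one] at this
  have hker : H.subgroupOf (Cfsg.isometryGroup F Q) = ψ.ker := by
    refine le_antisymm (fun g hg => hle g hg) fun g hg => ?_
    rcases hall g.1 (iso_le_reflGroup hQ hex g.2) with h | h
    · exact h
    · exfalso
      have h1 := hle (⟨rd, hrd⟩ * g) h
      rw [map_mul, MonoidHom.mem_ker.1 hg, mul_one, hψrd] at h1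
      exact hδ1 h1
  have hsurj : Function.Surjective ψ := fun x => by
    obtain ⟨u, rfl⟩ : ∃ u, sqMk F u = x := QuotientGroup.mk'_surjective _ x
    rw [show sqMk F u = sqc (u : F) by unfold sqc; rw [dif_neg u.ne_zero]; exact congrArg _ (Units.ext rfl)]
    rcases sqc_dichotomy hδ u.ne_zero with h | h <;> rw [h]
    · exact ⟨1, map_one ψ⟩
    · exact ⟨_, hψrd⟩
  rw [← hH, hker, Subgroup.index_ker, MonoidHom.range_eq_top.2 hsurj, Subgroup.card_top, card_sqClass_odd h2]

end CfsgLib.Spor.ReflectionIndex
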