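/-
The 2-fusion system of the Mathieu group of degree 23 is simple: the certificate.
-/
import Cfsg.Agent.Lib.Spor.SylowTwoM23Data
import Cfsg.Agent.Lib.Spor.SylowTwoMathieu

set_option autoImplicit false

namespace CfsgLib.Spor.SylTwoM23

open Cfsg

theorem elems_true : data.elemsCheck = true := by decide +kernel
theorem mul_true : data.mulCheck = true := by decide +kernel
theorem sqs_true : data.sqCheck = true := by decide +kernel
theorem mask_true : data.maskCheck = true := by decide +kernel
theorem reps_true : data.repCheck = true := by decide +kernel
theorem center_true : data.centerCheck = true := by decide +kernel
theorem chain_true : data.chainCheck inM23 = true := by decide +kernel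
theorem gens_true : (List.range data.n).all (fun j => inM23 (data.el (2 ^ j))) = true := by decide +kernel

theorem valid : data.Valid inM23 Spor.M23 :=
  { elems := elems_true
    mul := mul_true
    sqs := sqs_true
    mask := mask_true
    reps := reps_true
    center := center_true
    chain := chain_true
    gens := gens_true
    hz := by decide +kernel
    hn := by decide +kernel
    sound := fun g hg => m23_sound hg
    hX := fun g hg => smul_pts_fullMask g }

theorem isSimple (S : Sylow 2 Spor.M23) : (groupFusionSystem (S : Subgroup Spor.M23)).IsSimple 2 :=
  valid.isSimple (r := 79695) (by rw [card_sporM23]; decide +kernel) (by decide +kernel) S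

end CfsgLib.Spor.SylTwoM23
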