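/-
Two groups generated by families with the same conjugation table are isomorphic modulo their centres.
-/
import Mathlib

set_option autoImplicit false

namespace CfsgLib.Spor.RackQuot

variable {G W : Type*} [Group G] [Group W] {ι κ : Type*}

/-- The conjugation action on an injective generating family permuted by conjugation. -/
@[instance_reducible] noncomputable def famAction {a : ι → G} (ha : Function.Injective a) (hn : ∀ g i, ∃ j, g * a i * g⁻¹ = a j) :
    MulAction G ι where
  smul g i := (hn g i).choose
  one_smul i := ha (by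
    show a (hn 1 i).choose = a i
    rw [← (hn 1 i).choose_spec]; simp)
  mul_smul g h i := ha (by
    show a (hn (g * h) i).choose = a (hn g (hn h i).choose).choose
    rw [← (hn (g * h) i).choose_spec, ← (hn g (hn h i).choose).choose_spec, ← (hn h i).choose_spec]
    group)

/-- The permutation representation on the family. -/
noncomputable def famPerm {a : ι → G} (ha : Function.Injective a) (hn : ∀ g i, ∃ j, g * a i * g⁻¹ = a j) :
    G →* Equiv.Perm ι :=
  letI := famAction ha hn
  MulAction.toPermHom G ι

theorem famPerm_spec {a : ι → G} (ha : Function.Injective a) (hn : ∀ g i, ∃ j, g * a i * g⁻¹ = a j) (g : G) (i : ι) :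
    g * a i * g⁻¹ = a (famPerm ha hn g i) :=
  (hn g i).choose_spec

/-- With a finite family, generators permuting it make every element permute it. -/
theorem closed_of_gens [Finite ι] {a : ι → G}
    {s : κ → ι} (hs : Subgroup.closure (Set.range fun k => a (s k)) = ⊤) {f : κ → ι → ι}
    (hf : ∀ k i, a (s k) * a i * (a (s k))⁻¹ = a (f k i)) (ha : Function.Injective a) :
    ∀ g i, ∃ j, g * a i * g⁻¹ = a j := by
  intro g
  have hg : g ∈ Subgroup.closure (Set.range fun k => a (s k)) := hs ▸ Subgroup.mem_top g
  induction hg using Subgroup.closure_induction with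
  | mem x hx =>
    obtain ⟨k, rfl⟩ := hx
    exact fun i => ⟨_, hf k i⟩
  | one => exact fun i => ⟨i, by simp⟩
  | mul x y _ _ hx hy =>
    intro i
    obtain ⟨j, hj⟩ := hy i
    obtain ⟨l, hl⟩ := hx j
    exact ⟨l, by rw [← hl, ← hj]; group⟩
  | inv x _ hx =>
    intro i
    choose σ hσ using hx
    have hinj : Function.Injective σ := fun p q h => ha (by
      have := hσ p
      rw [h, ← hσ q] at this
      exact mul_left_cancel (mul_right_cancel this))
    obtain ⟨j, rfl⟩ := (Finite.surjective_of_injective hinj) i
    exact ⟨j, by rw [← hσ j]; group⟩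

theorem ker_famPerm {a : ι → G} (ha : Function.Injective a) (hn : ∀ g i, ∃ j, g * a i * g⁻¹ = a j)
    (hgen : Subgroup.closure (Set.range a) = ⊤) : (famPerm ha hn).ker = Subgroup.center G := by
  ext g
  constructor
  · intro hg
    rw [MonoidHom.mem_ker] at hg
    rw [Subgroup.mem_center_iff]
    intro x
    have hx : x ∈ Subgroup.centralizer ({g} : Set G) := by
      have hle : Subgroup.closure (Set.range a) ≤ Subgroup.centralizer {g} := by
        rw [Subgroup.closure_le]
        rintro _ ⟨i, rfl⟩
        refine Subgroup.mem_centralizer_singleton_iff.2 ?_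
        have h := famPerm_spec ha hn g i
        rw [hg, Equiv.Perm.one_apply] at h
        conv_lhs => rw [← h]
        group
      exact hle (hgen ▸ Subgroup.mem_top x)
    exact Subgroup.mem_centralizer_singleton_iff.1 hx
  · intro hg
    refine MonoidHom.mem_ker.2 (Equiv.ext fun i => ha ?_)
    rw [← famPerm_spec ha hn g i, Equiv.Perm.one_apply, ← Subgroup.mem_center_iff.1 hg, mul_inv_cancel_right]

theorem range_famPerm {a : ι → G} (ha : Function.Injective a) (hn : ∀ g i, ∃ j, g * a i * g⁻¹ = a j)
    {s : κ → ι} (hs : Subgroup.closure (Set.range fun k => a (s k)) = ⊤) :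
    (famPerm ha hn).range = Subgroup.closure (Set.range fun k => famPerm ha hn (a (s k))) := by
  rw [MonoidHom.range_eq_map, ← hs, MonoidHom.map_closure, ← Set.range_comp]
  rfl

theorem top_of_reached [Finite ι] {a : ι → G} (hgen : Subgroup.closure (Set.range a) = ⊤) {s : κ → ι}
    {f : κ → ι → ι} (hf : ∀ k i, a (s k) * a i * (a (s k))⁻¹ = a (f k i))
    (reach : ∀ p : ι → Prop, (∀ k, p (s k)) → (∀ k i, p i → p (f k i)) → ∀ i, p i) :
    Subgroup.closure (Set.range fun k => a (s k)) = ⊤ := by
  rw [eq_top_iff, ← hgen, Subgroup.closure_le]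
  rintro _ ⟨i, rfl⟩
  refine reach (fun i => a i ∈ Subgroup.closure (Set.range fun k => a (s k)))
    (fun k => Subgroup.subset_closure ⟨k, rfl⟩) (fun k j hj => ?_) i
  rw [← hf k j]
  exact mul_mem (mul_mem (Subgroup.subset_closure ⟨k, rfl⟩) hj) (inv_mem (Subgroup.subset_closure ⟨k, rfl⟩))

/-- Same table, isomorphic modulo centres. -/
theorem quotient_equiv [Finite ι] (a : ι → G) (b : ι → W) (ha : Function.Injective a) (hb : Function.Injective b)
    (ga : Subgroup.closure (Set.range a) = ⊤) (gb : Subgroup.closure (Set.range b) = ⊤)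
    (s : κ → ι) (f : κ → ι → ι)
    (reach : ∀ p : ι → Prop, (∀ k, p (s k)) → (∀ k i, p i → p (f k i)) → ∀ i, p i)
    (hfa : ∀ k i, a (s k) * a i * (a (s k))⁻¹ = a (f k i))
    (hfb : ∀ k i, b (s k) * b i * (b (s k))⁻¹ = b (f k i)) :
    ∃ e : G ⧸ Subgroup.center G ≃* W ⧸ Subgroup.center W, ∀ i,
      e (QuotientGroup.mk (a i)) = QuotientGroup.mk (b i) := by
  have sa := top_of_reached ga hfa reach
  have sb := top_of_reached gb hfb reach
  have na := closed_of_gens sa hfa ha
  have nb := closed_of_gens sb hfb hb
  have hk : ∀ k, famPerm ha na (a (s k)) = famPerm hb nb (b (s k)) := fun k => Equiv.ext fun i => by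
    have h1 : famPerm ha na (a (s k)) i = f k i := ha ((famPerm_spec ha na (a (s k)) i).symm.trans (hfa k i))
    have h2 : famPerm hb nb (b (s k)) i = f k i := hb ((famPerm_spec hb nb (b (s k)) i).symm.trans (hfb k i))
    rw [h1, h2]
  have hall : ∀ i, famPerm ha na (a i) = famPerm hb nb (b i) := by
    refine reach _ hk fun k i hi => ?_
    rw [← hfa, ← hfb, map_mul, map_mul, map_mul, map_mul, map_inv, map_inv, hk, hi]
  have hr : (famPerm ha na).range = (famPerm hb nb).range := by
    rw [range_famPerm ha na sa, range_famPerm hb nb sb, show (fun k => famPerm ha na (a (s k))) =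
      fun k => famPerm hb nb (b (s k)) from funext hk]
  let ea : G ⧸ Subgroup.center G ≃* (famPerm ha na).range :=
    (QuotientGroup.quotientMulEquivOfEq (ker_famPerm ha na ga).symm).trans (QuotientGroup.quotientKerEquivRange _)
  let eb : W ⧸ Subgroup.center W ≃* (famPerm hb nb).range :=
    (QuotientGroup.quotientMulEquivOfEq (ker_famPerm hb nb gb).symm).trans (QuotientGroup.quotientKerEquivRange _)
  refine ⟨(ea.trans (MulEquiv.subgroupCongr hr)).trans eb.symm, fun i => ?_⟩
  rw [MulEquiv.trans_apply, MulEquiv.trans_apply, MulEquiv.symm_apply_eq]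
  exact Subtype.ext (hall i)

/-- The members of a family as elements of the subgroup they generate. -/
def inClosure (a : ι → G) (i : ι) : Subgroup.closure (Set.range a) := ⟨a i, Subgroup.subset_closure ⟨i, rfl⟩⟩

theorem closure_inClosure (a : ι → G) : Subgroup.closure (Set.range (inClosure a)) = ⊤ := by
  have h := Subgroup.closure_closure_coe_preimage (k := Set.range a)
  convert h using 2
  ext x
  constructor
  · rintro ⟨i, rfl⟩; exact ⟨i, rfl⟩
  · rintro ⟨i, hi⟩; exact ⟨i, Subtype.ext hi⟩

/-- The same for the subgroups generated by two families of two groups. -/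
theorem closure_quotient_equiv [Finite ι] (a : ι → G) (b : ι → W) (ha : Function.Injective a)
    (hb : Function.Injective b) (s : κ → ι) (f : κ → ι → ι)
    (reach : ∀ p : ι → Prop, (∀ k, p (s k)) → (∀ k i, p i → p (f k i)) → ∀ i, p i)
    (hfa : ∀ k i, a (s k) * a i * (a (s k))⁻¹ = a (f k i))
    (hfb : ∀ k i, b (s k) * b i * (b (s k))⁻¹ = b (f k i)) :
    ∃ e : ↥(Subgroup.closure (Set.range a)) ⧸ Subgroup.center ↥(Subgroup.closure (Set.range a)) ≃*
        ↥(Subgroup.closure (Set.range b)) ⧸ Subgroup.center ↥(Subgroup.closure (Set.range b)),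
      ∀ i, e (QuotientGroup.mk (inClosure a i)) = QuotientGroup.mk (inClosure b i) :=
  quotient_equiv (inClosure a) (inClosure b) (fun _ _ h => ha (congrArg Subtype.val h :))
    (fun _ _ h => hb (congrArg Subtype.val h :)) (closure_inClosure a) (closure_inClosure b) s f reach
    (fun k i => Subtype.ext (hfa k i)) (fun k i => Subtype.ext (hfb k i))

end CfsgLib.Spor.RackQuot
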