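/-
The line system of a set of transpositions is a Fischer space.
-/
import Cfsg.Prelude.Def_FischerSpaces
import Cfsg.Agent.Lib.Spor.Tri.Elementary
import Cfsg.Agent.Lib.Spor.Tri.SmallSymmetric

set_option autoImplicit false

namespace CfsgLib.Spor.FischerGroup

open Cfsg Cfsg.LineSystem

variable {G : Type*} [Group G] {D : Set G}

variable (hset : IsThreeTranspositionSet D) (hconj : ∀ g : G, ∀ d ∈ D, g * d * g⁻¹ ∈ D)
include hset hconj

theorem conj_mem {a b : G} (ha : a ∈ D) (hb : b ∈ D) : a * b * a ∈ D := by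
  have := hconj a b hb
  rwa [Tri.set_inv hset ha] at this

omit hconj in
theorem conj_conj' {a b : G} (ha : a ∈ D) : a * (a * b * a) * a = b := by
  have h := Tri.set_mul_self hset ha
  rw [show a * (a * b * a) * a = (a * a) * b * (a * a) by group, h, one_mul, mul_one]

omit hconj in
theorem not_commute_third {a b : G} (ha : a ∈ D) (hn : ¬ Commute a b) : ¬ Commute a (a * b * a) := fun h => hn (by
  have h' := h.eq
  rw [← mul_assoc, ← mul_assoc, Tri.set_mul_self hset ha, one_mul, mul_assoc (a * b), Tri.set_mul_self hset ha,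
    mul_one] at h'
  exact h'.symm)

omit hconj in
theorem third_ne {a b : G} (ha : a ∈ D) (hn : ¬ Commute a b) : a * b * a ≠ b := fun e => hn (by
  have : a * (a * b * a) = a * b := by rw [e]
  rw [← mul_assoc, ← mul_assoc, Tri.set_mul_self hset ha, one_mul] at this
  exact this.symm)

/-- The line through two noncommuting members. -/
def line (D : Set G) (x y : G) : Set D := {z : D | (z : G) = x ∨ (z : G) = y ∨ (z : G) = x * y * x}

theorem mem_lines {l : Set D} : l ∈ threeTranspositionLines D ↔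
    ∃ x y : G, x ∈ D ∧ y ∈ D ∧ ¬ Commute x y ∧ l = line D x y := by
  constructor
  · rintro ⟨x, y, hn, rfl⟩
    refine ⟨x, y, x.2, y.2, hn, ?_⟩
    have e := Tri.set_braid hset x.2 y.2 hn
    simp only [line, Tri.set_inv hset y.2, e]
  · rintro ⟨x, y, hx, hy, hn, rfl⟩
    refine ⟨⟨x, hx⟩, ⟨y, hy⟩, hn, ?_⟩
    have e := Tri.set_braid hset hx hy hn
    simp only [line, Tri.set_inv hset hy, e]

theorem line_eq {x y : G} (hx : x ∈ D) (hy : y ∈ D) (hn : ¬ Commute x y) {p q : D} (hp : p ∈ line D x y)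
    (hq : q ∈ line D x y) (hpq : p ≠ q) : ¬ Commute (p : G) (q : G) ∧ line D x y = line D p q := by
  have hb : x * y * x = y * x * y := Tri.set_braid hset hx hy hn
  have hn' : ¬ Commute y x := fun h => hn h.symm
  have k1 : ¬ Commute x (x * y * x) := not_commute_third hset hx hn
  have k2 : ¬ Commute y (x * y * x) := hb ▸ not_commute_third hset hy hn'
  have hpq' : (p : G) ≠ q := fun e => hpq (Subtype.ext e)
  have e1 : x * (x * y * x) * x = y := conj_conj' hset hx
  have e2 : y * (x * y * x) * y = x := hb ▸ conj_conj' hset hy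
  have hz : (x * y * x) ∈ D := conj_mem hset hconj hx hy
  have e3 : (x * y * x) * x * (x * y * x) = y := (Tri.set_braid hset hz hx fun h => k1 h.symm).trans e1
  have e4 : (x * y * x) * y * (x * y * x) = x := (Tri.set_braid hset hz hy fun h => k2 h.symm).trans e2
  rcases hp with hp | hp | hp <;> rcases hq with hq | hq | hq
  all_goals first
    | exact absurd (hp.trans hq.symm) hpq'
    | (refine ⟨?_, Set.ext fun t => ?_⟩
       · rw [hp, hq]
         first | exact hn | exact hn' | exact k1 | exact k2 | exact fun h => k1 h.symm | exact fun h => k2 h.symm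
       · simp only [line, Set.mem_setOf_eq, hp, hq, e1, e2, e3, e4, ← hb] <;> tauto)

theorem partialLinear : IsPartialLinear (threeTranspositionLines D) := by
  intro l hl m hm x y hxy hxl hyl hxm hym
  obtain ⟨a, b, ha, hb, hn, rfl⟩ := (mem_lines hset hconj).1 hl
  obtain ⟨c, d, hc, hd, hn', rfl⟩ := (mem_lines hset hconj).1 hm
  rw [(line_eq hset hconj ha hb hn hxl hyl hxy).2, (line_eq hset hconj hc hd hn' hxm hym hxy).2]

theorem line_card {l : Set D} (hl : l ∈ threeTranspositionLines D) : l.ncard = 3 := by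
  obtain ⟨a, b, ha, hb, hn, rfl⟩ := (mem_lines hset hconj).1 hl
  refine Set.ncard_eq_three.2 ⟨⟨a, ha⟩, ⟨b, hb⟩, ⟨a * b * a, conj_mem hset hconj ha hb⟩, ?_, ?_, ?_, ?_⟩
  · exact fun e => hn (by rw [show a = b from congrArg Subtype.val e])
  · exact fun e => not_commute_third hset ha hn
      (by rw [← show a = a * b * a from congrArg Subtype.val e])
  · exact fun e => third_ne hset ha hn (congrArg Subtype.val e).symm
  · ext t; simp [line, Subtype.ext_iff]

/-- An injective map of a model plane onto a subspace. -/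
theorem isomorphic_of_map {Y : Type*} {M : Set (Set Y)} (f : Y → D) (hf : Function.Injective f) {S : Set D}
    (hm : ∀ m ∈ M, f '' m ∈ threeTranspositionLines D)
    (hjoin : ∀ u v : Y, ¬ Commute (f u : G) (f v : G) → ∃ m ∈ M, u ∈ m ∧ v ∈ m)
    (hS : S ⊆ Set.range f) (hgen : ∀ T, S ⊆ T → IsSubspace (threeTranspositionLines D) T → Set.range f ⊆ T) :
    Isomorphic (restrict (threeTranspositionLines D) (span (threeTranspositionLines D) S)) M := by
  have hlines : ∀ l ∈ threeTranspositionLines D, ∀ u v, u ≠ v → f u ∈ l → f v ∈ l → ∃ m ∈ M, l = f '' m := by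
    intro l hl u v huv hu hv
    obtain ⟨a, b, ha, hb, hn, rfl⟩ := (mem_lines hset hconj).1 hl
    obtain ⟨hn', -⟩ := line_eq hset hconj ha hb hn hu hv fun e => huv (hf e)
    obtain ⟨m, hm', hum, hvm⟩ := hjoin u v hn'
    exact ⟨m, hm', partialLinear hset hconj _ hl _ (hm m hm') _ _ (fun e => huv (hf e)) hu hv ⟨u, hum, rfl⟩ ⟨v, hvm, rfl⟩⟩
  have hrange : span (threeTranspositionLines D) S = Set.range f := by
    refine Set.Subset.antisymm (fun t ht => ht _ ⟨hS, ?_⟩) fun t ht T hT => hgen T hT.1 hT.2 ht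
    rintro l hl _ ⟨u, rfl⟩ _ ⟨v, rfl⟩ huv hu hv
    obtain ⟨m, -, rfl⟩ := hlines l hl u v (fun e => huv (e ▸ rfl)) hu hv
    exact Set.image_subset_range f m
  rw [hrange]
  let e : Set.range f ≃ Y := (Equiv.ofInjective f hf).symm
  refine ⟨e, fun k => ⟨?_, fun hk => ?_⟩⟩
  · rintro ⟨l, hl, hlr, rfl⟩
    obtain ⟨p, q, r, hpq, -, -, rfl⟩ := Set.ncard_eq_three.1 (line_card hset hconj hl)
    obtain ⟨u, rfl⟩ := hlr (show p ∈ ({p, q, r} : Set D) by simp)
    obtain ⟨v, rfl⟩ := hlr (show q ∈ ({f u, q, r} : Set D) by simp)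
    obtain ⟨m, hm', e'⟩ := hlines _ hl u v (fun h => hpq (h ▸ rfl)) (by simp) (by simp)
    convert hm' using 1
    ext w
    rw [Equiv.image_eq_preimage_symm, Set.mem_preimage]
    show ((Equiv.ofInjective f hf w : Set.range f) : D) ∈ ({f u, f v, r} : Set D) ↔ w ∈ m
    rw [Equiv.ofInjective_apply, e', hf.mem_set_image]
  · refine ⟨f '' (e '' k), hm _ hk, Set.image_subset_range _ _, ?_⟩
    ext t
    have ht : f (e t) = (t : D) := Equiv.apply_ofInjective_symm hf t
    rw [Set.mem_setOf_eq, ← ht, hf.mem_set_image, e.injective.mem_set_image]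

/-- In a subspace the third point of a noncommuting pair lies too. -/
theorem third_mem {T : Set D} (hT : IsSubspace (threeTranspositionLines D) T) {p q r : D} (hp : p ∈ T) (hq : q ∈ T)
    (hn : ¬ Commute (p : G) (q : G)) (hr : (r : G) = (p : G) * q * p) : r ∈ T :=
  hT (line D p q) ((mem_lines hset hconj).2 ⟨p, q, p.2, q.2, hn, rfl⟩) p hp q hq
    (fun e => hn (e ▸ Commute.refl _)) (Or.inl rfl) (Or.inr (Or.inl rfl)) (Or.inr (Or.inr hr))

theorem dual_case {a b c : G} (ha : a ∈ D) (hb : b ∈ D) (hc : c ∈ D) (hab : ¬ Commute a b) (hac : ¬ Commute a c)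
    (hbc : Commute b c) (hne : b ≠ c) :
    Isomorphic (restrict (threeTranspositionLines D) (span (threeTranspositionLines D) (line D a b ∪ line D a c)))
      dualAffinePlaneTwo := by
  obtain ⟨φ, hφ, h01, h12, h23⟩ := Tri.exists_hom_perm_four (Tri.set_mul_self hset hb) (Tri.set_mul_self hset ha)
    (Tri.set_mul_self hset hc) (Tri.set_braid hset ha hb hab)
    (Tri.set_braid hset hc ha fun h => hac h.symm) hbc.symm.eq hne
  have gen : ∀ p : DualAffinePoint, ∃ i j : Fin 4, i ≠ j ∧ p.1 = {i, j} := fun p => by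
    obtain ⟨i, j, h, e⟩ := Finset.card_eq_two.1 p.2
    exact ⟨i, j, h, e⟩
  choose I J hIJ hp using gen
  have hcomm : ∀ (g : Equiv.Perm (Fin 4)), φ g ∈ D → ∀ i j, φ (g * Equiv.swap i j * g) = φ g * φ (Equiv.swap i j) * φ g :=
    fun g _ i j => by rw [map_mul, map_mul]
  have m02 : φ (Equiv.swap 0 2) ∈ D := by
    rw [show (Equiv.swap 0 2 : Equiv.Perm (Fin 4)) = Equiv.swap 1 2 * Equiv.swap 0 1 * Equiv.swap 1 2 by decide +kernel,
      map_mul, map_mul, h01, h12]
    exact conj_mem hset hconj ha hb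
  have m13 : φ (Equiv.swap 1 3) ∈ D := by
    rw [show (Equiv.swap 1 3 : Equiv.Perm (Fin 4)) = Equiv.swap 1 2 * Equiv.swap 2 3 * Equiv.swap 1 2 by decide +kernel,
      map_mul, map_mul, h23, h12]
    exact conj_mem hset hconj ha hc
  have m03 : φ (Equiv.swap 0 3) ∈ D := by
    rw [show (Equiv.swap 0 3 : Equiv.Perm (Fin 4)) = Equiv.swap 0 2 * Equiv.swap 2 3 * Equiv.swap 0 2 by decide +kernel,
      map_mul, map_mul, h23]
    exact conj_mem hset hconj m02 hc
  have hmem : ∀ i j : Fin 4, i ≠ j → φ (Equiv.swap i j) ∈ D := by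
    intro i j hij
    have key : ∀ i j : Fin 4, i ≠ j → Equiv.swap i j = Equiv.swap 0 1 ∨ Equiv.swap i j = Equiv.swap 1 2 ∨
        Equiv.swap i j = Equiv.swap 2 3 ∨ Equiv.swap i j = Equiv.swap 0 2 ∨ Equiv.swap i j = Equiv.swap 1 3 ∨
        Equiv.swap i j = Equiv.swap 0 3 := by decide +kernel
    rcases key i j hij with e | e | e | e | e | e <;> rw [e]
    exacts [h01.symm ▸ hb, h12.symm ▸ ha, h23.symm ▸ hc, m02, m13, m03]
  let f : DualAffinePoint → D := fun p => ⟨φ (Equiv.swap (I p) (J p)), hmem _ _ (hIJ p)⟩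
  have fval : ∀ (p : DualAffinePoint) (i j : Fin 4), p.1 = {i, j} → (f p : G) = φ (Equiv.swap i j) := by
    intro p i j h
    show φ _ = _
    congr 1
    have key : ∀ i j k l : Fin 4, k ≠ l → ({k, l} : Finset (Fin 4)) = {i, j} → Equiv.swap k l = Equiv.swap i j := by
      decide +kernel
    exact key i j _ _ (hIJ p) ((hp p).symm.trans h)
  have hf : Function.Injective f := fun p q e => by
    have e' := hφ (congrArg Subtype.val e : (f p : G) = f q)
    have key : ∀ i j k l : Fin 4, i ≠ j → k ≠ l → Equiv.swap i j = Equiv.swap k l → ({i, j} : Finset (Fin 4)) = {k, l} := by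
      decide +kernel
    exact Subtype.ext ((hp p).trans ((key _ _ _ _ (hIJ p) (hIJ q) e').trans (hp q).symm))
  let pt : (i j : Fin 4) → i ≠ j → DualAffinePoint := fun i j h => ⟨{i, j}, Finset.card_pair h⟩
  have fpt : ∀ i j (h : i ≠ j), (f (pt i j h) : G) = φ (Equiv.swap i j) := fun i j h => fval _ i j rfl
  refine isomorphic_of_map hset hconj f hf ?_ ?_ ?_ ?_
  · rintro _ ⟨k, rfl⟩
    obtain ⟨i, j, l, hij, hil, hjl, hik, hjk, hlk⟩ : ∃ i j l : Fin 4,
        i ≠ j ∧ i ≠ l ∧ j ≠ l ∧ i ≠ k ∧ j ≠ k ∧ l ≠ k := by revert k; decide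
    refine (mem_lines hset hconj).2 ⟨φ (Equiv.swap i j), φ (Equiv.swap j l), hmem _ _ hij, hmem _ _ hjl, ?_, ?_⟩
    · intro h
      have : Equiv.swap i j * Equiv.swap j l = Equiv.swap j l * Equiv.swap i j := hφ (by rw [map_mul, map_mul, h.eq])
      have key : ∀ i j l : Fin 4, i ≠ j → i ≠ l → j ≠ l → Equiv.swap i j * Equiv.swap j l ≠ Equiv.swap j l * Equiv.swap i j := by
        decide +kernel
      exact key i j l hij hil hjl this
    · have hthird : φ (Equiv.swap i j) * φ (Equiv.swap j l) * φ (Equiv.swap i j) = φ (Equiv.swap i l) := by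
        rw [← map_mul, ← map_mul]
        congr 1
        have key : ∀ i j l : Fin 4, i ≠ j → i ≠ l → j ≠ l →
            Equiv.swap i j * Equiv.swap j l * Equiv.swap i j = Equiv.swap i l := by decide +kernel
        exact key i j l hij hil hjl
      ext t
      constructor
      · rintro ⟨p, hpk, rfl⟩
        have hpk' : k ∉ p.1 := hpk
        have key : ∀ a b k i j l : Fin 4, a ≠ b → i ≠ j → i ≠ l → j ≠ l → i ≠ k → j ≠ k → l ≠ k →
            k ∉ ({a, b} : Finset (Fin 4)) →
            ({a, b} : Finset (Fin 4)) = {i, j} ∨ ({a, b} : Finset (Fin 4)) = {j, l} ∨ ({a, b} : Finset (Fin 4)) = {i, l} := by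
          set_option synthInstance.maxSize 20000 in set_option synthInstance.maxHeartbeats 400000 in decide +kernel
        have h' := key (I p) (J p) k i j l (hIJ p) hij hil hjl hik hjk hlk (by rw [← hp p]; exact hpk')
        rw [← hp p] at h'
        rcases h' with h | h | h
        · exact Or.inl (fval p _ _ h)
        · exact Or.inr (Or.inl (fval p _ _ h))
        · exact Or.inr (Or.inr ((fval p _ _ h).trans hthird.symm))
      · rintro (h | h | h)
        · exact ⟨pt i j hij, by simp [pt, Ne.symm hik, Ne.symm hjk], Subtype.ext ((fpt _ _ hij).trans h.symm)⟩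
        · exact ⟨pt j l hjl, by simp [pt, Ne.symm hjk, Ne.symm hlk], Subtype.ext ((fpt _ _ hjl).trans h.symm)⟩
        · exact ⟨pt i l hil, by simp [pt, Ne.symm hik, Ne.symm hlk],
            Subtype.ext ((fpt _ _ hil).trans (hthird.symm.trans h.symm))⟩
  · intro u v hn
    have key : ∀ i j k l : Fin 4, (∀ m : Fin 4, m ∈ ({i, j} : Finset (Fin 4)) ∨ m ∈ ({k, l} : Finset (Fin 4))) →
        Equiv.swap i j * Equiv.swap k l = Equiv.swap k l * Equiv.swap i j := by
      decide +kernel
    by_contra hno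
    refine hn ?_
    have := key (I u) (J u) (I v) (J v) (fun k => by
      rw [← hp u, ← hp v]
      by_contra hk
      push Not at hk
      exact hno ⟨_, ⟨k, rfl⟩, hk.1, hk.2⟩)
    show φ _ * φ _ = φ _ * φ _
    rw [← map_mul, ← map_mul, this]
  · have e02 : a * b * a = φ (Equiv.swap 0 2) := by
      rw [show (Equiv.swap 0 2 : Equiv.Perm (Fin 4)) = Equiv.swap 1 2 * Equiv.swap 0 1 * Equiv.swap 1 2 by decide +kernel,
        map_mul, map_mul, h01, h12]
    have e13 : a * c * a = φ (Equiv.swap 1 3) := by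
      rw [show (Equiv.swap 1 3 : Equiv.Perm (Fin 4)) = Equiv.swap 1 2 * Equiv.swap 2 3 * Equiv.swap 1 2 by decide +kernel,
        map_mul, map_mul, h23, h12]
    rintro t ((h | h | h) | (h | h | h))
    · exact ⟨pt 1 2 (by decide), Subtype.ext ((fpt 1 2 (by decide)).trans (h12.trans h.symm))⟩
    · exact ⟨pt 0 1 (by decide), Subtype.ext ((fpt 0 1 (by decide)).trans (h01.trans h.symm))⟩
    · exact ⟨pt 0 2 (by decide), Subtype.ext ((fpt 0 2 (by decide)).trans (e02.symm.trans h.symm))⟩
    · exact ⟨pt 1 2 (by decide), Subtype.ext ((fpt 1 2 (by decide)).trans (h12.trans h.symm))⟩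
    · exact ⟨pt 2 3 (by decide), Subtype.ext ((fpt 2 3 (by decide)).trans (h23.trans h.symm))⟩
    · exact ⟨pt 1 3 (by decide), Subtype.ext ((fpt 1 3 (by decide)).trans (e13.symm.trans h.symm))⟩
  · rintro T hST hT _ ⟨p, rfl⟩
    have A : ∀ {x : D}, (x : G) = a → x ∈ T := fun h => hST (Or.inl (Or.inl h))
    have B : ∀ {x : D}, (x : G) = b → x ∈ T := fun h => hST (Or.inl (Or.inr (Or.inl h)))
    have C : ∀ {x : D}, (x : G) = c → x ∈ T := fun h => hST (Or.inr (Or.inr (Or.inl h)))
    have hI : ∀ {i j : Fin 4}, (∀ x : D, (x : G) = φ (Equiv.swap i j) → x ∈ T) → ∀ {k l : Fin 4},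
        Equiv.swap k l = Equiv.swap i j → ∀ x : D, (x : G) = φ (Equiv.swap k l) → x ∈ T :=
      fun h _ _ e x hx => h x (by rw [hx, e])
    have t02 : ∀ x : D, (x : G) = φ (Equiv.swap 0 2) → x ∈ T := fun x hx => hST (Or.inl (Or.inr (Or.inr (by
      rw [hx, show (Equiv.swap 0 2 : Equiv.Perm (Fin 4)) = Equiv.swap 1 2 * Equiv.swap 0 1 * Equiv.swap 1 2 by decide +kernel,
        map_mul, map_mul, h01, h12]))))
    have t13 : ∀ x : D, (x : G) = φ (Equiv.swap 1 3) → x ∈ T := fun x hx => hST (Or.inr (Or.inr (Or.inr (by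
      rw [hx, show (Equiv.swap 1 3 : Equiv.Perm (Fin 4)) = Equiv.swap 1 2 * Equiv.swap 2 3 * Equiv.swap 1 2 by decide +kernel,
        map_mul, map_mul, h23, h12]))))
    have t03 : ∀ x : D, (x : G) = φ (Equiv.swap 0 3) → x ∈ T := fun x hx => by
      refine third_mem hset hconj hT (t02 ⟨_, m02⟩ rfl) (C (x := ⟨c, hc⟩) rfl) ?_ ?_
      · intro h
        have : Equiv.swap (0 : Fin 4) 2 * Equiv.swap 2 3 = Equiv.swap 2 3 * Equiv.swap 0 2 := hφ (by
          rw [map_mul, map_mul, h23]; exact h.eq)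
        revert this; decide +kernel
      · rw [hx, show (Equiv.swap 0 3 : Equiv.Perm (Fin 4)) = Equiv.swap 0 2 * Equiv.swap 2 3 * Equiv.swap 0 2 by decide +kernel,
          map_mul, map_mul, h23]
    have key : ∀ i j : Fin 4, i ≠ j → Equiv.swap i j = Equiv.swap 0 1 ∨ Equiv.swap i j = Equiv.swap 1 2 ∨
        Equiv.swap i j = Equiv.swap 2 3 ∨ Equiv.swap i j = Equiv.swap 0 2 ∨ Equiv.swap i j = Equiv.swap 1 3 ∨
        Equiv.swap i j = Equiv.swap 0 3 := by decide +kernel
    rcases key _ _ (hIJ p) with e | e | e | e | e | e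
    · exact B ((show (f p : G) = φ (Equiv.swap (I p) (J p)) from rfl).trans (by rw [e, h01]))
    · exact A ((show (f p : G) = φ (Equiv.swap (I p) (J p)) from rfl).trans (by rw [e, h12]))
    · exact C ((show (f p : G) = φ (Equiv.swap (I p) (J p)) from rfl).trans (by rw [e, h23]))
    · exact hI t02 e (f p) rfl
    · exact hI t13 e (f p) rfl
    · exact hI t03 e (f p) rfl

omit hconj in
/-- The plane of nine points. -/
theorem affine_map {a b c : G} (ha : a ∈ D) (hb : b ∈ D) (hc : c ∈ D) (hD : ∀ x ∈ D, ∀ y ∈ D, x * y * x ∈ D)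
    (hab : ¬ Commute a b) (hac : ¬ Commute a c) (hbc : ¬ Commute b c) (hbc' : ¬ Commute b (a * c * a))
    (hcb' : ¬ Commute c (a * b * a)) :
    ∃ P : (Fin 2 → ZMod 3) → G, (∀ v, P v ∈ D) ∧ P ![0, 0] = a ∧ P ![1, 0] = b ∧ P ![0, 1] = c ∧
      ∀ u v, P u * P v * P u = P (-u - v) := by
  let p22 := b * c * b
  let p11 := a * p22 * a
  let p12 := c * (a * b * a) * c
  let p21 := b * (a * c * a) * b
  let W : ZMod 3 → ZMod 3 → G := fun i j => (![![a, c, a * c * a], ![b, p11, p12], ![a * b * a, p21, p22]] : Fin 3 → Fin 3 → G) i j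
  let P : (Fin 2 → ZMod 3) → G := fun v => W (v 0) (v 1)
  have hPD : ∀ v, P v ∈ D := by
    intro v
    have h : ∀ i j : Fin 3, (![![a, c, a * c * a], ![b, p11, p12], ![a * b * a, p21, p22]] : Fin 3 → Fin 3 → G) i j ∈ D := by
      intro i j
      fin_cases i <;> fin_cases j
      exacts [ha, hc, hD _ ha _ hc, hb, hD _ ha _ (hD _ hb _ hc), hD _ hc _ (hD _ ha _ hb), hD _ ha _ hb,
        hD _ hb _ (hD _ ha _ hc), hD _ hb _ hc]
    exact h _ _
  -- operation rules
  have sq : ∀ {x : G}, x ∈ D → x * x = 1 := fun h => Tri.set_mul_self hset h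
  have cc : ∀ {u : G}, u ∈ D → ∀ v, u * (u * v * u) * u = v := fun h v => by
    rw [show ∀ u : G, u * (u * v * u) * u = (u * u) * v * (u * u) from fun u => by group, sq h, one_mul, mul_one]
  have self : ∀ {u : G}, u ∈ D → u * u * u = u := fun h => by rw [sq h, one_mul]
  have dist : ∀ {u : G}, u ∈ D → ∀ v w, u * (v * w * v) * u = (u * v * u) * (u * w * u) * (u * v * u) := fun {u} h v w => by
    have e : (u * v * u) * (u * w * u) * (u * v * u) = u * v * (u * u) * w * (u * u) * v * u := by group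
    rw [e, sq h]; group
  have br : ∀ {u v : G}, u ∈ D → v ∈ D → ¬ Commute u v → u * v * u = v * u * v := fun hu hv hn =>
    Tri.set_braid hset hu hv hn
  have bab : b * a * b = a * b * a := br hb ha fun h => hab h.symm
  have cac : c * a * c = a * c * a := br hc ha fun h => hac h.symm
  have cbc : c * b * c = p22 := (br hb hc hbc).symm
  -- the action of a
  have a12 : a * p12 * a = p21 := by
    show a * (c * (a * b * a) * c) * a = b * (a * c * a) * b
    rw [dist ha, cc ha]
    exact br (hD _ ha _ hc) hb fun h => hbc' h.symm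
  have a21 : a * p21 * a = p12 := by rw [← a12, cc ha]
  have b11 : b * p11 * b = p12 := by
    show b * (a * p22 * a) * b = _
    rw [dist hb, bab, show b * p22 * b = c from cc hb c]
    exact br (hD _ ha _ hb) hc fun h => hcb' h.symm
  have b12 : b * p12 * b = p11 := by rw [← b11, cc hb]
  have c11 : c * p11 * c = p21 := by
    show c * (a * p22 * a) * c = _
    rw [dist hc, cac, ← cbc, cc hc]
    exact br (hD _ ha _ hc) hb fun h => hbc' h.symm
  have c21 : c * p21 * c = p11 := by rw [← c11, cc hc]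
  have gen : ∀ g : Fin 2 → ZMod 3, (g = ![0, 0] ∨ g = ![1, 0] ∨ g = ![0, 1]) → ∀ i j : ZMod 3,
      P g * W i j * P g = W (-(g 0) - i) (-(g 1) - j) := by
    intro g hg i j
    rcases hg with rfl | rfl | rfl <;>
      (show _ * W i j * _ = _; revert i j; intro i j; fin_cases i <;> fin_cases j) <;>
      first
        | exact self ha | exact self hb | exact self hc
        | exact cc ha _ | exact cc hb _ | exact cc hc _
        | exact a12 | exact a21 | exact b11 | exact b12 | exact c11 | exact c21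
        | exact bab | exact cac | exact cbc
        | rfl
        | (show b * (a * b * a) * b = a; rw [← bab, cc hb])
        | (show c * (a * c * a) * c = a; rw [← cac, cc hc])
        | (show c * p22 * c = b; rw [← cbc, cc hc])
        | (show c * p12 * c = a * b * a; exact cc hc _)
  have gen' : ∀ g : Fin 2 → ZMod 3, (g = ![0, 0] ∨ g = ![1, 0] ∨ g = ![0, 1]) → ∀ v, P g * P v * P g = P (-g - v) :=
    fun g hg v => gen g hg (v 0) (v 1)
  refine ⟨P, hPD, rfl, rfl, rfl, fun u v => ?_⟩
  -- every point is a conjugate of a generator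
  let Good : (Fin 2 → ZMod 3) → Prop := fun u => ∀ v, P u * P v * P u = P (-u - v)
  have hstep : ∀ g u, Good g → Good u → Good (-g - u) := by
    intro g u hg hu v
    rw [← hg u]
    calc P g * P u * P g * P v * (P g * P u * P g) = P g * (P u * (P g * P v * P g) * P u) * P g := by group
      _ = P (-g - (-u - (-g - v))) := by rw [hg v, hu, hg]
      _ = P (-(-g - u) - v) := by
        congr 1
        have h3 : ∀ u : Fin 2 → ZMod 3, u + u + u = 0 := by decide
        calc -g - (-u - (-g - v)) = -g - (-u - (-g - v)) + (g + g + g) := by rw [h3, add_zero]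
          _ = -(-g - u) - v := by abel
  have g0 : Good ![0, 0] := gen' _ (Or.inl rfl)
  have g1 : Good ![1, 0] := gen' _ (Or.inr (Or.inl rfl))
  have g2 : Good ![0, 1] := gen' _ (Or.inr (Or.inr rfl))
  have key : ∀ w : Fin 2 → ZMod 3, w = ![0, 0] ∨ w = ![1, 0] ∨ w = ![0, 1] ∨ w = -![0, 0] - ![1, 0] ∨
      w = -![0, 0] - ![0, 1] ∨ w = -![1, 0] - ![0, 1] ∨ w = -![0, 0] - (-![1, 0] - ![0, 1]) ∨
      w = -![0, 1] - (-![0, 0] - ![1, 0]) ∨ w = -![1, 0] - (-![0, 0] - ![0, 1]) := by decide +kernel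
  rcases key u with rfl | rfl | rfl | rfl | rfl | rfl | rfl | rfl | rfl
  exacts [g0 v, g1 v, g2 v, hstep _ _ g0 g1 v, hstep _ _ g0 g2 v, hstep _ _ g1 g2 v,
    hstep _ _ g0 (hstep _ _ g1 g2) v, hstep _ _ g2 (hstep _ _ g0 g1) v, hstep _ _ g1 (hstep _ _ g0 g2) v]

theorem affine_case {a b c : G} (ha : a ∈ D) (hb : b ∈ D) (hc : c ∈ D) (hab : ¬ Commute a b) (hac : ¬ Commute a c)
    (hbc : ¬ Commute b c) (hbc' : ¬ Commute b (a * c * a)) (hcb' : ¬ Commute c (a * b * a)) :
    Isomorphic (restrict (threeTranspositionLines D) (span (threeTranspositionLines D) (line D a b ∪ line D a c)))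
      affinePlaneThree := by
  obtain ⟨P, hPD, h00, h10, h01, hP⟩ := affine_map hset ha hb hc (fun x hx y hy => conj_mem hset hconj hx hy)
    hab hac hbc hbc' hcb'
  have h3 : ∀ u : Fin 2 → ZMod 3, u + u + u = 0 := by decide
  have hinj : Function.Injective P := by
    intro u v huv
    by_contra hne
    let Per : (Fin 2 → ZMod 3) → Prop := fun d => ∀ x, P (x + d) = P x
    have hd : Per (u - v) := fun x => by
      have h1 := hP u (-(x + u))
      have h2 := hP v (-(x + u))
      rw [← huv, h1, show -u - -(x + u) = x by abel, show -v - -(x + u) = x + (u - v) by abel] at h2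
      exact h2.symm
    have hd2 : Per (u - v + (u - v)) := fun x => by rw [← add_assoc, hd, hd]
    have key : ∀ d : Fin 2 → ZMod 3, d ≠ 0 → (d = ![1, 0] ∨ d = ![0, 1] ∨ d = ![1, 1] ∨ d = ![1, 2]) ∨
        (d + d = ![1, 0] ∨ d + d = ![0, 1] ∨ d + d = ![1, 1] ∨ d + d = ![1, 2]) := by decide +kernel
    have hno : ∀ d, Per d → ¬ (d = ![1, 0] ∨ d = ![0, 1] ∨ d = ![1, 1] ∨ d = ![1, 2]) := by
      intro d hper hd'
      rcases hd' with rfl | rfl | rfl | rfl
      · have := hper ![0, 0]
        rw [h00, show (![0, 0] : Fin 2 → ZMod 3) + ![1, 0] = ![1, 0] by decide, h10] at this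
        exact hab (this ▸ Commute.refl b)
      · have := hper ![0, 0]
        rw [h00, show (![0, 0] : Fin 2 → ZMod 3) + ![0, 1] = ![0, 1] by decide, h01] at this
        exact hac (this ▸ Commute.refl c)
      · have e := hper ![1, 0]
        have e' := hper (![1, 0] + ![1, 1])
        rw [e, show (![1, 0] : Fin 2 → ZMod 3) + ![1, 1] + ![1, 1] = -![0, 0] - ![0, 1] by decide, ← hP, h00, h01,
          h10] at e'
        exact hbc' (e' ▸ Commute.refl b)
      · have := hper ![0, 1]
        have e2 : P ![1, 0] = P ![0, 1] := by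
          rw [← this]; congr 1; decide
        rw [h10, h01] at e2
        exact hbc (e2 ▸ Commute.refl b)
    rcases key (u - v) (sub_ne_zero.2 hne) with h | h
    · exact hno _ hd h
    · exact hno _ hd2 h
  have hnc : ∀ u v, u ≠ v → ¬ Commute (P u) (P v) := fun u v huv h => by
    have e := hP u v
    rw [h.eq, mul_assoc, Tri.set_mul_self hset (hPD u), mul_one] at e
    have := hinj e
    refine huv ?_
    calc u = -(-u - v) - v := by abel
      _ = -v - v := by rw [← this]
      _ = v := by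
        have := h3 v
        calc -v - v = -v - v + (v + v + v) := by rw [this, add_zero]
          _ = v := by abel
  let f : (Fin 2 → ZMod 3) → D := fun v => ⟨P v, hPD v⟩
  have hf : Function.Injective f := fun u v e => hinj (congrArg Subtype.val e)
  refine isomorphic_of_map hset hconj f hf ?_ ?_ ?_ ?_
  · rintro _ ⟨v, w, hw, rfl⟩
    have hne : v ≠ v + w := fun e => hw (by simpa using e)
    refine (mem_lines hset hconj).2 ⟨P v, P (v + w), hPD _, hPD _, hnc _ _ hne, ?_⟩
    have hthird : P v * P (v + w) * P v = P (v + (2 : ZMod 3) • w) := by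
      rw [hP]; congr 1
      rw [two_smul]
      calc -v - (v + w) = -v - (v + w) + (v + v + v) + (w + w + w) := by rw [h3, h3, add_zero, add_zero]
        _ = v + (w + w) := by abel
    ext t
    constructor
    · rintro ⟨_, ⟨k, rfl⟩, rfl⟩
      have : ∀ k : ZMod 3, k = 0 ∨ k = 1 ∨ k = 2 := by decide
      rcases this k with rfl | rfl | rfl
      · exact Or.inl (by simp [f])
      · exact Or.inr (Or.inl (by simp [f]))
      · exact Or.inr (Or.inr hthird.symm)
    · rintro (h | h | h)
      · exact ⟨v, ⟨0, by simp⟩, Subtype.ext h.symm⟩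
      · exact ⟨v + w, ⟨1, by simp⟩, Subtype.ext h.symm⟩
      · exact ⟨_, ⟨2, rfl⟩, Subtype.ext (hthird.symm.trans h.symm)⟩
  · intro u v hn
    have : u ≠ v := fun e => hn (e ▸ Commute.refl _)
    exact ⟨_, ⟨u, v - u, sub_ne_zero.2 this.symm, rfl⟩, ⟨0, by simp⟩, ⟨1, by simp⟩⟩
  · have e1 : a * b * a = P (-![0, 0] - ![1, 0]) := by rw [← hP, h00, h10]
    have e2 : a * c * a = P (-![0, 0] - ![0, 1]) := by rw [← hP, h00, h01]
    rintro t ((h | h | h) | (h | h | h))
    · exact ⟨_, Subtype.ext (h00.trans h.symm)⟩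
    · exact ⟨_, Subtype.ext (h10.trans h.symm)⟩
    · exact ⟨_, Subtype.ext (e1.symm.trans h.symm)⟩
    · exact ⟨_, Subtype.ext (h00.trans h.symm)⟩
    · exact ⟨_, Subtype.ext (h01.trans h.symm)⟩
    · exact ⟨_, Subtype.ext (e2.symm.trans h.symm)⟩
  · rintro T hST hT _ ⟨w, rfl⟩
    have mk : ∀ u v, f u ∈ T → f v ∈ T → f (-u - v) ∈ T := fun u v hu hv => by
      rcases eq_or_ne u v with rfl | hne
      · rwa [show -u - u = u by
          calc -u - u = -u - u + (u + u + u) := by rw [h3, add_zero]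
            _ = u := by abel]
      · exact third_mem hset hconj hT hu hv (hnc u v hne) (hP u v).symm
    have g0 : f ![0, 0] ∈ T := hST (Or.inl (Or.inl h00))
    have g1 : f ![1, 0] ∈ T := hST (Or.inl (Or.inr (Or.inl h10)))
    have g2 : f ![0, 1] ∈ T := hST (Or.inr (Or.inr (Or.inl h01)))
    have key : ∀ w : Fin 2 → ZMod 3, w = ![0, 0] ∨ w = ![1, 0] ∨ w = ![0, 1] ∨ w = -![0, 0] - ![1, 0] ∨
        w = -![0, 0] - ![0, 1] ∨ w = -![1, 0] - ![0, 1] ∨ w = -![0, 0] - (-![1, 0] - ![0, 1]) ∨
        w = -![0, 1] - (-![0, 0] - ![1, 0]) ∨ w = -![1, 0] - (-![0, 0] - ![0, 1]) := by decide +kernel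
    rcases key w with rfl | rfl | rfl | rfl | rfl | rfl | rfl | rfl | rfl
    exacts [g0, g1, g2, mk _ _ g0 g1, mk _ _ g0 g2, mk _ _ g1 g2, mk _ _ g0 (mk _ _ g1 g2),
      mk _ _ g2 (mk _ _ g0 g1), mk _ _ g1 (mk _ _ g0 g2)]

theorem isFischerSpace : IsFischerSpace (threeTranspositionLines D) := by
  refine ⟨partialLinear hset hconj, fun l hl => line_card hset hconj hl, ?_⟩
  intro l hl m hm hlm ⟨p, hpl, hpm⟩
  have third : ∀ {k : Set D}, k ∈ threeTranspositionLines D → p ∈ k →
      ∃ y ∈ k, y ≠ p ∧ ¬ Commute (p : G) (y : G) ∧ k = line D p y := by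
    intro k hk hpk
    obtain ⟨u, v, hu, hv, hn, rfl⟩ := (mem_lines hset hconj).1 hk
    obtain ⟨y, hy, hyp⟩ : ∃ y ∈ line D u v, y ≠ p := by
      by_contra h
      push Not at h
      have := line_card hset hconj hk
      rw [show line D u v = {p} from Set.eq_singleton_iff_unique_mem.2 ⟨hpk, h⟩, Set.ncard_singleton] at this
      omega
    exact ⟨y, hy, hyp, line_eq hset hconj hu hv hn hpk hy hyp.symm⟩
  obtain ⟨b, hbl, hbp, hnb, rfl⟩ := third hl hpl
  obtain ⟨c, hcm, hcp, hnc, rfl⟩ := third hm hpm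
  by_cases hex : ∃ y ∈ line D (p : G) b, ∃ z ∈ line D (p : G) c, y ≠ p ∧ z ≠ p ∧ Commute (y : G) z
  · obtain ⟨y, hy, z, hz, hyp, hzp, hyz⟩ := hex
    obtain ⟨hny, ey⟩ := line_eq hset hconj p.2 b.2 hnb hpl hy hyp.symm
    obtain ⟨hnz, ez⟩ := line_eq hset hconj p.2 c.2 hnc hpm hz hzp.symm
    left
    rw [ey, ez]
    refine dual_case hset hconj p.2 y.2 z.2 hny hnz hyz fun e => hlm ?_
    rw [ey, ez, e]
  · push Not at hex
    right
    refine affine_case hset hconj p.2 b.2 c.2 hnb hnc (hex b hbl c hcm hbp hcp) ?_ ?_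
    · exact hex b hbl ⟨_, conj_mem hset hconj p.2 c.2⟩ (Or.inr (Or.inr rfl)) hbp
        fun e => not_commute_third hset p.2 hnc (by rw [show (p : G) * c * p = p from congrArg Subtype.val e])
    · intro h
      exact hex ⟨_, conj_mem hset hconj p.2 b.2⟩ (Or.inr (Or.inr rfl)) c hcm
        (fun e => not_commute_third hset p.2 hnb (by rw [show (p : G) * b * p = p from congrArg Subtype.val e])) hcp h.symm

end CfsgLib.Spor.FischerGroup
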