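/-
The reflections of a Fischer space.
-/
import Cfsg.Prelude.Def_FischerSpaces

set_option autoImplicit false

namespace CfsgLib.Spor.FischerRefl

open Cfsg Cfsg.LineSystem

variable {X : Type*} {L : Set (Set X)}

/-- `τ` behaves as the reflection in `p`. -/
def IsReflectionAt {Y : Type*} (M : Set (Set Y)) (p : Y) (τ : Equiv.Perm Y) : Prop :=
  IsIso M M τ ∧ τ p = p ∧
    (∀ a b : Y, a ≠ p → b ≠ p → a ≠ b → ({p, a, b} : Set Y) ∈ M → τ a = b) ∧
    ∀ a : Y, (∀ m ∈ M, p ∈ m → a ∉ m) → τ a = a

theorem iso_of_involutive {Y : Type*} {M : Set (Set Y)} {τ : Equiv.Perm Y} (hi : ∀ a, τ (τ a) = a)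
    (h : ∀ l ∈ M, τ '' l ∈ M) : IsIso M M τ := fun l => ⟨h l, fun h' => by
  have := h _ h'
  rwa [Set.image_image, show (fun a => τ (τ a)) = id from funext hi, Set.image_id] at this⟩

theorem dual_reflection (p : DualAffinePoint) : ∃ τ, IsReflectionAt dualAffinePlaneTwo p τ := by
  obtain ⟨i, j, hij, hp⟩ := Finset.card_eq_two.1 p.2
  let s := Equiv.swap i j
  let τ : Equiv.Perm DualAffinePoint :=
    { toFun := fun a => ⟨a.1.map s.toEmbedding, by rw [Finset.card_map]; exact a.2⟩
      invFun := fun a => ⟨a.1.map s.toEmbedding, by rw [Finset.card_map]; exact a.2⟩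
      left_inv := fun a => Subtype.ext (by ext x; simp [s])
      right_inv := fun a => Subtype.ext (by ext x; simp [s]) }
  have hmem : ∀ (a : DualAffinePoint) (x : Fin 4), x ∈ (τ a).1 ↔ s x ∈ a.1 := fun a x => by
    show x ∈ a.1.map s.toEmbedding ↔ _
    rw [Finset.mem_map_equiv]; simp [s]
  have hi : ∀ a, τ (τ a) = a := fun a => Subtype.ext (by ext x; rw [hmem, hmem]; simp [s])
  refine ⟨τ, iso_of_involutive hi ?_, ?_, ?_, ?_⟩
  · rintro _ ⟨k, rfl⟩
    refine ⟨s k, Set.ext fun a => ⟨?_, fun ha => ⟨τ a, ?_, hi a⟩⟩⟩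
    · rintro ⟨b, hb, rfl⟩
      show s k ∉ (τ b).1
      rw [hmem]; simpa [s] using hb
    · show k ∉ (τ a).1
      rw [hmem]; exact ha
  · refine Subtype.ext (Finset.ext fun x => ?_)
    rw [hmem, hp]
    simp only [Finset.mem_insert, Finset.mem_singleton, s, Equiv.swap_apply_def]
    split_ifs <;> simp_all
  · intro a b hap hbp hab hl
    obtain ⟨k, hk⟩ := hl
    have ha : k ∉ a.1 := hk.le (show a ∈ ({p, a, b} : Set DualAffinePoint) by simp)
    have hb : k ∉ b.1 := hk.le (show b ∈ ({p, a, b} : Set DualAffinePoint) by simp)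
    have hk' : k ∉ p.1 := hk.le (show p ∈ ({p, a, b} : Set DualAffinePoint) by simp)
    have key : ∀ (P A B : DualAffinePoint) (i j k : Fin 4), P.1 = {i, j} → i ≠ j → k ∉ P.1 → k ∉ A.1 → k ∉ B.1 →
        A ≠ P → B ≠ P → A ≠ B → A.1.image (Equiv.swap i j) = B.1 := by decide +kernel
    refine Subtype.ext ?_
    show a.1.map s.toEmbedding = b.1
    rw [Finset.map_eq_image]
    exact key p a b i j k hp hij hk' ha hb hap hbp hab
  · intro a h
    have h' : ∀ k : Fin 4, k ∉ p.1 → k ∈ a.1 := fun k hk => by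
      by_contra hka
      exact h {t | k ∉ t.1} ⟨k, rfl⟩ hk hka
    have key : ∀ (P A : DualAffinePoint) (i j : Fin 4), P.1 = {i, j} → (∀ k : Fin 4, k ∉ P.1 → k ∈ A.1) →
        A.1.image (Equiv.swap i j) = A.1 := by decide +kernel
    refine Subtype.ext ?_
    show a.1.map s.toEmbedding = a.1
    rw [Finset.map_eq_image]
    exact key p a i j hp h'

theorem affine_reflection (p : Fin 2 → ZMod 3) : ∃ τ, IsReflectionAt affinePlaneThree p τ := by
  have h3 : ∀ u : Fin 2 → ZMod 3, u + u + u = 0 := by decide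
  let τ : Equiv.Perm (Fin 2 → ZMod 3) :=
    { toFun := fun a => -a - p
      invFun := fun a => -a - p
      left_inv := fun a => by simp
      right_inv := fun a => by simp }
  have hi : ∀ a, τ (τ a) = a := fun a => show -(-a - p) - p = a by simp
  refine ⟨τ, iso_of_involutive hi ?_, ?_, ?_, ?_⟩
  · rintro _ ⟨v, w, hw, rfl⟩
    refine ⟨τ v, -w, neg_ne_zero.2 hw, Set.ext fun a => ⟨?_, ?_⟩⟩
    · rintro ⟨_, ⟨c, rfl⟩, rfl⟩
      exact ⟨c, show -(v + c • w) - p = -v - p + c • -w by rw [smul_neg]; abel⟩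
    · rintro ⟨c, rfl⟩
      exact ⟨v + c • w, ⟨c, rfl⟩, show -(v + c • w) - p = -v - p + c • -w by rw [smul_neg]; abel⟩
  · show -p - p = p
    have := h3 p
    calc -p - p = -p - p + (p + p + p) := by rw [this, add_zero]
      _ = p := by abel
  · intro a b hap hbp hab hl
    obtain ⟨v, w, hw, hk⟩ := hl
    obtain ⟨c1, e1⟩ := hk.le (show p ∈ ({p, a, b} : Set (Fin 2 → ZMod 3)) by simp)
    obtain ⟨c2, e2⟩ := hk.le (show a ∈ ({p, a, b} : Set (Fin 2 → ZMod 3)) by simp)
    obtain ⟨c3, e3⟩ := hk.le (show b ∈ ({p, a, b} : Set (Fin 2 → ZMod 3)) by simp)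
    have key : ∀ c1 c2 c3 : ZMod 3, c1 ≠ c2 → c1 ≠ c3 → c2 ≠ c3 → c1 + c2 + c3 = 0 := by decide
    have hs := key c1 c2 c3 (fun e => hap (by rw [e2, e1, e])) (fun e => hbp (by rw [e3, e1, e]))
      fun e => hab (by rw [e2, e3, e])
    show -a - p = b
    have hsum : p + a + b = 0 := by
      calc p + a + b = (v + v + v) + (c1 + c2 + c3) • w := by rw [e1, e2, e3, add_smul, add_smul]; abel
        _ = 0 := by rw [h3, hs, zero_smul, add_zero]
    calc -a - p = -a - p + (p + a + b) := by rw [hsum, add_zero]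
      _ = b := by abel
  · intro a h
    rcases eq_or_ne a p with rfl | hne
    · have := h3 a
      show -a - a = a
      calc -a - a = -a - a + (a + a + a) := by rw [this, add_zero]
        _ = a := by abel
    · exact absurd ⟨1, by simp⟩ (h {x | ∃ c : ZMod 3, x = p + c • (a - p)}
        ⟨p, a - p, sub_ne_zero.2 hne, rfl⟩ ⟨0, by simp⟩)

theorem three_points (hL : IsFischerSpace L) {l : Set X} (hl : l ∈ L) {x y : X} (hx : x ∈ l) (hy : y ∈ l)
    (hxy : x ≠ y) : ∃ z, z ≠ x ∧ z ≠ y ∧ l = {x, y, z} := by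
  obtain ⟨a, b, c, hab, hac, hbc, rfl⟩ := Set.ncard_eq_three.1 (hL.2.1 l hl)
  simp only [Set.mem_insert_iff, Set.mem_singleton_iff] at hx hy
  rcases hx with rfl | rfl | rfl <;> rcases hy with rfl | rfl | rfl
  · exact absurd rfl hxy
  · exact ⟨c, hac.symm, hbc.symm, rfl⟩
  · exact ⟨b, hab.symm, hbc, by rw [Set.pair_comm b]⟩
  · exact ⟨c, hbc.symm, hac.symm, by rw [Set.insert_comm]⟩
  · exact absurd rfl hxy
  · exact ⟨a, hab, hac, by ext t; simp; tauto⟩
  · exact ⟨b, hbc, hab.symm, by ext t; simp; tauto⟩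
  · exact ⟨a, hac, hab, by ext t; simp; tauto⟩
  · exact absurd rfl hxy

theorem lineMap_of_line (hL : IsFischerSpace L) {x y z : X} (hxy : x ≠ y) (hzx : z ≠ x) (hzy : z ≠ y)
    (h : ({x, y, z} : Set X) ∈ L) : lineMap L x y = z := by
  have hex : ∃ w, w ≠ x ∧ w ≠ y ∧ x ≠ y ∧ ({x, y, w} : Set X) ∈ L := ⟨z, hzx, hzy, hxy, h⟩
  rw [lineMap, dif_pos hex]
  obtain ⟨h1, h2, -, h4⟩ := hex.choose_spec
  have e := hL.1 _ h _ h4 x y hxy (by simp) (by simp) (by simp) (by simp)
  have := e.ge (show hex.choose ∈ ({x, y, hex.choose} : Set X) by simp)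
  simp only [Set.mem_insert_iff, Set.mem_singleton_iff] at this
  exact (this.resolve_left h1).resolve_left h2

theorem lineMap_fix (hL : IsFischerSpace L) {x y : X} (h : ∀ l ∈ L, x ∈ l → y ∉ l) : lineMap L x y = y := by
  rw [lineMap, dif_neg]
  rintro ⟨w, -, -, -, hl⟩
  exact h _ hl (by simp) (by simp)

theorem lineMap_self {x : X} : lineMap L x x = x := by
  rw [lineMap, dif_neg]
  rintro ⟨w, -, -, h, -⟩
  exact h rfl

theorem collinear_or (hL : IsFischerSpace L) (x y : X) : lineMap L x y = y ∨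
    ∃ z, z ≠ x ∧ z ≠ y ∧ x ≠ y ∧ ({x, y, z} : Set X) ∈ L ∧ lineMap L x y = z := by
  by_cases hxy : x = y
  · exact Or.inl (hxy ▸ lineMap_self)
  by_cases h : ∃ l ∈ L, x ∈ l ∧ y ∈ l
  · obtain ⟨l, hl, hx, hy⟩ := h
    obtain ⟨z, h1, h2, rfl⟩ := three_points hL hl hx hy hxy
    exact Or.inr ⟨z, h1, h2, hxy, hl, lineMap_of_line hL hxy h1 h2 hl⟩
  · push Not at h
    exact Or.inl (lineMap_fix hL h)

theorem lineMap_involutive (hL : IsFischerSpace L) (x y : X) : lineMap L x (lineMap L x y) = y := by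
  rcases collinear_or hL x y with e | ⟨z, h1, h2, h3, hl, e⟩
  · rw [e, e]
  · rw [e]
    exact lineMap_of_line hL h1.symm h3.symm h2.symm (by rwa [Set.pair_comm])

theorem isSubspace_span (S : Set X) : IsSubspace L (span L S) := by
  intro l hl a ha b hb hab hal hbl c hc T hT
  exact hT.2 l hl a (ha T hT) b (hb T hT) hab hal hbl hc

theorem lineMap_line (hL : IsFischerSpace L) (x : X) {l : Set X} (hl : l ∈ L) : lineMap L x '' l ∈ L := by
  by_cases hxl : x ∈ l
  · -- lines through x are fixed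
    obtain ⟨y, hy, hyx⟩ : ∃ y ∈ l, y ≠ x := by
      by_contra h
      push Not at h
      have := hL.2.1 l hl
      rw [show l = {x} from Set.eq_singleton_iff_unique_mem.2 ⟨hxl, h⟩, Set.ncard_singleton] at this
      omega
    obtain ⟨z, h1, h2, rfl⟩ := three_points hL hl hxl hy hyx.symm
    convert hl using 1
    rw [Set.image_insert_eq, Set.image_pair, lineMap_self, lineMap_of_line hL hyx.symm h1 h2 hl,
      lineMap_of_line hL h1.symm hyx h2.symm (by rwa [Set.pair_comm]), Set.pair_comm]
  by_cases hc : ∃ y ∈ l, ∃ m ∈ L, x ∈ m ∧ y ∈ m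
  · obtain ⟨y, hyl, m, hm, hxm, hym⟩ := hc
    set S := span L (l ∪ m)
    have hlS : l ⊆ S := fun a ha T hT => hT.1 (Or.inl ha)
    have hxS : x ∈ S := fun T hT => hT.1 (Or.inr hxm)
    have hne : l ≠ m := fun e => hxl (e ▸ hxm)
    have hmodel : ∃ τ : Equiv.Perm S, IsReflectionAt (restrict L S) ⟨x, hxS⟩ τ := by
      rcases hL.2.2 l hl m hm hne ⟨y, hyl, hym⟩ with ⟨e, he⟩ | ⟨e, he⟩
      · obtain ⟨τ, h1, h2, h3, h4⟩ := dual_reflection (e ⟨x, hxS⟩)
        refine ⟨(e.trans τ).trans e.symm, ?_, ?_, ?_, ?_⟩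
        · intro k
          rw [he k, h1, he, show e '' (((e.trans τ).trans e.symm) '' k) = τ '' (e '' k) by
            rw [Set.image_image, Set.image_image]; simp]
        · simp [h2]
        · intro a b ha hb hab hline
          have := h3 (e a) (e b) (by simpa using ha) (by simpa using hb) (by simpa using hab) (by
            have := (he _).1 hline
            rwa [Set.image_insert_eq, Set.image_pair] at this)
          simp [this]
        · intro a ha
          have := h4 (e a) fun k hk hpk hak => ha (e.symm '' k) ((he _).2 (by simpa [Set.image_image] using hk))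
            ⟨_, hpk, e.symm_apply_apply _⟩ ⟨_, hak, e.symm_apply_apply _⟩
          simp [this]
      · obtain ⟨τ, h1, h2, h3, h4⟩ := affine_reflection (e ⟨x, hxS⟩)
        refine ⟨(e.trans τ).trans e.symm, ?_, ?_, ?_, ?_⟩
        · intro k
          rw [he k, h1, he, show e '' (((e.trans τ).trans e.symm) '' k) = τ '' (e '' k) by
            rw [Set.image_image, Set.image_image]; simp]
        · simp [h2]
        · intro a b ha hb hab hline
          have := h3 (e a) (e b) (by simpa using ha) (by simpa using hb) (by simpa using hab) (by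
            have := (he _).1 hline
            rwa [Set.image_insert_eq, Set.image_pair] at this)
          simp [this]
        · intro a ha
          have := h4 (e a) fun k hk hpk hak => ha (e.symm '' k) ((he _).2 (by simpa [Set.image_image] using hk))
            ⟨_, hpk, e.symm_apply_apply _⟩ ⟨_, hak, e.symm_apply_apply _⟩
          simp [this]
    obtain ⟨τ, h1, h2, h3, h4⟩ := hmodel
    have hagree : ∀ a : S, ((τ a : S) : X) = lineMap L x a := by
      intro a
      rcases collinear_or hL x (a : X) with e | ⟨c, c1, c2, c3, hline, e⟩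
      · rw [e]
        rcases eq_or_ne a ⟨x, hxS⟩ with rfl | hne'
        · rw [h2]
        refine congrArg Subtype.val (h4 a fun k hk hpk hak => ?_)
        obtain ⟨k', hk', -, rfl⟩ := hk
        obtain ⟨c, c1, c2, rfl⟩ := three_points hL hk' hpk hak fun e' => hne' (Subtype.ext e'.symm)
        exact c2 ((lineMap_of_line hL (fun e' => hne' (Subtype.ext e'.symm)) c1 c2 hk').symm.trans e)
      · have hsub := isSubspace_span (l ∪ m) _ hline x hxS a a.2 c3 (by simp) (by simp)
        have hcS : c ∈ S := hsub (by simp)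
        have := h3 a ⟨c, hcS⟩ (fun e' => c3 (congrArg Subtype.val e').symm)
          (fun e' => c1 (congrArg Subtype.val e')) (fun e' => c2 (congrArg Subtype.val e').symm)
          ⟨_, hline, hsub, by ext t; simp [Subtype.ext_iff]⟩
        rw [e, this]
    obtain ⟨k, hk, hkS, hkeq⟩ := (h1 _).1 ⟨l, hl, hlS, rfl⟩
    convert hk using 1
    ext t
    constructor
    · rintro ⟨a, ha, rfl⟩
      have : (τ ⟨a, hlS ha⟩ : S) ∈ τ '' {s : S | (s : X) ∈ l} := ⟨_, ha, rfl⟩
      rw [hkeq] at this
      exact hagree ⟨a, hlS ha⟩ ▸ this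
    · intro ht
      obtain ⟨a, ha, hat⟩ := hkeq.ge (show (⟨t, hkS ht⟩ : S) ∈ {s : S | (s : X) ∈ k} from ht)
      exact ⟨a, ha, by rw [← hagree, hat]⟩
  · push Not at hc
    convert hl using 1
    refine Set.ext fun t => ⟨?_, fun ht => ⟨t, ht, lineMap_fix hL fun m hm hxm => hc t ht m hm hxm⟩⟩
    rintro ⟨a, ha, rfl⟩
    rw [lineMap_fix hL fun m hm hxm => hc a ha m hm hxm]
    exact ha

/-- The reflection in a point. -/
noncomputable def refl (hL : IsFischerSpace L) (x : X) : Equiv.Perm X :=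
  ⟨lineMap L x, lineMap L x, lineMap_involutive hL x, lineMap_involutive hL x⟩

theorem refl_iso (hL : IsFischerSpace L) (x : X) : IsIso L L (refl hL x) :=
  iso_of_involutive (lineMap_involutive hL x) fun _ hl => lineMap_line hL x hl

theorem refl_conj (hL : IsFischerSpace L) (x y : X) :
    refl hL x * refl hL y * refl hL x = refl hL (lineMap L x y) := by
  ext a
  show lineMap L x (lineMap L y (lineMap L x a)) = lineMap L (lineMap L x y) a
  set σ := lineMap L x
  have hi : ∀ t, σ (σ t) = t := lineMap_involutive hL x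
  rcases collinear_or hL y (σ a) with e | ⟨c, c1, c2, c3, hline, e⟩
  · rw [e, hi]
    symm
    rcases collinear_or hL (σ y) a with e' | ⟨c, d1, d2, d3, hline, e'⟩
    · exact e'
    · exfalso
      have h := lineMap_line hL x hline
      rw [Set.image_insert_eq, Set.image_pair] at h
      change ({σ (σ y), σ a, σ c} : Set X) ∈ L at h
      rw [hi] at h
      have h' := lineMap_of_line hL (x := y) (y := σ a) (z := σ c) (fun q => d3 (by rw [q, hi]))
        (fun q => d1 (by rw [← q, hi])) (fun q => d2 (by rw [← hi c, q, hi])) h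
      rw [e] at h'
      exact d2 (by rw [← hi c, ← h', hi])
  · rw [e]
    have h := lineMap_line hL x hline
    rw [Set.image_insert_eq, Set.image_pair] at h
    change ({σ y, σ (σ a), σ c} : Set X) ∈ L at h
    rw [hi] at h
    exact (lineMap_of_line hL (fun q => c3 (by rw [← hi y]; exact congrArg σ q))
      (fun q => c1 (by rw [← hi c, ← hi y]; exact congrArg σ q))
      (fun q => c2 (by rw [← hi c]; exact congrArg σ q)) h).symm

theorem main (hL : IsFischerSpace L) (hnd : IsNondegenerate L) :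
    (∀ x : X, ∃ σ : Equiv.Perm X, ⇑σ = lineMap L x ∧ orderOf σ = 2 ∧ IsIso L L σ) ∧
      IsThreeTranspositionSet {σ : Equiv.Perm X | ∃ x : X, ⇑σ = lineMap L x} := by
  have hord : ∀ x, orderOf (refl hL x) = 2 := fun x => by
    refine orderOf_eq_prime (Equiv.ext fun a => ?_) fun e => ?_
    · rw [pow_two]; exact lineMap_involutive hL x a
    · obtain ⟨l, hl, hx⟩ := hnd x
      obtain ⟨y, hy, hyx⟩ : ∃ y ∈ l, y ≠ x := by
        by_contra h
        push Not at h
        have := hL.2.1 l hl
        rw [show l = {x} from Set.eq_singleton_iff_unique_mem.2 ⟨hx, h⟩, Set.ncard_singleton] at this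
        omega
      obtain ⟨z, h1, h2, rfl⟩ := three_points hL hl hx hy hyx.symm
      have : lineMap L x y = y := Equiv.ext_iff.1 e y
      rw [lineMap_of_line hL hyx.symm h1 h2 hl] at this
      exact h2 this
  refine ⟨fun x => ⟨refl hL x, rfl, hord x, refl_iso hL x⟩, ?_, ?_⟩
  · rintro σ ⟨x, hx⟩
    rw [show σ = refl hL x from Equiv.ext (congrFun hx)]
    exact hord x
  · rintro σ ⟨x, hx⟩ ρ ⟨y, hy⟩
    rw [show σ = refl hL x from Equiv.ext (congrFun hx), show ρ = refl hL y from Equiv.ext (congrFun hy)]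
    have hsq : ∀ w, refl hL w * refl hL w = 1 := fun w => Equiv.ext (lineMap_involutive hL w)
    rcases collinear_or hL x y with e | ⟨z, h1, h2, h3, hline, e⟩
    · left
      have := refl_conj hL x y
      rw [e] at this
      rw [pow_two, ← mul_assoc, this, hsq]
    · right
      have hxy := refl_conj hL x y
      rw [e] at hxy
      have hyx := refl_conj hL y x
      rw [lineMap_of_line hL h3.symm h2 h1 (by rwa [Set.insert_comm])] at hyx
      calc (refl hL x * refl hL y) ^ 3
          = (refl hL x * refl hL y * refl hL x) * (refl hL y * refl hL x * refl hL y) := by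
            simp only [pow_succ, pow_zero, one_mul, mul_assoc]
        _ = 1 := by rw [hxy, hyx, hsq]

end CfsgLib.Spor.FischerRefl
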