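/-
Involutions fixing one coset.
-/
import Cfsg.Prelude.Def_SporadicB

set_option autoImplicit false

namespace CfsgLib.Spor.FixedCoset

open Subgroup MulAction

variable {G : Type*} [Group G] [Finite G]

theorem smul_mk_eq_iff (H : Subgroup G) (x g : G) :
    x • (QuotientGroup.mk g : G ⧸ H) = QuotientGroup.mk g ↔ g⁻¹ * x * g ∈ H := by
  rw [MulAction.Quotient.smul_mk, eq_comm, QuotientGroup.eq, smul_eq_mul, mul_assoc]

theorem equivalences (I : Set G) (hIc : ∀ g : G, ∀ x ∈ I, g * x * g⁻¹ ∈ I) (H : Subgroup G) :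
    ((∀ x ∈ I, x ∈ H → (∀ g : G, g * x * g⁻¹ ∈ H → ∃ h ∈ H, h * x * h⁻¹ = g * x * g⁻¹) ∧
        centralizer ({x} : Set G) ≤ H) ↔
      (∀ g : G, g ∉ H → ∀ x ∈ I, ¬ (x ∈ H ∧ x ∈ (H : Subgroup G).map (MulAut.conj g).toMonoidHom))) ∧
    ((∀ g : G, g ∉ H → ∀ x ∈ I, ¬ (x ∈ H ∧ x ∈ (H : Subgroup G).map (MulAut.conj g).toMonoidHom)) ↔
      ∀ x ∈ I, x ∈ H → ∃! c : G ⧸ H, x • c = c) := by
  have hmem : ∀ g x : G, x ∈ H.map (MulAut.conj g).toMonoidHom ↔ g⁻¹ * x * g ∈ H := fun g x => by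
    rw [Subgroup.mem_map_equiv]; simp
  simp only [hmem]
  refine ⟨⟨fun h g hg x hx ⟨hxH, hgx⟩ => ?_, fun h x hx hxH => ⟨fun g hg => ?_, fun g hg => ?_⟩⟩,
    ⟨fun h x hx hxH => ⟨QuotientGroup.mk 1, ?_, fun c => ?_⟩, fun h g hg x hx ⟨hxH, hgx⟩ => ?_⟩⟩
  · obtain ⟨h1, h2⟩ := h x hx hxH
    obtain ⟨u, hu, e⟩ := h1 g⁻¹ (by simpa using hgx)
    have : g * u ∈ H := h2 (mem_centralizer_singleton_iff.2 (by
      calc g * u * x = g * (u * x * u⁻¹) * u := by group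
        _ = g * (g⁻¹ * x * g⁻¹⁻¹) * u := by rw [e]
        _ = x * (g * u) := by group))
    exact hg (by simpa using mul_mem this (inv_mem hu))
  · by_cases hgH : g ∈ H
    · exact ⟨g, hgH, rfl⟩
    · refine absurd ⟨hg, ?_⟩ (h g hgH (g * x * g⁻¹) (hIc g x hx))
      simpa [mul_assoc] using hxH
  · by_contra hgH
    refine h g hgH x hx ⟨hxH, ?_⟩
    rw [mul_assoc, ← mem_centralizer_singleton_iff.1 hg]
    simpa using hxH
  · exact (smul_mk_eq_iff H x 1).2 (by simpa using hxH)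
  · induction c using QuotientGroup.induction_on with
    | H g =>
      intro hc
      refine (QuotientGroup.eq.2 ?_).symm
      by_contra hgH
      exact h g (fun h' => hgH (by simpa using h')) x hx ⟨hxH, (smul_mk_eq_iff H x g).1 hc⟩
  · have e := (h x hx hxH).unique ((smul_mk_eq_iff H x 1).2 (by simpa using hxH))
      ((smul_mk_eq_iff H x g).2 hgx)
    exact hg (by simpa using QuotientGroup.eq.1 e)

/-- A subgroup containing the only fixed point of a `2`-central involution controls `2`-fusion. -/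
theorem two_fusion (z : G) (hz : Cfsg.IsTwoCentralInvolution z) (H : Subgroup G) (hzH : z ∈ H)
    (hfix : ∀ g : G, g⁻¹ * z * g ∈ H → g ∈ H) :
    Odd H.index ∧ ∀ x ∈ H, (∃ k : ℕ, orderOf x = 2 ^ k) →
      ∀ g : G, g * x * g⁻¹ ∈ H → ∃ h ∈ H, h * x * h⁻¹ = g * x * g⁻¹ := by
  haveI : Fact (Nat.Prime 2) := ⟨Nat.prime_two⟩
  obtain ⟨hzord, P, hzP, hPz⟩ := hz
  have hPH : (P : Subgroup G) ≤ H := fun g hg => hfix g (by
    rw [mul_assoc, ← hPz g hg]; simpa using hzH)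
  -- a 2-group containing z lies in H
  have h2 : ∀ S : Subgroup G, IsPGroup 2 S → z ∈ S → S ≤ H := by
    intro S hS hzS
    haveI : Group.IsNilpotent S := hS.isNilpotent
    have key : H.subgroupOf S = ⊤ := by
      refine normalizerCondition_iff_only_full_group_self_normalizing.1 Group.normalizerCondition_of_isNilpotent _ ?_
      refine le_antisymm (fun s hs => ?_) Subgroup.le_normalizer
      rw [Subgroup.mem_subgroupOf]
      refine hfix _ ?_
      have := (mem_normalizer_iff'.1 hs (s⁻¹ * ⟨z, hzS⟩)).2 (by simpa [Subgroup.mem_subgroupOf] using hzH)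
      simpa [Subgroup.mem_subgroupOf, mul_assoc] using this
    exact Subgroup.subgroupOf_eq_top.1 key
  refine ⟨Nat.odd_iff.2 ?_, ?_⟩
  · have h := P.not_dvd_index
    have hd := Subgroup.index_dvd_of_le hPH
    by_contra hne
    exact h (dvd_trans (Nat.dvd_of_mod_eq_zero (by omega)) hd)
  -- conjugate any 2-element of H into P
  have hsyl : ∀ x ∈ H, (∃ k : ℕ, orderOf x = 2 ^ k) → ∃ h ∈ H, h * x * h⁻¹ ∈ (P : Subgroup G) := by
    intro x hx ⟨k, hk⟩
    have hp : IsPGroup 2 (zpowers (⟨x, hx⟩ : H)) :=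
      IsPGroup.of_card (n := k) (by rw [Nat.card_zpowers, ← Subgroup.orderOf_coe, hk])
    obtain ⟨T, hT⟩ := hp.exists_le_sylow
    obtain ⟨h, e⟩ := MulAction.exists_smul_eq H T (P.subtype hPH)
    refine ⟨h, h.2, ?_⟩
    have : h * ⟨x, hx⟩ * h⁻¹ ∈ ((h • T : Sylow 2 H) : Subgroup H) :=
      ⟨⟨x, hx⟩, hT (mem_zpowers _), rfl⟩
    rw [e, Sylow.coe_subtype, Subgroup.mem_subgroupOf] at this
    exact this
  intro x hx hk g hgx
  obtain ⟨a, ha, hax⟩ := hsyl x hx hk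
  obtain ⟨b, hb, hby⟩ := hsyl (g * x * g⁻¹) hgx (hk.imp fun k hk => by
    rw [show g * x * g⁻¹ = MulAut.conj g x from rfl, MulEquiv.orderOf_eq, hk])
  set x' := a * x * a⁻¹ with hx'
  set y' := b * (g * x * g⁻¹) * b⁻¹ with hy'
  set u := b * g * a⁻¹ with hu
  have hxy : u * x' * u⁻¹ = y' := by rw [hu, hx', hy']; group
  suffices h : ∃ h ∈ H, h * x' * h⁻¹ = y' by
    obtain ⟨h, hh, e⟩ := h
    refine ⟨b⁻¹ * h * a, mul_mem (mul_mem (inv_mem hb) hh) ha, ?_⟩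
    calc b⁻¹ * h * a * x * (b⁻¹ * h * a)⁻¹ = b⁻¹ * (h * x' * h⁻¹) * b := by rw [hx']; group
      _ = g * x * g⁻¹ := by rw [e, hy']; group
  set C := centralizer ({y'} : Set G) with hC
  have hzC : z ∈ C := mem_centralizer_singleton_iff.2 (hPz y' hby).symm
  have hzC' : u * z * u⁻¹ ∈ C := mem_centralizer_singleton_iff.2 (by
    rw [← hxy]
    calc u * z * u⁻¹ * (u * x' * u⁻¹) = u * (z * x') * u⁻¹ := by group
      _ = u * (x' * z) * u⁻¹ := by rw [hPz x' hax]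
      _ = u * x' * u⁻¹ * (u * z * u⁻¹) := by group)
  have hsub : ∀ w : C, orderOf (w : G) = 2 → ∃ S : Sylow 2 C, w ∈ (S : Subgroup C) := fun w hw => by
    obtain ⟨S, hS⟩ := (IsPGroup.of_card (p := 2) (n := 1) (G := zpowers w)
      (by rw [Nat.card_zpowers, ← Subgroup.orderOf_coe, hw, pow_one])).exists_le_sylow
    exact ⟨S, hS (mem_zpowers w)⟩
  have hz2 : orderOf z = 2 := hzord
  obtain ⟨S, hS⟩ := hsub ⟨z, hzC⟩ hz2
  obtain ⟨S', hS'⟩ := hsub ⟨_, hzC'⟩ (by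
    show orderOf (MulAut.conj u z) = 2
    rw [MulEquiv.orderOf_eq, hz2])
  obtain ⟨c, rfl⟩ := MulAction.exists_smul_eq C S S'
  set T := ((S : Subgroup C).map C.subtype).map (MulAut.conj (u⁻¹ * (c : G))).toMonoidHom with hT
  have hzT : z ∈ T := by
    obtain ⟨w, hw, e⟩ := hS'
    refine ⟨w, ⟨w, hw, rfl⟩, ?_⟩
    show u⁻¹ * c * w * (u⁻¹ * c)⁻¹ = z
    have : (c : G) * w * (c : G)⁻¹ = u * z * u⁻¹ := congrArg Subtype.val e
    calc u⁻¹ * c * w * (u⁻¹ * c)⁻¹ = u⁻¹ * ((c : G) * w * (c : G)⁻¹) * u := by group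
      _ = z := by rw [this]; group
  have hTH : T ≤ H := h2 T ((S.isPGroup'.map _).map _) hzT
  have hmem : u⁻¹ * c * z * (u⁻¹ * c)⁻¹ ∈ H := hTH ⟨z, ⟨⟨z, hzC⟩, hS, rfl⟩, rfl⟩
  have huc : (u⁻¹ * c)⁻¹ ∈ H := hfix _ (by simpa using hmem)
  refine ⟨(u⁻¹ * c)⁻¹, huc, ?_⟩
  have hcy : y' * (c : G) = c * y' := (mem_centralizer_singleton_iff.1 c.2).symm
  calc (u⁻¹ * (c : G))⁻¹ * x' * (u⁻¹ * c)⁻¹⁻¹ = (c : G)⁻¹ * (u * x' * u⁻¹) * c := by group
    _ = y' := by rw [hxy, mul_assoc, hcy, ← mul_assoc, inv_mul_cancel, one_mul]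

theorem eq_top (I J : Set G) (a₀ b₀ : G) (ha₀ : orderOf a₀ = 2) (hb₀ : orderOf b₀ = 2)
    (hI : I = {x | IsConj a₀ x}) (hJ : J = {x | IsConj b₀ x}) (hIJ : I ≠ J) (H : Subgroup G)
    (hfix : ∀ x ∈ I ∪ J, ∃! c : G ⧸ H, x • c = c)
    (hcent : ∀ a ∈ I, a ∈ H → ∀ b ∈ I ∪ J, b ∈ H → a ≠ b → a * b = b * a →
      centralizer ({a * b} : Set G) ≤ H) : H = ⊤ := by
  subst hI hJ
  have hnc : ¬ IsConj a₀ b₀ := fun h => hIJ (Set.ext fun x => ⟨fun hx => h.symm.trans hx, fun hx => h.trans hx⟩)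
  obtain ⟨c, hc, -⟩ := hfix a₀ (Or.inl (IsConj.refl a₀))
  induction c using QuotientGroup.induction_on with | H g => ?_
  obtain ⟨a, hadef⟩ : ∃ a, a = g⁻¹ * a₀ * g := ⟨_, rfl⟩
  have haH : a ∈ H := hadef ▸ (smul_mk_eq_iff H a₀ g).1 hc
  have haI : IsConj a₀ a := isConj_iff.2 ⟨g⁻¹, by rw [hadef, inv_inv]⟩
  have hconj2 : ∀ {x y : G}, IsConj x y → orderOf x = 2 → orderOf y = 2 := fun h hx => by
    obtain ⟨k, rfl⟩ := isConj_iff.1 h
    rw [show k * _ * k⁻¹ = MulAut.conj k _ from rfl, MulEquiv.orderOf_eq, hx]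
  have hsq : ∀ {x : G}, orderOf x = 2 → x * x = 1 := fun h => by rw [← pow_two, ← h, pow_orderOf_eq_one]
  have hCa : ∀ w, w * a = a * w → w ∈ H := fun w hw => by
    have hfixw : a • (QuotientGroup.mk w : G ⧸ H) = QuotientGroup.mk w :=
      (smul_mk_eq_iff H a w).2 (by rw [mul_assoc, ← hw]; simpa using haH)
    have e := (hfix a (Or.inl haI)).unique hfixw ((smul_mk_eq_iff H a 1).2 (by simpa using haH))
    simpa using QuotientGroup.eq.1 e
  have hJH : ∀ b, IsConj b₀ b → b ∈ H := by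
    intro b hb
    have a2 := hconj2 haI ha₀
    have b2 := hconj2 hb hb₀
    have ai : a⁻¹ = a := inv_eq_of_mul_eq_one_right (hsq a2)
    have bi : b⁻¹ = b := inv_eq_of_mul_eq_one_right (hsq b2)
    set r := a * b with hr
    have har : a * r = b := by rw [hr, ← mul_assoc, hsq a2, one_mul]
    have hinv : a * r * a⁻¹ = r⁻¹ := by
      rw [har, hr, mul_inv_rev, ai, bi]
    have hinvz : ∀ k : ℤ, a * r ^ k = r ^ (-k) * a := fun k => by
      rw [← mul_inv_eq_iff_eq_mul, ← conj_zpow, hinv, zpow_neg, inv_zpow]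
    have hcj : ∀ j k : ℤ, r ^ j * (a * r ^ k) * (r ^ j)⁻¹ = a * r ^ (k - 2 * j) := fun j k => by
      rw [← mul_assoc (r ^ j), show r ^ j * a = a * r ^ (-j) by rw [hinvz, neg_neg], mul_assoc a, mul_assoc a,
        ← zpow_neg, ← zpow_add, ← zpow_add]
      congr 2; omega
    obtain ⟨m, hm⟩ : Even (orderOf r) := by
      by_contra hodd
      obtain ⟨m, hm⟩ := Nat.not_even_iff_odd.1 hodd
      refine hnc (haI.trans (IsConj.trans (isConj_iff.2 ⟨r ^ (m : ℤ), ?_⟩) hb.symm))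
      have := hcj m 0
      rw [zpow_zero, mul_one] at this
      rw [this, ← har]
      congr 1
      rw [show (0 : ℤ) - 2 * m = 1 + -((orderOf r : ℕ) : ℤ) by omega, zpow_add, zpow_one, zpow_neg,
        zpow_natCast, pow_orderOf_eq_one, inv_one, mul_one]
    have hm0 : 0 < m := by have := orderOf_pos r; omega
    set w := r ^ (m : ℤ) with hw
    have hw1 : w ≠ 1 := fun e => by
      rw [hw, zpow_natCast] at e
      have := Nat.le_of_dvd hm0 (orderOf_dvd_of_pow_eq_one e); omega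
    have hwinv : r ^ (-(m : ℤ)) = w := by
      rw [hw, zpow_neg, inv_eq_iff_mul_eq_one, ← zpow_add, show (m : ℤ) + m = ((orderOf r : ℕ) : ℤ) by omega,
        zpow_natCast, pow_orderOf_eq_one]
    have hwa : a * w = w * a := by rw [hw, hinvz, hwinv]
    have hwH : w ∈ H := hCa w hwa.symm
    have hIu : a * w ∈ {x | IsConj a₀ x} ∪ {x | IsConj b₀ x} := by
      rcases Nat.even_or_odd m with ⟨j, hj⟩ | ⟨j, hj⟩
      · refine Or.inl (haI.trans (isConj_iff.2 ⟨r ^ (-(j : ℤ)), ?_⟩))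
        have := hcj (-(j : ℤ)) 0
        rw [zpow_zero, mul_one] at this
        rw [this, hw]; congr 2; omega
      · refine Or.inr (hb.trans (isConj_iff.2 ⟨r ^ (-(j : ℤ)), ?_⟩))
        have := hcj (-(j : ℤ)) 1
        rw [zpow_one, har] at this
        rw [this, hw]; congr 2; omega
    have hne : a ≠ a * w := fun e => hw1 (mul_eq_left.1 e.symm)
    refine hcent a haI haH (a * w) hIu (mul_mem haH hwH) hne (by rw [mul_assoc a w a, ← hwa]) ?_
    refine mem_centralizer_singleton_iff.2 ?_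
    rw [show a * (a * w) = w by rw [← mul_assoc, hsq a2, one_mul]]
    have hbr : b = a * r ^ (1 : ℤ) := by rw [zpow_one, har]
    rw [hbr, mul_assoc, hw, ← zpow_add, ← mul_assoc, ← hw, ← hwa, hw, mul_assoc, ← zpow_add, add_comm]
  rw [eq_top_iff]
  intro k _
  have e1 : b₀ • (QuotientGroup.mk k : G ⧸ H) = QuotientGroup.mk k :=
    (smul_mk_eq_iff H b₀ k).2 (hJH _ (isConj_iff.2 ⟨k⁻¹, by rw [inv_inv]⟩))
  have e2 : b₀ • (QuotientGroup.mk 1 : G ⧸ H) = QuotientGroup.mk 1 :=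
    (smul_mk_eq_iff H b₀ 1).2 (by simpa using hJH b₀ (IsConj.refl b₀))
  simpa using QuotientGroup.eq.1 ((hfix b₀ (Or.inr (IsConj.refl b₀))).unique e2 e1)

end CfsgLib.Spor.FixedCoset
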