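/-
Fixed octads, dodecads, sextets and trios of elements of order two and three of `Cfsg.M24`.
-/
import Cfsg.Agent.Lib.Spor.ElementClasses
import Cfsg.Agent.Lib.Spor.StabOrbits

namespace CfsgLib.Spor

open Cfsg
open scoped Pointwise

theorem rep_test {reps : List ℕ} {x : Equiv.Perm GolayPt}
    (hx : ∃ r ∈ reps, ∃ k ∈ M24, k * x * k⁻¹ = permOf r) {n : ℕ} (hn : (fixSet x).card = n) (test : ℕ → Bool)
    (ht : reps.all (fun r => isM24Code r && ((pop 24 (fixMaskOf r) != n) || test r)) = true) :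
    ∃ r, isPermCode r = true ∧ test r = true ∧ ∃ k ∈ M24, k * x * k⁻¹ = permOf r := by
  obtain ⟨r, hr, k, hk, e⟩ := hx
  have hb := List.all_eq_true.1 ht r hr
  simp only [Bool.and_eq_true, Bool.or_eq_true, bne_iff_ne] at hb
  have hp := isPermCode_of_isM24Code hb.1
  refine ⟨r, hp, hb.2.resolve_left (fun h => h ?_), k, hk, e⟩
  rw [← card_pts, ← fixSet_permOf hp, ← e, card_fixSet_conj, hn]

/-- A sound count of the fixed sextets. -/
def fixSextets (c : ℕ) : Option ℕ :=
  if tabCheck c (packTab c) && (List.range sextetStabOrb.lens.sum).all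
      (fun i => famOk 6 (famAct 6 (packTab c) (arrGet sextetStabOrb.w sextetStabOrb.V i))) then
    some (fixFams 6 sextetStabOrb.w sextetStabOrb.V sextetStabOrb.lens.sum c) else none

/-- A sound count of the fixed trios. -/
def fixTrios (c : ℕ) : Option ℕ :=
  if tabCheck c (packTab c) && (List.range trioStabOrb.lens.sum).all
      (fun i => famOk 3 (famAct 3 (packTab c) (arrGet trioStabOrb.w trioStabOrb.V i))) then
    some (fixFams 3 trioStabOrb.w trioStabOrb.V trioStabOrb.lens.sum c) else none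

theorem sextetStabOrb_ok :
    famAllOk 6 sextetStabOrb.w sextetStabOrb.V sextetStabOrb.lens.sum = true := by decide +kernel

theorem trioStabOrb_ok :
    famAllOk 3 trioStabOrb.w trioStabOrb.V trioStabOrb.lens.sum = true := by decide +kernel

theorem ncard_fixed_sextets {x k : Equiv.Perm GolayPt} (hk : k ∈ M24) {r : ℕ} (e : k * x * k⁻¹ = permOf r)
    {n : ℕ} (h : fixSextets r = some n) : {S | S ∈ sextets ∧ x • S = S}.ncard = n := by
  rw [← ncard_fixed_conj (fun g hg y hy => smul_mem_sextets hg hy) hk x, e]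
  rw [fixSextets] at h
  split at h
  · next hc =>
    rw [Bool.and_eq_true] at hc
    rw [ncard_fixed_fams sextetStabOrb sextetStabOrb_all sextetStabOrb_ok hc.1 hc.2, Option.some.inj h]
  · exact absurd h (by simp)

theorem ncard_fixed_trios {x k : Equiv.Perm GolayPt} (hk : k ∈ M24) {r : ℕ} (e : k * x * k⁻¹ = permOf r)
    {n : ℕ} (h : fixTrios r = some n) : {T | T ∈ trios ∧ x • T = T}.ncard = n := by
  rw [← ncard_fixed_conj (fun g hg y hy => smul_mem_trios hg hy) hk x, e]
  rw [fixTrios] at h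
  split at h
  · next hc =>
    rw [Bool.and_eq_true] at hc
    rw [ncard_fixed_fams trioStabOrb trioStabOrb_all trioStabOrb_ok hc.1 hc.2, Option.some.inj h]
  · exact absurd h (by simp)

theorem ncard_fixed_octads {x k : Equiv.Perm GolayPt} (hk : k ∈ M24) {r : ℕ} (hp : isPermCode r = true)
    (e : k * x * k⁻¹ = permOf r) : {o | o ∈ octads ∧ x • o = o}.ncard = fixWords 8 r := by
  rw [← ncard_fixed_conj (fun g hg y hy => smul_mem_octads hg hy) hk x, e]
  exact ncard_fixed_words hp 8

theorem ncard_fixed_dodecads {x k : Equiv.Perm GolayPt} (hk : k ∈ M24) {r : ℕ} (hp : isPermCode r = true)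
    (e : k * x * k⁻¹ = permOf r) : {o | o ∈ dodecads ∧ x • o = o}.ncard = fixWords 12 r := by
  rw [← ncard_fixed_conj (fun g hg y hy => (smul_mem_dodecads_iff ⟨g, hg⟩ y).2 hy) hk x, e]
  exact ncard_fixed_words hp 12

theorem fixed_counts_three_six {x : Equiv.Perm GolayPt} (hx : x ∈ M24) (h : orderOf x = 3)
    (hn : (fixSet x).card = 6) :
    {o : Finset GolayPt | o ∈ octads ∧ x • o = o}.ncard = 21 ∧
    {T : Finset (Finset GolayPt) | T ∈ trios ∧ x • T = T}.ncard = 15 ∧
    {S : Finset (Finset GolayPt) | S ∈ sextets ∧ x • S = S}.ncard = 16 ∧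
    {d : Finset GolayPt | d ∈ dodecads ∧ x • d = d}.ncard = 20 := by
  obtain ⟨r, hp, ht, k, hk, e⟩ := rep_test (exists_rep_three hx h) hn
    (fun r => (fixWords 8 r == 21) && ((fixTrios r == some 15) && ((fixSextets r == some 16) &&
      (fixWords 12 r == 20)))) (by decide +kernel)
  simp only [Bool.and_eq_true, beq_iff_eq] at ht
  exact ⟨(ncard_fixed_octads hk hp e).trans ht.1, ncard_fixed_trios hk e ht.2.1,
    ncard_fixed_sextets hk e ht.2.2.1, (ncard_fixed_dodecads hk hp e).trans ht.2.2.2⟩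

theorem fixed_counts_three_free {x : Equiv.Perm GolayPt} (hx : x ∈ M24) (h : orderOf x = 3)
    (hn : (fixSet x).card = 0) :
    {S : Finset (Finset GolayPt) | S ∈ sextets ∧ x • S = S}.ncard = 7 ∧
    {T : Finset (Finset GolayPt) | T ∈ trios ∧ x • T = T}.ncard = 15 := by
  obtain ⟨r, hp, ht, k, hk, e⟩ := rep_test (exists_rep_three hx h) hn
    (fun r => (fixSextets r == some 7) && (fixTrios r == some 15)) (by decide +kernel)
  simp only [Bool.and_eq_true, beq_iff_eq] at ht
  exact ⟨ncard_fixed_sextets hk e ht.1, ncard_fixed_trios hk e ht.2⟩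

theorem fixed_counts_two_eight {x : Equiv.Perm GolayPt} (hx : x ∈ M24) (h : orderOf x = 2)
    (hn : (fixSet x).card = 8) :
    {o : Finset GolayPt | o ∈ octads ∧ x • o = o}.ncard = 71 ∧
    {T : Finset (Finset GolayPt) | T ∈ trios ∧ x • T = T}.ncard = 99 ∧
    {S : Finset (Finset GolayPt) | S ∈ sextets ∧ x • S = S}.ncard = 91 := by
  obtain ⟨r, hp, ht, k, hk, e⟩ := rep_test (exists_rep_two hx h) hn
    (fun r => (fixWords 8 r == 71) && ((fixTrios r == some 99) && (fixSextets r == some 91))) (by decide +kernel)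
  simp only [Bool.and_eq_true, beq_iff_eq] at ht
  exact ⟨(ncard_fixed_octads hk hp e).trans ht.1, ncard_fixed_trios hk e ht.2.1, ncard_fixed_sextets hk e ht.2.2⟩

theorem fixed_counts_two_free {x : Equiv.Perm GolayPt} (hx : x ∈ M24) (h : orderOf x = 2)
    (hn : (fixSet x).card = 0) :
    {o : Finset GolayPt | o ∈ octads ∧ x • o = o}.ncard = 15 ∧
    {T : Finset (Finset GolayPt) | T ∈ trios ∧ x • T = T}.ncard = 75 ∧
    {S : Finset (Finset GolayPt) | S ∈ sextets ∧ x • S = S}.ncard = 51 := by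
  obtain ⟨r, hp, ht, k, hk, e⟩ := rep_test (exists_rep_two hx h) hn
    (fun r => (fixWords 8 r == 15) && ((fixTrios r == some 75) && (fixSextets r == some 51))) (by decide +kernel)
  simp only [Bool.and_eq_true, beq_iff_eq] at ht
  exact ⟨(ncard_fixed_octads hk hp e).trans ht.1, ncard_fixed_trios hk e ht.2.1, ncard_fixed_sextets hk e ht.2.2⟩

theorem fixSet_card_zero {g : Equiv.Perm GolayPt} (h : ∀ p, g p ≠ p) : (fixSet g).card = 0 := by
  rw [Finset.card_eq_zero, fixSet, Finset.filter_eq_empty_iff]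
  exact fun p _ => h p

end CfsgLib.Spor
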