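/-
The permutation module of `Cfsg.M24` on words of length 24 and the code inside it.
-/
import Cfsg.Agent.Lib.Spor.StabFacts
import Cfsg.Agent.Lib.Spor.M12
import Cfsg.Agent.Lib.Spor.OctadGeom

namespace CfsgLib.Spor

open Cfsg
open scoped Pointwise

/-- A dodecad meeting `baseDodecad` in eight points. -/
def dodPartner : ℕ := 8245261

/-- A word of weight 16 at distance 8 from the complement of `baseOctad`. -/
def sixteenPartner : ℕ := 16638425

/-- Elements fixing 23 and 0. -/
def pairFixers : List ℕ := [0xbca073450a7a6c50adae65093a8c40, 0xb916f2c4470c9d44d58d441469d860]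

/-- The rows as sums of `g c + c`, all of `M24`. -/
def selAll : List (List (ℕ × ℕ)) := [[(0, 1), (0, 3), (0, 4), (0, 5), (0, 6), (0, 8), (0, 9), (0, 10), (1, 2)],
  [(0, 0)],
  [(0, 0), (0, 3), (0, 4), (0, 5), (0, 6), (0, 8), (0, 9), (0, 10), (1, 2)],
  [(0, 0), (0, 1), (0, 2)],
  [(0, 0), (0, 2), (0, 4), (0, 5), (0, 6), (0, 8), (0, 9), (0, 10), (1, 2)],
  [(0, 0), (0, 2), (0, 5), (0, 6), (0, 8), (0, 9), (0, 10), (1, 2)],
  [(0, 0), (0, 2), (0, 6), (0, 8), (0, 9), (0, 10), (1, 2)],
  [(0, 0), (0, 1), (0, 2), (0, 3), (0, 4), (0, 5), (0, 6)],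
  [(0, 0), (0, 1), (0, 2), (0, 3), (0, 4), (0, 5), (0, 6), (0, 7)],
  [(0, 0), (0, 1), (0, 2), (0, 3), (0, 4), (0, 5), (0, 6), (0, 7), (0, 8)],
  [(0, 0), (0, 2), (0, 7), (0, 10), (1, 2)],
  [(0, 0), (0, 2), (0, 7), (1, 2)]]

/-- The rows as sums of `g c + c`, octad stabilizer. -/
def selOctad : List (List (ℕ × ℕ)) := [[(0, 1), (0, 4), (0, 7), (1, 0), (1, 1), (1, 2), (1, 7)],
  [(0, 1), (0, 7), (0, 8), (1, 1), (1, 7)],
  [(0, 0), (0, 2), (0, 7)],
  [(0, 0), (0, 2), (0, 4), (0, 7), (0, 8)],
  [(0, 1), (0, 2), (0, 4)],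
  [(0, 0), (0, 3), (0, 4), (0, 8), (1, 0), (1, 1), (1, 7)],
  [(0, 0), (0, 1), (0, 2), (0, 6), (0, 7), (1, 0), (1, 1), (1, 7)],
  [(0, 4), (0, 8), (1, 0), (1, 1), (1, 7)],
  [(0, 0), (0, 1), (0, 4), (0, 8)],
  [(0, 0), (1, 0), (1, 1), (1, 7)],
  [(0, 1), (0, 2), (1, 0), (1, 1), (1, 7)],
  [(0, 2), (0, 7), (1, 0), (1, 7)]]

/-- The rows as sums of `g c + c`, dodecad stabilizer. -/
def selDodecad : List (List (ℕ × ℕ)) := [[(0, 2)],
  [(0, 1), (1, 0), (1, 2)],
  [(0, 7), (1, 2)],
  [(0, 2), (0, 3), (1, 2)],
  [(0, 0), (0, 1), (0, 2), (0, 3), (0, 7), (0, 8), (1, 2)],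
  [(0, 0), (0, 1), (0, 2), (0, 5), (0, 6), (0, 7), (1, 2)],
  [(0, 0), (0, 1), (0, 3), (0, 6), (0, 7), (1, 0)],
  [(0, 0), (0, 1), (0, 2), (0, 7)],
  [(0, 3), (0, 7), (1, 0), (1, 2)],
  [(0, 1), (0, 3), (1, 0), (1, 1), (1, 2)],
  [(0, 4), (0, 7), (0, 8)],
  [(0, 0), (0, 1), (0, 3), (0, 7), (1, 0), (1, 2)]]

/-- Coordinate permutation of a word. -/
def permWord (σ : Equiv.Perm GolayPt) (w : GolayPt → ZMod 2) : GolayPt → ZMod 2 := fun p => w (σ.symm p)

theorem support₂_permWord (σ : Equiv.Perm GolayPt) (w : GolayPt → ZMod 2) :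
    support₂ (permWord σ w) = σ • support₂ w := by
  ext p
  rw [← Finset.inv_smul_mem_iff, support₂, support₂, Finset.mem_filter, Finset.mem_filter]
  simp [permWord, Equiv.Perm.smul_def, Equiv.Perm.inv_def]

theorem permWord_word {c : ℕ} (hc : isPermCode c = true) (m : ℕ) :
    permWord (permOf c) (word m) = word (permMask c m) :=
  support₂_injective (by rw [support₂_permWord, support₂_word, support₂_word, smul_pts hc])

theorem permWord_mul (σ τ : Equiv.Perm GolayPt) (w : GolayPt → ZMod 2) :
    permWord (σ * τ) w = permWord σ (permWord τ w) := rfl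

theorem permWord_mem {σ : Equiv.Perm GolayPt} (h : σ ∈ M24) {w : GolayPt → ZMod 2} (hw : w ∈ golayCode) :
    permWord σ w ∈ golayCode := by
  have := smul_mem_supports h (s := support₂ w) ⟨w, hw, rfl⟩
  rw [← support₂_permWord] at this
  obtain ⟨v, hv, e⟩ := this
  exact support₂_injective e ▸ hv

/-- A set of words is invariant under the code's group. -/
def IsInvariantWords (W : Submodule (ZMod 2) (GolayPt → ZMod 2)) : Prop :=
  ∀ σ ∈ M24, ∀ w ∈ W, permWord σ w ∈ W

theorem one_eq : (fun _ : GolayPt => (1 : ZMod 2)) = word fullMask := word_fullMask.symm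

theorem code_le_of_rows {W : Submodule (ZMod 2) (GolayPt → ZMod 2)} (h : ∀ r ∈ rows, word r ∈ W) :
    golayCode ≤ W := by
  intro w hw
  obtain ⟨m, hm, rfl⟩ := exists_codeList hw
  have key : ∀ l : List ℕ, (∀ r ∈ l, word r ∈ W) → ∀ m ∈ spanList l, word m ∈ W := by
    intro l
    induction l with
    | nil => intro _ m hm; simp [spanList] at hm; simp [hm, word_zero]
    | cons r l ih =>
      intro h m hm
      have ih' := ih fun r' hr' => h r' (List.mem_cons_of_mem _ hr')
      simp only [spanList, List.mem_append, List.mem_map] at hm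
      rcases hm with hm | ⟨a, ha, rfl⟩
      · exact ih' m hm
      · rw [word_xor]; exact add_mem (h r List.mem_cons_self) (ih' a ha)
  exact key rows h m hm

theorem octad_word_mem {W : Submodule (ZMod 2) (GolayPt → ZMod 2)} (hW : IsInvariantWords W) {m n : ℕ}
    (hm : pts m ∈ octads) (hn : pts n ∈ octads) (h : word m ∈ W) : word n ∈ W := by
  obtain ⟨g, hg⟩ := exists_smul_octad hm hn
  have e : permWord (g : Equiv.Perm GolayPt) (word m) = word n :=
    support₂_injective (by rw [support₂_permWord, support₂_word, support₂_word]; exact hg)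
  exact e ▸ hW _ g.2 _ h

theorem code_le_of_octad {W : Submodule (ZMod 2) (GolayPt → ZMod 2)} (hW : IsInvariantWords W) {m : ℕ}
    (hm : m ∈ codeList) (h8 : pop 24 m = 8) (h : word m ∈ W) : golayCode ≤ W := by
  refine code_le_of_rows fun r hr => octad_word_mem hW (m := m) ?_ ?_ h
  · exact ⟨pts_mem_supports hm, by rw [card_pts, h8]⟩
  · exact ⟨⟨word r, word_row_mem hr, support₂_word r⟩, by
      rw [card_pts, (by decide +kernel : ∀ r ∈ rows, pop 24 r = 8) r hr]⟩

theorem code_le_of_word {W : Submodule (ZMod 2) (GolayPt → ZMod 2)} (hW : IsInvariantWords W)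
    {w : GolayPt → ZMod 2} (hw : w ∈ W) (hc : w ∈ golayCode) (h0 : w ≠ 0) (h1 : w ≠ fun _ => 1) :
    golayCode ≤ W := by
  obtain ⟨m, hm, rfl⟩ := exists_codeList hc
  have key : codeList.all (fun a => (a == 0) || ((a == fullMask) || ([8, 12, 16].contains (pop 24 a)))) = true ∧
      (baseDodecad ^^^ dodPartner ∈ codeList ∧ pop 24 baseDodecad = 12 ∧ pop 24 dodPartner = 12 ∧
        codeTest baseDodecad = true ∧ codeTest dodPartner = true ∧ pop 24 (baseDodecad ^^^ dodPartner) = 8) ∧
      ((fullMask ^^^ baseOctad) ^^^ sixteenPartner ∈ codeList ∧ pop 24 (fullMask ^^^ baseOctad) = 16 ∧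
        pop 24 sixteenPartner = 16 ∧ codeTest sixteenPartner = true ∧
        pop 24 (fullMask ^^^ sixteenPartner) = 8 ∧ pop 24 ((fullMask ^^^ baseOctad) ^^^ sixteenPartner) = 8) := by
    decide +kernel
  obtain ⟨hall, ⟨hd, hd12, hd12', hdc, hdc', hd8⟩, ⟨hs, -, hs16, hsc, hs8', hs8⟩⟩ := key
  have := List.all_eq_true.1 hall m hm
  simp only [Bool.or_eq_true, beq_iff_eq, List.contains_iff_mem, List.mem_cons, List.not_mem_nil, or_false] at this
  rcases this with rfl | rfl | h8 | h12 | h16
  · exact absurd word_zero h0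
  · exact absurd one_eq.symm h1
  · exact code_le_of_octad hW hm h8 hw
  · have hmd : pts m ∈ dodecads := ⟨pts_mem_supports hm, by rw [card_pts, h12]⟩
    have move : ∀ {n}, pop 24 n = 12 → codeTest n = true → word n ∈ W := fun {n} hn hnc => by
      obtain ⟨g, hg, e⟩ := exists_smul_baseDodecad hmd
      obtain ⟨k, hk, e'⟩ := exists_smul_baseDodecad (d := pts n)
        ⟨⟨word n, (word_mem_golayCode_iff n).2 hnc, support₂_word n⟩, by rw [card_pts, hn]⟩
      have : permWord (k * g⁻¹) (word m) = word n := support₂_injective (by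
        rw [support₂_permWord, support₂_word, support₂_word, mul_smul, ← e', ← e, inv_smul_smul])
      exact this ▸ hW _ (M24.mul_mem hk (M24.inv_mem hg)) _ hw
    refine code_le_of_octad hW hd hd8 ?_
    rw [word_xor]; exact add_mem (move hd12 hdc) (move hd12' hdc')
  · have hfull : ∀ a, pts (fullMask ^^^ a) = (pts a)ᶜ := pts_xor_fullMask
    have hmo : pts (fullMask ^^^ m) ∈ octads := by
      refine ⟨⟨word (fullMask ^^^ m), ?_, support₂_word _⟩, ?_⟩
      · rw [word_xor]; exact add_mem ((word_mem_golayCode_iff _).2 (by decide +kernel)) (codeList_spec hm).2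
      · rw [hfull, Finset.card_compl, card_pts, h16]; rfl
    have move : ∀ {n}, pts (fullMask ^^^ n) ∈ octads → word n ∈ W := fun {n} hn => by
      obtain ⟨g, hg⟩ := exists_smul_octad hmo hn
      have : permWord (g : Equiv.Perm GolayPt) (word m) = word n := support₂_injective (by
        rw [support₂_permWord, support₂_word, support₂_word, ← compl_inj_iff (x := _ • _), ← smul_compl',
          ← hfull, ← hfull]
        exact hg)
      exact this ▸ hW _ g.2 _ hw
    refine code_le_of_octad hW hs hs8 ?_
    rw [word_xor]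
    refine add_mem (move ?_) (move ?_)
    · rw [← Nat.xor_assoc, Nat.xor_self, Nat.zero_xor]; exact baseOctad_mem
    · refine ⟨⟨word _, ?_, support₂_word _⟩, by rw [card_pts, hs8']⟩
      rw [word_xor]
      exact add_mem ((word_mem_golayCode_iff _).2 (by decide +kernel)) ((word_mem_golayCode_iff _).2 hsc)

theorem pairFixers_facts : pairFixers.all (fun g => isM24Code g && (tabCheck g (packTab g) &&
      ((permFn g 23 == 23) && (permFn g 0 == 0)))) = true ∧
    codeList.all (fun a => (a == 0) || ((a == fullMask) || pairFixers.any (fun g =>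
      !(permMaskT (packTab g) a == a) && !(permMaskT (packTab g) a == fullMask ^^^ a)))) = true := by decide +kernel

/-- The word of weight two on a pair of points. -/
def pairWord (p q : GolayPt) : GolayPt → ZMod 2 := Pi.single p 1 + Pi.single q 1

theorem permWord_pairWord (σ : Equiv.Perm GolayPt) (p q : GolayPt) :
    permWord σ (pairWord p q) = pairWord (σ p) (σ q) := by
  funext r
  simp [permWord, pairWord, Pi.single_apply, Equiv.symm_apply_eq]

theorem mem_even_span {W : Submodule (ZMod 2) (GolayPt → ZMod 2)} (h : ∀ p q, p ≠ q → pairWord p q ∈ W)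
    {w : GolayPt → ZMod 2} (hw : ∑ p, w p = 0) : w ∈ W := by
  have e : w = ∑ p, w p • pairWord p none := by
    funext r
    simp only [Finset.sum_apply, Pi.smul_apply, pairWord, Pi.add_apply, Pi.single_apply, smul_eq_mul, mul_add,
      mul_ite, mul_one, mul_zero, Finset.sum_add_distrib, Finset.sum_ite_eq, Finset.mem_univ, if_true]
    by_cases hr : r = none <;> simp [hr, hw]
  rw [e]
  refine sum_mem fun p _ => W.smul_mem _ ?_
  by_cases hp : p = none
  · have : pairWord p none = 0 := by rw [hp, pairWord]; exact CharTwo.add_self_eq_zero _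
    rw [this]; exact zero_mem W
  · exact h p none hp

theorem pairs_of_not_le {U : Submodule (ZMod 2) (GolayPt → ZMod 2)} (hU : IsInvariantWords U)
    (hC : golayCode ≤ U) (hne : ¬ U ≤ golayCode) (p q : GolayPt) : pairWord p q ∈ U := by
  by_contra hp
  obtain ⟨f, hf, hfU⟩ := Submodule.exists_le_ker_of_notMem hp
  -- the functional as a dot product
  have key : ∀ (φ : (GolayPt → ZMod 2) →ₗ[ZMod 2] ZMod 2) (w : GolayPt → ZMod 2),
      φ w = ∑ r, φ (Pi.single r 1) * w r := fun φ w => by
    conv_lhs => rw [show w = ∑ r, w r • Pi.single r (1 : ZMod 2) from by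
      funext s; simp [Pi.single_apply]]
    simp [map_sum, mul_comm]
  let Z : Submodule (ZMod 2) (GolayPt → ZMod 2) :=
    { carrier := {z | ∀ u ∈ U, ∑ r, z r * u r = 0}
      zero_mem' := by simp
      add_mem' := fun {a b} ha hb u hu => by simp [add_mul, Finset.sum_add_distrib, ha u hu, hb u hu]
      smul_mem' := fun c a ha u hu => by simp [mul_assoc, ← Finset.mul_sum, ha u hu] }
  have hZC : Z ≤ golayCode := fun z hz => mem_golayCode_iff.2 fun r hr => by
    rw [dotWord_apply]
    simpa [mul_comm] using hz _ (hC (word_row_mem hr))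
  have hZinv : IsInvariantWords Z := fun σ hσ z hz u hu => by
    have := hz _ (hU σ⁻¹ (M24.inv_mem hσ) u hu)
    rw [← this, ← Equiv.sum_comp σ]
    simp [permWord, Equiv.Perm.inv_def]
  have hz : (fun r => f (Pi.single r 1)) ∈ Z := fun u hu => by
    rw [← key]; exact hfU hu
  have hfz : f (pairWord p q) = 0 := by
    rcases eq_or_ne (fun r => f (Pi.single r 1)) 0 with h0 | h0
    · rw [key]; exact Finset.sum_eq_zero fun r _ => by rw [congrFun h0 r, Pi.zero_apply, zero_mul]
    rcases eq_or_ne (fun r => f (Pi.single r 1)) (fun _ => 1) with h1 | h1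
    · rw [pairWord, map_add, congrFun h1 p, congrFun h1 q]; rfl
    exfalso
    have hCZ := code_le_of_word hZinv hz (hZC hz) h0 h1
    refine hne fun u hu => mem_golayCode_iff.2 fun r hr => ?_
    rw [dotWord_apply]
    exact hCZ (word_row_mem hr) u hu
  exact hf hfz

theorem invariant_cases {W : Submodule (ZMod 2) (GolayPt → ZMod 2)} (hW : IsInvariantWords W) :
    W = ⊥ ∨ W = Submodule.span (ZMod 2) {fun _ => (1 : ZMod 2)} ∨ W = golayCode ∨
      (W : Set (GolayPt → ZMod 2)) = {w | ∑ p, w p = 0} ∨ W = ⊤ := by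
  by_cases hle : W ≤ golayCode
  · by_cases hsmall : ∀ w ∈ W, w = 0 ∨ w = fun _ => 1
    · by_cases h1 : (fun _ : GolayPt => (1 : ZMod 2)) ∈ W
      · right; left
        refine le_antisymm (fun w hw => ?_) (Submodule.span_le.2 (Set.singleton_subset_iff.2 h1))
        rcases hsmall w hw with h | h
        · exact h ▸ zero_mem _
        · exact h ▸ Submodule.subset_span rfl
      · left
        refine Submodule.eq_bot_iff _ |>.2 fun w hw => (hsmall w hw).resolve_right fun h => h1 (h ▸ hw)
    · push Not at hsmall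
      obtain ⟨w, hw, h0, h1⟩ := hsmall
      exact Or.inr (Or.inr (Or.inl (le_antisymm hle (code_le_of_word hW hw (hle hw) h0 h1))))
  · -- `W` contains every even word
    have hall : ∀ p q, p ≠ q → pairWord p q ∈ W := by
      by_cases hbig : ∃ w ∈ W, w ∈ golayCode ∧ w ≠ 0 ∧ w ≠ fun _ => 1
      · obtain ⟨w, hw, hwc, h0, h1⟩ := hbig
        exact fun p q _ => pairs_of_not_le hW (code_le_of_word hW hw hwc h0 h1) hle p q
      push Not at hbig
      have hsum : IsInvariantWords (W ⊔ golayCode) := fun σ hσ x hx => by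
        obtain ⟨a, ha, b, hb, rfl⟩ := Submodule.mem_sup.1 hx
        exact Submodule.mem_sup.2 ⟨_, hW σ hσ a ha, _, permWord_mem hσ hb, rfl⟩
      have hmem := pairs_of_not_le hsum le_sup_right (fun h => hle (le_sup_left.trans h)) (idxPt 23) (idxPt 0)
      obtain ⟨a, ha, b, hb, e⟩ := Submodule.mem_sup.1 hmem
      obtain ⟨m, hm, rfl⟩ := exists_codeList hb
      obtain ⟨hfix, hmove⟩ := pairFixers_facts
      have hm01 : m = 0 ∨ m = fullMask := by
        have := List.all_eq_true.1 hmove m hm
        simp only [Bool.or_eq_true, beq_iff_eq, List.any_eq_true, Bool.and_eq_true, Bool.not_eq_true',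
          beq_eq_false_iff_ne] at this
        rcases this with h | h | ⟨g, hg, hne, hne'⟩
        · exact Or.inl h
        · exact Or.inr h
        exfalso
        have := List.all_eq_true.1 hfix g hg
        simp only [Bool.and_eq_true, beq_iff_eq] at this
        obtain ⟨hM, hT, h23, h0⟩ := this
        have hp := isPermCode_of_isM24Code hM
        rw [permMaskT_eq hT (codeList_spec hm).1] at hne hne'
        have hmm : pairWord (permOf g (idxPt 23)) (permOf g (idxPt 0)) = pairWord (idxPt 23) (idxPt 0) := by
          rw [permOf_idxPt hp (by norm_num), permOf_idxPt hp (by norm_num), h23, h0]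
        have hd : word (permMask g m ^^^ m) ∈ W := by
          have h1 := hW _ (permOf_mem_M24 hM) a ha
          have e2 : permWord (permOf g) a + a = word (permMask g m ^^^ m) := by
            have e3 : a = pairWord (idxPt 23) (idxPt 0) + word m := by
              rw [← e, add_assoc, CharTwo.add_self_eq_zero, add_zero]
            have e4 : ∀ u v, permWord (permOf g) (u + v) = permWord (permOf g) u + permWord (permOf g) v :=
              fun _ _ => rfl
            rw [e3, e4, permWord_pairWord, hmm, permWord_word hp, word_xor]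
            abel_nf
            simp [two_smul, CharTwo.add_self_eq_zero]
          exact e2 ▸ add_mem h1 ha
        have hc : word (permMask g m ^^^ m) ∈ golayCode := by
          rw [word_xor, ← permWord_word hp]
          exact add_mem (permWord_mem (permOf_mem_M24 hM) (codeList_spec hm).2) (codeList_spec hm).2
        have hlt := permMask_lt hp m
        rcases eq_or_ne (word (permMask g m ^^^ m)) 0 with h0' | h0'
        · refine hne (eq_of_pts_eq hlt (codeList_spec hm).1 ?_)
          rw [← support₂_word, ← support₂_word, CharTwo.add_eq_zero.1 ((word_xor _ _).symm.trans h0')]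
        · refine hne' (eq_of_pts_eq hlt (Nat.xor_lt_two_pow (by norm_num [fullMask]) (codeList_spec hm).1) ?_)
          have h1' := (hbig _ hd hc h0')
          rw [word_xor, one_eq] at h1'
          rw [← support₂_word, ← support₂_word, word_xor, ← h1', add_assoc, CharTwo.add_self_eq_zero, add_zero]
      have step : ∀ {x y z : GolayPt}, x ≠ y → x ≠ z → ∀ u, (u = 0 ∨ u = fullMask) →
          (∀ s t, s ≠ t → pairWord s t + word u ∈ W) → pairWord y z ∈ W := by
        intro x y z hxy hxz u _ hst
        have := add_mem (hst x y hxy) (hst x z hxz)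
        convert this using 1
        rw [pairWord, pairWord, pairWord]
        abel_nf
        simp [two_smul, CharTwo.add_self_eq_zero]
      have hst : ∀ s t, s ≠ t → pairWord s t + word m ∈ W := by
        intro s t hst
        obtain ⟨g, hg⟩ := mem_orbit_two hst
        have h1 := hW _ g.2 a ha
        have hfixm : permWord (g : Equiv.Perm GolayPt) (word m) = word m := by
          rcases hm01 with rfl | rfl
          · rw [word_zero]; rfl
          · rw [← one_eq]; rfl
        have e3 : a = pairWord (idxPt 23) (idxPt 0) + word m := by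
          rw [← e, add_assoc, CharTwo.add_self_eq_zero, add_zero]
        rw [e3, show ∀ u v, permWord (g : Equiv.Perm GolayPt) (u + v) = permWord (g : Equiv.Perm GolayPt) u +
          permWord (g : Equiv.Perm GolayPt) v from fun _ _ => rfl, permWord_pairWord, hfixm] at h1
        convert h1 using 3
        · exact (congrArg Prod.fst hg).symm
        · exact (congrArg Prod.snd hg).symm
      intro y z hyz
      obtain ⟨x, hx⟩ := Finset.exists_mem_notMem_of_card_lt_card (s := ({y, z} : Finset GolayPt))
        (t := Finset.univ) (by rw [Finset.card_pair hyz]; decide)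
      simp only [Finset.mem_univ, Finset.mem_insert, Finset.mem_singleton, true_and, not_or] at hx
      exact step hx.1 hx.2 m hm01 hst
    by_cases heven : ∀ w ∈ W, ∑ p, w p = 0
    · exact Or.inr (Or.inr (Or.inr (Or.inl (Set.ext fun w => ⟨heven w, fun h => mem_even_span hall h⟩))))
    · right; right; right; right
      push Not at heven
      obtain ⟨v, hv, hv1⟩ := heven
      refine eq_top_iff.2 fun w _ => ?_
      have hv1 : ∑ p, v p = 1 := ((by decide : ∀ z : ZMod 2, z = 0 ∨ z = 1) _).resolve_left hv1
      rcases (by decide : ∀ z : ZMod 2, z = 0 ∨ z = 1) (∑ p, w p) with h | h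
      · exact mem_even_span hall h
      · have : w + v ∈ W := mem_even_span hall (by
          simp only [Pi.add_apply, Finset.sum_add_distrib, h, hv1]; rfl)
        simpa [add_assoc, CharTwo.add_self_eq_zero] using add_mem this hv

theorem one_mem_golayCode : (fun _ : GolayPt => (1 : ZMod 2)) ∈ golayCode := by
  rw [one_eq]; exact (word_mem_golayCode_iff _).2 (by decide +kernel)

theorem code_irreducible {W : Submodule (ZMod 2) (GolayPt → ZMod 2)} (h1 : (fun _ => (1 : ZMod 2)) ∈ W)
    (hle : W ≤ golayCode) (hW : IsInvariantWords W) :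
    W = Submodule.span (ZMod 2) {fun _ => (1 : ZMod 2)} ∨ W = golayCode := by
  by_cases hs : ∀ w ∈ W, w = 0 ∨ w = fun _ => 1
  · left
    refine le_antisymm (fun w hw => ?_) (Submodule.span_le.2 (Set.singleton_subset_iff.2 h1))
    rcases hs w hw with h | h
    · exact h ▸ zero_mem _
    · exact h ▸ Submodule.subset_span rfl
  · push Not at hs
    obtain ⟨w, hw, h0, hw1⟩ := hs
    exact Or.inr (le_antisymm hle (code_le_of_word hW hw (hle hw) h0 hw1))

/-! ### The stabilizer of a code word moves every nontrivial coset -/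

/-- A selection certificate: each row is a sum of `g c + c`. -/
def selOk (gens : List ℕ) (b : ℕ) (sel : List (List (ℕ × ℕ))) : Bool :=
  gens.all (fun g => isM24Code g && (permMask g b == b)) && ((sel.length == rows.length) &&
    (List.range rows.length).all (fun i =>
      ((sel.getD i []).map fun q => permMask (gens.getD q.1 0) (rows.getD q.2 0) ^^^ rows.getD q.2 0).foldr
        (· ^^^ ·) 0 == rows.getD i 0 && (sel.getD i []).all fun q => decide (q.1 < gens.length) &&
          decide (q.2 < rows.length)))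

theorem sum_word_xor (a b : ℕ) (w : GolayPt → ZMod 2) :
    dotWord (a ^^^ b) w = dotWord a w + dotWord b w := by
  simp [dotWord_apply, word_xor, add_mul, Finset.sum_add_distrib]

theorem exists_mover {gens : List ℕ} {b : ℕ} {sel : List (List (ℕ × ℕ))} (h : selOk gens b sel = true)
    {w : GolayPt → ZMod 2} (hw : w ∉ golayCode) :
    ∃ σ ∈ M24, permWord σ (word b) = word b ∧ permWord σ w - w ∉ golayCode := by
  simp only [selOk, Bool.and_eq_true, List.all_eq_true, beq_iff_eq, List.mem_range, decide_eq_true_eq] at h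
  obtain ⟨hg, -, hsel⟩ := h
  by_contra hno
  push Not at hno
  refine hw (mem_golayCode_iff.2 fun r hr => ?_)
  obtain ⟨i, hi, rfl⟩ := List.mem_iff_getElem.1 hr
  obtain ⟨hfold, hvalid⟩ := hsel i hi
  rw [← List.getD_eq_getElem _ 0 hi, ← hfold]
  generalize sel.getD i [] = l at hvalid ⊢
  induction l with
  | nil => simp [dotWord_apply, word_zero]
  | cons q l ih =>
    rw [List.map_cons, List.foldr_cons, sum_word_xor, ih fun x hx => hvalid x (List.mem_cons_of_mem _ hx), add_zero]
    obtain ⟨hq1, hq2⟩ := hvalid q List.mem_cons_self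
    obtain ⟨hM, hb⟩ := hg (gens.getD q.1 0) (by rw [List.getD_eq_getElem _ _ hq1]; exact List.getElem_mem hq1)
    have hp := isPermCode_of_isM24Code hM
    set g := permOf (gens.getD q.1 0)
    set c := rows.getD q.2 0
    have hbfix : permWord g⁻¹ (word b) = word b := by
      have e : permWord g (word b) = word b := by rw [permWord_word hp, hb]
      conv_lhs => rw [← e]
      funext p; simp [permWord, Equiv.Perm.inv_def]
    have hmem := hno g⁻¹ (M24.inv_mem (permOf_mem_M24 hM)) hbfix
    have hcr : c ∈ rows := by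
      show rows.getD q.2 0 ∈ rows
      rw [List.getD_eq_getElem _ _ hq2]; exact List.getElem_mem hq2
    have h0 := dotWord_eq_zero hcr hmem
    rw [sum_word_xor, dotWord_apply, dotWord_apply, ← permWord_word hp, ← h0, dotWord_apply,
      ← Equiv.sum_comp g fun p => permWord g (word c) p * w p]
    simp [permWord, Equiv.Perm.inv_def, CharTwo.sub_eq_add, mul_add, Finset.sum_add_distrib, g, c]

theorem selAll_ok : selOk [shiftCode, projInvCode, cubeTwistCode] 0 selAll = true ∧
    selOk [shiftCode, projInvCode, cubeTwistCode] fullMask selAll = true := by decide +kernel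

theorem selOctad_ok : selOk octadStabGens baseOctad selOctad = true ∧
    selOk octadStabGens (fullMask ^^^ baseOctad) selOctad = true := by decide +kernel

theorem selDodecad_ok : selOk dodecadStabGens baseDodecad selDodecad = true := by decide +kernel

theorem coset_moved {u : GolayPt → ZMod 2} (hu : u ∈ golayCode) {w : GolayPt → ZMod 2} (hw : w ∉ golayCode) :
    ∃ σ ∈ M24, permWord σ u = u ∧ permWord σ w - w ∉ golayCode := by
  obtain ⟨m, hm, rfl⟩ := exists_codeList hu
  have conj : ∀ {k : Equiv.Perm GolayPt} {gens : List ℕ} {b : ℕ} {sel : List (List (ℕ × ℕ))}, k ∈ M24 →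
      selOk gens b sel = true → permWord k (word b) = word m →
      ∃ σ ∈ M24, permWord σ (word m) = word m ∧ permWord σ w - w ∉ golayCode := by
    intro k gens b sel hk hsel e
    have hinv : ∀ v, permWord k (permWord k⁻¹ v) = v := fun v => by
      funext p; simp [permWord, Equiv.Perm.inv_def]
    have hinv' : ∀ v, permWord k⁻¹ (permWord k v) = v := fun v => by
      funext p; simp [permWord, Equiv.Perm.inv_def]
    obtain ⟨σ, hσ, hfix, hmv⟩ := exists_mover hsel (w := permWord k⁻¹ w) (fun hh =>
      hw (hinv w ▸ permWord_mem hk hh))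
    refine ⟨k * σ * k⁻¹, M24.mul_mem (M24.mul_mem hk hσ) (M24.inv_mem hk), ?_, fun hh => hmv ?_⟩
    · rw [permWord_mul, permWord_mul, ← e, hinv', hfix]
    · have := permWord_mem (M24.inv_mem hk) hh
      rw [permWord_mul, permWord_mul] at this
      rw [show ∀ u v, permWord k⁻¹ (u - v) = permWord k⁻¹ u - permWord k⁻¹ v from fun _ _ => rfl, hinv'] at this
      exact this
  have hw8 := List.all_eq_true.1 (show codeList.all (fun a => (a == 0) || ((a == fullMask) ||
    ([8, 12, 16].contains (pop 24 a)))) = true by decide +kernel) m hm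
  simp only [Bool.or_eq_true, beq_iff_eq, List.contains_iff_mem, List.mem_cons, List.not_mem_nil, or_false] at hw8
  rcases hw8 with rfl | rfl | h8 | h12 | h16
  · exact conj M24.one_mem selAll_ok.1 rfl
  · exact conj M24.one_mem selAll_ok.2 rfl
  · obtain ⟨k, hk, e⟩ := exists_smul_baseOctad (o := pts m) ⟨pts_mem_supports hm, by rw [card_pts, h8]⟩
    exact conj hk selOctad_ok.1 (support₂_injective (by rw [support₂_permWord, support₂_word, support₂_word, e]))
  · obtain ⟨k, hk, e⟩ := exists_smul_baseDodecad (d := pts m) ⟨pts_mem_supports hm, by rw [card_pts, h12]⟩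
    exact conj hk selDodecad_ok (support₂_injective (by rw [support₂_permWord, support₂_word, support₂_word, e]))
  · have ho : pts (fullMask ^^^ m) ∈ octads := by
      refine ⟨⟨word (fullMask ^^^ m), ?_, support₂_word _⟩, ?_⟩
      · rw [word_xor]; exact add_mem ((word_mem_golayCode_iff _).2 (by decide +kernel)) (codeList_spec hm).2
      · rw [pts_xor_fullMask, Finset.card_compl, card_pts, h16]; rfl
    obtain ⟨k, hk, e⟩ := exists_smul_baseOctad ho
    refine conj hk selOctad_ok.2 (support₂_injective ?_)
    rw [support₂_permWord, support₂_word, support₂_word, pts_xor_fullMask, smul_compl', e, pts_xor_fullMask,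
      compl_compl]

end CfsgLib.Spor
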