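/-
Lifting connectedness of a commuting graph through an inverted centre.
-/
import Cfsg.Prelude.Def_FischerSpaces
import Cfsg.Prelude.Def_CaseTheorems

set_option autoImplicit false

namespace CfsgLib.Spor.GraphLift

open Subgroup
open scoped commutatorElement

variable {G : Type*} [Group G] [Finite G]

theorem connected_lift (L : Subgroup G) [L.Normal] (hL : Cfsg.IsQuasisimple L) (d : G)
    (hd : orderOf d = 2) (hgen : L ⊔ zpowers d = ⊤) (hodd : Odd (Nat.card (center L)))
    (hinv : ∀ c ∈ (center L).map L.subtype, d * c * d⁻¹ = c⁻¹) [((center L).map L.subtype).Normal]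
    (hconn : (Cfsg.commutingGraph (conjugatesOf (QuotientGroup.mk d : G ⧸ (center L).map L.subtype))).Connected) :
    (Cfsg.commutingGraph (conjugatesOf d)).Connected := by
  set Z := (center L).map L.subtype with hZ
  set Γ := Cfsg.commutingGraph (conjugatesOf d) with hΓ
  have hsqrt : ∀ z ∈ Z, ∃ c ∈ Z, c * c = z := fun z hz => by
    obtain ⟨k, hk⟩ := hodd
    have hc : Nat.card Z = 2 * k + 1 :=
      ((Nat.card_congr ((center L).equivMapOfInjective _ L.subtype_injective).toEquiv).symm).trans hk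
    have h1 : z ^ (2 * k + 1) = 1 := hc ▸ congrArg Subtype.val (pow_card_eq_one' (x := (⟨z, hz⟩ : Z)))
    refine ⟨z ^ (k + 1), pow_mem hz _, ?_⟩
    rw [← pow_add, show k + 1 + (k + 1) = 2 * k + 1 + 1 by omega, pow_succ, h1, one_mul]
  have hsq : ∀ a ∈ conjugatesOf d, a * a = 1 ∧ ∀ c ∈ Z, a * c * a⁻¹ = c⁻¹ := by
    intro a ha
    obtain ⟨g, rfl⟩ := isConj_iff.1 ha
    refine ⟨?_, fun c hc => ?_⟩
    · rw [conj_mul, show d * d = 1 by rw [← pow_two, ← hd, pow_orderOf_eq_one]]; group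
    · have h := hinv (g⁻¹ * c * g) (by simpa using ‹Z.Normal›.conj_mem c hc g⁻¹)
      calc g * d * g⁻¹ * c * (g * d * g⁻¹)⁻¹ = g * (d * (g⁻¹ * c * g) * d⁻¹) * g⁻¹ := by group
        _ = c⁻¹ := by rw [h]; group
  have hmul : ∀ a ∈ conjugatesOf d, ∀ c ∈ Z, c * c * a = c * a * c⁻¹ := fun a ha c hc => by
    have := (hsq a ha).2 c hc
    calc c * c * a = c * (c⁻¹)⁻¹ * a := by rw [inv_inv]
      _ = c * (a * c * a⁻¹)⁻¹ * a := by rw [this]
      _ = c * a * c⁻¹ := by group
  -- lifting one edge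
  have hedge : ∀ (a : conjugatesOf d) (b : G), b ∈ conjugatesOf d →
      Commute (QuotientGroup.mk (a : G) : G ⧸ Z) (QuotientGroup.mk b) →
      ∃ b' : conjugatesOf d, (QuotientGroup.mk (b' : G) : G ⧸ Z) = QuotientGroup.mk b ∧ Γ.Reachable a b' := by
    intro a b hb hcomm
    have hz : ((a : G) * b) * (a * b) ∈ Z := by
      refine (QuotientGroup.eq_one_iff _).1 ?_
      show ((QuotientGroup.mk (a : G) : G ⧸ Z) * QuotientGroup.mk b) *
        (QuotientGroup.mk (a : G) * QuotientGroup.mk b) = 1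
      nth_rewrite 2 [hcomm.eq]
      rw [mul_assoc, ← mul_assoc (QuotientGroup.mk b : G ⧸ Z), ← QuotientGroup.mk_mul Z b b, (hsq b hb).1,
        QuotientGroup.mk_one, one_mul, ← QuotientGroup.mk_mul, (hsq a a.2).1, QuotientGroup.mk_one]
    obtain ⟨c, hc, hcc⟩ := hsqrt _ hz
    have hcb : c * b ∈ conjugatesOf d := by
      obtain ⟨u, hu, huu⟩ := hsqrt c hc
      rw [← huu, hmul b hb u hu]
      exact hb.trans (isConj_iff.2 ⟨u, rfl⟩)
    refine ⟨⟨c * b, hcb⟩, ?_, ?_⟩
    · rw [QuotientGroup.mk_mul, (QuotientGroup.eq_one_iff c).2 hc, one_mul]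
    · by_cases he : a = ⟨c * b, hcb⟩
      · exact he ▸ SimpleGraph.Reachable.refl _
      refine SimpleGraph.Adj.reachable ((SimpleGraph.fromRel_adj _ _ _).2 ⟨he, Or.inl ?_⟩)
      show (a : G) * (c * b) = c * b * a
      have ha := (hsq a a.2).2 c hc
      have hbi : b⁻¹ = b := inv_eq_of_mul_eq_one_right (hsq b hb).1
      have hai : (a : G)⁻¹ = a := inv_eq_of_mul_eq_one_right (hsq a a.2).1
      calc (a : G) * (c * b) = (a : G) * c * (a : G)⁻¹ * (a * b) := by group
        _ = c * ((c * c)⁻¹ * (a * b)) := by rw [ha]; group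
        _ = c * (b⁻¹ * (a : G)⁻¹) := by rw [hcc]; group
        _ = c * b * a := by rw [hbi, hai, mul_assoc]
  -- every class is reached from `d`
  have hwalk : ∀ {x y : conjugatesOf (QuotientGroup.mk d : G ⧸ Z)},
      (Cfsg.commutingGraph (conjugatesOf (QuotientGroup.mk d : G ⧸ Z))).Walk x y → ∀ a : conjugatesOf d,
      (QuotientGroup.mk (a : G) : G ⧸ Z) = x → ∃ b : conjugatesOf d,
        (QuotientGroup.mk (b : G) : G ⧸ Z) = y ∧ Γ.Reachable a b := by
    intro x y w
    induction w with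
    | nil => exact fun a ha => ⟨a, ha, SimpleGraph.Reachable.refl _⟩
    | @cons u v w hadj p ih =>
      intro a ha
      obtain ⟨b₀, hb₀⟩ : ∃ b₀ : conjugatesOf d, (QuotientGroup.mk (b₀ : G) : G ⧸ Z) = v := by
        obtain ⟨g, hg⟩ := isConj_iff.1 v.2
        induction g using QuotientGroup.induction_on with
        | H g => exact ⟨⟨g * d * g⁻¹, isConj_iff.2 ⟨g, rfl⟩⟩, hg⟩
      obtain ⟨b, hb, hab⟩ := hedge a b₀ b₀.2 (by
        rw [ha, hb₀]
        exact ((SimpleGraph.fromRel_adj _ _ _).1 hadj).2.elim id fun h => h.symm)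
      obtain ⟨c, hc, hbc⟩ := ih b (hb.trans hb₀)
      exact ⟨c, hc, hab.trans hbc⟩
  set d' : conjugatesOf d := ⟨d, IsConj.refl d⟩
  let act : G → conjugatesOf d → conjugatesOf d := fun g a =>
    ⟨g * a * g⁻¹, a.2.trans (isConj_iff.2 ⟨g, rfl⟩)⟩
  have hact : ∀ (g : G) {a b : conjugatesOf d}, Γ.Reachable a b → Γ.Reachable (act g a) (act g b) := by
    intro g a b h
    refine h.map { toFun := act g, map_rel' := fun {p q} hpq => ?_ }
    obtain ⟨hne, hc⟩ := (SimpleGraph.fromRel_adj _ _ _).1 hpq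
    refine (SimpleGraph.fromRel_adj _ _ _).2 ⟨fun e => hne (Subtype.ext ?_), hc.imp (fun h => ?_) (fun h => ?_)⟩
    · exact mul_left_cancel (mul_right_cancel (congrArg Subtype.val e : g * (p : G) * g⁻¹ = g * q * g⁻¹))
    · exact Commute.conj_iff g |>.2 h
    · exact Commute.conj_iff g |>.2 h
  let S : Subgroup G :=
    { carrier := {g | Γ.Reachable d' (act g d')}
      one_mem' := by
        show Γ.Reachable d' (act 1 d')
        rw [show act 1 d' = d' from Subtype.ext (by simp [act])]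
      mul_mem' := fun {g h} hg hh => by
        show Γ.Reachable d' (act (g * h) d')
        rw [show act (g * h) d' = act g (act h d') from Subtype.ext (by simp [act, mul_assoc])]
        exact SimpleGraph.Reachable.trans hg (hact g hh)
      inv_mem' := fun {g} hg => by
        show Γ.Reachable d' (act g⁻¹ d')
        have h := (hact g⁻¹ hg).symm
        rwa [show act g⁻¹ (act g d') = d' from Subtype.ext (by simp [act, mul_assoc])] at h }
  have hdS : d ∈ S := by
    show Γ.Reachable d' (act d d')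
    rw [show act d d' = d' from Subtype.ext (by simp [act, d'])]
  have hdec : ∀ g : G, ∃ s ∈ S, ∃ c ∈ Z, g = c * s := by
    intro g
    obtain ⟨w⟩ := hconn.preconnected ⟨QuotientGroup.mk d, IsConj.refl _⟩
      ⟨QuotientGroup.mk (g * d * g⁻¹), isConj_iff.2 ⟨QuotientGroup.mk g, rfl⟩⟩
    obtain ⟨b, hb, hreach⟩ := hwalk w d' rfl
    have hz : (b : G) * (g * d * g⁻¹)⁻¹ ∈ Z := by
      refine (QuotientGroup.eq_one_iff _).1 ?_
      rw [QuotientGroup.mk_mul, QuotientGroup.mk_inv, hb]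
      exact mul_inv_cancel _
    obtain ⟨c, hc, hcc⟩ := hsqrt _ hz
    refine ⟨c * g, ?_, c⁻¹, inv_mem hc, by group⟩
    show Γ.Reachable d' (act (c * g) d')
    rw [show act (c * g) d' = b from Subtype.ext ?_]
    · exact hreach
    · show c * g * d * (c * g)⁻¹ = b
      have := hmul (g * d * g⁻¹) (isConj_iff.2 ⟨g, rfl⟩) c hc
      calc c * g * d * (c * g)⁻¹ = c * (g * d * g⁻¹) * c⁻¹ := by group
        _ = b := by rw [← this, hcc]; group
  have hLS : ∀ l : L, (l : G) ∈ S := by
    have hsup : S.subgroupOf L ⊔ center L = ⊤ := by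
      refine eq_top_iff.2 fun l _ => ?_
      obtain ⟨s, hs, _, ⟨c, hc, rfl⟩, e⟩ := hdec (l : G)
      have hsL : s ∈ L := by
        have : s = (c : G)⁻¹ * l := by rw [e]; simp
        rw [this]; exact mul_mem (inv_mem c.2) l.2
      have e' : l = c * ⟨s, hsL⟩ := Subtype.ext e
      rw [e']
      exact mul_mem (mem_sup_right hc) (mem_sup_left hs)
    intro l
    have hc : commutator L ≤ S.subgroupOf L := by
      rw [_root_.commutator_def, commutator_le]
      intro a _ b _
      obtain ⟨s, hs, z, hz, rfl⟩ := mem_sup_of_normal_right.1 (hsup.ge (mem_top a))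
      obtain ⟨s', hs', z', hz', rfl⟩ := mem_sup_of_normal_right.1 (hsup.ge (mem_top b))
      have h1 := fun x => (mem_center_iff.1 hz x)
      have h2 := fun x => (mem_center_iff.1 hz' x)
      have e : ⁅s * z, s' * z'⁆ = ⁅s, s'⁆ := by
        simp only [commutatorElement_def, mul_inv_rev]
        calc s * z * (s' * z') * (z⁻¹ * s⁻¹) * (z'⁻¹ * s'⁻¹)
            = s * (z * (s' * z')) * z⁻¹ * s⁻¹ * z'⁻¹ * s'⁻¹ := by group
          _ = s * ((s' * z') * z) * z⁻¹ * s⁻¹ * z'⁻¹ * s'⁻¹ := by rw [h1]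
          _ = s * s' * (z' * s⁻¹) * z'⁻¹ * s'⁻¹ := by group
          _ = s * s' * (s⁻¹ * z') * z'⁻¹ * s'⁻¹ := by rw [h2]
          _ = s * s' * s⁻¹ * s'⁻¹ := by group
      rw [e, commutatorElement_def]
      exact mul_mem (mul_mem (mul_mem hs hs') (inv_mem hs)) (inv_mem hs')
    have := hL.1.commutator_eq_top
    exact hc (this ▸ mem_top l)
  have hS : S = ⊤ := eq_top_iff.2 (hgen ▸ sup_le (fun l hl => hLS ⟨l, hl⟩) (zpowers_le.2 hdS))
  haveI : Nonempty (conjugatesOf d) := ⟨d'⟩
  refine ⟨fun a b => ?_⟩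
  have hr : ∀ a : conjugatesOf d, Γ.Reachable d' a := fun a => by
    obtain ⟨g, hg⟩ := isConj_iff.1 a.2
    have : Γ.Reachable d' (act g d') := (hS ▸ mem_top g : g ∈ S)
    rwa [show act g d' = a from Subtype.ext hg] at this
  exact (hr a).symm.trans (hr b)

end CfsgLib.Spor.GraphLift
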