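/-
The two graphs of an S(3,6,22).
-/
import Cfsg.Agent.Lib.Spor.SteinerMeets
import Mathlib.Combinatorics.SimpleGraph.StronglyRegular

set_option autoImplicit false

namespace CfsgLib.Spor.Steiner

open Cfsg Finset

variable {α : Type*} [Fintype α] [DecidableEq α] {B : Finset (Finset α)}

/-- The hypotheses on an S(3,6,22). -/
structure Design22 (B : Finset (Finset α)) : Prop where
  card_pts : Fintype.card α = 22
  size : ∀ b ∈ B, b.card = 6
  uniq : ∀ F : Finset α, F.card = 3 → ∃! b, b ∈ B ∧ F ⊆ b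

variable (hD : Design22 B)
include hD

theorem Design22.card_blocks : B.card = 77 := by
  have := blocks_through hD.size hD.uniq ∅ (by simp)
  simp [hD.card_pts, Nat.choose] at this
  omega

theorem Design22.through_one (p : α) : (B.filter fun b => p ∈ b).card = 21 := by
  have := blocks_through hD.size hD.uniq {p} (by simp)
  simp [hD.card_pts, Nat.choose, singleton_subset_iff] at this
  omega

theorem Design22.through_two {p q : α} (h : p ≠ q) : (B.filter fun b => p ∈ b ∧ q ∈ b).card = 5 := by
  have := blocks_through hD.size hD.uniq {p, q} (by rw [card_pair h]; norm_num)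
  simp [hD.card_pts, card_pair h, Nat.choose, insert_subset_iff] at this
  omega

theorem Design22.meet {b c : Finset α} (hb : b ∈ B) (hc : c ∈ B) (hne : c ≠ b) :
    (c ∩ b).card = 0 ∨ (c ∩ b).card = 2 := by
  obtain ⟨-, h1, -⟩ := meet_six hD.card_pts hD.size hD.uniq hb
  have := meetNum_eq_zero h1 hc hne
  have := meet_lt hD.size hD.uniq hb hc hne
  omega

theorem Design22.disjoint_count {b : Finset α} (hb : b ∈ B) : (B.filter fun d => (d ∩ b).card = 0).card = 16 := by
  rw [← (meet_six hD.card_pts hD.size hD.uniq hb).1, meetNum]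
  congr 1
  ext d
  simp only [mem_filter, mem_erase]
  refine ⟨fun ⟨hd, h⟩ => ⟨⟨?_, hd⟩, h⟩, fun ⟨⟨_, hd⟩, h⟩ => ⟨hd, h⟩⟩
  rintro rfl
  rw [inter_self, hD.size d hd] at h
  omega

/-- Blocks through a point outside `b` missing `b`. -/
theorem Design22.point_block {b : Finset α} (hb : b ∈ B) {p : α} (hp : p ∉ b) :
    (B.filter fun d => p ∈ d ∧ (d ∩ b).card = 0).card = 6 := by
  have h1 : ∑ d ∈ B.filter (fun d => p ∈ d), (d ∩ b).card = 30 := by
    have e : ∀ d : Finset α, (d ∩ b).card = ∑ q ∈ b, if q ∈ d then 1 else 0 := fun d => by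
      rw [← card_filter, inter_comm, filter_mem_eq_inter]
    rw [sum_congr rfl fun d _ => e d, sum_comm, sum_congr rfl (g := fun _ => 5) fun q hq => ?_]
    · rw [sum_const, hD.size b hb]; rfl
    · rw [← card_filter, filter_filter]
      exact hD.through_two fun e => hp (e ▸ hq)
  have h2 : ∀ d ∈ B.filter (fun d => p ∈ d), (d ∩ b).card = 2 * (if (d ∩ b).card = 0 then 0 else 1) := by
    intro d hd
    rcases hD.meet hb (mem_filter.1 hd).1 (fun e => hp (e ▸ (mem_filter.1 hd).2)) with h | h <;> simp [h]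
  have h3 := hD.through_one p
  rw [sum_congr rfl h2, ← mul_sum, sum_ite, sum_const_zero, zero_add, sum_const, smul_eq_mul, mul_one] at h1
  have h4 := card_filter_add_card_filter_not (s := B.filter fun d => p ∈ d) (fun d => (d ∩ b).card = 0)
  rw [filter_filter] at h4
  omega

omit [Fintype α] hD in
theorem meet_union_card (b c d : Finset α) :
    (d ∩ (b ∪ c)).card + (d ∩ (b ∩ c)).card = (d ∩ b).card + (d ∩ c).card := by
  rw [inter_union_distrib_left, inter_inter_distrib_left]
  exact card_union_add_card_inter _ _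

theorem Design22.moment_fibres (X : Finset α) (S : Finset (Finset α)) (hS : S ⊆ B) (j : ℕ) (hj : j ≤ 3)
    (hv : ∀ d ∈ S, (d ∩ X).card < 5) :
    (∑ d ∈ B \ S, (d ∩ X).card.choose j +
      ∑ i ∈ range 5, (S.filter fun d => (d ∩ X).card = i).card * i.choose j) * (6 - j).choose (3 - j) =
      X.card.choose j * (22 - j).choose (3 - j) := by
  have h := sum_choose_meet hD.size hD.uniq X j hj
  rw [hD.card_pts, ← sum_sdiff hS] at h
  rw [← h]
  congr 2
  rw [← sum_fiberwise_of_maps_to (g := fun d : Finset α => (d ∩ X).card) (t := range 5) (fun d hd => mem_range.2 (hv d hd))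
    (fun d : Finset α => (d ∩ X).card.choose j)]
  refine sum_congr rfl fun i _ => ?_
  rw [← smul_eq_mul, ← sum_const]
  exact sum_congr rfl fun d hd => by rw [(mem_filter.1 hd).2]

theorem Design22.disjoint_pair {b c : Finset α} (hb : b ∈ B) (hc : c ∈ B) (hne : b ≠ c) (h0 : (c ∩ b).card = 0) :
    (B.filter fun d => (d ∩ b).card = 0 ∧ (d ∩ c).card = 0).card = 0 := by
  set X := b ∪ c with hX
  have hXc : X.card = 12 := by
    have := card_union_add_card_inter b c
    rw [inter_comm b c, h0, hD.size b hb, hD.size c hc] at this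
    omega
  set S := B \ {b, c} with hS
  have hBS : B \ S = {b, c} := by
    rw [hS, Finset.sdiff_sdiff_eq_self]
    simp [insert_subset_iff, hb, hc]
  have hval : ∀ d ∈ S, (d ∩ X).card = (d ∩ b).card + (d ∩ c).card := fun d _ => by
    have h := meet_union_card b c d
    have h' := card_le_card (inter_subset_right : d ∩ (b ∩ c) ⊆ b ∩ c)
    rw [inter_comm b c, h0] at h'
    rw [inter_comm c b] at h'
    rw [hX]
    omega
  have hne' : ∀ d ∈ S, d ∈ B ∧ d ≠ b ∧ d ≠ c := fun d hd => by simpa [hS] using hd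
  have hv : ∀ d ∈ S, (d ∩ X).card < 5 ∧ (d ∩ X).card ≠ 1 ∧ (d ∩ X).card ≠ 3 := fun d hd => by
    obtain ⟨hd1, hd2, hd3⟩ := hne' d hd
    have := hval d hd
    rcases hD.meet hb hd1 hd2 with h | h <;> rcases hD.meet hc hd1 hd3 with h' | h' <;> omega
  have z1 : (S.filter fun d => (d ∩ X).card = 1) = ∅ := filter_eq_empty_iff.2 fun d hd => (hv d hd).2.1
  have z3 : (S.filter fun d => (d ∩ X).card = 3) = ∅ := filter_eq_empty_iff.2 fun d hd => (hv d hd).2.2
  have m0 := hD.moment_fibres X S sdiff_subset 0 (by omega) (fun d hd => (hv d hd).1)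
  have m1 := hD.moment_fibres X S sdiff_subset 1 (by omega) (fun d hd => (hv d hd).1)
  have m2 := hD.moment_fibres X S sdiff_subset 2 (by omega) (fun d hd => (hv d hd).1)
  have eb : b ∩ X = b := inter_eq_left.2 subset_union_left
  have ec : c ∩ X = c := inter_eq_left.2 subset_union_right
  simp only [hBS, sum_pair hne, eb, ec, hXc, hD.size b hb, hD.size c hc] at m0 m1 m2
  simp [sum_range_succ, z1, z3, Nat.choose, -Finset.card_eq_zero] at m0 m1 m2
  have hz : (S.filter fun d => (d ∩ X).card = 0).card = 0 := by omega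
  refine Eq.trans (congrArg Finset.card ?_) hz
  ext d
  simp only [mem_filter]
  constructor
  · rintro ⟨hd, h1, h2⟩
    have hdS : d ∈ S := by
      simp only [hS, mem_sdiff, mem_insert, mem_singleton, not_or]
      refine ⟨hd, ?_, ?_⟩
      · rintro rfl; rw [inter_self, hD.size d hd] at h1; omega
      · rintro rfl; rw [inter_self, hD.size d hd] at h2; omega
    exact ⟨hdS, by rw [hval d hdS, h1, h2]⟩
  · rintro ⟨hd, h⟩
    rw [hval d hd] at h
    exact ⟨(hne' d hd).1, by omega, by omega⟩

theorem Design22.meeting_pair {b c : Finset α} (hb : b ∈ B) (hc : c ∈ B) (hne : b ≠ c) (h2 : (c ∩ b).card = 2) :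
    (B.filter fun d => (d ∩ b).card = 0 ∧ (d ∩ c).card = 0).card = 4 := by
  set X := b ∪ c with hX
  have hXc : X.card = 10 := by
    have := card_union_add_card_inter b c
    rw [inter_comm b c, h2, hD.size b hb, hD.size c hc] at this
    rw [hX]
    omega
  set S := B \ {b, c} with hS
  have hBS : B \ S = {b, c} := by
    rw [hS, Finset.sdiff_sdiff_eq_self]
    simp [insert_subset_iff, hb, hc]
  have hne' : ∀ d ∈ S, d ∈ B ∧ d ≠ b ∧ d ≠ c := fun d hd => by simpa [hS] using hd
  have hsum : ∀ d : Finset α, (d ∩ X).card + (d ∩ (b ∩ c)).card = (d ∩ b).card + (d ∩ c).card := fun d =>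
    meet_union_card b c d
  have hsub : ∀ d : Finset α, (d ∩ (b ∩ c)).card ≤ (d ∩ b).card ∧ (d ∩ (b ∩ c)).card ≤ (d ∩ c).card := fun d =>
    ⟨card_le_card (inter_subset_inter_left inter_subset_left), card_le_card (inter_subset_inter_left inter_subset_right)⟩
  have hv : ∀ d ∈ S, (d ∩ X).card < 5 ∧ (d ∩ X).card ≠ 1 ∧
      ((d ∩ X).card = 0 ↔ (d ∩ b).card = 0 ∧ (d ∩ c).card = 0) := fun d hd => by
    obtain ⟨hd1, hd2, hd3⟩ := hne' d hd
    have := hsum d
    have := (hsub d).1
    have := (hsub d).2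
    have hbX : (d ∩ b).card ≤ (d ∩ X).card := card_le_card (inter_subset_inter_left subset_union_left)
    have hcX : (d ∩ c).card ≤ (d ∩ X).card := card_le_card (inter_subset_inter_left subset_union_right)
    rcases hD.meet hb hd1 hd2 with h | h <;> rcases hD.meet hc hd1 hd3 with h' | h' <;> omega
  have z1 : (S.filter fun d => (d ∩ X).card = 1) = ∅ := filter_eq_empty_iff.2 fun d hd => (hv d hd).2.1
  have m0 := hD.moment_fibres X S sdiff_subset 0 (by omega) (fun d hd => (hv d hd).1)
  have m1 := hD.moment_fibres X S sdiff_subset 1 (by omega) (fun d hd => (hv d hd).1)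
  have m2 := hD.moment_fibres X S sdiff_subset 2 (by omega) (fun d hd => (hv d hd).1)
  have m3 := hD.moment_fibres X S sdiff_subset 3 (by omega) (fun d hd => (hv d hd).1)
  have eb : b ∩ X = b := inter_eq_left.2 subset_union_left
  have ec : c ∩ X = c := inter_eq_left.2 subset_union_right
  simp only [hBS, sum_pair hne, eb, ec, hXc, hD.size b hb, hD.size c hc] at m0 m1 m2 m3
  simp [sum_range_succ, z1, Nat.choose, -Finset.card_eq_zero] at m0 m1 m2 m3
  have hz : (S.filter fun d => (d ∩ X).card = 0).card = 4 := by omega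
  refine Eq.trans (congrArg Finset.card ?_) hz
  ext d
  simp only [mem_filter]
  constructor
  · rintro ⟨hd, h1, h2⟩
    have hdS : d ∈ S := by
      simp only [hS, mem_sdiff, mem_insert, mem_singleton, not_or]
      refine ⟨hd, ?_, ?_⟩
      · rintro rfl; rw [inter_self, hD.size d hd] at h1; omega
      · rintro rfl; rw [inter_self, hD.size d hd] at h2; omega
    exact ⟨hdS, (hv d hdS).2.2.2 ⟨h1, h2⟩⟩
  · rintro ⟨hd, h⟩
    exact ⟨(hne' d hd).1, (hv d hd).2.2.1 h⟩

end CfsgLib.Spor.Steiner
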