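/-
Strong regularity of the graphs of an S(3,6,22).
-/
import Cfsg.Agent.Lib.Spor.SteinerGraph

set_option autoImplicit false

namespace CfsgLib.Spor.Steiner

open Cfsg Finset

variable {α : Type*} [Fintype α] [DecidableEq α] {B : Set (Finset α)}

/-- Vertices among the points and blocks satisfying given predicates. -/
def vset (B : Set (Finset α)) (n : Bool) (P : α → Prop) (Q : Finset α → Prop) : Set (Option (α ⊕ B)) :=
  {v | match v with
    | none => n = true
    | some (Sum.inl p) => P p
    | some (Sum.inr d) => Q d.1}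

theorem vset_card (Bf : Finset (Finset α)) (hBf : ∀ d, d ∈ Bf ↔ d ∈ B) (n : Bool) (P : α → Prop) [DecidablePred P]
    (Q : Finset α → Prop) [DecidablePred Q] :
    (vset B n P Q).ncard = (if n then 1 else 0) + ((univ.filter P).card + (Bf.filter Q).card) := by
  classical
  haveI : Finite B := Set.toFinite B
  have e : vset B n P Q = (if n then ({none} : Set (Option (α ⊕ B))) else ∅) ∪
      ((fun p => some (Sum.inl p)) '' {p | P p} ∪ (fun d : B => some (Sum.inr d)) '' {d | Q d.1}) := by
    ext v
    rcases v with - | p | d <;> cases n <;> simp [vset]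
  have h1 : ((fun p => (some (Sum.inl p) : Option (α ⊕ B))) '' {p | P p}).ncard = (univ.filter P).card := by
    rw [Set.ncard_image_of_injective _ (fun a b h => by simpa using h), ← Set.ncard_coe_finset]
    simp
  have h2 : ((fun d : B => (some (Sum.inr d) : Option (α ⊕ B))) '' {d | Q d.1}).ncard = (Bf.filter Q).card := by
    rw [Set.ncard_image_of_injective _ (fun a b h => by simpa using h), ← Set.ncard_coe_finset,
      ← Set.ncard_image_of_injective _ (Subtype.val_injective : Function.Injective (Subtype.val : B → Finset α))]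
    congr 1
    ext d
    simp [hBf, and_comm]
  rw [e, Set.ncard_union_eq ?_ (Set.toFinite _) (Set.toFinite _),
    Set.ncard_union_eq ?_ (Set.toFinite _) (Set.toFinite _), h1, h2]
  · cases n <;> simp
  · rw [Set.disjoint_left]; rintro _ ⟨p, -, rfl⟩ ⟨d, -, h⟩; simp at h
  · rw [Set.disjoint_left]
    intro v hv
    cases n <;> simp at hv
    subst hv
    simp

/-- Adjacent vertices, as a vertex set. -/
theorem nbr_none : (pointBlockGraph B).neighborSet none = vset B false (fun _ => True) (fun _ => False) := by
  ext v; rcases v with - | p | d <;> simp [vset, pointBlockGraph, pointBlockRel]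

theorem nbr_pt (p : α) : (pointBlockGraph B).neighborSet (some (Sum.inl p)) = vset B true (fun _ => False) (fun d => p ∈ d) := by
  ext v; rcases v with - | q | d <;> simp [vset, pointBlockGraph, pointBlockRel]

theorem nbr_blk (hB : ∀ d ∈ B, d.card = 6) (b : B) :
    (pointBlockGraph B).neighborSet (some (Sum.inr b)) = vset B false (fun q => q ∈ b.1) (fun d => (d ∩ b.1).card = 0) := by
  ext v
  rcases v with - | q | d
  · simp [vset, pointBlockGraph, pointBlockRel]
  · simp [vset, pointBlockGraph, pointBlockRel]
  · simp only [vset, SimpleGraph.mem_neighborSet, pointBlockGraph, SimpleGraph.fromRel_adj, pointBlockRel,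
      Set.mem_ofPred_eq, Finset.card_eq_zero, ← Finset.disjoint_iff_inter_eq_empty]
    constructor
    · rintro ⟨-, h | h⟩
      exacts [h.symm, h]
    · intro h
      refine ⟨fun e => ?_, Or.inr h⟩
      have e' : b = d := by simpa using e
      subst e'
      have := hB b.1 b.2
      rw [disjoint_self.1 h] at this
      simp at this

theorem vset_inter (n n' : Bool) (P P' : α → Prop) (Q Q' : Finset α → Prop) :
    vset B n P Q ∩ vset B n' P' Q' = vset B (n && n') (fun p => P p ∧ P' p) (fun d => Q d ∧ Q' d) := by
  ext v; rcases v with - | p | d <;> simp [vset]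

omit [Fintype α] [DecidableEq α] in
theorem card_common {V : Type*} (G : SimpleGraph V) (v w : V) [Fintype (G.commonNeighbors v w)] :
    Fintype.card (G.commonNeighbors v w) = (G.neighborSet v ∩ G.neighborSet w).ncard := by
  rw [← Nat.card_eq_fintype_card, Nat.card_coe_set_eq]; rfl

theorem pointBlock_srg {α : Type*} [Fintype α] {B : Set (Finset α)} (hα : Fintype.card α = 22)
    (hB : Cfsg.IsSteinerSystem 3 6 B) [Fintype B] [DecidableRel (Cfsg.pointBlockGraph B).Adj] :
    (Cfsg.pointBlockGraph B).IsSRGWith 100 22 0 6 := by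
  classical
  set Bf := B.toFinset with hBf
  have hmem : ∀ d, d ∈ Bf ↔ d ∈ B := fun d => Set.mem_toFinset
  have hD : Design22 Bf := ⟨hα, fun d hd => hB.1 d ((hmem d).1 hd), fun F hF => by
    simpa only [hmem] using hB.2 F hF⟩
  have hn0 : (pointBlockGraph B).neighborSet none = _ := nbr_none
  have hnb := fun b : B => nbr_blk hB.1 b
  have hcard : Fintype.card B = 77 := by rw [← hD.card_blocks, hBf, Set.toFinset_card]
  refine ⟨by rw [Fintype.card_option, Fintype.card_sum, hα, hcard], fun v => ?_, fun v w h => ?_, fun v w hne h => ?_⟩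
  · rw [← SimpleGraph.card_neighborSet_eq_degree, ← Nat.card_eq_fintype_card, Nat.card_coe_set_eq]
    rcases v with - | p | b
    · rw [hn0, vset_card Bf hmem]; simp [hα]
    · rw [nbr_pt, vset_card Bf hmem, hD.through_one]; simp
    · rw [hnb, vset_card Bf hmem, hD.disjoint_count ((hmem _).2 b.2)]
      simp [hB.1 b.1 b.2, filter_mem_eq_inter]
  · rw [card_common]
    rcases v with - | p | b <;> rcases w with - | q | c
    all_goals first
      | exact absurd h ((pointBlockGraph B).irrefl)
      | (simp [pointBlockGraph, pointBlockRel] at h; done)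
      | skip
    · rw [hn0, nbr_pt, vset_inter, vset_card Bf hmem]; simp
    · rw [hn0, nbr_pt, vset_inter, vset_card Bf hmem]; simp
    · have hp : p ∈ c.1 := by simpa [pointBlockGraph, pointBlockRel] using h
      rw [nbr_pt, hnb, vset_inter, vset_card Bf hmem]
      simp [filter_eq_empty_iff]
      intro d _ hpd hh
      exact notMem_empty p (hh ▸ mem_inter.2 ⟨hpd, hp⟩)
    · have hp : q ∈ b.1 := by simpa [pointBlockGraph, pointBlockRel] using h
      rw [nbr_pt, hnb, vset_inter, vset_card Bf hmem]
      simp [filter_eq_empty_iff]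
      intro d _ hh hpd
      exact notMem_empty q (hh ▸ mem_inter.2 ⟨hpd, hp⟩)
    · have hd : (c.1 ∩ b.1).card = 0 := by
        have h' : c ∈ {c : B | (some (Sum.inr c) : Option (α ⊕ B)) ∈ (pointBlockGraph B).neighborSet (some (Sum.inr b))} := h
        simpa [hnb, vset] using h'
      have hne : b.1 ≠ c.1 := fun e => by
        rw [← e, inter_self, hB.1 b.1 b.2] at hd; omega
      rw [hnb, hnb, vset_inter, vset_card Bf hmem,
        hD.disjoint_pair ((hmem _).2 b.2) ((hmem _).2 c.2) hne hd]
      simp only [Bool.and_self, Bool.false_eq_true, if_false, zero_add, add_zero, card_eq_zero, filter_eq_empty_iff]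
      intro x _ hx
      rw [card_eq_zero] at hd
      exact notMem_empty x (hd ▸ mem_inter.2 ⟨hx.2, hx.1⟩)
  · rw [card_common]
    rcases v with - | p | b <;> rcases w with - | q | c
    all_goals first
      | exact absurd rfl hne
      | (simp [pointBlockGraph, pointBlockRel] at h; done)
      | skip
    · rw [hn0, hnb, vset_inter, vset_card Bf hmem]; simp [hB.1 c.1 c.2, filter_mem_eq_inter]
    · have hpq : p ≠ q := fun e => hne (by rw [e])
      rw [nbr_pt, nbr_pt, vset_inter, vset_card Bf hmem, hD.through_two hpq]; simp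
    · have hp : p ∉ c.1 := fun hh => h (by simp [pointBlockGraph, pointBlockRel, hh])
      rw [nbr_pt, hnb, vset_inter, vset_card Bf hmem, hD.point_block ((hmem _).2 c.2) hp]; simp
    · rw [hn0, hnb, vset_inter, vset_card Bf hmem]; simp [hB.1 b.1 b.2, filter_mem_eq_inter]
    · have hp : q ∉ b.1 := fun hh => h (by simp [pointBlockGraph, pointBlockRel, hh])
      rw [nbr_pt, hnb, vset_inter, vset_card Bf hmem,
        show (Bf.filter fun d => (d ∩ b.1).card = 0 ∧ q ∈ d) = Bf.filter (fun d => q ∈ d ∧ (d ∩ b.1).card = 0) from filter_congr fun d _ => and_comm,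
        hD.point_block ((hmem _).2 b.2) hp]
      simp
    · have hne' : b.1 ≠ c.1 := fun e => hne (by rw [Subtype.ext e])
      have hd : (c.1 ∩ b.1).card = 2 := by
        rcases hD.meet ((hmem _).2 b.2) ((hmem _).2 c.2) hne'.symm with e | e
        · refine absurd ?_ h
          have : (some (Sum.inr c) : Option (α ⊕ B)) ∈ (pointBlockGraph B).neighborSet (some (Sum.inr b)) := by
            rw [hnb]; exact e
          exact this
        · exact e
      rw [hnb, hnb, vset_inter, vset_card Bf hmem, hD.meeting_pair ((hmem _).2 b.2) ((hmem _).2 c.2) hne' hd]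
      have : (univ.filter fun x => x ∈ b.1 ∧ x ∈ c.1) = c.1 ∩ b.1 := by ext x; simp [and_comm]
      simp [this, hd]

theorem block_srg {α : Type*} [Fintype α] {B : Set (Finset α)} (hα : Fintype.card α = 22)
    (hB : Cfsg.IsSteinerSystem 3 6 B) [Fintype B] [DecidableRel (Cfsg.blockGraph B).Adj] :
    (Cfsg.blockGraph B).IsSRGWith 77 16 0 4 := by
  classical
  set Bf := B.toFinset with hBf
  have hmem : ∀ d, d ∈ Bf ↔ d ∈ B := fun d => Set.mem_toFinset
  have hD : Design22 Bf := ⟨hα, fun d hd => hB.1 d ((hmem d).1 hd), fun F hF => by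
    simpa only [hmem] using hB.2 F hF⟩
  have hadj : ∀ b c : B, (blockGraph B).Adj b c ↔ (c.1 ∩ b.1).card = 0 := by
    intro b c
    simp only [blockGraph, SimpleGraph.fromRel_adj, card_eq_zero, ← disjoint_iff_inter_eq_empty]
    constructor
    · rintro ⟨-, h | h⟩
      exacts [h.symm, h]
    · intro h
      refine ⟨?_, Or.inr h⟩
      rintro rfl
      have := hB.1 b.1 b.2
      rw [disjoint_self.1 h] at this
      simp at this
  have hcount : ∀ (Q : Finset α → Prop) [DecidablePred Q], {d : B | Q d.1}.ncard = (Bf.filter Q).card := fun Q _ => by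
    rw [← Set.ncard_coe_finset, ← Set.ncard_image_of_injective _ (Subtype.val_injective : Function.Injective (Subtype.val : B → Finset α))]
    congr 1
    ext d
    simp [hmem, and_comm]
  have hnb : ∀ b : B, (blockGraph B).neighborSet b = {d : B | (d.1 ∩ b.1).card = 0} := fun b => by
    ext d; exact hadj b d
  refine ⟨by rw [← hD.card_blocks, hBf, Set.toFinset_card], fun v => ?_, fun v w h => ?_, fun v w hne h => ?_⟩
  · rw [← SimpleGraph.card_neighborSet_eq_degree, ← Nat.card_eq_fintype_card, Nat.card_coe_set_eq, hnb,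
      hcount fun d => (d ∩ v.1).card = 0, hD.disjoint_count ((hmem _).2 v.2)]
  · rw [card_common, hnb, hnb, ← Set.ofPred_and, hcount fun d => (d ∩ v.1).card = 0 ∧ (d ∩ w.1).card = 0,
      hD.disjoint_pair ((hmem _).2 v.2) ((hmem _).2 w.2) (fun e => h.ne (Subtype.ext e)) ((hadj v w).1 h)]
  · have hne' : v.1 ≠ w.1 := fun e => hne (Subtype.ext e)
    rw [card_common, hnb, hnb, ← Set.ofPred_and, hcount fun d => (d ∩ v.1).card = 0 ∧ (d ∩ w.1).card = 0,
      hD.meeting_pair ((hmem _).2 v.2) ((hmem _).2 w.2) hne'
        ((hD.meet ((hmem _).2 v.2) ((hmem _).2 w.2) hne'.symm).resolve_left fun e => h ((hadj v w).2 e))]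

end CfsgLib.Spor.Steiner
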