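/-
Subgroups of index 56 and 210 in the two-point group and of index 253 in the one-point group.
-/
import Mathlib
import Cfsg.Agent.Lib.Spor.PointSubgroups

set_option autoImplicit false

namespace CfsgLib.Spor.IndexSub

open Cfsg MulAction PointSub
open scoped Pointwise

/-- The action on an invariant set. -/
def onSet (H : Subgroup (Equiv.Perm GolayPt)) (T : Finset GolayPt) (hinv : ∀ g ∈ H, ∀ q, g q ∈ T ↔ q ∈ T) :
    H →* Equiv.Perm {q // q ∈ T} where
  toFun g := (g : Equiv.Perm GolayPt).subtypePerm (hinv g g.2)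
  map_one' := by ext q; rfl
  map_mul' g h := by ext q; rfl

theorem card_perm_set (T : Finset GolayPt) : Nat.card (Equiv.Perm {q // q ∈ T}) = T.card.factorial := by
  rw [Nat.card_perm, Nat.card_eq_fintype_card, Fintype.card_coe]

theorem onSet_fix {H : Subgroup (Equiv.Perm GolayPt)} {T : Finset GolayPt}
    {hinv : ∀ g ∈ H, ∀ q, g q ∈ T ↔ q ∈ T} {g : H} (hg : onSet H T hinv g = 1) :
    T ⊆ fixSet (g : Equiv.Perm GolayPt) := fun q hq =>
  mem_fixSet.2 (congrArg Subtype.val (Equiv.Perm.ext_iff.1 hg ⟨q, hq⟩))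

theorem mem_fixed_of_subset {t : Finset GolayPt} {g : Equiv.Perm GolayPt} (h : ∀ q ∈ t, g q = q) :
    t ⊆ fixSet g := fun q hq => mem_fixSet.2 (h q hq)

/-- Nine points fixed in all: the action is faithful. -/
theorem onSet_injective {H : Subgroup (Equiv.Perm GolayPt)} (hH : H ≤ M24) {t T : Finset GolayPt}
    (hfix : ∀ g ∈ H, ∀ q ∈ t, g q = q) (hdis : Disjoint t T) (h9 : 9 ≤ t.card + T.card)
    (hinv : ∀ g ∈ H, ∀ q, g q ∈ T ↔ q ∈ T) : Function.Injective (onSet H T hinv) := by
  rw [injective_iff_map_eq_one]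
  intro g hg
  by_contra h1
  have := (Finset.card_le_card (Finset.union_subset (mem_fixed_of_subset (hfix g g.2)) (onSet_fix hg))).trans
    (fix_le_eight (hH g.2) fun e => h1 (Subtype.ext e))
  rw [Finset.card_union_of_disjoint hdis] at this
  omega

theorem card_four_points (x : ℕ → GolayPt) (hx : ∀ i < 4, ∀ j < 4, x i = x j → i = j) :
    Nat.card ↥(M24 ⊓ ⨅ j : Fin 4, stabilizer (Equiv.Perm GolayPt) (x j)) = 960 := by
  rw [card_pointStabilizer (k := 4) (by norm_num) x hx _ (fun g => by simp [Subgroup.mem_iInf, Fin.forall_iff]),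
    card_chainSub 4 (by norm_num)]
  decide +kernel

/-- Four points fixed by a group: its order divides 960. -/
theorem dvd_of_four {H : Subgroup (Equiv.Perm GolayPt)} (hH : H ≤ M24) {t : Finset GolayPt} (htc : t.card = 4)
    (hfix : ∀ g ∈ H, ∀ q ∈ t, g q = q) : Nat.card H ∣ 960 := by
  let e := t.equivFinOfCardEq htc
  let z : ℕ → GolayPt := fun i => if h : i < 4 then ((e.symm ⟨i, h⟩ : t) : GolayPt) else none
  have hle : H ≤ M24 ⊓ ⨅ j : Fin 4, stabilizer (Equiv.Perm GolayPt) (z j) := fun g hg => by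
    simp only [Subgroup.mem_inf, Subgroup.mem_iInf, mem_stabilizer_iff]
    exact ⟨hH hg, fun j => hfix g hg _ (by simp only [z, dif_pos j.2]; exact (e.symm ⟨j, j.2⟩).2)⟩
  have := Subgroup.card_dvd_of_le hle
  rwa [card_four_points z fun i hi j hj h => by
    simp only [z, dif_pos hi, dif_pos hj] at h
    exact congrArg Fin.val (e.symm.injective (Subtype.ext h))] at this

theorem card_three_points {a b c : GolayPt} (hab : a ≠ b) (hac : a ≠ c) (hbc : b ≠ c)
    {H : Subgroup (Equiv.Perm GolayPt)} (hH : H ≤ M24)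
    (hfix : ∀ g ∈ H, g a = a ∧ g b = b ∧ g c = c) : Nat.card H ∣ 20160 := by
  let z : ℕ → GolayPt := fun i => if i = 0 then a else if i = 1 then b else c
  let K : Subgroup (Equiv.Perm GolayPt) := M24 ⊓ ⨅ j : Fin 3, stabilizer (Equiv.Perm GolayPt) (z j)
  have hK : Nat.card K = 20160 := by
    rw [card_pointStabilizer (k := 3) (by norm_num) z (fun i hi j hj h => by
      interval_cases i <;> interval_cases j <;> simp [z, hab, hac, hbc, hab.symm, hac.symm, hbc.symm] at h ⊢) K
      (fun g => by simp [K, Subgroup.mem_iInf, Fin.forall_iff]), card_chainSub 3 (by norm_num)]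
    decide +kernel
  refine hK ▸ Subgroup.card_dvd_of_le fun g hg => ?_
  simp only [K, Subgroup.mem_inf, Subgroup.mem_iInf, mem_stabilizer_iff]
  refine ⟨hH hg, fun j => ?_⟩
  obtain ⟨h1, h2, h3⟩ := hfix g hg
  fin_cases j <;> simp [z, h1, h2, h3]

/-! ### Index 210 -/

theorem no_2112 {H : Subgroup (Equiv.Perm GolayPt)} (hH : H ≤ M24) {a b : GolayPt} (hab : a ≠ b)
    (ha : ∀ g ∈ H, g a = a) (hb : ∀ g ∈ H, g b = b) : Nat.card H ≠ 2112 := by
  intro hc
  haveI : Fact (Nat.Prime 11) := ⟨by norm_num⟩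
  haveI : Fact (Nat.Prime 2) := ⟨Nat.prime_two⟩
  let P : Sylow 11 H := default
  have hP : Nat.card P = 11 := by
    rw [P.card_eq_multiplicity, hc, show (2112 : ℕ) = 11 * 192 from rfl, Nat.factorization_mul (by norm_num)
      (by norm_num), Finsupp.add_apply, Nat.Prime.factorization_self (by norm_num),
      Nat.factorization_eq_zero_of_not_dvd (by norm_num)]
    norm_num
  set N := Subgroup.normalizer ((P : Subgroup H) : Set H)
  have hN : 16 ∣ Nat.card N := by
    have h1 := card_sylow_modEq_one 11 H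
    have h2 := P.card_dvd_index
    have h3 := (P : Subgroup H).card_mul_index
    rw [show Nat.card (P : Subgroup H) = 11 from hP, hc] at h3
    rw [show (P : Subgroup H).index = 192 by omega] at h2
    have h4 : ∀ n : ℕ, n ≤ 192 → n ∣ 192 → n % 11 = 1 → n = 1 ∨ n = 12 := by decide +kernel
    have h5 := N.card_mul_index
    rw [hc, show N.index = Nat.card (Sylow 11 H) from (P.card_eq_index_normalizer).symm] at h5
    rcases h4 _ (Nat.le_of_dvd (by norm_num) h2) h2 h1 with h | h <;> rw [h] at h5 <;> omega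
  haveI : IsCyclic (P : Subgroup H) := isCyclic_of_prime_card hP
  let f : N →* MulAut (P : Subgroup H) := (P : Subgroup H).normalizerMonoidHom
  have hf : Nat.card f.range ∣ 10 := by
    have h := IsCyclic.card_mulAut (P : Subgroup H)
    rw [show Nat.card (P : Subgroup H) = 11 from hP, Nat.totient_prime (by norm_num : Nat.Prime 11)] at h
    have h' := f.range.card_subgroup_dvd_card
    rw [h] at h'
    exact h'
  have hmul := f.ker.card_mul_index
  rw [Subgroup.index_ker] at hmul
  have hev : 2 ∣ Nat.card f.ker := by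
    by_contra hodd
    have hco : Nat.Coprime 16 (Nat.card f.ker) :=
      Nat.Coprime.pow_left 4 ((Nat.Prime.coprime_iff_not_dvd Nat.prime_two).2 hodd)
    have := (hco.dvd_of_dvd_mul_left (hmul.symm ▸ hN)).trans hf
    norm_num at this
  obtain ⟨t, ht⟩ := exists_prime_orderOf_dvd_card' (G := f.ker) 2 hev
  obtain ⟨y, hy⟩ := exists_prime_orderOf_dvd_card' (G := (P : Subgroup H)) 11
    (by rw [show Nat.card (P : Subgroup H) = 11 from hP])
  set T : Equiv.Perm GolayPt := (((t : N) : H) : Equiv.Perm GolayPt)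
  set Y : Equiv.Perm GolayPt := ((y : H) : Equiv.Perm GolayPt)
  have hT : orderOf T = 2 := by rw [Subgroup.orderOf_coe, Subgroup.orderOf_coe, Subgroup.orderOf_coe, ht]
  have hY : orderOf Y = 11 := by rw [Subgroup.orderOf_coe, Subgroup.orderOf_coe, hy]
  have hcomm : T * Y = Y * T := by
    have h := congrArg (fun z : (P : Subgroup H) => ((z : H) : Equiv.Perm GolayPt))
      (DFunLike.congr_fun (MonoidHom.mem_ker.1 t.2) y)
    simp only [f, Subgroup.normalizerMonoidHom_apply_apply_coe, MulAut.one_apply, Subgroup.coe_mul,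
      Subgroup.coe_inv] at h
    exact mul_inv_eq_iff_eq_mul.1 h
  have hTH : T ∈ H := ((t : N) : H).2
  have hYH : Y ∈ H := (y : H).2
  have ht8 : (fixSet T).card = 8 := by
    rcases two_fix (hH hTH) hT with h | h
    · exact h.2
    · have : a ∈ fixSet T := mem_fixSet.2 (ha T hTH)
      rw [h] at this
      simp at this
  have hinv : ∀ q ∈ fixSet T, Y q ∈ fixSet T := fun q hq => by
    rw [mem_fixSet] at hq ⊢
    have := Equiv.Perm.ext_iff.1 hcomm q
    simp only [Equiv.Perm.mul_apply] at this
    rw [this, hq]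
  have h11 := card_modEq (pow_orderOf_self hY) _ hinv
  have hY2 : fixSet Y = {a, b} := (Finset.eq_of_subset_of_card_le (fun q hq => by
    simp only [Finset.mem_insert, Finset.mem_singleton] at hq
    rcases hq with rfl | rfl
    exacts [mem_fixSet.2 (ha Y hYH), mem_fixSet.2 (hb Y hYH)])
    (by rw [fix_card (by norm_num) (hH hYH) hY, Finset.card_pair hab])).symm
  have e : fixIn Y (fixSet T) = {a, b} := by
    refine Finset.Subset.antisymm (hY2 ▸ fixIn_subset Y _) fun q hq => mem_fixIn.2 ⟨?_, ?_⟩
    · simp only [Finset.mem_insert, Finset.mem_singleton] at hq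
      rcases hq with rfl | rfl
      exacts [mem_fixSet.2 (ha T hTH), mem_fixSet.2 (hb T hTH)]
    · exact mem_fixSet.1 (hY2.symm ▸ hq)
  rw [e, Finset.card_pair hab, ht8] at h11
  norm_num at h11

/-! ### Index 56 -/

theorem no_7920 {H : Subgroup (Equiv.Perm GolayPt)} (hH : H ≤ M24) {a b : GolayPt} (hab : a ≠ b)
    (ha : ∀ g ∈ H, g a = a) (hb : ∀ g ∈ H, g b = b) : Nat.card H ≠ 7920 := by
  intro hc
  haveI : Fact (Nat.Prime 11) := ⟨by norm_num⟩
  haveI : Fact (Nat.Prime 5) := ⟨by norm_num⟩
  haveI : Fact (Nat.Prime 3) := ⟨by norm_num⟩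
  set t2 : Finset GolayPt := {a, b}
  have k2 : t2.card = 2 := Finset.card_pair hab
  have hfix : ∀ g ∈ H, ∀ q ∈ t2, g q = q := fun g hg q hq => by
    simp only [t2, Finset.mem_insert, Finset.mem_singleton] at hq
    rcases hq with rfl | rfl
    exacts [ha g hg, hb g hg]
  set U := t2ᶜ
  have hUc : U.card = 22 := by rw [Finset.card_compl, k2, ← Finset.card_univ, card_univ_pts]
  have hU : ∀ g ∈ H, ∀ q ∈ U, g q ∈ U := fun g hg q hq => Finset.mem_compl.2 fun h =>
    Finset.mem_compl.1 hq (g.injective (hfix g hg (g q) h) ▸ h)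
  have hdisU : ∀ V : Finset GolayPt, V ⊆ U → Disjoint t2 V := fun V hV =>
    Finset.disjoint_left.2 fun q hq h => Finset.mem_compl.1 (hV h) hq
  -- an orbit
  obtain ⟨Q, hQH, hQo⟩ := exists_order (H := H) 11 (by rw [hc]; norm_num)
  have horb : ∀ x ∈ U, (orbitF H x).card = 11 ∨ (orbitF H x).card = 22 := fun x hx => by
    have hS : orbitF H x ⊆ U := orbitF_subset hx hU
    have h1 := card_modEq (pow_orderOf_self hQo) _ (orbitF_closed (a := x) hQH)
    have h2 := fixIn_card_le (x := Q) (hfix Q hQH) (hdisU _ hS)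
    rw [fix_card (by norm_num) (hH hQH) hQo, k2] at h2
    have hle := Finset.card_le_card hS
    have hpos := Finset.card_pos.2 ⟨_, self_mem_orbitF H x⟩
    omega
  have five : ∀ {K : Subgroup (Equiv.Perm GolayPt)}, K ≤ H → 5 ∣ Nat.card K → ∃ P ∈ K, orderOf P = 5 ∧
      ∀ V : Finset GolayPt, V ⊆ U → (fixIn P V).card ≤ 2 := fun hK h5 => by
    obtain ⟨P, hP, hPo⟩ := exists_order 5 h5
    refine ⟨P, hP, hPo, fun V hV => ?_⟩
    have h := fixIn_card_le (x := P) (hfix P (hK hP)) (hdisU _ hV)
    rw [fix_card le_rfl (hH (hK hP)) hPo, k2] at h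
    omega
  have no4 : ∀ (K : Subgroup (Equiv.Perm GolayPt)) (x y : GolayPt), K ≤ H → x ∈ U → y ∈ U → x ≠ y →
      (∀ g ∈ K, g x = x ∧ g y = y) → Nat.card K ∣ 960 := fun K x y hK hx hy hxy h => by
    have hx' := Finset.mem_compl.1 hx
    have hy' := Finset.mem_compl.1 hy
    refine dvd_of_four (hK.trans hH) (t := insert x (insert y t2)) ?_ fun g hg q hq => ?_
    · rw [Finset.card_insert_of_notMem (by simp [hxy, hx']), Finset.card_insert_of_notMem hy', k2]
    · rcases Finset.mem_insert.1 hq with rfl | hq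
      · exact (h g hg).1
      rcases Finset.mem_insert.1 hq with rfl | hq
      · exact (h g hg).2
      · exact hfix g (hK hg) q hq
  obtain ⟨x₀, hx₀⟩ : U.Nonempty := Finset.card_pos.1 (by omega)
  rcases horb x₀ hx₀ with h11 | h22
  · -- two orbits of length eleven
    set K := H ⊓ stabilizer (Equiv.Perm GolayPt) x₀
    have hKH : K ≤ H := inf_le_left
    have hK : Nat.card K = 720 := card_stab h11 (by rw [hc]) (by norm_num)
    have hS : orbitF H x₀ ⊆ U := orbitF_subset hx₀ hU
    set T := U \ orbitF H x₀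
    have hTc : T.card = 11 := by rw [Finset.card_sdiff_of_subset hS, hUc, h11]
    have hT : ∀ g ∈ H, ∀ q ∈ T, g q ∈ T := fun g hg => compl_orbitF_closed (a := x₀) hg (hU g hg)
    obtain ⟨P, hPK, hPo, hP2⟩ := five hKH (by rw [hK]; norm_num)
    have e1 := card_modEq (pow_orderOf_self hPo) T (hT P (hKH hPK))
    rw [hTc] at e1
    obtain ⟨y, hy⟩ := Finset.card_pos.1 (show 0 < (fixIn P T).card by omega)
    obtain ⟨hyT, hPy⟩ := mem_fixIn.1 hy
    have hyU : y ∈ U := (Finset.mem_sdiff.1 hyT).1
    have hxy : x₀ ≠ y := fun e => (Finset.mem_sdiff.1 hyT).2 (e ▸ self_mem_orbitF H x₀)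
    have hSy : orbitF K y ⊆ T := orbitF_subset hyT fun g hg => hT g (hKH hg)
    have e2 := card_modEq (pow_orderOf_self hPo) _ (orbitF_closed (a := y) hPK)
    have e3 : 0 < (fixIn P (orbitF K y)).card :=
      Finset.card_pos.2 ⟨y, mem_fixIn.2 ⟨self_mem_orbitF K y, hPy⟩⟩
    have e4 := hP2 T Finset.sdiff_subset
    have e4' : (fixIn P (orbitF K y)).card ≤ (fixIn P T).card :=
      Finset.card_le_card (Finset.filter_subset_filter _ hSy)
    have hle := Finset.card_le_card hSy
    have hdvd : (orbitF K y).card ∣ 720 := hK ▸ ⟨_, (card_orbitF K y).symm⟩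
    have h11' : (orbitF K y).card ≠ 11 := fun e => by rw [e] at hdvd; norm_num at hdvd
    rcases (show (orbitF K y).card = 1 ∨ (orbitF K y).card = 6 by omega) with h1 | h6
    · have h := no4 K x₀ y hKH hx₀ hyU hxy fun g hg => ⟨(mem_inf_stab.1 hg).2, fixed_of_orbitF_one h1 g hg⟩
      rw [hK] at h
      norm_num at h
    · set V := T \ orbitF K y
      have hVc : V.card = 5 := by rw [Finset.card_sdiff_of_subset hSy, hTc, h6]
      have hV : ∀ g ∈ K, ∀ q, g q ∈ V ↔ q ∈ V := fun g hg =>
        invariant_iff (compl_orbitF_closed (a := y) hg (hT g (hKH hg)))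
      let f := onSet K V hV
      have hr : Nat.card f.range ∣ 120 := by
        have h := f.range.card_subgroup_dvd_card
        rw [card_perm_set, hVc] at h
        exact h
      have hmul := f.ker.card_mul_index
      rw [Subgroup.index_ker, hK] at hmul
      have hk : ∀ p : ℕ, p.Prime → 3 ≤ p → ¬ p ∣ Nat.card f.ker := fun p hp hp3 hd => by
        haveI : Fact p.Prime := ⟨hp⟩
        obtain ⟨g, hg⟩ := exists_prime_orderOf_dvd_card' (G := f.ker) p hd
        set G : Equiv.Perm GolayPt := ((g : K) : Equiv.Perm GolayPt)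
        have hGo : orderOf G = p := by rw [Subgroup.orderOf_coe, Subgroup.orderOf_coe, hg]
        have hGH : G ∈ H := hKH (g : K).2
        have hsub : insert x₀ t2 ∪ V ⊆ fixSet G := Finset.union_subset
          (mem_fixed_of_subset fun q hq => by
            rcases Finset.mem_insert.1 hq with rfl | hq
            exacts [(mem_inf_stab.1 (g : K).2).2, hfix G hGH q hq]) (onSet_fix g.2)
        have hcard := Finset.card_le_card hsub
        have hd1 : Disjoint (insert x₀ t2) V := Finset.disjoint_insert_left.2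
          ⟨fun h => (Finset.mem_sdiff.1 (Finset.mem_sdiff.1 h).1).2 (self_mem_orbitF H x₀),
            hdisU _ (Finset.sdiff_subset.trans Finset.sdiff_subset)⟩
        rw [Finset.card_union_of_disjoint hd1, Finset.card_insert_of_notMem (Finset.mem_compl.1 hx₀), k2, hVc]
          at hcard
        rcases Nat.lt_or_ge p 5 with h | h
        · have hp3' : p = 3 := by
            have : p ≠ 4 := fun e => absurd (e ▸ hp) (by norm_num)
            omega
          rcases three_fix (hH hGH) (hp3' ▸ hGo) with h | h <;> omega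
        · have := fix_le_four h (hH hGH) hGo
          omega
      have hd : 720 ∣ Nat.card f.ker * 120 := by
        conv_lhs => rw [← hmul]
        exact Nat.mul_dvd_mul_left _ hr
      exact hk 3 (by norm_num) le_rfl (by omega)
  · -- one orbit
    have hUeq : orbitF H x₀ = U := Finset.eq_of_subset_of_card_le (orbitF_subset hx₀ hU) (by omega)
    have hall : ∀ x ∈ U, orbitF H x = U := fun x hx => by
      obtain ⟨g, hg, rfl⟩ := mem_orbitF.1 (hUeq.symm ▸ hx)
      refine Finset.Subset.antisymm (orbitF_subset hx hU) fun q hq => ?_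
      obtain ⟨k, hk, rfl⟩ := mem_orbitF.1 (hUeq.symm ▸ hq)
      exact mem_orbitF.2 ⟨k * g⁻¹, H.mul_mem hk (H.inv_mem hg), by simp [Equiv.Perm.mul_apply]⟩
    have c360 : ∀ x ∈ U, Nat.card ↥(H ⊓ stabilizer (Equiv.Perm GolayPt) x) = 360 := fun x hx =>
      card_stab (by rw [hall x hx, hUc]) (by rw [hc]) (by norm_num)
    have six : ∀ x ∈ U, ∃ S : Finset GolayPt, S ⊆ U.erase x ∧ S.card = 6 ∧
        (∀ g ∈ H ⊓ stabilizer (Equiv.Perm GolayPt) x, ∀ q ∈ S, g q ∈ S) ∧
        ∀ q ∈ U.erase x, (orbitF (H ⊓ stabilizer (Equiv.Perm GolayPt) x) q).card = 6 ↔ q ∈ S := by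
      intro x hx
      set K := H ⊓ stabilizer (Equiv.Perm GolayPt) x
      have hKH : K ≤ H := inf_le_left
      have hK : Nat.card K = 360 := c360 x hx
      obtain ⟨P, hPK, hPo, hP2⟩ := five hKH (by rw [hK]; norm_num)
      have hE : ∀ g ∈ K, ∀ q ∈ U.erase x, g q ∈ U.erase x := fun g hg q hq => by
        rw [Finset.mem_erase] at hq ⊢
        exact ⟨fun e => hq.1 (g.injective (e.trans (mem_inf_stab.1 hg).2.symm)), hU g (hKH hg) q hq.2⟩
      have hEc : (U.erase x).card = 21 := by rw [Finset.card_erase_of_mem hx, hUc]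
      have e1 := card_modEq (pow_orderOf_self hPo) _ (hE P hPK)
      rw [hEc] at e1
      obtain ⟨y, hy⟩ := Finset.card_pos.1 (show 0 < (fixIn P (U.erase x)).card by omega)
      obtain ⟨hyE, hPy⟩ := mem_fixIn.1 hy
      set S := orbitF K y
      have hS : S ⊆ U.erase x := orbitF_subset hyE hE
      have hfixU : insert x (fixIn P (U.erase x)) ⊆ fixIn P U := Finset.insert_subset
        (mem_fixIn.2 ⟨hx, (mem_inf_stab.1 hPK).2⟩) (Finset.filter_subset_filter _ (Finset.erase_subset _ _))
      have hfx := Finset.card_le_card hfixU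
      rw [Finset.card_insert_of_notMem fun h => (Finset.mem_erase.1 (mem_fixIn.1 h).1).1 rfl] at hfx
      have := hP2 U subset_rfl
      have e2 := card_modEq (pow_orderOf_self hPo) _ (orbitF_closed (a := y) hPK)
      change S.card % 5 = (fixIn P S).card % 5 at e2
      have e3 : 0 < (fixIn P S).card := Finset.card_pos.2 ⟨y, mem_fixIn.2 ⟨self_mem_orbitF K y, hPy⟩⟩
      have e4 : (fixIn P S).card ≤ (fixIn P (U.erase x)).card :=
        Finset.card_le_card (Finset.filter_subset_filter _ hS)
      have hle := Finset.card_le_card hS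
      have hdvd : S.card ∣ 360 := hK ▸ ⟨_, (card_orbitF K y).symm⟩
      have hne : S.card ≠ 11 ∧ S.card ≠ 16 ∧ S.card ≠ 21 := by
        refine ⟨?_, ?_, ?_⟩ <;> intro e <;> rw [e] at hdvd <;> norm_num at hdvd
      have hS1 : S.card ≠ 1 := fun h1 => by
        have h := no4 K x y hKH hx (Finset.mem_erase.1 hyE).2 (Ne.symm (Finset.mem_erase.1 hyE).1)
          fun g hg => ⟨(mem_inf_stab.1 hg).2, fixed_of_orbitF_one h1 g hg⟩
        rw [hK] at h
        norm_num at h
      have hS6 : S.card = 6 := by omega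
      refine ⟨S, hS, hS6, fun g hg => orbitF_closed hg, fun q hq => ⟨fun h6 => ?_, fun hqS => ?_⟩⟩
      · by_contra hqS
        have hO : orbitF K q ⊆ U.erase x \ S :=
          orbitF_subset (Finset.mem_sdiff.2 ⟨hq, hqS⟩) fun g hg => compl_orbitF_closed (a := y) hg (hE g hg)
        have e5 := card_modEq (pow_orderOf_self hPo) _ (orbitF_closed (a := q) hPK)
        rw [h6] at e5
        have e6 : (fixIn P S).card + (fixIn P (orbitF K q)).card ≤ (fixIn P (U.erase x)).card := by
          have hd : Disjoint (fixIn P S) (fixIn P (orbitF K q)) := Finset.disjoint_left.2 fun r h1 h2 =>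
            (Finset.mem_sdiff.1 (hO (mem_fixIn.1 h2).1)).2 (mem_fixIn.1 h1).1
          rw [← Finset.card_union_of_disjoint hd]
          exact Finset.card_le_card (Finset.union_subset (Finset.filter_subset_filter _ hS)
            (Finset.filter_subset_filter _ (hO.trans Finset.sdiff_subset)))
        omega
      · obtain ⟨g, hg, rfl⟩ := mem_orbitF.1 hqS
        have e : orbitF K (g y) = S := by
          ext r
          rw [mem_orbitF, mem_orbitF]
          exact ⟨fun ⟨k, hk, hkr⟩ => ⟨k * g, K.mul_mem hk hg, hkr⟩,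
            fun ⟨k, hk, hkr⟩ => ⟨k * g⁻¹, K.mul_mem hk (K.inv_mem hg), by simp [Equiv.Perm.mul_apply, hkr]⟩⟩
        rw [e, hS6]
    obtain ⟨S, hSU, hSc, hSinv, hSchar⟩ := six x₀ hx₀
    set B := insert x₀ S
    have hxS : x₀ ∉ S := fun h => (Finset.mem_erase.1 (hSU h)).1 rfl
    have hBc : B.card = 7 := by rw [Finset.card_insert_of_notMem hxS, hSc]
    set K := H ⊓ stabilizer (Equiv.Perm GolayPt) x₀
    -- moving the base point inside the seven points keeps them
    have hblock : ∀ g ∈ H, g x₀ ∈ S → ∀ q ∈ B, g q ∈ B := by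
      intro g hg hga
      set a' := g x₀
      have ha'U : a' ∈ U := (Finset.mem_erase.1 (hSU hga)).2
      have hne : a' ≠ x₀ := fun e => hxS (e ▸ hga)
      obtain ⟨S', hS'U, hS'c, hS'inv, hS'char⟩ := six a' ha'U
      set K' := H ⊓ stabilizer (Equiv.Perm GolayPt) a'
      have c60 : Nat.card ↥(K ⊓ stabilizer (Equiv.Perm GolayPt) a') = 60 :=
        card_stab ((hSchar a' (hSU hga)).2 hga) (by rw [c360 x₀ hx₀]) (by norm_num)
      have hswap : K ⊓ stabilizer (Equiv.Perm GolayPt) a' = K' ⊓ stabilizer (Equiv.Perm GolayPt) x₀ :=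
        inf_right_comm _ _ _
      have hx₀E : x₀ ∈ U.erase a' := Finset.mem_erase.2 ⟨hne.symm, hx₀⟩
      have hxS' : x₀ ∈ S' := by
        refine (hS'char x₀ hx₀E).1 ?_
        have h := card_orbitF K' x₀
        rw [← hswap, c60, show Nat.card K' = 360 from c360 a' ha'U] at h
        omega
      obtain ⟨P, hPm, hPo, hP2⟩ :=
        five (K := K ⊓ stabilizer (Equiv.Perm GolayPt) a') (inf_le_left.trans inf_le_left) (by rw [c60]; norm_num)
      obtain ⟨hPK, hPa⟩ := mem_inf_stab.1 hPm
      have hsubS : S.erase a' ⊆ S' := by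
        intro b' hb'
        obtain ⟨hb'a, hb'S⟩ := Finset.mem_erase.1 hb'
        have hE5 : ∀ k ∈ K ⊓ stabilizer (Equiv.Perm GolayPt) a', ∀ q ∈ S.erase a', k q ∈ S.erase a' :=
          fun k hk q hq => by
            rw [Finset.mem_erase] at hq ⊢
            exact ⟨fun e => hq.1 (k.injective (e.trans (mem_inf_stab.1 hk).2.symm)),
              hSinv k (mem_inf_stab.1 hk).1 q hq.2⟩
        have hOb : orbitF (K ⊓ stabilizer (Equiv.Perm GolayPt) a') b' ⊆ S.erase a' := orbitF_subset hb' hE5
        have e5 : (orbitF (K ⊓ stabilizer (Equiv.Perm GolayPt) a') b').card = 5 := by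
          have h1 := card_modEq (pow_orderOf_self hPo) _ (orbitF_closed (a := b') hPm)
          have h2 : fixIn P (orbitF (K ⊓ stabilizer (Equiv.Perm GolayPt) a') b') = ∅ := by
            refine Finset.eq_empty_of_forall_notMem fun r hr => ?_
            obtain ⟨hr1, hr2⟩ := mem_fixIn.1 hr
            obtain ⟨hra, hrS⟩ := Finset.mem_erase.1 (hOb hr1)
            have hrU := (Finset.mem_erase.1 (hSU hrS))
            have hsub : ({x₀, a', r} : Finset GolayPt) ⊆ fixIn P U := by
              simp only [Finset.insert_subset_iff, Finset.singleton_subset_iff, mem_fixIn]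
              exact ⟨⟨hx₀, (mem_inf_stab.1 hPK).2⟩, ⟨ha'U, hPa⟩, hrU.2, hr2⟩
            have h3 := (Finset.card_le_card hsub).trans (hP2 U subset_rfl)
            rw [Finset.card_insert_of_notMem (by simp [hne.symm, hrU.1.symm]),
              Finset.card_pair hra.symm] at h3
            omega
          rw [h2, Finset.card_empty] at h1
          have hle := Finset.card_le_card hOb
          rw [Finset.card_erase_of_mem hga, hSc] at hle
          have hpos := Finset.card_pos.2 ⟨_, self_mem_orbitF (K ⊓ stabilizer (Equiv.Perm GolayPt) a') b'⟩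
          omega
        have c12 : Nat.card ↥(K ⊓ stabilizer (Equiv.Perm GolayPt) a' ⊓ stabilizer (Equiv.Perm GolayPt) b') = 12 :=
          card_stab e5 (by rw [c60]) (by norm_num)
        obtain ⟨t, htm, hto⟩ := exists_order (H := K ⊓ stabilizer (Equiv.Perm GolayPt) a' ⊓
          stabilizer (Equiv.Perm GolayPt) b') 3 (by rw [c12]; norm_num)
        obtain ⟨htm', htb⟩ := mem_inf_stab.1 htm
        obtain ⟨htK, hta⟩ := mem_inf_stab.1 htm'
        obtain ⟨htH, htx⟩ := mem_inf_stab.1 htK
        have htK' : t ∈ K' := mem_inf_stab.2 ⟨htH, hta⟩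
        have hb'U := Finset.mem_erase.1 (hSU hb'S)
        have h1 := card_modEq (pow_orderOf_self hto) S' (hS'inv t htK')
        have h2 : 0 < (fixIn t S').card := Finset.card_pos.2 ⟨x₀, mem_fixIn.2 ⟨hxS', htx⟩⟩
        have h3 : (fixIn t U).card ≤ 4 := by
          have h := fixIn_card_le (x := t) (hfix t htH) (hdisU U subset_rfl)
          rw [k2] at h
          rcases three_fix (hH htH) hto with e | e <;> omega
        have hsub : insert a' (fixIn t S') ⊆ fixIn t U := Finset.insert_subset (mem_fixIn.2 ⟨ha'U, hta⟩)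
          (Finset.filter_subset_filter _ (hS'U.trans (Finset.erase_subset _ _)))
        have hna : a' ∉ fixIn t S' := fun h => (Finset.mem_erase.1 (hS'U (mem_fixIn.1 h).1)).1 rfl
        have h4 := Finset.card_le_card hsub
        rw [Finset.card_insert_of_notMem hna] at h4
        rw [hS'c] at h1
        have heq := Finset.eq_of_subset_of_card_le hsub (by rw [Finset.card_insert_of_notMem hna]; omega)
        have hb'' : b' ∈ insert a' (fixIn t S') := heq.symm ▸ mem_fixIn.2 ⟨hb'U.2, htb⟩
        exact (mem_fixIn.1 ((Finset.mem_insert.1 hb'').resolve_left hb'a)).1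
      have hS'eq : insert x₀ (S.erase a') = S' := Finset.eq_of_subset_of_card_le
        (Finset.insert_subset hxS' hsubS) (by
          rw [Finset.card_insert_of_notMem fun h => hxS (Finset.mem_erase.1 h).2,
            Finset.card_erase_of_mem hga, hSc, hS'c])
      intro q hq
      rcases Finset.mem_insert.1 hq with rfl | hqS
      · exact Finset.mem_insert_of_mem hga
      · have hgq : g q ∈ S' := by
          obtain ⟨hqx, hqU⟩ := Finset.mem_erase.1 (hSU hqS)
          refine (hS'char (g q) (Finset.mem_erase.2 ⟨fun e => hqx (g.injective e), hU g hg q hqU⟩)).1 ?_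
          have e : orbitF K' (g q) = (orbitF K q).map g.toEmbedding := by
            ext r
            rw [Finset.mem_map, mem_orbitF]
            constructor
            · rintro ⟨k, hk, rfl⟩
              obtain ⟨hkH, hka⟩ := mem_inf_stab.1 hk
              refine ⟨g⁻¹ (k (g q)), mem_orbitF.2 ⟨g⁻¹ * k * g, mem_inf_stab.2
                ⟨H.mul_mem (H.mul_mem (H.inv_mem hg) hkH) hg, ?_⟩, rfl⟩, Equiv.apply_symm_apply _ _⟩
              rw [Equiv.Perm.mul_apply, Equiv.Perm.mul_apply, Equiv.Perm.inv_eq_iff_eq]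
              exact hka
            · rintro ⟨s, hs, rfl⟩
              obtain ⟨k, hk, rfl⟩ := mem_orbitF.1 hs
              obtain ⟨hkH, hkx⟩ := mem_inf_stab.1 hk
              refine ⟨g * k * g⁻¹, mem_inf_stab.2 ⟨H.mul_mem (H.mul_mem hg hkH) (H.inv_mem hg), ?_⟩, ?_⟩
              · show g (k (g⁻¹ (g x₀))) = g x₀
                rw [Equiv.Perm.inv_def, Equiv.symm_apply_apply, hkx]
              · show g (k (g⁻¹ (g q))) = g (k q)
                rw [Equiv.Perm.inv_def, Equiv.symm_apply_apply]
          rw [e, Finset.card_map]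
          exact (hSchar q (hSU hqS)).2 hqS
        rw [← hS'eq] at hgq
        rcases Finset.mem_insert.1 hgq with h | h
        · exact h ▸ Finset.mem_insert_self _ _
        · exact Finset.mem_insert_of_mem (Finset.mem_erase.1 h).2
    -- seven would divide the order
    set L := H ⊓ stabilizer (Equiv.Perm GolayPt) B
    have hLmem : ∀ g, g ∈ L ↔ g ∈ H ∧ ∀ q ∈ B, g q ∈ B := fun g => by
      simp only [L, Subgroup.mem_inf, mem_stabilizer_iff]
      refine and_congr_right fun _ => ⟨fun h q hq => ?_, fun h => ?_⟩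
      · rw [← h]; exact Finset.smul_mem_smul_finset hq
      · refine Finset.eq_of_subset_of_card_le (fun r hr => ?_) (by rw [Finset.card_smul_finset])
        obtain ⟨q, hq, rfl⟩ := Finset.mem_smul_finset.1 hr
        exact h q hq
    have hO : orbitF L x₀ = B := by
      refine Finset.Subset.antisymm
        (orbitF_subset (Finset.mem_insert_self _ _) fun g hg => ((hLmem g).1 hg).2) fun q hq => ?_
      rcases Finset.mem_insert.1 hq with rfl | hqS
      · exact self_mem_orbitF L q
      · obtain ⟨g, hg, rfl⟩ := mem_orbitF.1 ((hall x₀ hx₀).symm ▸ (Finset.mem_erase.1 (hSU hqS)).2)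
        exact mem_orbitF.2 ⟨g, (hLmem g).2 ⟨hg, hblock g hg hqS⟩, rfl⟩
    have h7 : 7 ∣ Nat.card H := by
      have h := card_orbitF L x₀
      rw [hO, hBc] at h
      have hdvd : 7 ∣ Nat.card L := ⟨_, h.symm⟩
      exact hdvd.trans (Subgroup.card_dvd_of_le inf_le_left)
    rw [hc] at h7
    norm_num at h7

/-! ### Index 253 -/

/-- A permutation group of order 40320 fixing a point preserves a pair or an octad through that point. -/
theorem index_253 {H : Subgroup (Equiv.Perm GolayPt)} (hH : H ≤ M24) {a : GolayPt}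
    (ha : ∀ g ∈ H, g a = a) (hc : Nat.card H = 40320) :
    (∃ u v, u ≠ v ∧ u ≠ a ∧ v ≠ a ∧ ∀ g ∈ H, g • ({u, v} : Finset GolayPt) = {u, v}) ∨
      ∃ o ∈ octads, a ∈ o ∧ ∀ g ∈ H, g • o = o := by
  haveI : Fact (Nat.Prime 7) := ⟨by norm_num⟩
  haveI : Fact (Nat.Prime 5) := ⟨by norm_num⟩
  haveI : Fact (Nat.Prime 2) := ⟨Nat.prime_two⟩
  obtain ⟨R, hRH, hRo⟩ := exists_order (H := H) 7 (by rw [hc]; norm_num)
  obtain ⟨P, hPH, hPo⟩ := exists_order (H := H) 5 (by rw [hc]; norm_num)
  have hR3 : (fixSet R).card = 3 := fix_card (by norm_num) (hH hRH) hRo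
  have hP4 : (fixSet P).card = 4 := fix_card le_rfl (hH hPH) hPo
  set U := Finset.univ.erase a
  have hUc : U.card = 23 := by rw [Finset.card_erase_of_mem (Finset.mem_univ a), card_univ_pts]
  have hU : ∀ g ∈ H, ∀ q ∈ U, g q ∈ U := fun g hg q hq => by
    simp only [U, Finset.mem_erase, Finset.mem_univ, and_true] at hq ⊢
    exact fun e => hq (g.injective (e.trans (ha g hg).symm))
  have hfix1 : ∀ g ∈ H, ∀ q ∈ ({a} : Finset GolayPt), g q = q := fun g hg q hq => by
    rw [Finset.mem_singleton] at hq; rw [hq]; exact ha g hg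
  have hdis : ∀ V : Finset GolayPt, V ⊆ U → Disjoint ({a} : Finset GolayPt) V := fun V hV =>
    Finset.disjoint_singleton_left.2 fun h => by simpa [U] using hV h
  have hRU : (fixIn R U).card = 2 := by
    have e : fixSet R = insert a (fixIn R U) := by
      ext q
      simp only [mem_fixSet, Finset.mem_insert, mem_fixIn, U, Finset.mem_erase, Finset.mem_univ, and_true]
      refine ⟨fun h => (em (q = a)).imp id fun hne => ⟨hne, h⟩, fun h => ?_⟩
      rcases h with h | h
      exacts [by rw [h]; exact ha R hRH, h.2]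
    rw [e, Finset.card_insert_of_notMem fun h => by simpa [U] using (mem_fixIn.1 h).1] at hR3
    omega
  obtain ⟨p, q, hpq, hpqe⟩ := Finset.card_eq_two.1 hRU
  have hp' := mem_fixIn.1 (show p ∈ fixIn R U by rw [hpqe]; exact Finset.mem_insert_self _ _)
  have hq' := mem_fixIn.1 (show q ∈ fixIn R U by
    rw [hpqe]; exact Finset.mem_insert_of_mem (Finset.mem_singleton_self _))
  have hpa : p ≠ a := (Finset.mem_erase.1 hp'.1).1
  have hqa : q ≠ a := (Finset.mem_erase.1 hq'.1).1
  set S := orbitF H p
  have hS : S ⊆ U := orbitF_subset hp'.1 hU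
  have hdvd : S.card ∣ 40320 := hc ▸ ⟨_, (card_orbitF H p).symm⟩
  have hs23 : S.card ≠ 22 ∧ S.card ≠ 23 := by
    refine ⟨?_, ?_⟩ <;> intro e <;> rw [e] at hdvd <;> norm_num at hdvd
  have hle := Finset.card_le_card hS
  have hR1 := card_modEq (pow_orderOf_self hRo) _ (orbitF_closed (a := p) hRH)
  change S.card % 7 = (fixIn R S).card % 7 at hR1
  set T := U \ S
  have hT : ∀ g ∈ H, ∀ r ∈ T, g r ∈ T := fun g hg => compl_orbitF_closed (a := p) hg (hU g hg)
  have hTc : T.card = 23 - S.card := by rw [Finset.card_sdiff_of_subset hS, hUc]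
  have hPle : ∀ V : Finset GolayPt, V ⊆ U → (fixIn P V).card ≤ 3 := fun V hV => by
    have h := fixIn_card_le (x := P) (hfix1 P hPH) (hdis _ hV)
    rw [hP4, Finset.card_singleton] at h
    omega
  by_cases hqS : q ∈ S
  · have e : (fixIn R S).card = 2 := by
      refine le_antisymm (hRU ▸ Finset.card_le_card (Finset.filter_subset_filter _ hS)) ?_
      rw [← Finset.card_pair hpq]
      exact Finset.card_le_card (Finset.insert_subset (mem_fixIn.2 ⟨self_mem_orbitF H p, hp'.2⟩)
        (Finset.singleton_subset_iff.2 (mem_fixIn.2 ⟨hqS, hq'.2⟩)))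
    rw [e] at hR1
    rcases (show S.card = 2 ∨ S.card = 9 ∨ S.card = 16 by omega) with h2 | h9 | h16
    · left
      have hSe : ({p, q} : Finset GolayPt) = S := Finset.eq_of_subset_of_card_le
        (Finset.insert_subset (self_mem_orbitF H p) (Finset.singleton_subset_iff.2 hqS))
        (by rw [h2, Finset.card_pair hpq])
      refine ⟨p, q, hpq, hpa, hqa, fun g hg => ?_⟩
      rw [hSe]
      refine Finset.eq_of_subset_of_card_le (fun r hr => ?_) (by rw [Finset.card_smul_finset])
      obtain ⟨s, hs, rfl⟩ := Finset.mem_smul_finset.1 hr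
      exact orbitF_closed hg s hs
    · exfalso
      have hp1 := card_modEq (pow_orderOf_self hPo) T (hT P hPH)
      have hp2 := hPle T Finset.sdiff_subset
      rw [hTc, h9] at hp1
      omega
    · right
      have hT7 : T.card = 7 := by rw [hTc, h16]
      have hinv : ∀ g ∈ H, ∀ r, g r ∈ T ↔ r ∈ T := fun g hg => invariant_iff (hT g hg)
      let f := onSet H T hinv
      have hk1 : 1 < Nat.card f.ker := by
        have hmul := f.ker.card_mul_index
        rw [Subgroup.index_ker, hc] at hmul
        have h := Subgroup.card_le_card_group f.range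
        rw [card_perm_set, hT7, show (7 : ℕ).factorial = 5040 by decide] at h
        nlinarith
      obtain ⟨⟨g, hgk⟩, hg1⟩ : ∃ g : f.ker, g ≠ 1 := by
        haveI : Nontrivial f.ker := (Finite.one_lt_card_iff_nontrivial).1 hk1
        exact exists_ne 1
      have hg1' : (g : Equiv.Perm GolayPt) ≠ 1 := fun e => hg1 (Subtype.ext (Subtype.ext e))
      set o := insert a T
      have hoc : o.card = 8 := by
        rw [Finset.card_insert_of_notMem fun h => by simpa [U] using Finset.sdiff_subset h, hT7]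
      set n := orderOf (g : Equiv.Perm GolayPt)
      have hn1 : n ≠ 1 := fun h => hg1' (orderOf_eq_one_iff.1 h)
      set r := n.minFac
      haveI : Fact r.Prime := ⟨Nat.minFac_prime hn1⟩
      set x := (g : Equiv.Perm GolayPt) ^ (n / r)
      have hxo : orderOf x = r := orderOf_pow_orderOf_div (orderOf_pos _).ne' (Nat.minFac_dvd _)
      have hxH : x ∈ H := H.pow_mem g.2 _
      have hsub : o ⊆ fixSet x := fun s hs => mem_fixSet.2 <| by
        rcases Finset.mem_insert.1 hs with rfl | hs
        · exact ha x hxH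
        · exact Equiv.Perm.pow_apply_eq_self_of_apply_eq_self
            (congrArg Subtype.val (Equiv.Perm.ext_iff.1 hgk ⟨s, hs⟩)) _
      have hxne : x ≠ 1 := fun e => by
        have := (Nat.minFac_prime hn1).one_lt
        rw [e, orderOf_one] at hxo
        omega
      have hcx := fix_le_eight (hH hxH) hxne
      have hfx : fixSet x = o := (Finset.eq_of_subset_of_card_le hsub (by omega)).symm
      have hr2 : r = 2 := by
        by_contra hne
        have h2 := (Nat.minFac_prime hn1).two_le
        rcases Nat.lt_or_ge r 5 with h | h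
        · have h4 : r ≠ 4 := fun e => by
            have := Nat.minFac_prime hn1
            rw [show n.minFac = 4 from e] at this
            norm_num at this
          rcases three_fix (hH hxH) ((show r = 3 by omega) ▸ hxo) with e | e <;> rw [hfx, hoc] at e <;> omega
        · have := fix_le_four h (hH hxH) hxo
          rw [hfx, hoc] at this
          omega
      have ho : o ∈ octads := by
        rcases two_fix (hH hxH) (hr2 ▸ hxo) with h | h
        · exact hfx ▸ h
        · rw [hfx] at h
          rw [h] at hoc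
          simp at hoc
      refine ⟨o, ho, Finset.mem_insert_self _ _, fun k hk => ?_⟩
      refine Finset.eq_of_subset_of_card_le (fun s hs => ?_) (by rw [Finset.card_smul_finset])
      obtain ⟨s', hs', rfl⟩ := Finset.mem_smul_finset.1 hs
      rcases Finset.mem_insert.1 hs' with rfl | hs'
      · exact Finset.mem_insert.2 (Or.inl (ha k hk))
      · exact Finset.mem_insert_of_mem (hT k hk s' hs')
  · exfalso
    set S' := orbitF H q
    have hS' : S' ⊆ U := orbitF_subset hq'.1 hU
    have hd : Disjoint S S' := Finset.disjoint_left.2 fun r h1 h2 => by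
      obtain ⟨g, hg, e1⟩ := mem_orbitF.1 h1
      obtain ⟨k, hk, e2⟩ := mem_orbitF.1 h2
      exact hqS (mem_orbitF.2 ⟨k⁻¹ * g, H.mul_mem (H.inv_mem hk) hg, by
        rw [Equiv.Perm.mul_apply, e1, ← e2, Equiv.Perm.inv_def, Equiv.symm_apply_apply]⟩)
    have hone : ∀ (V : Finset GolayPt) (u : GolayPt), V = orbitF H u → u ≠ a → V.card ≠ 1 := by
      intro V u hV hua h1
      have hu := fixed_of_orbitF_one (hV ▸ h1)
      obtain ⟨w, hwa, hwu, hw⟩ := fixes_third hH hua.symm ha hu hc (by norm_num) (by norm_num) (by norm_num)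
        (by norm_num)
      have h := card_three_points hua.symm hwa.symm hwu.symm hH fun g hg => ⟨ha g hg, hu g hg, hw g hg⟩
      rw [hc] at h
      norm_num at h
    have hSne := hone S p rfl hpa
    have hS'ne := hone S' q rfl hqa
    have hdvd' : S'.card ∣ 40320 := hc ▸ ⟨_, (card_orbitF H q).symm⟩
    have hs23' : S'.card ≠ 22 := by intro e; rw [e] at hdvd'; norm_num at hdvd'
    have hsum : S.card + S'.card ≤ 23 := by
      rw [← Finset.card_union_of_disjoint hd]; exact (Finset.card_le_card (Finset.union_subset hS hS')).trans hUc.le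
    have e1 : (fixIn R S).card = 1 ∧ (fixIn R S').card = 1 := by
      have h1 : 0 < (fixIn R S).card := Finset.card_pos.2 ⟨p, mem_fixIn.2 ⟨self_mem_orbitF H p, hp'.2⟩⟩
      have h2 : 0 < (fixIn R S').card := Finset.card_pos.2 ⟨q, mem_fixIn.2 ⟨self_mem_orbitF H q, hq'.2⟩⟩
      have hd' : Disjoint (fixIn R S) (fixIn R S') :=
        hd.mono (Finset.filter_subset _ _) (Finset.filter_subset _ _)
      have h3 := Finset.card_le_card (Finset.union_subset (Finset.filter_subset_filter _ hS)
        (Finset.filter_subset_filter _ hS') : fixIn R S ∪ fixIn R S' ⊆ fixIn R U)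
      rw [Finset.card_union_of_disjoint hd', hRU] at h3
      omega
    have hR2 := card_modEq (pow_orderOf_self hRo) _ (orbitF_closed (a := q) hRH)
    change S'.card % 7 = (fixIn R S').card % 7 at hR2
    rw [e1.1] at hR1
    rw [e1.2] at hR2
    have hpS := card_modEq (pow_orderOf_self hPo) S (orbitF_closed (a := p) hPH)
    have hpS' := card_modEq (pow_orderOf_self hPo) S' (orbitF_closed (a := q) hPH)
    have hP3 : (fixIn P S).card + (fixIn P S').card ≤ 3 := by
      have hd' : Disjoint (fixIn P S) (fixIn P S') :=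
        hd.mono (Finset.filter_subset _ _) (Finset.filter_subset _ _)
      rw [← Finset.card_union_of_disjoint hd']
      exact (Finset.card_le_card (Finset.union_subset (Finset.filter_subset_filter _ hS)
        (Finset.filter_subset_filter _ hS'))).trans (hPle U subset_rfl)
    obtain ⟨A, B, hA8, hB15, hAU, hBU, hAB, hAinv, hBinv⟩ : ∃ A B : Finset GolayPt, A.card = 8 ∧ B.card = 15 ∧
        A ⊆ U ∧ B ⊆ U ∧ Disjoint A B ∧ (∀ g ∈ H, ∀ r ∈ A, g r ∈ A) ∧ ∀ g ∈ H, ∀ r ∈ B, g r ∈ B := by
      rcases (show S.card = 8 ∧ S'.card = 15 ∨ S.card = 15 ∧ S'.card = 8 ∨ S.card = 8 ∧ S'.card = 8 by omega)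
        with ⟨h1, h2⟩ | ⟨h1, h2⟩ | ⟨h1, h2⟩
      · exact ⟨S, S', h1, h2, hS, hS', hd, fun g hg => orbitF_closed hg, fun g hg => orbitF_closed hg⟩
      · exact ⟨S', S, h2, h1, hS', hS, hd.symm, fun g hg => orbitF_closed hg, fun g hg => orbitF_closed hg⟩
      · rw [h1] at hpS
        rw [h2] at hpS'
        omega
    have hinv : ∀ g ∈ H, ∀ r, g r ∈ A ↔ r ∈ A := fun g hg => invariant_iff (hAinv g hg)
    have hinj := onSet_injective hH (t := {a}) hfix1 (hdis A hAU) (by rw [Finset.card_singleton, hA8]) hinv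
    have hbij : Function.Bijective (onSet H A hinv) := (Nat.bijective_iff_injective_and_card _).2
      ⟨hinj, by rw [hc, card_perm_set, hA8]; rfl⟩
    let e : {r // r ∈ A} ≃ Fin 8 := A.equivFinOfCardEq hA8
    let ψ : H ≃* Equiv.Perm (Fin 8) := (MulEquiv.ofBijective _ hbij).trans e.permCongrHom
    have hfixcount : ∀ g : H, (fixIn (g : Equiv.Perm GolayPt) A).card =
        (Finset.univ.filter fun i : Fin 8 => ψ g i = i).card := fun g => by
      let emb : Fin 8 ↪ GolayPt := ⟨fun i => (e.symm i : GolayPt), fun i j h => e.symm.injective (Subtype.ext h)⟩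
      rw [← Finset.card_map emb]
      congr 1
      ext r
      simp only [mem_fixIn, Finset.mem_map, Finset.mem_filter, Finset.mem_univ, true_and]
      constructor
      · rintro ⟨hr, hgr⟩
        refine ⟨e ⟨r, hr⟩, ?_, congrArg Subtype.val (e.symm_apply_apply ⟨r, hr⟩)⟩
        show e (onSet H A hinv g (e.symm (e ⟨r, hr⟩))) = _
        rw [Equiv.symm_apply_apply]
        exact congrArg e (Subtype.ext hgr)
      · rintro ⟨i, hi, rfl⟩
        refine ⟨(e.symm i).2, ?_⟩
        have h' : onSet H A hinv g (e.symm i) = e.symm i := e.injective (by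
          rw [Equiv.apply_symm_apply]; exact hi)
        exact congrArg Subtype.val h'
    let s₀ : Equiv.Perm (Fin 8) := Equiv.swap 0 1
    let c₀ : Equiv.Perm (Fin 8) :=
      Equiv.swap 3 4 * Equiv.swap 4 5 * Equiv.swap 5 6 * Equiv.swap 6 7
    have facts : (s₀ ^ 2 = 1 ∧ s₀ ≠ 1) ∧ (c₀ ^ 5 = 1 ∧ c₀ ≠ 1) ∧ s₀ * c₀ = c₀ * s₀ ∧
        (Finset.univ.filter fun i : Fin 8 => s₀ i = i).card = 6 ∧
        (Finset.univ.filter fun i : Fin 8 => c₀ i = i).card = 3 := by decide +kernel
    obtain ⟨⟨s2, s1⟩, ⟨c5, c1⟩, hsc, hs6, hc3⟩ := facts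
    set t := (ψ.symm s₀ : Equiv.Perm GolayPt)
    set y := (ψ.symm c₀ : Equiv.Perm GolayPt)
    have hto : orderOf t = 2 := by
      rw [Subgroup.orderOf_coe, ψ.symm.orderOf_eq]; exact orderOf_eq_prime s2 s1
    have hyo : orderOf y = 5 := by
      rw [Subgroup.orderOf_coe, ψ.symm.orderOf_eq]; exact orderOf_eq_prime c5 c1
    have hty : t * y = y * t := by
      rw [← Subgroup.coe_mul, ← Subgroup.coe_mul, ← map_mul, ← map_mul, hsc]
    have htH : t ∈ H := (ψ.symm s₀).2
    have hyH : y ∈ H := (ψ.symm c₀).2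
    have htA : (fixIn t A).card = 6 := by rw [hfixcount, MulEquiv.apply_symm_apply]; exact hs6
    have hyA : (fixIn y A).card = 3 := by rw [hfixcount, MulEquiv.apply_symm_apply]; exact hc3
    have ht8 : (fixSet t).card = 8 := by
      rcases two_fix (hH htH) hto with h | h
      · exact h.2
      · have : a ∈ fixSet t := mem_fixSet.2 (ha t htH)
        rw [h] at this
        simp at this
    have hpart : ∀ g ∈ H, (fixSet g).card = 1 + ((fixIn g A).card + (fixIn g B).card) := fun g hg => by
      have hABU : A ∪ B = U := Finset.eq_of_subset_of_card_le (Finset.union_subset hAU hBU)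
        (by rw [Finset.card_union_of_disjoint hAB, hA8, hB15, hUc])
      have hd1 : Disjoint (fixIn g A) (fixIn g B) :=
        hAB.mono (Finset.filter_subset _ _) (Finset.filter_subset _ _)
      rw [← Finset.card_union_of_disjoint hd1]
      have e : fixSet g = insert a (fixIn g A ∪ fixIn g B) := by
        ext r
        simp only [mem_fixSet, Finset.mem_insert, Finset.mem_union, mem_fixIn]
        refine ⟨fun h => ?_, fun h => ?_⟩
        · by_cases hra : r = a
          · exact Or.inl hra
          · have : r ∈ A ∪ B := by rw [hABU]; simp [U, hra]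
            exact Or.inr ((Finset.mem_union.1 this).imp (⟨·, h⟩) (⟨·, h⟩))
        · rcases h with rfl | h | h
          exacts [ha g hg, h.2, h.2]
      rw [e, Finset.card_insert_of_notMem, add_comm]
      simp only [Finset.mem_union, mem_fixIn]
      rintro (h | h)
      · simpa [U] using hAU h.1
      · simpa [U] using hBU h.1
    have hB1 := hpart t htH
    rw [ht8, htA] at hB1
    obtain ⟨z, hz⟩ := Finset.card_eq_one.1 (show (fixIn t B).card = 1 by omega)
    obtain ⟨hzB, htz⟩ := mem_fixIn.1 (show z ∈ fixIn t B by rw [hz]; exact Finset.mem_singleton_self z)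
    have hyz : y z = z := by
      have : y z ∈ fixIn t B := mem_fixIn.2 ⟨hBinv y hyH z hzB, by
        have h' := Equiv.Perm.ext_iff.1 hty z
        simp only [Equiv.Perm.mul_apply] at h'
        rw [h', htz]⟩
      rwa [hz, Finset.mem_singleton] at this
    have hB2 := hpart y hyH
    have hy4 : (fixSet y).card = 4 := fix_card le_rfl (hH hyH) hyo
    have hyB : 0 < (fixIn y B).card := Finset.card_pos.2 ⟨z, mem_fixIn.2 ⟨hzB, hyz⟩⟩
    omega

/-! ### Orders of the stabilizers -/

/-- A group preserving an octad and fixing a point of it has order at most 40320. -/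
theorem card_octad_point {K : Subgroup (Equiv.Perm GolayPt)} (hK : K ≤ M24) {o : Finset GolayPt}
    (ho : o.card = 8) (hKo : ∀ g ∈ K, g • o = o) {a : GolayPt} (ha : a ∈ o) (hKa : ∀ g ∈ K, g a = a) :
    Nat.card K ≤ 40320 := by
  have step : ∀ (L : Subgroup (Equiv.Perm GolayPt)) (t : Finset GolayPt), L ≤ K → a ∈ t → t ⊆ o →
      (∀ g ∈ L, ∀ q ∈ t, g q = q) → t.card < 8 → ∃ (L' : Subgroup (Equiv.Perm GolayPt)) (t' : Finset GolayPt),
      L' ≤ K ∧ a ∈ t' ∧ t' ⊆ o ∧ t'.card = t.card + 1 ∧ (∀ g ∈ L', ∀ q ∈ t', g q = q) ∧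
      Nat.card L ≤ (8 - t.card) * Nat.card L' := by
    intro L t hL hat hto hfix ht
    obtain ⟨w, hwo, hwt⟩ := Finset.exists_mem_notMem_of_card_lt_card (s := t) (t := o) (by omega)
    refine ⟨L ⊓ stabilizer (Equiv.Perm GolayPt) w, insert w t, inf_le_left.trans hL,
      Finset.mem_insert_of_mem hat, Finset.insert_subset hwo hto, Finset.card_insert_of_notMem hwt,
      fun g hg q hq => ?_, ?_⟩
    · rcases Finset.mem_insert.1 hq with rfl | hq
      exacts [(mem_inf_stab.1 hg).2, hfix g (mem_inf_stab.1 hg).1 q hq]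
    · rw [← card_orbitF L w]
      refine Nat.mul_le_mul_right _ ?_
      have hsub : orbitF L w ⊆ o \ t := orbitF_subset (Finset.mem_sdiff.2 ⟨hwo, hwt⟩) fun g hg q hq => by
        rw [Finset.mem_sdiff] at hq ⊢
        refine ⟨?_, fun h => hq.2 (g.injective (hfix g hg _ h) ▸ h)⟩
        rw [← hKo g (hL hg)]; exact Finset.smul_mem_smul_finset hq.1
      have h := Finset.card_le_card hsub
      rw [Finset.card_sdiff_of_subset hto, ho] at h
      exact h
  obtain ⟨L1, t1, hL1, ha1, ho1, hc1, hf1, hb1⟩ := step K {a} le_rfl (Finset.mem_singleton_self a)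
    (Finset.singleton_subset_iff.2 ha) (fun g hg q hq => by
      rw [Finset.mem_singleton] at hq; rw [hq]; exact hKa g hg) (by simp)
  rw [Finset.card_singleton] at hc1 hb1
  obtain ⟨L2, t2, hL2, ha2, ho2, hc2, hf2, hb2⟩ := step L1 t1 hL1 ha1 ho1 hf1 (by omega)
  obtain ⟨L3, t3, hL3, ha3, ho3, hc3, hf3, hb3⟩ := step L2 t2 hL2 ha2 ho2 hf2 (by omega)
  obtain ⟨L4, t4, hL4, ha4, ho4, hc4, hf4, hb4⟩ := step L3 t3 hL3 ha3 ho3 hf3 (by omega)
  have h5 : t4.card = 5 := by omega
  let e := t4.equivFinOfCardEq h5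
  let z : ℕ → GolayPt := fun i => if h : i < 5 then ((e.symm ⟨i, h⟩ : t4) : GolayPt) else none
  let F : Subgroup (Equiv.Perm GolayPt) := M24 ⊓ ⨅ j : Fin 5, stabilizer (Equiv.Perm GolayPt) (z j)
  have hF : Nat.card F = 48 := by
    rw [card_pointStabilizer le_rfl z (fun i hi j hj h => by
      simp only [z, dif_pos hi, dif_pos hj] at h
      exact congrArg Fin.val (e.symm.injective (Subtype.ext h))) F
      (fun g => by simp [F, Subgroup.mem_iInf, Fin.forall_iff]), card_chainSub 5 (by norm_num)]
    decide +kernel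
  have hle : Nat.card L4 ≤ 48 := hF ▸ Subgroup.card_le_of_le fun g hg => by
    simp only [F, Subgroup.mem_inf, Subgroup.mem_iInf, mem_stabilizer_iff]
    exact ⟨hK (hL4 hg), fun j => hf4 g hg _ (by simp only [z, dif_pos j.2]; exact (e.symm ⟨j, j.2⟩).2)⟩
  rw [hc1] at hb2
  rw [show t2.card = 3 by omega] at hb3
  rw [show t3.card = 4 by omega] at hb4
  omega

/-- A group fixing a point and preserving a pair away from it has order at most 40320. -/
theorem card_pair_point {K : Subgroup (Equiv.Perm GolayPt)} (hK : K ≤ M24) {u v a : GolayPt} (huv : u ≠ v)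
    (hua : u ≠ a) (hva : v ≠ a) (hKuv : ∀ g ∈ K, g • ({u, v} : Finset GolayPt) = {u, v})
    (hKa : ∀ g ∈ K, g a = a) : Nat.card K ≤ 40320 := by
  have hinv : ∀ g ∈ K, ∀ q ∈ ({u, v} : Finset GolayPt), g q ∈ ({u, v} : Finset GolayPt) := fun g hg q hq => by
    have : g • q ∈ g • ({u, v} : Finset GolayPt) := Finset.smul_mem_smul_finset hq
    rwa [hKuv g hg] at this
  have h2 : (orbitF K u).card ≤ 2 :=
    (Finset.card_le_card (orbitF_subset (Finset.mem_insert_self _ _) hinv)).trans (Finset.card_pair huv).le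
  set L := K ⊓ stabilizer (Equiv.Perm GolayPt) u
  have hL : ∀ g ∈ L, g a = a ∧ g u = u ∧ g v = v := fun g hg => by
    obtain ⟨hgK, hgu⟩ := mem_inf_stab.1 hg
    refine ⟨hKa g hgK, hgu, ?_⟩
    have := hinv g hgK v (by simp)
    simp only [Finset.mem_insert, Finset.mem_singleton] at this
    exact this.resolve_left fun e => huv (g.injective (hgu.trans e.symm))
  have := Nat.le_of_dvd (by norm_num) (card_three_points hua.symm hva.symm huv (inf_le_left.trans hK) hL)
  rw [← card_orbitF K u]
  calc (orbitF K u).card * Nat.card L ≤ 2 * 20160 := Nat.mul_le_mul h2 this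
    _ = 40320 := by norm_num

end CfsgLib.Spor.IndexSub
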