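/-
The centraliser of a transvection in the five dimensional linear group over the field of two elements.
-/
import Cfsg.Agent.Lib.GLClass.TransvCentralizer

set_option autoImplicit false

namespace CfsgLib.Spor.SLFiveTransv

open Matrix Subgroup CfsgLib.GLClass

abbrev SL5 := Matrix.SpecialLinearGroup (Fin 5) (ZMod 2)
abbrev M5 := Matrix (Fin 5) (Fin 5) (ZMod 2)

/-- The block ordering of the indices. -/
def blockEquiv : Fin 5 ≃ Idx 3 where
  toFun := ![Sum.inr 0, Sum.inl (Sum.inl 0), Sum.inl (Sum.inr 0), Sum.inl (Sum.inr 1), Sum.inl (Sum.inr 2)]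
  invFun := fun x => match x with
    | Sum.inr _ => 0
    | Sum.inl (Sum.inl _) => 1
    | Sum.inl (Sum.inr i) => ![2, 3, 4] i
  left_inv := by decide
  right_inv := by decide

theorem units_trivial : ∀ a : ZMod 2, IsUnit a → a = 1 := by
  intro a ha
  have : a ≠ 0 := ha.ne_zero
  revert a; decide

theorem transv_reindex : Matrix.reindexAlgEquiv (ZMod 2) (ZMod 2) blockEquiv (Matrix.transvection 0 1 1 : M5) =
    1 + cornerE 3 (ZMod 2) := by
  refine Matrix.ext fun i j => ?_
  rcases i with (a | b) | c <;> rcases j with (a' | b') | c' <;>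
    (first | fin_cases a | fin_cases b | fin_cases c) <;> (first | fin_cases a' | fin_cases b' | fin_cases c') <;>
    decide +kernel

theorem card_centralizer (s : SL5) (hs : (s : M5) = Matrix.transvection 0 1 1) :
    Nat.card (centralizer ({s} : Set SL5)) = 21504 := by
  haveI : Fact (Nat.Prime 2) := ⟨Nat.prime_two⟩
  have hR : ∀ g : M5, (g * (s : M5) = (s : M5) * g) ↔
      Matrix.reindexAlgEquiv (ZMod 2) (ZMod 2) blockEquiv g * cornerE 3 (ZMod 2) =
        cornerE 3 (ZMod 2) * Matrix.reindexAlgEquiv (ZMod 2) (ZMod 2) blockEquiv g := fun g => by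
    rw [← (Matrix.reindexAlgEquiv (ZMod 2) (ZMod 2) blockEquiv).injective.eq_iff, map_mul, map_mul, hs,
      transv_reindex, mul_add, add_mul, mul_one, one_mul, add_right_inj]
  let f : centralizer ({s} : Set SL5) → {g : GL (Idx 3) (ZMod 2) //
      (g : Matrix (Idx 3) (Idx 3) (ZMod 2)) * cornerE 3 (ZMod 2) = cornerE 3 (ZMod 2) * g} := fun g =>
    ⟨Units.map (Matrix.reindexAlgEquiv (ZMod 2) (ZMod 2) blockEquiv).toMonoidHom
      (Matrix.SpecialLinearGroup.toGL (g : SL5)), (hR _).1 (congrArg Subtype.val (mem_centralizer_singleton_iff.1 g.2 : (g : SL5) * s = s * g))⟩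
  have hf : Function.Bijective f := by
    refine ⟨fun g h e => ?_, fun x => ?_⟩
    · have e' := congrArg (fun y : {g : GL (Idx 3) (ZMod 2) // _} => (y.val.val)) e
      exact Subtype.ext (Subtype.ext ((Matrix.reindexAlgEquiv (ZMod 2) (ZMod 2) blockEquiv).injective e'))
    · set M := (Matrix.reindexAlgEquiv (ZMod 2) (ZMod 2) blockEquiv).symm (x.1 : Matrix (Idx 3) (Idx 3) (ZMod 2))
      have hd : M.det = 1 := units_trivial _ ((Matrix.isUnit_iff_isUnit_det _).1
        (x.1.isUnit.map (Matrix.reindexAlgEquiv (ZMod 2) (ZMod 2) blockEquiv).symm.toMonoidHom))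
      refine ⟨⟨⟨M, hd⟩, mem_centralizer_singleton_iff.2 (Subtype.ext ((hR M).2 ?_))⟩, Subtype.ext (Units.ext ?_)⟩
      · rw [AlgEquiv.apply_symm_apply]; exact x.2
      · exact AlgEquiv.apply_symm_apply _ _
  rw [Nat.card_congr (Equiv.ofBijective f hf), card_commuting_cornerE, Fin.prod_univ_three, ZMod.card]
  norm_num

/-- The order in which the centralising unitriangular matrices are triangular. -/
def rank : Fin 5 → ℕ := ![0, 4, 1, 2, 3]

theorem rank_injective : Function.Injective rank := by decide

/-- Unitriangular for that order. -/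
def IsUni (A : M5) : Prop := (∀ i j, rank j < rank i → A i j = 0) ∧ ∀ i, A i i = 1

theorem isUni_mul {A B : M5} (hA : IsUni A) (hB : IsUni B) : IsUni (A * B) := by
  refine ⟨fun i j hij => ?_, fun i => ?_⟩
  · rw [Matrix.mul_apply]
    refine Finset.sum_eq_zero fun k _ => ?_
    by_cases h : rank k < rank i
    · rw [hA.1 i k h, zero_mul]
    · rw [hB.1 k j (lt_of_lt_of_le hij (not_lt.1 h)), mul_zero]
  · rw [Matrix.mul_apply, Finset.sum_eq_single i, hA.2, hB.2, mul_one]
    · intro k _ hk
      rcases lt_trichotomy (rank k) (rank i) with h | h | h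
      · rw [hA.1 i k h, zero_mul]
      · exact absurd (rank_injective h) hk
      · rw [hB.1 k i h, mul_zero]
    · simp

theorem isUni_pow_eight {A : M5} (hA : IsUni A) : A ^ 8 = 1 := by
  set N := A - 1
  have hN : ∀ k i j, rank j < rank i + k → (N ^ k) i j = 0 := by
    intro k
    induction k with
    | zero => intro i j h; rw [pow_zero, Matrix.one_apply_ne]; rintro rfl; omega
    | succ k ih =>
      intro i j h
      rw [pow_succ, Matrix.mul_apply]
      refine Finset.sum_eq_zero fun l _ => ?_
      by_cases hl : rank l < rank i + k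
      · rw [ih i l hl, zero_mul]
      · refine mul_eq_zero_of_right _ ?_
        show A l j - (1 : M5) l j = 0
        rcases eq_or_ne l j with rfl | hne
        · rw [hA.2, Matrix.one_apply_eq, sub_self]
        · rw [Matrix.one_apply_ne hne, sub_zero]
          refine hA.1 l j (lt_of_le_of_ne (by omega) fun e => hne (rank_injective e).symm)
  have h8 : N ^ 8 = 0 := Matrix.ext fun i j => hN 8 i j (by
    have : rank j ≤ 4 := by revert j; decide
    omega)
  have e : A = 1 + N := (add_sub_cancel 1 A).symm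
  rw [e, show (8 : ℕ) = 2 ^ 3 from rfl]
  haveI : Fact (Nat.Prime 2) := ⟨Nat.prime_two⟩
  rw [add_pow_char_pow_of_commute (p := 2) (h := Commute.one_left N), one_pow, show 2 ^ 3 = 8 from rfl, h8, add_zero]

theorem isUni_pow {A : M5} (hA : IsUni A) : ∀ k, IsUni (A ^ k)
  | 0 => by rw [pow_zero]; exact ⟨fun i j h => Matrix.one_apply_ne (fun e => by subst e; omega), fun i => Matrix.one_apply_eq i⟩
  | k + 1 => by rw [pow_succ]; exact isUni_mul (isUni_pow hA k) hA

/-- The unitriangular subgroup for that order. -/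
def uni : Subgroup SL5 where
  carrier := {x | IsUni (x : M5)}
  mul_mem' ha hb := isUni_mul ha hb
  one_mem' := isUni_pow (A := (1 : M5)) ⟨fun i j h => Matrix.one_apply_ne (fun e => by subst e; omega),
    fun i => Matrix.one_apply_eq i⟩ 0
  inv_mem' {x} hx := by
    have h : x⁻¹ = x ^ 7 := inv_eq_of_mul_eq_one_right (by
      rw [← pow_succ']; exact Subtype.ext ((Matrix.SpecialLinearGroup.coe_pow x 8).trans (isUni_pow_eight hx)))
    show IsUni _
    rw [h, Matrix.SpecialLinearGroup.coe_pow]
    exact isUni_pow hx 7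

theorem isPGroup_uni : IsPGroup 2 uni := fun x => ⟨3, Subtype.ext (Subtype.ext (by
  show ((x : SL5) ^ 8 : SL5).1 = 1
  rw [show ((x : SL5) ^ 8 : SL5).1 = (x : SL5).1 ^ 8 from Matrix.SpecialLinearGroup.coe_pow _ 8]
  exact isUni_pow_eight x.2))⟩

/-- A matrix commuting with all the root elements is the identity or the transvection. -/
theorem eq_of_commute_uni (s : SL5) (hs : (s : M5) = Matrix.transvection 0 1 1) (x : SL5)
    (hx : ∀ u ∈ uni, u * x = x * u) : x = 1 ∨ x = s := by
  have hdet : ∀ a b : Fin 5, a ≠ b → (Matrix.transvection a b (1 : ZMod 2)).det = 1 := fun a b h =>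
    Matrix.det_transvection_of_ne a b h 1
  have key : ∀ a b : Fin 5, rank a < rank b → ∀ i j : Fin 5,
      (Matrix.single a b (1 : ZMod 2) * (x : M5) : M5) i j = ((x : M5) * Matrix.single a b (1 : ZMod 2) : M5) i j := by
    intro a b hab i j
    have hne : a ≠ b := fun e => by subst e; omega
    have hmem : (⟨_, hdet a b hne⟩ : SL5) ∈ uni := by
      refine ⟨fun i j h => ?_, fun i => ?_⟩
      · show ((1 : M5) + Matrix.single a b (1 : ZMod 2) : M5) i j = 0
        rw [Matrix.add_apply, Matrix.one_apply_ne (fun e => by subst e; omega),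
          Matrix.single_apply_of_ne _ _ _ _ _ (by rintro ⟨rfl, rfl⟩; omega), add_zero]
      · show ((1 : M5) + Matrix.single a b (1 : ZMod 2) : M5) i i = 1
        rw [Matrix.add_apply, Matrix.one_apply_eq,
          Matrix.single_apply_of_ne _ _ _ _ _ (by rintro ⟨rfl, rfl⟩; omega), add_zero]
    have h := congrArg Subtype.val (hx _ hmem)
    have h' : (1 + Matrix.single a b 1 : M5) * (x : M5) = (x : M5) * (1 + Matrix.single a b 1) := h
    rw [add_mul, mul_add, one_mul, mul_one, add_right_inj] at h'
    rw [h']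
  have hall : ∀ a b : Fin 5, rank a < rank b → ∀ i j : Fin 5,
      (if i = a then (x : M5) b j else 0) = if j = b then (x : M5) i a else 0 := fun a b hab i j => by
    have h := key a b hab i j
    simpa [Matrix.mul_apply, Matrix.single_apply, ite_and, eq_comm] using h
  have hr0 : ∀ i : Fin 5, i ≠ 0 → rank 0 < rank i := by decide
  have hr1 : ∀ i : Fin 5, i ≠ 1 → rank i < rank 1 := by decide
  have hoff : ∀ i j : Fin 5, i ≠ j → ¬ (i = 0 ∧ j = 1) → (x : M5) i j = 0 := by
    intro i j hij hne
    by_cases hi : i = 0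
    · subst hi
      have hj1 : j ≠ 1 := fun e => hne ⟨rfl, e⟩
      have h := hall j 1 (hr1 j hj1) 0 1
      rw [if_neg hij, if_pos rfl] at h
      exact h.symm
    · have h := hall 0 i (hr0 i hi) 0 j
      rwa [if_pos rfl, if_neg hij.symm] at h
  have hdiag : ∀ i : Fin 5, i ≠ 0 → (x : M5) i i = (x : M5) 0 0 := fun i hi => by
    have h := hall 0 i (hr0 i hi) 0 i
    rwa [if_pos rfl, if_pos rfl] at h
  have h00 : (x : M5) 0 0 = 1 := by
    by_contra h
    have h0 : (x : M5) 0 0 = 0 := by generalize (x : M5) 0 0 = c at h ⊢; revert c; decide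
    have hz : (x : M5).det = 0 := Matrix.det_eq_zero_of_row_eq_zero 2 fun j => by
      rcases eq_or_ne (2 : Fin 5) j with rfl | hne
      · rw [hdiag 2 (by decide), h0]
      · exact hoff 2 j hne (by simp)
    rw [x.2] at hz; exact one_ne_zero hz
  rcases (show (x : M5) 0 1 = 0 ∨ (x : M5) 0 1 = 1 by generalize (x : M5) 0 1 = c; revert c; decide) with h | h
  · refine Or.inl (Subtype.ext (Matrix.ext fun i j => ?_))
    rcases eq_or_ne i j with rfl | hne
    · rcases eq_or_ne i 0 with rfl | hi
      · exact h00.trans (Matrix.one_apply_eq _).symm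
      · exact ((hdiag i hi).trans h00).trans (Matrix.one_apply_eq _).symm
    · refine Eq.trans ?_ (Matrix.one_apply_ne hne).symm
      by_cases hc : i = 0 ∧ j = 1
      · rw [hc.1, hc.2]; exact h
      · exact hoff i j hne hc
  · refine Or.inr (Subtype.ext (Matrix.ext fun i j => ?_))
    rw [hs, Matrix.transvection, Matrix.add_apply, Matrix.single_apply]
    rcases eq_or_ne i j with rfl | hne
    · rw [Matrix.one_apply_eq, if_neg (by rintro ⟨rfl, h⟩; exact absurd h (by decide)), add_zero]
      rcases eq_or_ne i 0 with rfl | hi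
      · exact h00
      · exact (hdiag i hi).trans h00
    · rw [Matrix.one_apply_ne hne, zero_add]
      by_cases hc : i = 0 ∧ j = 1
      · rw [if_pos ⟨hc.1.symm, hc.2.symm⟩, hc.1, hc.2]; exact h
      · rw [if_neg fun h => hc ⟨h.1.symm, h.2.symm⟩]; exact hoff i j hne hc

theorem uni_le (s : SL5) (hs : (s : M5) = Matrix.transvection 0 1 1) : uni ≤ centralizer ({s} : Set SL5) := by
  intro x hx
  refine mem_centralizer_singleton_iff.2 (Subtype.ext ?_)
  show (x : M5) * (s : M5) = (s : M5) * (x : M5)
  rw [hs, Matrix.transvection, mul_add, add_mul, mul_one, one_mul, add_right_inj]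
  have h0 : ∀ k, k ≠ 0 → (x : M5) k 0 = 0 := fun k hk => hx.1 k 0 (by revert hk k; decide)
  have h1 : ∀ k, k ≠ 1 → (x : M5) 1 k = 0 := fun k hk => hx.1 1 k (by revert hk k; decide)
  ext i j
  simp only [Matrix.mul_apply, Matrix.single_apply, ite_and, mul_ite, mul_zero, mul_one, ite_mul, one_mul, zero_mul]
  by_cases hj : (1 : Fin 5) = j <;> by_cases hi : (0 : Fin 5) = i
  · subst hj hi; simp [hx.2]
  · subst hj; simp [hi, h0 i (Ne.symm hi)]
  · subst hi; simp [hj, h1 j (Ne.symm hj)]
  · simp [hi, hj]

theorem sylow_of_centralizer {G : Type*} [Group G] [Finite G] (s : SL5) (hs : (s : M5) = Matrix.transvection 0 1 1)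
    (z : G) (hz : orderOf z = 2) (e : centralizer ({z} : Set G) ≃* centralizer ({s} : Set SL5))
    (T : Sylow 2 (centralizer ({z} : Set G))) :
    ¬ 2 ∣ ((T : Subgroup (centralizer ({z} : Set G))).map (centralizer ({z} : Set G)).subtype).index := by
  haveI : Fact (Nat.Prime 2) := ⟨Nat.prime_two⟩
  set D := centralizer ({s} : Set SL5)
  obtain ⟨U, hU⟩ := (isPGroup_uni.comap_subtype (K := D)).exists_le_sylow
  obtain ⟨c, hc⟩ := MulAction.exists_smul_eq (centralizer ({z} : Set G)) T (U.comapOfInjective e.toMonoidHom e.injective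
    (by rw [MonoidHom.range_eq_top.2 e.surjective]; exact le_top))
  set sD : D := ⟨s, mem_centralizer_singleton_iff.2 rfl⟩
  -- at most two elements commute with the whole of T
  have htwo : ∀ w : (centralizer ({z} : Set G)), (∀ t ∈ (T : Subgroup (centralizer ({z} : Set G))), t * w = w * t) → e (c * w * c⁻¹) = 1 ∨ e (c * w * c⁻¹) = sD := by
    intro w hw
    have h := eq_of_commute_uni s hs ((e (c * w * c⁻¹) : D) : SL5) fun u hu => by
      have hu' : (⟨u, uni_le s hs hu⟩ : D) ∈ (U : Subgroup D) := hU hu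
      obtain ⟨v, hv⟩ := e.surjective ⟨u, uni_le s hs hu⟩
      have hvT : v ∈ ((c • T : Sylow 2 (centralizer ({z} : Set G))) : Subgroup (centralizer ({z} : Set G))) := by
        rw [hc]
        show e v ∈ (U : Subgroup D)
        exact hv ▸ hu'
      obtain ⟨t, ht, htv⟩ := hvT
      have hcomm : v * (c * w * c⁻¹) = c * w * c⁻¹ * v := by
        rw [← htv]
        show c * t * c⁻¹ * (c * w * c⁻¹) = c * w * c⁻¹ * (c * t * c⁻¹)
        calc c * t * c⁻¹ * (c * w * c⁻¹) = c * (t * w) * c⁻¹ := by group
          _ = c * (w * t) * c⁻¹ := by rw [hw t ht]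
          _ = _ := by group
      have := congrArg (fun y => ((e y : D) : SL5)) hcomm
      simpa [map_mul, hv] using this
    exact h.imp (fun h => Subtype.ext h) fun h => Subtype.ext h
  set z' : (centralizer ({z} : Set G)) := ⟨z, mem_centralizer_singleton_iff.2 rfl⟩
  have hzc : ∀ t : (centralizer ({z} : Set G)), t * z' = z' * t := fun t => Subtype.ext (mem_centralizer_singleton_iff.1 t.2)
  have hconj : ∀ w : (centralizer ({z} : Set G)), w ≠ 1 → (∀ t ∈ (T : Subgroup (centralizer ({z} : Set G))), t * w = w * t) → w = z' := by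
    intro w hw1 hw
    have hz1 : z' ≠ 1 := fun h => by
      rw [show z = 1 from congrArg Subtype.val h, orderOf_one] at hz; omega
    have hne : ∀ u : (centralizer ({z} : Set G)), u ≠ 1 → e (c * u * c⁻¹) ≠ 1 := fun u hu h => hu (conj_eq_one_iff.1 (e.map_eq_one_iff.1 h))
    have e1 := (htwo w hw).resolve_left (hne w hw1)
    have e2 := (htwo z' fun t _ => hzc t).resolve_left (hne z' hz1)
    exact mul_left_cancel (mul_right_cancel (e.injective (e1.trans e2.symm)))
  intro hdvd
  obtain ⟨P, hP⟩ := ((T.isPGroup'.map (centralizer ({z} : Set G)).subtype) : IsPGroup 2 ((T : Subgroup (centralizer ({z} : Set G))).map (centralizer ({z} : Set G)).subtype)).exists_le_sylow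
  set T' := (T : Subgroup (centralizer ({z} : Set G))).map (centralizer ({z} : Set G)).subtype with hT'
  have hlt : T' ≠ (P : Subgroup G) := fun h => P.not_dvd_index (h ▸ hdvd)
  haveI : Group.IsNilpotent (P : Subgroup G) := P.isPGroup'.isNilpotent
  have hself : normalizer ((T'.subgroupOf (P : Subgroup G) : Subgroup (P : Subgroup G)) : Set (P : Subgroup G)) =
      T'.subgroupOf (P : Subgroup G) := by
    refine le_antisymm (fun g hg => ?_) Subgroup.le_normalizer
    rw [mem_subgroupOf]
    -- g centralises z, so lies in the Sylow subgroup of the centraliser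
    have hcz : (g : G) * z * (g : G)⁻¹ = z := by
      have hgT : ∀ t : (centralizer ({z} : Set G)), t ∈ (T : Subgroup (centralizer ({z} : Set G))) → ∃ u : (centralizer ({z} : Set G)), u ∈ (T : Subgroup (centralizer ({z} : Set G))) ∧ (g : G) * (u : G) * (g : G)⁻¹ = t := by
        intro t ht
        have htP : (t : G) ∈ T' := ⟨t, ht, rfl⟩
        obtain ⟨u, hu, hut⟩ := mem_subgroupOf.1 ((mem_normalizer_iff.1 hg (g⁻¹ * ⟨(t : G), hP htP⟩ * g)).2 (by
          rw [mem_subgroupOf]; simpa [mul_assoc] using htP))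
        refine ⟨u, hu, ?_⟩
        have hu2 : (u : G) = (g : G)⁻¹ * t * g := hut
        rw [hu2]; group
      -- the conjugate of z lies in (centralizer ({z} : Set G)) and centralises T
      have hzT : z ∈ T' := by
        refine ⟨z', ?_, rfl⟩
        have hzz : orderOf z' = 2 := by rw [← Subgroup.orderOf_coe]; exact hz
        have hn : zpowers z' ≤ normalizer ((T : Subgroup (centralizer ({z} : Set G))) : Set (centralizer ({z} : Set G))) := zpowers_le.2 (mem_normalizer_iff.2 fun t => by
          rw [← hzc t, mul_inv_cancel_right])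
        have hmax := T.is_maximal' (IsPGroup.to_sup_of_normal_left' T.isPGroup'
          (IsPGroup.of_card (n := 1) (by rw [Nat.card_zpowers, hzz, pow_one])) hn) le_sup_left
        exact hmax ▸ mem_sup_right (mem_zpowers z')
      obtain ⟨w, hwT, hw⟩ : ∃ w : (centralizer ({z} : Set G)), w ∈ (T : Subgroup (centralizer ({z} : Set G))) ∧ (w : G) = (g : G) * z * (g : G)⁻¹ := by
        obtain ⟨w, hw, hwe⟩ := mem_subgroupOf.1 ((mem_normalizer_iff.1 hg ⟨z, hP hzT⟩).1 (mem_subgroupOf.2 hzT))
        exact ⟨w, hw, hwe⟩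
      have := hconj w (fun h => by
        have h2 : (g : G) * z * (g : G)⁻¹ = 1 := by rw [← hw, h]; rfl
        rw [conj_eq_one_iff.1 h2, orderOf_one] at hz; omega) fun t ht => by
          obtain ⟨u, hu, hut⟩ := hgT t ht
          refine Subtype.ext ?_
          show (t : G) * (w : G) = (w : G) * t
          rw [hw, ← hut]
          calc (g : G) * u * (g : G)⁻¹ * (g * z * (g : G)⁻¹) = g * ((u : G) * z) * (g : G)⁻¹ := by group
            _ = g * (z * (u : G)) * (g : G)⁻¹ := by rw [mem_centralizer_singleton_iff.1 u.2]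
            _ = _ := by group
      rw [← hw, this]
    have hgC : (g : G) ∈ (centralizer ({z} : Set G)) := mem_centralizer_singleton_iff.2 (mul_inv_eq_iff_eq_mul.1 hcz)
    have hp : IsPGroup 2 ((P : Subgroup G).subgroupOf (centralizer ({z} : Set G))) := P.isPGroup'.comap_subtype
    have heq := T.is_maximal' hp fun t ht => hP ⟨t, ht, rfl⟩
    exact ⟨⟨g, hgC⟩, heq ▸ mem_subgroupOf.2 g.2, rfl⟩
  have htop := normalizerCondition_iff_only_full_group_self_normalizing.1 Group.normalizerCondition_of_isNilpotent _ hself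
  exact hlt (le_antisymm hP (Subgroup.subgroupOf_eq_top.1 htop))

end CfsgLib.Spor.SLFiveTransv
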