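/-
The stabilizer of a dodecad and a hexad on it, and of two octads meeting in two points.
-/
import Cfsg.Agent.Lib.Spor.M12
import Cfsg.Agent.Lib.Spor.MeetCounts
import Cfsg.Prelude.Def_SporadicCombinatorics

namespace CfsgLib.Spor

open Cfsg MulAction
open scoped Pointwise

theorem mem_of_smul_eq {g : Equiv.Perm GolayPt} {s : Finset GolayPt} (h : g • s = s) {p : GolayPt}
    (hp : p ∈ s) : g p ∈ s := by
  rw [← h]; exact Finset.smul_mem_smul_finset (a := g) hp

theorem six_fixed_trivial {d C : Finset GolayPt} (hd : d ∈ dodecads) (hC : C.card = 6) (hCd : C ⊆ d)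
    {g : Equiv.Perm GolayPt} (hg : g ∈ M24) (hgd : g • d = d) (hfix : ∀ p ∈ C, g p = p) : g = 1 := by
  obtain ⟨t, ht, ht5⟩ := Finset.exists_subset_card_eq (s := C) (n := 5) (by omega)
  exact eq_one_of_five hg hd hgd ((t.equivFinOfCardEq ht5).symm.toEmbedding.trans (Function.Embedding.subtype _))
    (fun i => hCd (ht ((t.equivFinOfCardEq ht5).symm i).2))
    fun i => hfix _ (ht ((t.equivFinOfCardEq ht5).symm i).2)

theorem hexad_induced {d o : Finset GolayPt} (hd : d ∈ dodecads) (ho : o ∈ octads) (h6 : (o ∩ d).card = 6)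
    (e : Equiv.Perm ↥(o ∩ d)) :
    ∃ g ∈ M24, g • d = d ∧ g • o = o ∧ ∀ p : ↥(o ∩ d), g p = e p := by
  let z : Fin 6 ≃ ↥(o ∩ d) := ((o ∩ d).equivFinOfCardEq h6).symm
  let x : Fin 5 ↪ GolayPt :=
    ⟨fun i => z i.castSucc, fun i j h => Fin.castSucc_injective _ (z.injective (Subtype.ext h))⟩
  let y : Fin 5 ↪ GolayPt :=
    ⟨fun i => e (z i.castSucc), fun i j h => Fin.castSucc_injective _ (z.injective (e.injective (Subtype.ext h)))⟩
  have hCd : (o ∩ d) ⊆ d := Finset.inter_subset_right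
  have hCo : (o ∩ d) ⊆ o := Finset.inter_subset_left
  obtain ⟨g, hg, -⟩ := sharply_five_transitive_dodecad hd x y (fun i => hCd (z i.castSucc).2)
    (fun i => hCd (e (z i.castSucc)).2)
  have hgd : ((g : M24) : Equiv.Perm GolayPt) • d = d := g.2
  have hgo : ((g : M24) : Equiv.Perm GolayPt) • o = o := by
    refine octad_eq_of_five (smul_mem_octads (g : M24).2 ho) ho ?_
    have e5 : ((Finset.univ : Finset (Fin 5)).map y).card = 5 := by simp
    refine e5 ▸ Finset.card_le_card fun p hp => ?_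
    obtain ⟨i, -, rfl⟩ := Finset.mem_map.1 hp
    refine Finset.mem_inter.2 ⟨?_, hCo (e (z i.castSucc)).2⟩
    rw [← hg i]
    exact Finset.smul_mem_smul_finset (a := ((g : M24) : Equiv.Perm GolayPt)) (hCo (z i.castSucc).2)
  refine ⟨_, (g : M24).2, hgd, hgo, fun p => ?_⟩
  obtain ⟨i, rfl⟩ := z.surjective p
  induction i using Fin.lastCases with
  | cast i => exact hg i
  | last =>
    -- the sixth point goes where the first five leave room
    have hmem : ((g : M24) : Equiv.Perm GolayPt) (z (Fin.last 5)) ∈ (o ∩ d) :=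
      Finset.mem_inter.2 ⟨mem_of_smul_eq hgo (hCo (z (Fin.last 5)).2), mem_of_smul_eq hgd (hCd (z (Fin.last 5)).2)⟩
    obtain ⟨j, hj⟩ := (z.trans e).surjective ⟨_, hmem⟩
    induction j using Fin.lastCases with
    | cast j =>
      exfalso
      have h1 : (e (z j.castSucc) : GolayPt) = ((g : M24) : Equiv.Perm GolayPt) (z (Fin.last 5)) :=
        congrArg Subtype.val hj
      have h2 : ((g : M24) : Equiv.Perm GolayPt) (z j.castSucc) = ((g : M24) : Equiv.Perm GolayPt) (z (Fin.last 5)) :=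
        (hg j).trans h1
      exact Fin.castSucc_ne_last _ (z.injective (Subtype.ext (Equiv.injective _ h2)))
    | last => exact (congrArg Subtype.val hj).symm

theorem hexad_sym_six {d o : Finset GolayPt} (hd : d ∈ dodecads) (ho : o ∈ octads) (h6 : (o ∩ d).card = 6)
    (H : Subgroup M24) (hH : ∀ g : M24, g ∈ H ↔
      (g : Equiv.Perm GolayPt) • d = d ∧ (g : Equiv.Perm GolayPt) • o = o) :
    Nonempty (↥H ≃* Equiv.Perm (Fin 6)) := by
  have hpres : ∀ (g : H) (p : GolayPt), ((g : M24) : Equiv.Perm GolayPt) p ∈ o ∩ d ↔ p ∈ o ∩ d := by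
    intro g p
    obtain ⟨h1, h2⟩ := (hH g).1 g.2
    have e : ((g : M24) : Equiv.Perm GolayPt) • (o ∩ d) = o ∩ d := by rw [Finset.smul_finset_inter, h1, h2]
    conv_lhs => rw [← e]
    exact Finset.smul_mem_smul_finset_iff _
  let φ : H →* Equiv.Perm ↥(o ∩ d) :=
    { toFun := fun g => ((g : M24) : Equiv.Perm GolayPt).subtypePerm (hpres g)
      map_one' := by ext p; rfl
      map_mul' := fun a b => by ext p; rfl }
  have hb : Function.Bijective φ := by
    refine ⟨(injective_iff_map_eq_one φ).2 fun g hg => ?_, fun e => ?_⟩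
    · refine Subtype.ext (Subtype.ext ?_)
      exact six_fixed_trivial hd h6 Finset.inter_subset_right (g : M24).2 ((hH g).1 g.2).1 fun p hp =>
        congrArg Subtype.val (congrArg (fun f : Equiv.Perm ↥(o ∩ d) => f ⟨p, hp⟩) hg)
    · obtain ⟨g, hg, h1, h2, h3⟩ := hexad_induced hd ho h6 e
      exact ⟨⟨⟨g, hg⟩, (hH _).2 ⟨h1, h2⟩⟩, Equiv.ext fun p => Subtype.ext (h3 p)⟩
  exact ⟨(MulEquiv.ofBijective φ hb).trans ((o ∩ d).equivFinOfCardEq h6).permCongrHom⟩

theorem dodecad_hexad_group {d : Finset GolayPt} (hd : d ∈ dodecads) {C : Finset GolayPt} (hC : C ∈ hexadsOn d) :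
    Nonempty (↥(stabilizer M24 d ⊓ stabilizer M24 C) ≃* Equiv.Perm (Fin 6)) ∧
    (∀ g ∈ stabilizer M24 d ⊓ stabilizer M24 C,
      (∀ p ∈ C, ((g : ↥M24) : Equiv.Perm GolayPt) p = p) → g = 1) ∧
    ∀ g ∈ stabilizer M24 d ⊓ stabilizer M24 C,
      (∀ p ∈ d \ C, ((g : ↥M24) : Equiv.Perm GolayPt) p = p) → g = 1 := by
  obtain ⟨hC6, o, ho, rfl⟩ := hC
  refine ⟨hexad_sym_six hd ho hC6 _ fun g => ?_, fun g hg hfix => ?_, fun g hg hfix => ?_⟩
  · rw [Subgroup.mem_inf, mem_stabilizer_iff, mem_stabilizer_iff]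
    show (g : Equiv.Perm GolayPt) • d = d ∧ (g : Equiv.Perm GolayPt) • (o ∩ d) = o ∩ d ↔ _
    refine ⟨fun ⟨h1, h2⟩ => ⟨h1, octad_eq_of_five (smul_mem_octads g.2 ho) ho ?_⟩,
      fun ⟨h1, h2⟩ => ⟨h1, by rw [Finset.smul_finset_inter, h1, h2]⟩⟩
    refine le_trans (b := (o ∩ d).card) (by omega) (Finset.card_le_card fun p hp => ?_)
    refine Finset.mem_inter.2 ⟨?_, (Finset.mem_inter.1 hp).1⟩
    rw [← h2] at hp
    exact Finset.smul_finset_subset_smul_finset Finset.inter_subset_left hp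
  · exact Subtype.ext (six_fixed_trivial hd hC6 Finset.inter_subset_right g.2 (Subgroup.mem_inf.1 hg).1 hfix)
  · refine Subtype.ext (six_fixed_trivial hd ?_ Finset.sdiff_subset g.2 (Subgroup.mem_inf.1 hg).1 hfix)
    rw [Finset.card_sdiff_of_subset Finset.inter_subset_right, hd.2, hC6]

theorem two_octads_group {o o' : Finset GolayPt} (ho : o ∈ octads) (ho' : o' ∈ octads) (h2 : (o ∩ o').card = 2) :
    Nonempty (↥(stabilizer M24 o ⊓ stabilizer M24 o') ≃* Equiv.Perm (Fin 6)) := by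
  obtain ⟨⟨v, hv, rfl⟩, h8⟩ := ho
  obtain ⟨⟨w, hw, rfl⟩, h8'⟩ := ho'
  set a := support₂ v with ha
  set b := support₂ w with hb
  have hsum : support₂ (v + w) = (a \ b) ∪ (b \ a) := by
    ext p
    simp only [ha, hb, support₂, Finset.mem_filter, Finset.mem_univ, true_and, Finset.mem_union, Finset.mem_sdiff,
      Pi.add_apply]
    generalize v p = x, w p = y
    revert x y; decide
  have hd : (a \ b) ∪ (b \ a) ∈ dodecads := by
    refine ⟨⟨v + w, add_mem hv hw, hsum⟩, ?_⟩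
    rw [Finset.card_union_of_disjoint disjoint_sdiff_sdiff, Finset.card_sdiff, Finset.card_sdiff, Finset.inter_comm b,
      h2, h8, h8']
  have hC : a ∩ ((a \ b) ∪ (b \ a)) = a \ b := by ext p; simp; tauto
  refine hexad_sym_six hd ⟨⟨v, hv, rfl⟩, h8⟩ ?_ _ fun g => ?_
  · rw [hC, Finset.card_sdiff, Finset.inter_comm, h2, h8]
  · rw [Subgroup.mem_inf, mem_stabilizer_iff, mem_stabilizer_iff]
    show (g : Equiv.Perm GolayPt) • a = a ∧ (g : Equiv.Perm GolayPt) • b = b ↔ _
    refine ⟨fun ⟨h1, h2⟩ => ⟨by rw [Finset.smul_finset_union, Finset.smul_finset_sdiff, Finset.smul_finset_sdiff,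
      h1, h2], h1⟩, fun ⟨h1, h2⟩ => ⟨h2, ?_⟩⟩
    -- the second octad is the sum of the first and the dodecad
    have e : ∀ s t : Finset GolayPt, t = (s \ ((s \ t) ∪ (t \ s))) ∪ (((s \ t) ∪ (t \ s)) \ s) := by
      intro s t; ext p; simp; tauto
    conv_lhs => rw [e a b, Finset.smul_finset_union, Finset.smul_finset_sdiff, Finset.smul_finset_sdiff, h1, h2,
      ← e a b]

end CfsgLib.Spor
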