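/-
Invariant products and invariant trilinear forms.
-/
import Mathlib

set_option autoImplicit false

namespace CfsgLib.Spor.InvariantProducts

variable {H : Type*} [Group H] {U : Type*} [AddCommGroup U] [Module ℝ U] [FiniteDimensional ℝ U]

theorem iff_forms (ρ : Representation ℝ H U)
    (hirr : ∀ W : Submodule ℝ U, (∀ g : H, W.map (ρ g) ≤ W) → W = ⊥ ∨ W = ⊤)
    (B : LinearMap.BilinForm ℝ U) (hB0 : B ≠ 0) (hBs : ∀ u v, B u v = B v u)
    (hBi : ∀ (g : H) (u v : U), B (ρ g u) (ρ g v) = B u v) :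
    (∃ m : U →ₗ[ℝ] U →ₗ[ℝ] U, m ≠ 0 ∧ (∀ u v, m u v = m v u) ∧
        (∀ (g : H) (u v : U), m (ρ g u) (ρ g v) = ρ g (m u v)) ∧
        ∀ m' : U →ₗ[ℝ] U →ₗ[ℝ] U, (∀ (g : H) (u v : U), m' (ρ g u) (ρ g v) = ρ g (m' u v)) →
          ∃ c : ℝ, m' = c • m) ↔
      (∃ t : U →ₗ[ℝ] U →ₗ[ℝ] U →ₗ[ℝ] ℝ, t ≠ 0 ∧ (∀ u v w, t u v w = t v u w ∧ t u v w = t u w v) ∧
        (∀ (g : H) (u v w : U), t (ρ g u) (ρ g v) (ρ g w) = t u v w) ∧
        ∀ t' : U →ₗ[ℝ] U →ₗ[ℝ] U →ₗ[ℝ] ℝ, (∀ (g : H) (u v w : U), t' (ρ g u) (ρ g v) (ρ g w) = t' u v w) →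
          ∃ c : ℝ, t' = c • t) := by
  have hinv : ∀ g : H, ∀ u, ρ g (ρ g⁻¹ u) = u := fun g u => by
    rw [← Module.End.mul_apply, ← map_mul, mul_inv_cancel, map_one, Module.End.one_apply]
  have hker : LinearMap.ker B = ⊥ := by
    refine (hirr _ fun g => ?_).resolve_right fun h => hB0 (LinearMap.ker_eq_top.1 h)
    rintro _ ⟨u, hu, rfl⟩
    refine LinearMap.mem_ker.2 (LinearMap.ext fun v => ?_)
    rw [← hinv g v, hBi, LinearMap.mem_ker.1 hu]
    rfl
  have hbij : Function.Bijective B := by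
    have hinj := LinearMap.ker_eq_bot.1 hker
    exact ⟨hinj, (LinearMap.injective_iff_surjective_of_finrank_eq_finrank
      (Subspace.dual_finrank_eq (K := ℝ) (V := U)).symm).1 hinj⟩
  let eB : U ≃ₗ[ℝ] Module.Dual ℝ U := LinearEquiv.ofBijective B hbij
  let E : (U →ₗ[ℝ] U →ₗ[ℝ] U) ≃ₗ[ℝ] (U →ₗ[ℝ] U →ₗ[ℝ] U →ₗ[ℝ] ℝ) :=
    LinearEquiv.congrRight (LinearEquiv.congrRight eB)
  have hE : ∀ m u v w, E m u v w = B (m u v) w := fun m u v w => rfl
  have heq : ∀ m, (∀ (g : H) (u v : U), m (ρ g u) (ρ g v) = ρ g (m u v)) ↔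
      ∀ (g : H) (u v w : U), E m (ρ g u) (ρ g v) (ρ g w) = E m u v w := fun m => by
    constructor
    · intro h g u v w; rw [hE, hE, h, hBi]
    · intro h g u v
      apply hbij.1
      refine LinearMap.ext fun w => ?_
      rw [← hinv g w, hBi]
      exact h g u v _
  have huniq : ∀ m, (∀ m' : U →ₗ[ℝ] U →ₗ[ℝ] U, (∀ (g : H) (u v : U), m' (ρ g u) (ρ g v) = ρ g (m' u v)) →
        ∃ c : ℝ, m' = c • m) ↔
      ∀ t' : U →ₗ[ℝ] U →ₗ[ℝ] U →ₗ[ℝ] ℝ, (∀ (g : H) (u v w : U), t' (ρ g u) (ρ g v) (ρ g w) = t' u v w) →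
        ∃ c : ℝ, t' = c • E m := fun m => by
    constructor
    · intro h t' ht'
      obtain ⟨m', rfl⟩ := E.surjective t'
      exact (h m' ((heq m').2 ht')).imp fun c e => by rw [e, map_smul]
    · intro h m' hm'
      exact (h (E m') ((heq m').1 hm')).imp fun c e => E.injective (by rw [e, map_smul])
  constructor
  · rintro ⟨m, hm0, hsym, hequi, hu⟩
    set t := E m with ht
    have ht0 : t ≠ 0 := fun e => hm0 (E.injective (e.trans (map_zero E).symm))
    have h12 : ∀ u v w, t u v w = t v u w := fun u v w => by rw [hE, hE, hsym]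
    have hti := (heq m).1 hequi
    refine ⟨t, ht0, fun u v w => ⟨h12 u v w, ?_⟩, hti, (huniq m).1 hu⟩
    -- exchanging the last two arguments
    let t' : U →ₗ[ℝ] U →ₗ[ℝ] U →ₗ[ℝ] ℝ := (LinearMap.lflip.toLinearMap).comp t
    have ht' : ∀ u v w, t' u v w = t u w v := fun u v w => rfl
    obtain ⟨c, hc⟩ := (huniq m).1 hu t' fun g u v w => by rw [ht', ht', hti]
    have hc' : ∀ u v w, t u w v = c * t u v w := fun u v w => by
      rw [← ht', hc]; rfl
    obtain ⟨u₀, v₀, w₀, hne⟩ : ∃ u v w, t u v w ≠ 0 := by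
      by_contra h
      push Not at h
      exact ht0 (LinearMap.ext fun u => LinearMap.ext fun v => LinearMap.ext fun w => h u v w)
    have hcc : (c - 1) * (c + 1) = 0 := by
      have h := hc' u₀ w₀ v₀
      rw [hc' u₀ v₀ w₀] at h
      have : (c * c - 1) * t u₀ v₀ w₀ = 0 := by linarith
      linarith [(mul_eq_zero.1 this).resolve_right hne]
    rcases mul_eq_zero.1 hcc with h | h
    · rw [hc' u v w, show c = 1 by linarith, one_mul]
    · exfalso
      have hneg : ∀ u v w, t u w v = -t u v w := fun u v w => by rw [hc' u v w, show c = -1 by linarith]; ring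
      refine hne ?_
      have e1 := hneg u₀ v₀ w₀
      have e2 := h12 u₀ w₀ v₀
      have e3 := hneg w₀ u₀ v₀
      have e4 := h12 w₀ v₀ u₀
      have e5 := hneg v₀ w₀ u₀
      have e6 := h12 v₀ u₀ w₀
      linarith
  · rintro ⟨t, ht0, hsym, hti, hu⟩
    obtain ⟨m, rfl⟩ := E.surjective t
    refine ⟨m, fun e => ht0 (by rw [e, map_zero]), fun u v => hbij.1 (LinearMap.ext fun w => (hsym u v w).1),
      (heq m).2 hti, (huniq m).2 hu⟩

end CfsgLib.Spor.InvariantProducts
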