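/-
The Sylow 2-subgroup of the Mathieu group of degree 24 is self-normalizing.
-/
import Cfsg.Agent.Lib.Spor.SylowTwoM24

set_option autoImplicit false

namespace CfsgLib.Spor

open Cfsg

/-- At most one further point has the same stabilizer in the listed group. -/
def TwoCert.twinCheck (C : TwoCert) : Bool :=
  (List.range 24).all fun i => decide (((List.range 24).countP fun j =>
    (List.range C.size).all fun k =>
      (permFn (C.el k) j == j) == (permFn (C.el k) i == i)) ≤ 2)

theorem eq_or_eq_of_card_le_two {α : Type*} [DecidableEq α] {s : Finset α} (hs : s.card ≤ 2)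
    {a b c : α} (ha : a ∈ s) (hb : b ∈ s) (hc : c ∈ s) : a = b ∨ a = c ∨ b = c := by
  by_contra h
  push Not at h
  have h2 : ({a, b, c} : Finset α) ⊆ s := by
    intro x hx
    simp only [Finset.mem_insert, Finset.mem_singleton] at hx
    rcases hx with rfl | rfl | rfl <;> assumption
  have h3 := Finset.card_le_card h2
  rw [Finset.card_eq_three.2 ⟨a, b, c, h.1, h.2.1, h.2.2, rfl⟩] at h3
  omega

namespace TwoCert.Valid

variable {C : TwoCert} {memb : ℕ → Bool} {G : Subgroup (Equiv.Perm GolayPt)}

theorem centralizer_sq_eq_one (h : C.Valid memb G) (ht : C.twinCheck = true) {b : G}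
    (hb : b ∈ Subgroup.centralizer (h.syl : Set G)) : b * b = 1 := by
  apply Subtype.ext
  rw [Subgroup.coe_mul, Subgroup.coe_one]
  ext p : 1
  rw [Equiv.Perm.mul_apply, Equiv.Perm.one_apply]
  set γ := (b : Equiv.Perm GolayPt) with hγ
  have hcomm : ∀ k < C.size, γ * permOf (C.el k) = permOf (C.el k) * γ := fun k hk => by
    have := congrArg Subtype.val (Subgroup.mem_centralizer_iff.1 hb _ (h.q_mem hk)).symm
    rwa [Subgroup.coe_mul, Subgroup.coe_mul, h.coe_q hk] at this
  have hsame : ∀ q : GolayPt, ∀ k < C.size,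
      (permOf (C.el k) (γ q) = γ q ↔ permOf (C.el k) q = q) := by
    intro q k hk
    have e := congrArg (fun σ : Equiv.Perm GolayPt => σ q) (hcomm k hk)
    simp only [Equiv.Perm.mul_apply] at e
    rw [← e, γ.injective.eq_iff]
  have ht' := List.all_eq_true.1 ht (ptIdx p) (List.mem_range.2 (ptIdx_lt p))
  rw [decide_eq_true_eq, countP_range] at ht'
  have hmem : ∀ q : GolayPt, (∀ k < C.size, permOf (C.el k) q = q ↔ permOf (C.el k) p = p) →
      ptIdx q ∈ (Finset.range 24).filter (fun j => (List.range C.size).all (fun k =>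
        (permFn (C.el k) j == j) == (permFn (C.el k) (ptIdx p) == ptIdx p)) = true) := by
    intro q hq
    refine Finset.mem_filter.2 ⟨Finset.mem_range.2 (ptIdx_lt q), ?_⟩
    simp only [List.all_eq_true, List.mem_range, beq_iff_eq]
    intro k hk
    rw [Bool.eq_iff_iff, beq_iff_eq, beq_iff_eq, ← permOf_fix_iff (h.perm hk),
      ← permOf_fix_iff (h.perm hk)]
    exact hq k hk
  rcases eq_or_eq_of_card_le_two ht' (hmem p fun _ _ => Iff.rfl)
    (hmem (γ p) fun k hk => hsame p k hk)
    (hmem (γ (γ p)) fun k hk => (hsame (γ p) k hk).trans (hsame p k hk)) with e | e | e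
  · have e' := ptIdx_injective e
    rw [← e', ← e']
  · exact (ptIdx_injective e).symm
  · have e' := γ.injective (ptIdx_injective e)
    rw [← e', ← e']

theorem normalizer_syl (h : C.Valid memb G) (ht : C.twinCheck = true) (P : Sylow 2 G)
    (hP : (P : Subgroup G) = h.syl) :
    Subgroup.normalizer ((P : Subgroup G) : Set G) = (P : Subgroup G) := by
  refine le_antisymm (fun g hg => ?_) Subgroup.le_normalizer
  have hd := (h.hasSimpleData P hP).2.1
  have hcP : Subgroup.centralizer ((P : Subgroup G) : Set G) ≤ (P : Subgroup G) := by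
    intro c hc
    have hp : IsPGroup 2 (Subgroup.zpowers c) :=
      CfsgLib.Fusion.isPGroup_zpowers_of_pow (k := 1) (by
        rw [pow_one, pow_two, h.centralizer_sq_eq_one ht (hP ▸ hc)])
    have h1 : Subgroup.zpowers c ⊓ Subgroup.normalizer ((P : Subgroup G) : Set G) =
        Subgroup.zpowers c ⊓ (P : Subgroup G) := hp.inf_normalizer_sylow P
    have h2 : c ∈ Subgroup.zpowers c ⊓ Subgroup.normalizer ((P : Subgroup G) : Set G) :=
      Subgroup.mem_inf.2 ⟨Subgroup.mem_zpowers c, Subgroup.centralizer_le_normalizer _ hc⟩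
    rw [h1] at h2
    exact h2.2
  exact sup_le le_rfl hcP (hd hg)

end TwoCert.Valid

namespace SylTwoM24

theorem twin_true : data.twinCheck = true := by decide +kernel

theorem normalizer_eq (S : Sylow 2 Cfsg.M24) :
    Subgroup.normalizer ((S : Subgroup Cfsg.M24) : Set Cfsg.M24) = (S : Subgroup Cfsg.M24) := by
  haveI : Fact (Nat.Prime 2) := ⟨Nat.prime_two⟩
  have hidx : ¬ 2 ∣ valid.syl.index := by
    have h1 := valid.syl.card_mul_index
    rw [Nat.card_congr (Subgroup.subgroupOfEquivOfLe valid.grp_le).toEquiv, valid.card_grp,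
      card_M24, show (244823040 : ℕ) = data.size * 239085 by decide +kernel] at h1
    rw [Nat.eq_of_mul_eq_mul_left (Nat.two_pow_pos _) h1]
    decide
  set P := valid.isPGroup_syl.toSylow hidx
  obtain ⟨a, ha⟩ := MulAction.exists_smul_eq Cfsg.M24 P S
  have hPn := valid.normalizer_syl twin_true P rfl
  rw [← ha]
  show Subgroup.normalizer ((CfsgLib.Fusion.conjBy a (P : Subgroup Cfsg.M24)) : Set Cfsg.M24) =
    CfsgLib.Fusion.conjBy a (P : Subgroup Cfsg.M24)
  rw [← CfsgLib.Fusion.conjBy_normalizer, hPn]

end SylTwoM24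

end CfsgLib.Spor
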