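/-
Finite checks for the projective line over 23 elements.
-/
import Cfsg.Agent.Lib.Spor.LineTwentyThreeData
import Cfsg.Agent.Lib.Spor.M24Gen

set_option autoImplicit false

namespace CfsgLib.Spor.LineTwentyThree

open Cfsg

instance prime23 : Fact (Nat.Prime 23) := ⟨by norm_num⟩

/-- The affine maps. -/
def affCode (u b : ℕ) : ℕ := packFn (fun i => if i < 23 then (u * i + b) % 23 else 23) 0 24

/-- The squares. -/
def sq : List ℕ := [1, 2, 3, 4, 6, 8, 9, 12, 13, 16, 18]

theorem affCode_ok : ∀ u : ZMod 23, u ≠ 0 → ∀ b : ZMod 23, isPermCode (affCode u.val b.val) = true := by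
  decide +kernel

theorem affCode_apply : ∀ u : ZMod 23, u ≠ 0 → ∀ b : ZMod 23, ∀ p : GolayPt,
    idxPt (permFn (affCode u.val b.val) (ptIdx p)) = p.map (fun x => u * x + b) := by decide +kernel

theorem sq_mem : ∀ r : ZMod 23, r ≠ 0 → (r * r).val ∈ sq := by decide +kernel

theorem sq_code : ∀ v ∈ sq, ∀ b : ZMod 23, isM24Code (affCode v b.val) = true := by decide +kernel

theorem sq_two : (2 : ZMod 23) = (5 : ZMod 23) * 5 := by decide +kernel

theorem shift_code_eq : affCode 1 1 = shiftCode := by decide +kernel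

/-- An octad row that is moved off the code. -/
def badCode (c : ℕ) : Bool := rows.any fun r => codeTest r && !codeTest (permMask c r)

theorem aff_bad : ∀ u : ZMod 23, u ≠ 0 → u.val ∈ sq ∨ ∀ b : ZMod 23, badCode (affCode u.val b.val) = true := by
  decide +kernel

/-- The maps with given images of the two orbits of the element of order eleven. -/
def twoCode (e a b : ℕ) : ℕ :=
  packFn (fun i => if i = 0 ∨ i = 23 then i else
    let x := if sq.contains i then i else 23 - i
    let y := if e = 1 then x else (List.range 23).getD ((List.range 23).findIdx fun j => x * j % 23 == 1) 0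
    if sq.contains i then a * y % 23 else b * y % 23) 0 24

theorem two_table : ∀ e : Fin 2, ∀ a b : ZMod 23, isPermCode (twoCode e.val a.val b.val) = true →
    ((e = 1 ∧ ∃ k : Fin 11, ∀ i : Fin 24, permFn (twoCode e.val a.val b.val) i = permFn (affCode (2 ^ k.val % 23) 0) i)
      ∨ badCode (twoCode e.val a.val b.val) = true) := by decide +kernel

theorem pts_cover : ∀ p : GolayPt, p = none ∨ p = some 0 ∨ (∃ k : Fin 11, p = some ((2 : ZMod 23) ^ k.val)) ∨
    ∃ k : Fin 11, p = some (- (2 : ZMod 23) ^ k.val) := by decide +kernel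

theorem y_table : ∀ e : Fin 2, ∀ k : Fin 11, ∀ a b : ZMod 23,
    idxPt (permFn (twoCode e.val a.val b.val) (ptIdx (some ((2 : ZMod 23) ^ k.val)))) =
      some (((2 : ZMod 23) ^ (if e = 1 then k.val else 11 - k.val)) * a) ∧
    idxPt (permFn (twoCode e.val a.val b.val) (ptIdx (some (-(2 : ZMod 23) ^ k.val)))) =
      some (((2 : ZMod 23) ^ (if e = 1 then k.val else 11 - k.val)) * b) ∧
    permFn (twoCode e.val a.val b.val) 0 = 0 ∧ permFn (twoCode e.val a.val b.val) 23 = 23 := by decide +kernel

theorem two_perm_iff : ∀ e : Fin 2, ∀ a b : ZMod 23, isPermCode (twoCode e.val a.val b.val) = true ∨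
    a = 0 ∨ b = 0 ∨ ∃ k : Fin 11, a = b * (2 : ZMod 23) ^ k.val := by decide +kernel

/-- The generators of the orbit. -/
def orbitGens : List ℕ := [shiftCode, projInvCode] ++ sq.map (fun v => affCode v 0)

theorem orbit_ok : (List.range orbitGens.length).all (fun k => (List.range 1518).all fun j =>
    decide (arrGet 16 (orbitImg.getD k 0) j < 1518) &&
      (permMask (orbitGens.getD k 0) (arrGet 24 orbitV j) == arrGet 24 orbitV (arrGet 16 (orbitImg.getD k 0) j))) = true ∧
    (List.range 1518).all (fun j => pop 24 (arrGet 24 orbitV j) == 4) = true := by decide +kernel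

theorem hexp_all : ∀ e : Fin 2, ∀ k : Fin 11, (2 : ZMod 23) ^ (if e = 1 then k.val else 10 * k.val) =
    2 ^ (if e = 1 then k.val else 11 - k.val) := by decide +kernel

theorem key_neg : ∀ k : Fin 11, ∀ f : Fin 2, ∃ j : Fin 11,
    (2 : ZMod 23) ^ (if f = 1 then j.val else 10 * j.val) = 2 ^ k.val ∧
      (2 : ZMod 23) ^ j.val * -1 ≠ 1 := by decide +kernel

theorem sq_root : ∀ v : ZMod 23, v.val ∈ sq → ∃ r : ZMod 23, r ≠ 0 ∧ r * r = v := by decide +kernel

end CfsgLib.Spor.LineTwentyThree
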