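/-
The projective special linear group on the projective line over 23 elements inside the Mathieu group of degree 24,
and its point stabiliser inside the Mathieu group of degree 23, are maximal.
-/
import Cfsg.Agent.Lib.Spor.LineTwentyThreeChecks
import Cfsg.Agent.Lib.Spor.PointSubgroups
import Cfsg.Agent.Lib.Spor.StabFacts

set_option autoImplicit false

namespace CfsgLib.Spor.LineTwentyThree

open Cfsg MulAction
open scoped Pointwise

theorem optionCongr_mul (u : (ZMod 23)ˣ) :
    Equiv.optionCongr (Units.mulLeft u) = permOf (affCode (u : ZMod 23).val (0 : ZMod 23).val) := by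
  refine Equiv.ext fun p => ?_
  have h := affCode_apply (u : ZMod 23) u.ne_zero 0 p
  rw [permOf_apply (affCode_ok (u : ZMod 23) u.ne_zero 0)]
  refine Eq.trans ?_ h.symm
  cases p with
  | none => rw [Equiv.optionCongr_apply, Option.map_none, Option.map_none]
  | some x => rw [Equiv.optionCongr_apply, Option.map_some, Option.map_some, add_zero]; rfl

/-- The group. -/
abbrev L : Subgroup (Equiv.Perm GolayPt) :=
  Subgroup.closure ({Equiv.optionCongr (Equiv.addRight (1 : ZMod 23)), Cfsg.projInv} ∪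
    {g : Equiv.Perm Cfsg.GolayPt | ∃ u : (ZMod 23)ˣ, IsSquare u ∧ g = Equiv.optionCongr (Units.mulLeft u)})

/-- The affine group. -/
abbrev F : Subgroup (Equiv.Perm GolayPt) :=
  Subgroup.closure ({Equiv.optionCongr (Equiv.addRight (1 : ZMod 23))} ∪
    {g : Equiv.Perm Cfsg.GolayPt | ∃ u : (ZMod 23)ˣ, IsSquare u ∧ g = Equiv.optionCongr (Units.mulLeft u)})

theorem mul_mem_M24 {u : (ZMod 23)ˣ} (hu : IsSquare u) :
    Equiv.optionCongr (Units.mulLeft u) ∈ M24 := by
  obtain ⟨r, rfl⟩ := hu
  rw [optionCongr_mul]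
  exact permOf_mem_M24 (sq_code _ (sq_mem _ r.ne_zero) 0)

theorem F_le_L : F ≤ L := Subgroup.closure_mono fun x hx => by
  rcases hx with hx | hx
  · exact Or.inl (Or.inl hx)
  · exact Or.inr hx

theorem L_le : L ≤ M24 := by
  rw [L, Subgroup.closure_le]
  rintro g ((rfl | rfl) | ⟨u, hu, rfl⟩)
  · exact shift_mem
  · exact projInv_mem
  · exact mul_mem_M24 hu

theorem F_le : F ≤ M24 ⊓ stabilizer (Equiv.Perm GolayPt) (none : GolayPt) := by
  rw [F, Subgroup.closure_le]
  rintro g (rfl | ⟨u, hu, rfl⟩)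
  · exact ⟨shift_mem, rfl⟩
  · exact ⟨mul_mem_M24 hu, rfl⟩

theorem shift_memF : Equiv.optionCongr (Equiv.addRight (1 : ZMod 23)) ∈ F := Subgroup.subset_closure (Or.inl rfl)

theorem projInv_memL : Cfsg.projInv ∈ L := Subgroup.subset_closure (Or.inl (Or.inr rfl))

/-- The point stabiliser. -/
abbrev T : Subgroup (Equiv.Perm GolayPt) := M24 ⊓ stabilizer (Equiv.Perm GolayPt) (none : GolayPt)

theorem card_T : Nat.card T = 10200960 := by
  rw [← card_stabilizer_point (none : GolayPt), card_subgroup_M24]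
  congr 2
  ext g
  exact ⟨fun h => ⟨⟨g, h.1⟩, h.2, rfl⟩, fun ⟨⟨x, hx⟩, hfix, e⟩ => e ▸ ⟨hx, hfix⟩⟩

/-- The translation. -/
noncomputable def t : Equiv.Perm GolayPt := permOf shiftCode

/-- The element of order eleven. -/
noncomputable def w : Equiv.Perm GolayPt := permOf (affCode 2 0)

theorem two_perm : isPermCode (affCode 2 0) = true := by decide +kernel

theorem t_memF : t ∈ F := by
  rw [t, ← shift_eq]
  exact shift_memF

theorem two_unit : ∃ u : (ZMod 23)ˣ, IsSquare u ∧ (u : ZMod 23) = 2 := by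
  let r : (ZMod 23)ˣ := ⟨5, 14, by decide +kernel, by decide +kernel⟩
  exact ⟨r * r, ⟨r, rfl⟩, sq_two.symm⟩

theorem w_memF : w ∈ F := by
  obtain ⟨u, hu, he⟩ := two_unit
  refine Subgroup.subset_closure (Or.inr ⟨u, hu, ?_⟩)
  rw [optionCongr_mul, he]
  rfl

theorem t_order : orderOf t = 23 := by
  haveI : Fact (Nat.Prime 23) := ⟨by norm_num⟩
  rw [t, ← shift_eq]
  refine orderOf_eq_prime ?_ fun h => ?_
  · ext p : 1
    revert p; decide +kernel
  · have h0 := Equiv.ext_iff.1 h (some 0)
    simp at h0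

theorem w_order : orderOf w = 11 := by
  haveI : Fact (Nat.Prime 11) := ⟨by norm_num⟩
  refine orderOf_eq_prime ?_ fun h => ?_
  · ext p : 1
    have e : ∀ q : GolayPt, w q = idxPt (permFn (affCode 2 0) (ptIdx q)) := fun q => permOf_apply two_perm q
    simp only [pow_succ, pow_zero, one_mul, Equiv.Perm.mul_apply, e, Equiv.Perm.one_apply]
    revert p; decide +kernel
  · have := Equiv.ext_iff.1 h (some 1)
    rw [w, permOf_apply two_perm] at this
    exact absurd this (by decide +kernel)

theorem not_mem_of_bad {c : ℕ} (hc : isPermCode c = true) (hb : badCode c = true) : permOf c ∉ M24 := by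
  intro hm
  simp only [badCode, List.any_eq_true, Bool.and_eq_true, Bool.not_eq_true'] at hb
  obtain ⟨r, -, hr, hn⟩ := hb
  have hw : pts r ∈ wordsOfWeight (golayCode : Set (GolayPt → ZMod 2)) (pop 24 r) :=
    ⟨⟨word _, (word_mem_golayCode_iff _).2 hr, support₂_word _⟩, card_pts _⟩
  have h2 := smul_mem_wordsOfWeight hm hw
  rw [smul_pts hc] at h2
  obtain ⟨⟨v, hv, hv'⟩, -⟩ := h2
  rw [← support₂_word] at hv'
  rw [support₂_injective hv'] at hv
  rw [(word_mem_golayCode_iff _).1 hv] at hn
  exact absurd hn (by simp)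

theorem pow_w (k : ℕ) (p : GolayPt) : (w ^ k) p = p.map (fun x => (2 : ZMod 23) ^ k * x) := by
  induction k generalizing p with
  | zero => cases p <;> simp
  | succ k ih =>
    rw [pow_succ, Equiv.Perm.mul_apply, ih, w, permOf_apply two_perm]
    have h := affCode_apply 2 (by decide) 0 p
    rw [show affCode (2 : ZMod 23).val (0 : ZMod 23).val = affCode 2 0 from rfl] at h
    rw [h]
    cases p
    · rfl
    · simp only [Option.map_some, add_zero, pow_succ, mul_assoc]

/-- An element conjugating the element of order eleven to itself or its inverse. -/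
theorem conj_w {g : Equiv.Perm GolayPt} (hg : g ∈ T) (e : Fin 2)
    (h : g * w * g⁻¹ = if e = 1 then w else w⁻¹) : e = 1 ∧ g ∈ Subgroup.zpowers w := by
  have hn : g none = none := hg.2
  have hwz : ∀ p, w p = p → p = none ∨ p = some 0 := by
    intro p hp
    rw [w, permOf_apply two_perm] at hp
    revert p; decide +kernel
  have hcomm : ∀ k p, g ((w ^ k) p) = (w ^ (if e = 1 then k else 10 * k)) (g p) := by
    intro k p
    have h2 : g * w ^ k = w ^ (if e = 1 then k else 10 * k) * g := by
      have := conj_pow (i := k) (a := g) (b := w)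
      rw [h] at this
      have hinv : w⁻¹ = w ^ 10 := inv_eq_of_mul_eq_one_right (by
        rw [← pow_succ', show 10 + 1 = 11 from rfl, ← w_order, pow_orderOf_eq_one])
      split_ifs at this ⊢
      · exact (eq_mul_inv_iff_mul_eq.1 this).symm
      · rw [hinv, ← pow_mul] at this; exact (eq_mul_inv_iff_mul_eq.1 this).symm
    exact congrFun (congrArg DFunLike.coe h2) p
  have h0 : g (some 0) = some 0 := by
    have h1 : w (g (some 0)) = g (some 0) := by
      have hz : (w ^ 1) (some 0) = some 0 := by rw [pow_w]; simp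
      have := hcomm 1 (some 0)
      rw [hz] at this
      split_ifs at this with he
      · rw [pow_one] at this; exact this.symm
      · conv_lhs => rw [this]
        rw [← Equiv.Perm.mul_apply, ← pow_succ', show 10 * 1 + 1 = 11 from rfl, ← w_order, pow_orderOf_eq_one]
        rfl
    exact (hwz _ h1).resolve_left fun h' => by
      rw [← hn] at h'
      exact Option.some_ne_none _ (g.injective h')
  obtain ⟨a, ha⟩ : ∃ a, g (some 1) = some a := Option.ne_none_iff_exists'.1 fun h' => by
    rw [← hn] at h'; exact Option.some_ne_none _ (g.injective h')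
  obtain ⟨b, hb⟩ : ∃ b, g (some (-1)) = some b := Option.ne_none_iff_exists'.1 fun h' => by
    rw [← hn] at h'; exact Option.some_ne_none _ (g.injective h')
  have ha0 : a ≠ 0 := fun h' => by
    rw [h', ← h0] at ha; exact absurd (g.injective ha) (by decide)
  have hb0 : b ≠ 0 := fun h' => by
    rw [h', ← h0] at hb; exact absurd (g.injective hb) (by decide)
  have hexp := hexp_all e
  have hne : ¬ ∃ k : Fin 11, a = b * (2 : ZMod 23) ^ k.val := by
    rintro ⟨k, hk⟩
    obtain ⟨j, hj, hj'⟩ := key_neg k e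
    have h1 : g ((w ^ j.val) (some (-1))) = g (some 1) := by
      rw [hcomm, hb, pow_w, Option.map_some, ha, hj, hk, mul_comm]
    rw [pow_w, Option.map_some] at h1
    exact hj' (Option.some_injective _ (g.injective h1))
  have hperm : isPermCode (twoCode e.val a.val b.val) = true :=
    (two_perm_iff e a b).resolve_right fun h' => by
      rcases h' with h' | h' | h'
      · exact ha0 h'
      · exact hb0 h'
      · exact hne h'
  have hgc : g = permOf (twoCode e.val a.val b.val) := by
    ext p : 1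
    rw [permOf_apply hperm]
    rcases pts_cover p with rfl | rfl | ⟨k, rfl⟩ | ⟨k, rfl⟩
    · rw [hn, show ptIdx (none : GolayPt) = 23 from rfl, (y_table e 0 a b).2.2.2]; rfl
    · rw [h0, show ptIdx (some 0 : GolayPt) = 0 from rfl, (y_table e 0 a b).2.2.1]; rfl
    · rw [show (some ((2 : ZMod 23) ^ k.val) : GolayPt) = (w ^ k.val) (some 1) by rw [pow_w]; simp, hcomm, ha,
        pow_w, pow_w, Option.map_some, Option.map_some, mul_one, (y_table e k a b).1, hexp]
    · rw [show (some (-(2 : ZMod 23) ^ k.val) : GolayPt) = (w ^ k.val) (some (-1)) by rw [pow_w]; simp, hcomm, hb,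
        pow_w, pow_w, Option.map_some, Option.map_some, mul_neg_one, (y_table e k a b).2.1, hexp]
  rcases two_table e a b hperm with ⟨he, k, hk⟩ | hbad
  · refine ⟨he, Subgroup.mem_zpowers_iff.2 ⟨(k.val : ℤ), ?_⟩⟩
    rw [zpow_natCast, hgc]
    ext p : 1
    rw [permOf_apply hperm, hk ⟨ptIdx p, ptIdx_lt p⟩, pow_w]
    have := affCode_apply ((2 : ZMod 23) ^ k.val) (pow_ne_zero _ (by decide)) 0 p
    simp only [add_zero] at this
    rw [← this]
    have hv : ∀ j : Fin 11, ((2 : ZMod 23) ^ j.val).val = 2 ^ j.val % 23 := by decide +kernel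
    rw [hv]
    rfl
  · exact absurd (hgc ▸ hg.1) (not_mem_of_bad hperm hbad)

theorem neg_one_not_sq : ¬ (-1 : ZMod 23).val ∈ sq := by decide +kernel

/-- An element normalising the translations is a square affine map. -/
theorem conj_t {g : Equiv.Perm GolayPt} (hg : g ∈ T) (h : g * t * g⁻¹ ∈ Subgroup.zpowers t) : g ∈ F := by
  have hn : g none = none := hg.2
  obtain ⟨z, hz⟩ := Subgroup.mem_zpowers_iff.1 h
  have ht : ∀ (n : ℕ) (x : ZMod 23), (t ^ n) (some x) = some (x + n) := by
    intro n
    induction n with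
    | zero => simp
    | succ n ih =>
      intro x
      rw [pow_succ', Equiv.Perm.mul_apply, ih, t, ← shift_eq]
      simp [add_assoc]
  obtain ⟨n, hn'⟩ : ∃ n : ℕ, g * t * g⁻¹ = t ^ n := ⟨(z % (23 : ℤ)).toNat, by
    rw [← zpow_natCast, Int.toNat_of_nonneg (Int.emod_nonneg _ (by norm_num)), ← hz, ← zpow_mod_orderOf, t_order]
    rfl⟩
  have hstep : ∀ k x, g ((t ^ k) x) = (t ^ (n * k)) (g x) := by
    intro k x
    have := conj_pow (i := k) (a := g) (b := t)
    rw [hn', ← pow_mul] at this
    rw [this]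
    simp
  obtain ⟨b, hb⟩ : ∃ b, g (some 0) = some b := Option.ne_none_iff_exists'.1 fun h' => by
    rw [← hn] at h'; exact Option.some_ne_none _ (g.injective h')
  have hform : ∀ x : ZMod 23, g (some x) = some ((n : ZMod 23) * x + b) := fun x => by
    have := hstep x.val (some 0)
    rw [ht, hb, ht, zero_add, ZMod.natCast_zmod_val] at this
    rw [this, Nat.cast_mul, ZMod.natCast_zmod_val, add_comm]
  have hu : (n : ZMod 23) ≠ 0 := fun h' => by
    have h1 := hform 1
    rw [h', zero_mul, zero_add, ← hb] at h1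
    exact absurd (g.injective h1) (by decide)
  have hgc : g = permOf (affCode (n : ZMod 23).val b.val) := by
    ext p : 1
    rw [permOf_apply (affCode_ok _ hu b), affCode_apply _ hu b]
    cases p with
    | none => exact hn
    | some x => rw [hform]; rfl
  rcases aff_bad _ hu with hs | hbad
  · have key : ∀ v : ZMod 23, v.val ∈ sq → ∃ r : ZMod 23, r ≠ 0 ∧ r * r = v := by decide +kernel
    obtain ⟨r, hr, hrr⟩ := key _ hs
    have h1 : Equiv.optionCongr (Units.mulLeft (Units.mk0 r hr * Units.mk0 r hr)) ∈ F :=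
      Subgroup.subset_closure (Or.inr ⟨_, ⟨_, rfl⟩, rfl⟩)
    have e : g = t ^ b.val * Equiv.optionCongr (Units.mulLeft (Units.mk0 r hr * Units.mk0 r hr)) := by
      ext p : 1
      rw [Equiv.Perm.mul_apply]
      cases p with
      | none =>
        rw [hn]
        have hnone : ∀ m : ℕ, (t ^ m) none = none := by
          intro m; induction m with
          | zero => rfl
          | succ m ih => rw [pow_succ', Equiv.Perm.mul_apply, ih, t, ← shift_eq]; rfl
        exact (hnone _).symm
      | some x =>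
        rw [show Equiv.optionCongr (Units.mulLeft (Units.mk0 r hr * Units.mk0 r hr)) (some x) =
          some (r * r * x) by simp [Equiv.optionCongr_apply], ht, hrr, hform, ZMod.natCast_zmod_val]
    rw [e]
    exact F.mul_mem (F.pow_mem t_memF _) h1
  · exact absurd (hgc ▸ hg.1) (not_mem_of_bad (affCode_ok _ hu b) (hbad b))

/-- The counts. -/
theorem count_eq (N : Subgroup (Equiv.Perm GolayPt)) (p : ℕ) [Fact p.Prime] {x : Equiv.Perm GolayPt}
    (hx : x ∈ N) (ho : orderOf x = p) (hp : ¬ p ^ 2 ∣ Nat.card N) :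
    ∃ (m k : ℕ), Nat.card ↥(N ⊓ Subgroup.normalizer (Subgroup.zpowers x : Set (Equiv.Perm GolayPt))) = m ∧
      Nat.card N = m * k ∧ k % p = 1 % p := by
  set P : Subgroup N := Subgroup.zpowers ⟨x, hx⟩
  have hP : Nat.card P = p := by rw [Nat.card_zpowers, Subgroup.orderOf_mk, ho]
  have hf : Nat.card P = p ^ (Nat.card N).factorization p := by
    have h1 : p ∣ Nat.card N := hP ▸ Subgroup.card_subgroup_dvd_card P
    have h2 : (Nat.card N).factorization p = 1 := le_antisymm
      (Nat.lt_succ_iff.1 (Nat.lt_of_not_le fun h => hp ((pow_dvd_pow p h).trans (Nat.ordProj_dvd _ _))))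
      ((Fact.out : p.Prime).factorization_pos_of_dvd Nat.card_pos.ne' h1)
    rw [hP, h2, pow_one]
  let S := Sylow.ofCard P hf
  have e : (Subgroup.normalizer (Subgroup.zpowers x : Set (Equiv.Perm GolayPt))).subgroupOf N =
      Subgroup.normalizer ((S : Subgroup N) : Set N) := by
    have hmap : P = (Subgroup.zpowers x).subgroupOf N := by
      refine Subgroup.map_injective N.subtype_injective ?_
      rw [Subgroup.subgroupOf_map_subtype, inf_eq_left.2 ((Subgroup.zpowers_le).2 hx), MonoidHom.map_zpowers]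
      rfl
    show _ = Subgroup.normalizer ((P : Subgroup N) : Set N)
    ext g
    rw [Subgroup.mem_subgroupOf, Subgroup.mem_normalizer_iff, Subgroup.mem_normalizer_iff, hmap]
    constructor
    · intro hh y
      exact hh y
    · intro hh y
      by_cases hy : y ∈ N
      · exact hh ⟨y, hy⟩
      · constructor
        · intro h'; exact absurd ((Subgroup.zpowers_le).2 hx h') hy
        · intro h'
          refine absurd ?_ hy
          have := N.mul_mem (N.mul_mem (N.inv_mem g.2) ((Subgroup.zpowers_le).2 hx h')) g.2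
          simpa [mul_assoc] using this
  refine ⟨_, _, rfl, ?_, card_sylow_modEq_one p N⟩
  rw [Sylow.card_eq_index_normalizer S, show Subgroup.normalizer (S : Set N) = Subgroup.normalizer ((S : Subgroup N) : Set N) from rfl, ← e, ← Subgroup.card_mul_index
    ((Subgroup.normalizer (Subgroup.zpowers x : Set (Equiv.Perm GolayPt))).subgroupOf N)]
  congr 1
  rw [← Subgroup.card_map_of_injective N.subtype_injective, Subgroup.subgroupOf_map_subtype, inf_comm]

/-- Conjugation by a member of the normaliser as an exponent. -/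
theorem norm_dvd (N : Subgroup (Equiv.Perm GolayPt)) (x : Equiv.Perm GolayPt) (p : ℕ) [hp : Fact p.Prime]
    (ho : orderOf x = p) (hx : x ∈ N) (hC : ∀ g ∈ N, g * x * g⁻¹ = x → g ∈ Subgroup.zpowers x)
    (hI : ∀ g ∈ N, g * x * g⁻¹ ≠ x⁻¹) :
    ∃ m, Nat.card ↥(N ⊓ Subgroup.normalizer (Subgroup.zpowers x : Set (Equiv.Perm GolayPt))) = p * m ∧
      m ∣ p - 1 ∧ ¬ 2 ∣ m := by
  set A : Subgroup (Equiv.Perm GolayPt) := N ⊓ Subgroup.normalizer (Subgroup.zpowers x : Set (Equiv.Perm GolayPt))
  have hxA : x ∈ A := ⟨hx, Subgroup.le_normalizer (Subgroup.mem_zpowers x)⟩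
  have hex : ∀ g : A, ∃ n : ZMod p, (g : Equiv.Perm GolayPt) * x * (g : Equiv.Perm GolayPt)⁻¹ = x ^ n.val := by
    intro g
    obtain ⟨k, hk⟩ := Subgroup.mem_zpowers_iff.1
      ((Subgroup.mem_normalizer_iff.1 g.2.2 x).1 (Subgroup.mem_zpowers x))
    refine ⟨(k : ZMod p), ?_⟩
    rw [← hk, ← zpow_natCast, ← zpow_mod_orderOf _ k, ho, ZMod.val_intCast]
  have huniq : ∀ {a b : ℕ}, x ^ a = x ^ b → (a : ZMod p) = b := fun h => by
    rw [pow_eq_pow_iff_modEq, ho] at h
    exact (ZMod.natCast_eq_natCast_iff _ _ _).2 h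
  choose r hr using hex
  let φ : A →* ZMod p :=
    { toFun := r
      map_one' := by
        have h : x ^ (r 1).val = x ^ 1 := by rw [← hr 1, pow_one]; simp
        have := huniq h
        rwa [ZMod.natCast_zmod_val, Nat.cast_one] at this
      map_mul' := fun g h => by
        have e : x ^ (r (g * h)).val = x ^ ((r g).val * (r h).val) := by
          rw [← hr (g * h), pow_mul, ← hr g, conj_pow, ← hr h]
          show (g : Equiv.Perm GolayPt) * h * x * ((g : Equiv.Perm GolayPt) * h)⁻¹ = _
          group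
        have := huniq e
        rwa [Nat.cast_mul, ZMod.natCast_zmod_val, ZMod.natCast_zmod_val, ZMod.natCast_zmod_val] at this }
  let ψ : A →* (ZMod p)ˣ := φ.toHomUnits
  have hker : ψ.ker = (Subgroup.zpowers x).subgroupOf A := by
    ext g
    rw [MonoidHom.mem_ker, Subgroup.mem_subgroupOf, Units.ext_iff]
    show r g = 1 ↔ _
    constructor
    · intro h
      refine hC _ g.2.1 ?_
      rw [hr g, h, ZMod.val_one, pow_one]
    · intro h
      obtain ⟨k, hk⟩ := Subgroup.mem_zpowers_iff.1 h
      have e : x ^ (r g).val = x ^ 1 := by rw [← hr g, ← hk, pow_one]; group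
      have := huniq e
      rwa [ZMod.natCast_zmod_val, Nat.cast_one] at this
  have hle : Subgroup.zpowers x ≤ A := (Subgroup.zpowers_le).2 hxA
  have hd : Nat.card ψ.range ∣ p - 1 := by
    have := Subgroup.card_subgroup_dvd_card ψ.range
    rwa [Nat.card_units, Nat.card_zmod] at this
  refine ⟨Nat.card ψ.range, ?_, hd, fun h2 => ?_⟩
  · have h1 := Subgroup.card_eq_card_quotient_mul_card_subgroup ψ.ker
    rw [Nat.card_congr (QuotientGroup.quotientKerEquivRange ψ).toEquiv, hker,
      Nat.card_congr (Subgroup.subgroupOfEquivOfLe hle).toEquiv, Nat.card_zpowers, ho] at h1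
    rw [h1, mul_comm]
  · haveI : Fact (Nat.Prime 2) := ⟨Nat.prime_two⟩
    obtain ⟨v, hv⟩ := exists_prime_orderOf_dvd_card' (G := ψ.range) 2 h2
    obtain ⟨g, hg⟩ := v.2
    have hv' : orderOf (ψ g) = 2 := by rw [hg, Subgroup.orderOf_coe, hv]
    have hne : (ψ g) ≠ 1 := fun h => by rw [h, orderOf_one] at hv'; norm_num at hv'
    have hsq : r g * r g = 1 := by
      have := congrArg Units.val (hv' ▸ pow_orderOf_eq_one (ψ g) : (ψ g) ^ 2 = 1)
      rw [pow_two] at this
      exact this
    rcases mul_self_eq_one_iff.1 hsq with h | h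
    · exact hne (Units.ext h)
    · refine hI _ g.2.1 ?_
      rw [hr g, h]
      refine (inv_eq_of_mul_eq_one_right ?_).symm
      rw [← pow_succ', ← pow_mod_orderOf, ho]
      have : (((-1 : ZMod p).val + 1 : ℕ) : ZMod p) = 0 := by
        rw [Nat.cast_add, ZMod.natCast_zmod_val, Nat.cast_one, neg_add_cancel]
      rw [ZMod.natCast_eq_zero_iff] at this
      rw [Nat.mod_eq_zero_of_dvd this, pow_zero]

theorem N23 : T ⊓ Subgroup.normalizer (Subgroup.zpowers t : Set (Equiv.Perm GolayPt)) ≤ F := fun _ hg =>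
  conj_t hg.1 ((Subgroup.mem_normalizer_iff.1 hg.2 t).1 (Subgroup.mem_zpowers t))

theorem F_norm : F ≤ Subgroup.normalizer (Subgroup.zpowers t : Set (Equiv.Perm GolayPt)) := by
  rw [F, Subgroup.closure_le]
  intro g hg
  have key : ∃ n : ℕ, 0 < n ∧ g * t * g⁻¹ = t ^ n := by
    rcases hg with rfl | ⟨u, hu, rfl⟩
    · exact ⟨1, by norm_num, by rw [t, ← shift_eq]; group⟩
    · refine ⟨(u : ZMod 23).val, Nat.pos_of_ne_zero fun h => u.ne_zero ((ZMod.val_eq_zero _).1 h), ?_⟩
      rw [mul_inv_eq_iff_eq_mul]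
      ext p : 1
      have ht : ∀ (n : ℕ) (q : GolayPt), (t ^ n) q = q.map (fun x => x + (n : ZMod 23)) := by
        intro n
        induction n with
        | zero => intro q; cases q <;> simp
        | succ n ih =>
          intro q
          rw [pow_succ', Equiv.Perm.mul_apply, ih, t, ← shift_eq]
          cases q <;> simp [add_assoc]
      rw [Equiv.Perm.mul_apply, Equiv.Perm.mul_apply, ht, ← pow_one t, ht]
      cases p <;> simp [mul_add]
  obtain ⟨n, -, hn⟩ := key
  rw [SetLike.mem_coe, Subgroup.mem_normalizer_iff_map_conj_eq]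
  refine Subgroup.eq_of_le_of_card_ge ?_ (le_of_eq (Subgroup.card_map_of_injective (MulEquiv.injective _)).symm)
  rw [MonoidHom.map_zpowers, Subgroup.zpowers_le]
  show g * t * g⁻¹ ∈ _
  rw [hn]
  exact Subgroup.npow_mem_zpowers _ _

theorem card_F : Nat.card F = 253 := by
  haveI : Fact (Nat.Prime 23) := ⟨by norm_num⟩
  haveI : Fact (Nat.Prime 11) := ⟨by norm_num⟩
  have hC : ∀ g ∈ F, g * t * g⁻¹ = t → g ∈ Subgroup.zpowers t := by
    intro g hg h
    have hn : g none = none := (F_le hg).2
    obtain ⟨b, hb⟩ : ∃ b, g (some 0) = some b := Option.ne_none_iff_exists'.1 fun h' => by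
      rw [← hn] at h'; exact Option.some_ne_none _ (g.injective h')
    refine Subgroup.mem_zpowers_iff.2 ⟨(b.val : ℤ), ?_⟩
    rw [zpow_natCast]
    have ht : ∀ (n : ℕ) (q : GolayPt), (t ^ n) q = q.map (fun x => x + (n : ZMod 23)) := by
      intro n
      induction n with
      | zero => intro q; cases q <;> simp
      | succ n ih =>
        intro q
        rw [pow_succ', Equiv.Perm.mul_apply, ih, t, ← shift_eq]
        cases q <;> simp [add_assoc]
    have hc : Commute g t := mul_inv_eq_iff_eq_mul.1 h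
    ext p : 1
    cases p with
    | none => rw [ht, hn]; rfl
    | some x =>
      have := congrFun (congrArg DFunLike.coe (hc.pow_right x.val).eq) (some 0)
      simp only [Equiv.Perm.mul_apply, ht, hb, Option.map_some, zero_add, ZMod.natCast_zmod_val] at this
      rw [this, ht, Option.map_some, ZMod.natCast_zmod_val, add_comm]
  have hI : ∀ g ∈ F, g * t * g⁻¹ ≠ t⁻¹ := by
    intro g hg h
    have hgT := F_le hg
    have hn : g none = none := hgT.2
    have ht : ∀ x : ZMod 23, t (some x) = some (x + 1) := fun x => by rw [t, ← shift_eq]; rfl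
    have hst : ∀ p, g (t p) = t⁻¹ (g p) := fun p => congrFun (congrArg DFunLike.coe (mul_inv_eq_iff_eq_mul.1 h)) p
    obtain ⟨b, hb⟩ : ∃ b, g (some 0) = some b := Option.ne_none_iff_exists'.1 fun h' => by
      rw [← hn] at h'; exact Option.some_ne_none _ (g.injective h')
    have hform : ∀ n : ℕ, g (some (n : ZMod 23)) = some (b - n) := by
      intro n
      induction n with
      | zero => simpa using hb
      | succ n ih =>
        rw [Nat.cast_succ, ← ht, hst, ih, Equiv.Perm.inv_eq_iff_eq, ht]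
        congr 1
        ring
    have hu : (-1 : ZMod 23) ≠ 0 := neg_ne_zero.2 one_ne_zero
    have hgc : g = permOf (affCode (-1 : ZMod 23).val b.val) := by
      ext p : 1
      rw [permOf_apply (affCode_ok _ hu b), affCode_apply _ hu b]
      cases p with
      | none => exact hn
      | some x =>
        have := hform x.val
        rw [ZMod.natCast_zmod_val] at this
        rw [this, Option.map_some]
        congr 1
        ring
    exact (not_mem_of_bad (affCode_ok _ hu b) ((aff_bad _ hu).resolve_left neg_one_not_sq b)) (hgc ▸ hgT.1)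
  obtain ⟨m, hm, hd, hodd⟩ := norm_dvd F t 23 t_order t_memF hC hI
  rw [inf_eq_left.2 F_norm] at hm
  have h11 : 11 ∣ Nat.card F := w_order ▸ Subgroup.orderOf_dvd_natCard F w_memF
  rw [hm] at h11 ⊢
  have h11' : 11 ∣ m := (Nat.Coprime.dvd_of_dvd_mul_left (by norm_num) h11)
  have hle := Nat.le_of_dvd (by norm_num) hd
  interval_cases m <;> omega

theorem max_T {N : Subgroup (Equiv.Perm GolayPt)} (h1 : F ≤ N) (h2 : N ≤ T) : N = F ∨ N = T := by
  haveI : Fact (Nat.Prime 23) := ⟨by norm_num⟩
  haveI : Fact (Nat.Prime 11) := ⟨by norm_num⟩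
  have hd : Nat.card N ∣ 10200960 := card_T ▸ Subgroup.card_dvd_of_le h2
  have h23 : ¬ 23 ^ 2 ∣ Nat.card N := fun h => by have := h.trans hd; norm_num at this
  have h112 : ¬ 11 ^ 2 ∣ Nat.card N := fun h => by have := h.trans hd; norm_num at this
  obtain ⟨m, k, hm, hk, hk1⟩ := count_eq N 23 (h1 t_memF) t_order h23
  have hN : N ⊓ Subgroup.normalizer (Subgroup.zpowers t : Set (Equiv.Perm GolayPt)) = F :=
    le_antisymm (fun g hg => N23 ⟨h2 hg.1, hg.2⟩) (le_inf h1 F_norm)
  rw [hN, card_F] at hm
  subst hm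
  obtain ⟨m', k', hm', hk', hk1'⟩ := count_eq N 11 (h1 w_memF) w_order h112
  obtain ⟨j, hj, hjd, hjo⟩ := norm_dvd N w 11 w_order (h1 w_memF)
    (fun g hg h => (conj_w (h2 hg) 1 (by rw [if_pos rfl]; exact h)).2)
    (fun g hg h => absurd (conj_w (h2 hg) 0 (by rw [if_neg (by decide)]; exact h)).1 (by decide))
  rw [hj] at hm'
  subst hm'
  have hkd : k ∣ 40320 := Nat.dvd_of_mul_dvd_mul_left (by norm_num : 0 < 253) (by rw [← hk]; exact hd)
  have hkle := Nat.le_of_dvd (by norm_num) hkd
  have hjle := Nat.le_of_dvd (by norm_num) hjd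
  have hdiv : ∀ k ∈ (List.range 1754).map (fun i => 23 * i + 1), 40320 % k = 0 →
      k = 1 ∨ k = 40320 ∨ k = 24 ∨ k = 70 ∨ k = 576 ∨ k = 1680 := by decide +kernel
  have hk' : k ∈ (List.range 1754).map (fun i => 23 * i + 1) :=
    List.mem_map.2 ⟨k / 23, List.mem_range.2 (by omega), by omega⟩
  rcases hdiv k hk' (Nat.mod_eq_zero_of_dvd hkd |> fun _ => Nat.dvd_iff_mod_eq_zero.1 hkd) with
    rfl | rfl | hk2
  · exact Or.inl (Subgroup.eq_of_le_of_card_ge h1 (by rw [hk, card_F])).symm
  · exact Or.inr (Subgroup.eq_of_le_of_card_ge h2 (by rw [hk, card_T]))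
  · exfalso
    have hj15 : j = 1 ∨ j = 5 := by interval_cases j <;> omega
    rcases hk2 with rfl | rfl | rfl | rfl <;> rcases hj15 with rfl | rfl <;> omega

theorem L_ne : L ≠ M24 := by
  intro hL
  set O : Finset (Finset GolayPt) := (Finset.range 1518).image (fun j => pts (arrGet 24 orbitV j)) with hO
  obtain ⟨h1, h2⟩ := orbit_ok
  simp only [List.all_eq_true, List.mem_range, Bool.and_eq_true, decide_eq_true_eq, beq_iff_eq] at h1 h2
  have hgen : ∀ c ∈ orbitGens, isPermCode c = true → permOf c • O = O := by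
    intro c hc hcp
    obtain ⟨k, hk, rfl⟩ := List.mem_iff_getElem.1 hc
    refine Finset.eq_of_subset_of_card_le (fun s hs => ?_) (by rw [Finset.card_smul_finset])
    obtain ⟨u, hu, rfl⟩ := Finset.mem_smul_finset.1 hs
    simp only [hO, Finset.mem_image, Finset.mem_range] at hu ⊢
    obtain ⟨j, hj, rfl⟩ := hu
    obtain ⟨e1, e2⟩ := h1 k hk j hj
    rw [List.getD_eq_getElem _ _ hk] at e2
    exact ⟨_, e1, by rw [smul_pts hcp, e2]⟩
  have hinv : ∀ g ∈ L, g • O = O := by
    intro g hg
    rw [← mem_stabilizer_iff]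
    revert g
    show L ≤ stabilizer (Equiv.Perm GolayPt) O
    rw [L, Subgroup.closure_le]
    intro g hg
    rw [SetLike.mem_coe, mem_stabilizer_iff]
    rcases hg with (rfl | rfl) | ⟨v, ⟨r, rfl⟩, rfl⟩
    · rw [shift_eq]; exact hgen _ (by simp [orbitGens]) (by decide +kernel)
    · rw [projInv_eq]; exact hgen _ (by simp [orbitGens]) (by decide +kernel)
    · rw [optionCongr_mul]
      exact hgen _ (List.mem_append_right _ (List.mem_map.2 ⟨_, sq_mem _ r.ne_zero, rfl⟩))
        (affCode_ok _ (Units.ne_zero _) 0)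
  have hall : ∀ s : Finset GolayPt, s.card = 4 → s ∈ O := by
    intro s hs
    obtain ⟨g, hg⟩ := exists_smul_of_card (n := 4) (by norm_num) (s := pts (arrGet 24 orbitV 0))
      (by rw [card_pts]; exact h2 0 (by norm_num)) hs
    rw [← hg, ← hinv _ (hL.symm ▸ g.2 : (g : Equiv.Perm GolayPt) ∈ L)]
    exact Finset.smul_mem_smul_finset (Finset.mem_image.2 ⟨0, Finset.mem_range.2 (by norm_num), rfl⟩)
  have hsub : {s : Finset GolayPt | s.card = 4} ⊆ (O : Set (Finset GolayPt)) := hall
  have := Set.ncard_le_ncard hsub (Set.toFinite _)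
  rw [ncard_setOf_card, Set.ncard_coe_finset] at this
  have hle : O.card ≤ 1518 := Finset.card_image_le.trans (Finset.card_range _).le
  have e : Nat.choose 24 4 = 10626 := by decide +kernel
  omega

theorem trans_L (q : GolayPt) : ∃ g ∈ L, g none = q := by
  have ht : ∀ n : ℕ, ((Equiv.optionCongr (Equiv.addRight (1 : ZMod 23))) ^ n) (some 0) = some (n : ZMod 23) := by
    intro n
    induction n with
    | zero => simp
    | succ n ih => rw [pow_succ', Equiv.Perm.mul_apply, ih]; simp
  cases q with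
  | none => exact ⟨1, L.one_mem, rfl⟩
  | some x =>
    refine ⟨_, L.mul_mem (L.pow_mem (F_le_L shift_memF) x.val) projInv_memL, ?_⟩
    rw [Equiv.Perm.mul_apply, show Cfsg.projInv none = some 0 from rfl, ht, ZMod.natCast_zmod_val]

theorem card_trans (M : Subgroup (Equiv.Perm GolayPt)) (hM : L ≤ M) :
    Nat.card M = 24 * Nat.card ↥(M ⊓ stabilizer (Equiv.Perm GolayPt) (none : GolayPt)) := by
  have h := PointSub.card_orbitF M none
  have e : (PointSub.orbitF M none).card = 24 := by
    rw [Finset.eq_univ_of_forall (fun q => PointSub.mem_orbitF.2 ?_), PointSub.card_univ_pts]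
    obtain ⟨g, hg, he⟩ := trans_L q
    exact ⟨g, hM hg, he⟩
  rw [e] at h
  exact h.symm

theorem max_M24 {M : Subgroup (Equiv.Perm GolayPt)} (h1 : L ≤ M) (h2 : M ≤ M24) :
    (Nat.card M = 6072 ∧ M = L) ∨ M = M24 := by
  have key : ∀ K : Subgroup (Equiv.Perm GolayPt), L ≤ K → K ≤ M24 → Nat.card K = 6072 ∨ K = M24 := by
    intro K k1 k2
    rcases max_T (N := K ⊓ stabilizer (Equiv.Perm GolayPt) (none : GolayPt))
      (le_inf (F_le_L.trans k1) fun g hg => (F_le hg).2) (inf_le_inf_right _ k2) with h | h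
    · left
      rw [card_trans K k1, h, card_F]
    · refine Or.inr (Subgroup.eq_of_le_of_card_ge k2 ?_)
      rw [card_trans K k1, h, card_T, card_M24]
  have hLc : Nat.card L = 6072 := (key L le_rfl L_le).resolve_right L_ne
  rcases key M h1 h2 with h | h
  · exact Or.inl ⟨h, (Subgroup.eq_of_le_of_card_ge h1 (by rw [h, hLc])).symm⟩
  · exact Or.inr h

theorem main :
    (L ≤ M24 ∧ Nat.card L = 6072 ∧ IsCoatom (L.subgroupOf M24)) ∧
      (F ≤ T ∧ Nat.card F = 253 ∧
        IsCoatom ((F.subgroupOf M24).subgroupOf (stabilizer M24 (none : GolayPt)))) := by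
  have hLc : Nat.card L = 6072 := by
    rcases max_M24 le_rfl L_le with h | h
    · exact h.1
    · exact absurd h L_ne
  refine ⟨⟨L_le, hLc, ?_, ?_⟩, F_le, card_F, ?_, ?_⟩
  · intro h
    exact L_ne (le_antisymm L_le (Subgroup.subgroupOf_eq_top.1 h))
  · intro b hb
    have h1 : L ≤ b.map M24.subtype := fun x hx => ⟨⟨x, L_le hx⟩, hb.le (Subgroup.mem_subgroupOf.2 hx), rfl⟩
    rcases max_M24 h1 (Subgroup.map_subtype_le _) with ⟨-, h⟩ | h
    · refine absurd (le_antisymm hb.le fun x hx => ?_) hb.ne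
      exact Subgroup.mem_subgroupOf.2 (h ▸ ⟨x, hx, rfl⟩)
    · exact Subgroup.map_injective M24.subtype_injective (h.trans (by rw [← MonoidHom.range_eq_map, Subgroup.range_subtype]))
  · intro h
    have h1 : T ≤ F := fun x hx => by
      have hm : (⟨⟨x, hx.1⟩, hx.2⟩ : stabilizer M24 (none : GolayPt)) ∈
          (F.subgroupOf M24).subgroupOf (stabilizer M24 (none : GolayPt)) := by rw [h]; exact Subgroup.mem_top _
      exact hm
    have := Subgroup.card_le_of_le h1
    rw [card_F, card_T] at this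
    norm_num at this
  · intro b hb
    set B : Subgroup (Equiv.Perm GolayPt) := (b.map (stabilizer M24 (none : GolayPt)).subtype).map M24.subtype
    have h1 : F ≤ B := fun x hx =>
      ⟨⟨x, (F_le hx).1⟩, ⟨⟨⟨x, (F_le hx).1⟩, (F_le hx).2⟩, hb.le hx, rfl⟩, rfl⟩
    have h2 : B ≤ T := by
      rintro _ ⟨_, ⟨⟨⟨x, hx⟩, hfix⟩, -, rfl⟩, rfl⟩
      exact ⟨hx, hfix⟩
    rcases max_T h1 h2 with h | h
    · refine absurd (le_antisymm hb.le fun x hx => ?_) hb.ne
      have : ((x : ↥M24) : Equiv.Perm GolayPt) ∈ B := ⟨_, ⟨x, hx, rfl⟩, rfl⟩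
      rw [h] at this
      exact this
    · refine eq_top_iff.2 fun x _ => ?_
      have : ((x : ↥M24) : Equiv.Perm GolayPt) ∈ B := h.symm ▸ ⟨x.1.2, x.2⟩
      obtain ⟨_, ⟨y, hy, rfl⟩, he⟩ := this
      exact (Subtype.ext (Subtype.ext he) : y = x) ▸ hy

end CfsgLib.Spor.LineTwentyThree
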