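import Cfsg.Agent.Lib.Spor.LineTwentyThree
import Cfsg.Agent.Lib.Perm.Dickson.Subfield
import Cfsg.Agent.Lib.Spor.OuterAut

/-!
# The projective general group on the line over 23 elements and the group of degree 24

The subgroups of `M24` containing the affine group, the embedding of `PGL(2, 23)` in the permutations of the
24 points, and the automorphisms of `L` keeping the translations.
-/

set_option autoImplicit false
set_option linter.style.haveILetI false

namespace CfsgLib.Spor.LineTwentyThree

open Cfsg MulAction Subgroup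
open CfsgLib.Perm.Dickson (G2 P2 ip fp tr di iv)

local instance : Fact (Nat.Prime 23) := ⟨by norm_num⟩

theorem t_apply (p : GolayPt) : t p = p.map (fun x : ZMod 23 => x + 1) := by
  rw [t, ← shift_eq]
  cases p <;> simp

theorem t_pow_apply (n : ℕ) (p : GolayPt) : (t ^ n) p = p.map (fun x : ZMod 23 => x + n) := by
  induction n generalizing p with
  | zero => cases p <;> simp
  | succ n ih =>
    rw [pow_succ', Equiv.Perm.mul_apply, ih, t_apply]
    cases p <;> simp [add_assoc]

/-- A permutation normalizing the translations fixes the extra point and is affine on the others. -/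
theorem affine_of_normal {g : Equiv.Perm GolayPt} (h : g * t * g⁻¹ ∈ zpowers t) :
    g none = none ∧ ∃ a b : ZMod 23, a ≠ 0 ∧ ∀ x : ZMod 23, g (some x) = some (a * x + b) := by
  obtain ⟨n, hn⟩ := (mem_powers_iff_mem_zpowers (x := t)).2 h
  have hn' : t ^ n = g * t * g⁻¹ := hn
  have hcomm : ∀ p, g (t p) = (t ^ n) (g p) := fun p =>
    congrFun (congrArg DFunLike.coe (mul_inv_eq_iff_eq_mul.1 hn'.symm)) p
  have hn0 : (n : ZMod 23) ≠ 0 := by
    intro h0
    have e : t ^ n = 1 := Equiv.ext fun p => by rw [t_pow_apply, h0]; cases p <;> simp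
    rw [hn', conj_eq_one_iff] at e
    have := t_order
    rw [e, orderOf_one] at this
    norm_num at this
  have hn' : g none = none := by
    have h1 := hcomm none
    rw [t_apply, Option.map_none, t_pow_apply] at h1
    cases hg : g none with
    | none => rfl
    | some y =>
      rw [hg, Option.map_some, Option.some_inj] at h1
      exact absurd (left_eq_add.1 h1) hn0
  obtain ⟨b, hb⟩ : ∃ b, g (some 0) = some b := Option.ne_none_iff_exists'.1 fun h' =>
    Option.some_ne_none _ (g.injective (h'.trans hn'.symm))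
  refine ⟨hn', (n : ZMod 23), b, hn0, fun x => ?_⟩
  have hk : ∀ k : ℕ, g (some (k : ZMod 23)) = some ((n : ZMod 23) * k + b) := by
    intro k
    induction k with
    | zero => simpa using hb
    | succ k ih =>
      have h1 := hcomm (some (k : ZMod 23))
      rw [t_apply, Option.map_some, ih, t_pow_apply, Option.map_some] at h1
      rw [Nat.cast_succ, h1]
      congr 1
      ring
  have := hk x.val
  rwa [ZMod.natCast_zmod_val] at this

/-- In `M24` the normalizer of the translations is the affine group. -/
theorem mem_F_of_normal {g : Equiv.Perm GolayPt} (hg : g ∈ M24) (h : g * t * g⁻¹ ∈ zpowers t) : g ∈ F :=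
  conj_t ⟨hg, (affine_of_normal h).1⟩ h

/-- A subgroup of `M24` with the affine group is one of four. -/
theorem four_groups {S : Subgroup (Equiv.Perm GolayPt)} (hF : F ≤ S) (hS : S ≤ M24) :
    S = F ∨ S = T ∨ S = L ∨ S = M24 := by
  by_cases hn : ∀ g ∈ S, g none = none
  · rcases max_T hF (fun g hg => ⟨hS hg, hn g hg⟩) with h | h
    · exact Or.inl h
    · exact Or.inr (Or.inl h)
  push Not at hn
  obtain ⟨g0, hg0, hg0n⟩ := hn
  obtain ⟨q0, hq0⟩ := Option.ne_none_iff_exists'.1 hg0n
  have ht : ∀ x : ZMod 23, ∃ g ∈ S, g none = some x := fun x => by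
    refine ⟨t ^ (x - q0).val * g0, mul_mem (pow_mem (hF t_memF) _) hg0, ?_⟩
    rw [Equiv.Perm.mul_apply, hq0, t_pow_apply, Option.map_some, ZMod.natCast_zmod_val, add_sub_cancel]
  have horb : (PointSub.orbitF S none).card = 24 := by
    rw [Finset.eq_univ_of_forall (fun q => PointSub.mem_orbitF.2 ?_), PointSub.card_univ_pts]
    cases q with
    | none => exact ⟨1, one_mem _, rfl⟩
    | some x => exact ht x
  have hcard := PointSub.card_orbitF S none
  rw [horb] at hcard
  rcases max_T (N := S ⊓ stabilizer (Equiv.Perm GolayPt) (none : GolayPt))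
    (le_inf hF fun g hg => (F_le hg).2) (inf_le_inf_right _ hS) with h | h
  swap
  · exact Or.inr (Or.inr (Or.inr (eq_of_le_of_card_ge hS (by rw [← hcard, h, card_T, card_M24]))))
  · refine Or.inr (Or.inr (Or.inl ?_))
    have hSc : Nat.card S = 6072 := by rw [← hcard, h, card_F]
    have hfix : ∀ g ∈ S, g none = none → g ∈ F := fun g hg hgn => h ▸ ⟨hg, hgn⟩
    obtain ⟨s, hs, hsn⟩ := ht 0
    obtain ⟨q, hq⟩ : ∃ q, s⁻¹ none = some q := Option.ne_none_iff_exists'.1 fun h' => by
      rw [Equiv.Perm.inv_eq_iff_eq, hsn] at h'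
      exact Option.some_ne_none _ h'.symm
    set u := s * t ^ q.val with hu
    have huS : u ∈ S := mul_mem hs (pow_mem (hF t_memF) _)
    have hu1 : u none = some 0 := by
      rw [hu, Equiv.Perm.mul_apply, t_pow_apply, Option.map_none, hsn]
    have hu2 : u (some 0) = none := by
      rw [hu, Equiv.Perm.mul_apply, t_pow_apply, Option.map_some, zero_add, ZMod.natCast_zmod_val, ← hq]
      simp
    have hw1 : ∀ p, w p = p.map (fun x : ZMod 23 => 2 * x) := fun p => by
      simpa only [pow_one] using pow_w 1 p
    have hwfix : ∀ g ∈ S, g none = none → g (some 0) = some 0 → g ∈ zpowers w := by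
      intro g hg hgn hg0
      have hgF := hfix g hg hgn
      have hgn' := F_norm hgF
      obtain ⟨-, a, b, -, hab⟩ := affine_of_normal
        ((mem_normalizer_iff.1 hgn' t).1 (mem_zpowers t))
      have hb : b = 0 := by
        have := hab 0
        rw [hg0, mul_zero, zero_add, Option.some_inj] at this
        exact this.symm
      refine (conj_w (F_le hgF) 1 ?_).2
      rw [if_pos rfl, mul_inv_eq_iff_eq_mul]
      refine Equiv.ext fun p => ?_
      rw [Equiv.Perm.mul_apply, Equiv.Perm.mul_apply, hw1]
      cases p with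
      | none => rw [hgn, hw1, Option.map_none]; exact hgn
      | some x =>
        rw [Option.map_some, hab, hab, hw1, Option.map_some, hb]
        congr 1
        ring
    have hwS : w ∈ S := hF w_memF
    have hwn : w none = none := by rw [hw1]; rfl
    have hw0 : w (some 0) = some 0 := by rw [hw1, Option.map_some, mul_zero]
    have hui1 : u⁻¹ none = some 0 := by rw [Equiv.Perm.inv_eq_iff_eq, hu2]
    have hui2 : u⁻¹ (some 0) = none := by rw [Equiv.Perm.inv_eq_iff_eq, hu1]
    obtain ⟨k, hk⟩ := mem_zpowers_iff.1 (hwfix (u * w * u⁻¹) (mul_mem (mul_mem huS hwS) (inv_mem huS))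
      (by rw [Equiv.Perm.mul_apply, Equiv.Perm.mul_apply, hui1, hw0, hu2])
      (by rw [Equiv.Perm.mul_apply, Equiv.Perm.mul_apply, hui2, hwn, hu1]))
    have hcomm : u * u * w * (u * u)⁻¹ = w := by
      obtain ⟨j, hj⟩ := mem_zpowers_iff.1 (hwfix (u * u) (mul_mem huS huS)
        (by rw [Equiv.Perm.mul_apply, hu1, hu2]) (by rw [Equiv.Perm.mul_apply, hu2, hu1]))
      rw [← hj, ((Commute.refl w).zpow_left j).eq, mul_inv_cancel_right]
    have hk2 : (11 : ℤ) ∣ k * k - 1 := by
      have h1 : w ^ (k * k) = w ^ (1 : ℤ) := by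
        rw [zpow_mul, hk, conj_zpow, hk, zpow_one]
        calc u * (u * w * u⁻¹) * u⁻¹ = u * u * w * (u * u)⁻¹ := by group
          _ = w := hcomm
      have h2 := orderOf_dvd_iff_zpow_eq_one.2 (by rw [zpow_sub, h1, mul_inv_cancel] : w ^ (k * k - 1) = 1)
      rwa [w_order] at h2
    have hpm : w ^ k = w ∨ w ^ k = w⁻¹ := by
      have hp : Prime (11 : ℤ) := Nat.prime_iff_prime_int.1 (by norm_num : Nat.Prime 11)
      rcases hp.dvd_or_dvd (show (11 : ℤ) ∣ (k - 1) * (k + 1) by rw [show (k - 1) * (k + 1) = k * k - 1 by ring]; exact hk2)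
        with h' | h'
      · left
        have := orderOf_dvd_iff_zpow_eq_one.1 (show (orderOf w : ℤ) ∣ k - 1 by rw [w_order]; exact h')
        rwa [zpow_sub, zpow_one, mul_inv_eq_one] at this
      · right
        have := orderOf_dvd_iff_zpow_eq_one.1 (show (orderOf w : ℤ) ∣ k + 1 by rw [w_order]; exact h')
        rw [zpow_add, zpow_one] at this
        exact eq_inv_of_mul_eq_one_left this
    rw [hk] at hpm
    have hpi : Cfsg.projInv * w * Cfsg.projInv⁻¹ = w⁻¹ := by
      rw [mul_inv_eq_iff_eq_mul, eq_inv_mul_iff_mul_eq]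
      refine Equiv.ext fun p => ?_
      rw [Equiv.Perm.mul_apply, Equiv.Perm.mul_apply, hw1, hw1]
      revert p
      decide +kernel
    have hh : Cfsg.projInv * u ∈ T := by
      refine ⟨mul_mem projInv_mem (hS huS), ?_⟩
      show Cfsg.projInv (u none) = none
      rw [hu1]
      rfl
    have hmem : Cfsg.projInv * u ∈ zpowers w := by
      have e : Cfsg.projInv * u * w * (Cfsg.projInv * u)⁻¹ = Cfsg.projInv * (u * w * u⁻¹) * Cfsg.projInv⁻¹ := by
        group
      rcases hpm with h' | h'
      · exact (conj_w hh 0 (by rw [if_neg (by decide), e, h', hpi])).2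
      · exact (conj_w hh 1 (by rw [if_pos rfl, e, h', ← conj_inv, hpi, inv_inv])).2
    have hLS : L ≤ S := by
      rw [L, closure_le]
      rintro g ((rfl | rfl) | hg)
      · exact hF shift_memF
      · have h2 := zpowers_le.2 hwS hmem
        simpa using mul_mem h2 (inv_mem huS)
      · exact hF (subset_closure (Or.inr hg))
    exact (eq_of_le_of_card_ge hLS (by rw [hSc, main.1.2.1])).symm

/-! ### The embedding of the projective group -/

/-- The points as the projective line. -/
noncomputable def toLine : GolayPt ≃ P2 (ZMod 23) :=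
  Equiv.ofBijective (fun p => p.elim (ip : P2 (ZMod 23)) fp) ⟨by
    rintro (_ | x) (_ | y) h
    · rfl
    · exact absurd h (CfsgLib.Perm.Dickson.ip_ne_fp y)
    · exact absurd h (CfsgLib.Perm.Dickson.fp_ne_ip x)
    · exact congrArg some (CfsgLib.Perm.Dickson.fp_inj h), fun q => by
    rcases CfsgLib.Perm.Dickson.point_cases q with rfl | ⟨x, rfl⟩
    exacts [⟨none, rfl⟩, ⟨some x, rfl⟩]⟩

/-- The action on the points. -/
noncomputable def lineRep : G2 (ZMod 23) →* Equiv.Perm GolayPt :=
  toLine.symm.permCongrHom.toMonoidHom.comp (MulAction.toPermHom (G2 (ZMod 23)) (P2 (ZMod 23)))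

theorem lineRep_apply (g : G2 (ZMod 23)) (p : GolayPt) : lineRep g p = toLine.symm (g • toLine p) := rfl

theorem lineRep_none {g : G2 (ZMod 23)} {q : GolayPt} (h : g • (ip : P2 (ZMod 23)) = toLine q) :
    lineRep g none = q := by
  rw [lineRep_apply, Equiv.symm_apply_eq]; exact h

theorem lineRep_some {g : G2 (ZMod 23)} {x : ZMod 23} {q : GolayPt} (h : g • fp x = toLine q) :
    lineRep g (some x) = q := by
  rw [lineRep_apply, Equiv.symm_apply_eq]; exact h

theorem lineRep_injective : Function.Injective lineRep := by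
  intro g k h
  have key : ∀ p, g • toLine p = k • toLine p := fun p => by
    have := congrArg (fun σ : Equiv.Perm GolayPt => σ p) h
    simpa only [lineRep_apply, EmbeddingLike.apply_eq_iff_eq] using this
  exact CfsgLib.Perm.Dickson.eq_of_std (key none) (key (some 0)) (key (some 1))

theorem affine_mem_range {g : Equiv.Perm GolayPt} (hn : g none = none) {a b : ZMod 23} (ha : a ≠ 0)
    (h : ∀ x, g (some x) = some (a * x + b)) : g ∈ lineRep.range := by
  refine ⟨tr b * di (Units.mk0 a ha), Equiv.ext fun p => ?_⟩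
  cases p with
  | none => rw [hn]; exact lineRep_none (CfsgLib.Perm.Dickson.trdi_ip _ _)
  | some x => rw [h]; exact lineRep_some (CfsgLib.Perm.Dickson.trdi_fp _ _ _)

theorem L_le_range : L ≤ lineRep.range := by
  rw [L, closure_le]
  rintro g ((rfl | rfl) | ⟨v, -, rfl⟩)
  · exact affine_mem_range (a := 1) (b := 1) rfl one_ne_zero fun x => by simp
  · refine ⟨iv (-1), Equiv.ext fun p => ?_⟩
    cases p with
    | none => exact lineRep_none (CfsgLib.Perm.Dickson.iv_ip _)
    | some x =>
      by_cases hx : x = 0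
      · subst hx
        exact lineRep_some (CfsgLib.Perm.Dickson.iv_fp_zero _)
      · refine lineRep_some ((CfsgLib.Perm.Dickson.iv_fp _ hx).trans ?_)
        have e : Cfsg.projInv (some x) = some (-(x ^ 21)) := if_neg hx
        rw [e]
        show fp _ = fp _
        congr 1
        have h22 : x ^ 22 = 1 := ZMod.pow_card_sub_one_eq_one hx
        rw [Units.val_neg, Units.val_one, neg_div, one_div, eq_inv_of_mul_eq_one_left (show x ^ 21 * x = 1 by
          rw [← pow_succ]; exact h22)]
  · exact affine_mem_range (a := (v : ZMod 23)) (b := 0) rfl v.ne_zero fun x => by simp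

theorem card_range : Nat.card lineRep.range = 12144 := by
  rw [← Nat.card_congr (MonoidHom.ofInjective lineRep_injective).toEquiv, CfsgLib.Perm.Dickson.card_G2, Nat.card_zmod]

/-- Only the identity commutes with `L`. -/
theorem centralizer_L {g : Equiv.Perm GolayPt} (h : ∀ l ∈ L, l * g = g * l) : g = 1 := by
  have hn : g none = none := by
    have h1 := congrFun (congrArg DFunLike.coe (h t (F_le_L t_memF))) none
    rw [Equiv.Perm.mul_apply, Equiv.Perm.mul_apply, t_apply none, Option.map_none, t_apply] at h1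
    cases hg : g none with
    | none => rfl
    | some y =>
      rw [hg, Option.map_some, Option.some_inj] at h1
      exact absurd (add_eq_left.1 h1) one_ne_zero
  refine Equiv.ext fun q => ?_
  obtain ⟨l, hl, rfl⟩ := trans_L q
  have h1 := congrFun (congrArg DFunLike.coe (h l hl)) none
  rw [Equiv.Perm.mul_apply, Equiv.Perm.mul_apply, hn] at h1
  exact h1.symm

/-- An automorphism of `L` keeping the translations comes from the projective group. -/
theorem exists_perm_aut (α : MulAut L)
    (hα : ((α ⟨t, F_le_L t_memF⟩ : L) : Equiv.Perm GolayPt) ∈ zpowers t) :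
    ∃ π ∈ lineRep.range, ∀ l : L, (α l : Equiv.Perm GolayPt) * π = π * l := by
  have hkey : ∀ l : L, (l : Equiv.Perm GolayPt) none = none → (α l : Equiv.Perm GolayPt) none = none := by
    intro l hl
    set T0 : L := ⟨t, F_le_L t_memF⟩ with hT0
    have hlF : (l : Equiv.Perm GolayPt) ∈ F := by
      rcases max_T (N := L ⊓ stabilizer (Equiv.Perm GolayPt) (none : GolayPt))
        (le_inf F_le_L fun g hg => (F_le hg).2) (inf_le_inf_right _ L_le) with h | h
      · exact h ▸ ⟨l.2, hl⟩
      · exfalso
        have hc := card_trans L le_rfl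
        rw [h, card_T, main.1.2.1] at hc
        norm_num at hc
    obtain ⟨i, hi⟩ := mem_zpowers_iff.1 ((mem_normalizer_iff.1 (F_norm hlF) t).1 (mem_zpowers t))
    obtain ⟨j, hj⟩ := mem_zpowers_iff.1 hα
    -- the image of `t` generates the translations
    have hne : ¬ (23 : ℤ) ∣ j := by
      intro hd
      have h1 : ((α T0 : L) : Equiv.Perm GolayPt) = 1 := by
        rw [← hj]
        exact orderOf_dvd_iff_zpow_eq_one.1 (by rw [t_order]; exact_mod_cast hd)
      have h2 : T0 = 1 := α.injective ((Subtype.ext h1).trans (map_one α).symm)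
      have h3 := t_order
      rw [show t = 1 from congrArg Subtype.val h2, orderOf_one] at h3
      norm_num at h3
    have hconj : (α l : Equiv.Perm GolayPt) * t ^ j * (α l : Equiv.Perm GolayPt)⁻¹ = t ^ (j * i) := by
      have e : l * T0 * l⁻¹ = T0 ^ i := Subtype.ext (by
        rw [Subgroup.coe_mul, Subgroup.coe_mul, Subgroup.coe_inv, SubgroupClass.coe_zpow]; exact hi.symm)
      have e2 := congrArg (fun y : L => ((α y : L) : Equiv.Perm GolayPt)) e
      simp only [map_mul, map_inv, map_zpow, Subgroup.coe_mul, Subgroup.coe_inv, SubgroupClass.coe_zpow] at e2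
      rwa [← hj, ← zpow_mul] at e2
    have hz : (α l : Equiv.Perm GolayPt) * t * (α l : Equiv.Perm GolayPt)⁻¹ ∈ zpowers t := by
      obtain ⟨d, e, hde⟩ : ∃ d e : ℤ, j * d + 23 * e = 1 := by
        have hco : IsCoprime j (23 : ℤ) :=
          (((Nat.prime_iff_prime_int.1 (by norm_num : Nat.Prime 23)).coprime_iff_not_dvd).2 hne).symm
        obtain ⟨d, e, h⟩ := hco
        exact ⟨d, e, by linarith⟩
      have h23 : t ^ (23 * e) = 1 := orderOf_dvd_iff_zpow_eq_one.1 ⟨e, by rw [t_order]; rfl⟩
      have e1 : t = (t ^ j) ^ d := by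
        calc t = t ^ (j * d + 23 * e) := by rw [hde, zpow_one]
          _ = (t ^ j) ^ d := by rw [zpow_add, h23, mul_one, zpow_mul]
      nth_rw 2 [e1]
      rw [← conj_zpow, hconj]
      exact zpow_mem (zpow_mem (mem_zpowers t) _) _
    exact (affine_of_normal hz).1
  obtain ⟨π, -, -, hπ⟩ := OuterAut.exists_perm (G := L) Finset.univ (fun g _ q _ => Finset.mem_univ _) α
    (Finset.mem_univ none) (Finset.mem_univ none)
    (fun q _ => ⟨⟨_, (trans_L q).choose_spec.1⟩, (trans_L q).choose_spec.2⟩)
    (fun q _ => ⟨⟨_, (trans_L q).choose_spec.1⟩, (trans_L q).choose_spec.2⟩) hkey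
  have hcomm : ∀ l : L, (α l : Equiv.Perm GolayPt) * π = π * l :=
    fun l => Equiv.ext fun q => hπ l q (Finset.mem_univ q)
  have hz : π * t * π⁻¹ ∈ zpowers t := by
    rw [← hcomm ⟨t, F_le_L t_memF⟩, mul_inv_cancel_right]
    exact hα
  obtain ⟨hn, a, b, ha, hab⟩ := affine_of_normal hz
  exact ⟨π, affine_mem_range hn ha hab, hcomm⟩

end CfsgLib.Spor.LineTwentyThree
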