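/-
If the conjugate of the centre of a self-centralising extraspecial subgroup lies in that subgroup,
then the centre lies in the conjugate subgroup.
-/
import Cfsg.Agent.Lib.Spor.LargeExtraInvolution
import Cfsg.Agent.Lib.PGroup.ExtraspecialIndexP

set_option autoImplicit false

namespace CfsgLib.Spor.LargeQ

open Subgroup
open scoped commutatorElement

/-- The fixed points of an involutory automorphism of a group with small centre, fixing the centre, such that
no element is moved by a central element, contain their centralizer. -/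
theorem centralizer_fixed_le {P : Type*} [Group P] [Finite P] (hP : CfsgLib.PGroup.SmallCenter 2 P)
    (σ : P ≃* P) (hσ : ∀ y, σ (σ y) = y) (hz : ∀ y ∈ center P, σ y = y)
    (h : ∀ y, y * (σ y)⁻¹ ∈ center P → σ y = y) (c : P)
    (hc : ∀ b, σ b = b → b * c = c * b) : σ c = c := by
  haveI : Fact (Nat.Prime 2) := ⟨Nat.prime_two⟩
  set m : P →* P ⧸ center P := QuotientGroup.mk' (center P) with hm
  have hcomm : ∀ a b : P ⧸ center P, a * b = b * a := by
    intro a b
    obtain ⟨a, rfl⟩ := QuotientGroup.mk'_surjective _ a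
    obtain ⟨b, rfl⟩ := QuotientGroup.mk'_surjective _ b
    refine commutatorElement_eq_one_iff_mul_comm.1 ?_
    rw [← map_commutatorElement]
    exact (QuotientGroup.eq_one_iff _).2 (hP.comm_mem a b)
  let φ : P →* P ⧸ center P := MonoidHom.mk' (fun y => m (y * (σ y)⁻¹)) fun a b => by
    simp only [map_mul, map_inv, mul_inv_rev]
    rw [mul_assoc (m a), hcomm (m b) _, mul_assoc, hcomm ((m (σ b))⁻¹) _, mul_assoc,
      mul_assoc, hcomm (m b)]
  have hker : ∀ y, y ∈ φ.ker ↔ σ y = y := by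
    intro y
    constructor
    · exact fun hy => h y ((QuotientGroup.eq_one_iff _).1 hy)
    · intro hy
      show m (y * (σ y)⁻¹) = 1
      rw [hy, mul_inv_cancel, map_one]
  set C : Subgroup P := centralizer (φ.ker : Set P) with hC
  have hfix : ∀ b y, σ b = b → b * (y * (σ y)⁻¹) = y * (σ y)⁻¹ * b := by
    intro b y hb
    have hk : ⁅b, y⁆ = ⁅b, σ y⁆ := by
      have h2 := hz _ (hP.comm_mem b y)
      rw [map_commutatorElement, hb] at h2
      exact h2.symm
    rw [commutatorElement_def, commutatorElement_def] at hk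
    have h3 : b * y * b⁻¹ * y⁻¹ = b * σ y * b⁻¹ * (σ y)⁻¹ := hk
    calc b * (y * (σ y)⁻¹) = b * y * b⁻¹ * y⁻¹ * (y * b * (σ y)⁻¹) := by group
      _ = b * σ y * b⁻¹ * (σ y)⁻¹ * (y * b * (σ y)⁻¹) := by rw [h3]
      _ = y * (σ y)⁻¹ * b := by
        have hc2 : b * σ y * b⁻¹ * (σ y)⁻¹ ∈ center P := hP.comm_mem b (σ y)
        rw [← mem_center_iff.1 hc2 (y * b * (σ y)⁻¹)]
        have h4 := mem_center_iff.1 hc2 b
        calc y * b * (σ y)⁻¹ * (b * σ y * b⁻¹ * (σ y)⁻¹)
            = y * b * ((σ y)⁻¹ * (b * σ y * b⁻¹ * (σ y)⁻¹)) := by group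
          _ = y * b * ((b * σ y * b⁻¹ * (σ y)⁻¹) * (σ y)⁻¹) := by rw [mem_center_iff.1 hc2]
          _ = y * (b * (b * σ y * b⁻¹ * (σ y)⁻¹)) * (σ y)⁻¹ := by group
          _ = y * ((b * σ y * b⁻¹ * (σ y)⁻¹) * b) * (σ y)⁻¹ := by rw [h4]
          _ = y * (b * σ y * b⁻¹ * (σ y)⁻¹) * b * (σ y)⁻¹ := by group
          _ = y * ((σ y)⁻¹ * (σ y) * (b * σ y * b⁻¹ * (σ y)⁻¹)) * b * (σ y)⁻¹ := by group
          _ = _ := by
            have h5 := mem_center_iff.1 hc2 (σ y)
            rw [mul_assoc ((σ y)⁻¹), h5]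
            group
  have hrange : φ.range ≤ C.map m := by
    rintro _ ⟨y, rfl⟩
    exact ⟨y * (σ y)⁻¹, mem_centralizer_iff.2 fun b hb => hfix b y ((hker b).1 hb), rfl⟩
  have hzC : center P ≤ C := center_le_centralizer _
  have hzK : center P ≤ φ.ker := fun y hy => (hker y).2 (hz y hy)
  have hcard : Nat.card ↥(C.map m) * 2 = Nat.card C := by
    have h1 := (m.comp C.subtype).ker.card_mul_index
    rw [index_ker, MonoidHom.range_comp, Subgroup.range_subtype, ← MonoidHom.comap_ker, hm, QuotientGroup.ker_mk',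
      show (center P).comap C.subtype = (center P).subgroupOf C from rfl,
      Nat.card_congr (subgroupOfEquivOfLe hzC).toEquiv, hP.card_center, mul_comm] at h1
    exact h1
  have hr : Nat.card φ.range * Nat.card φ.ker = Nat.card P := by
    rw [← index_ker, mul_comm, φ.ker.card_mul_index]
  have hle := hP.card_centralizer_mul_le φ.ker hzK
  rw [← hC, ← hcard] at hle
  have heq : φ.range = C.map m := by
    refine eq_of_le_of_card_ge hrange ?_
    have hpos : 0 < Nat.card φ.ker := Nat.card_pos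
    refine Nat.le_of_mul_le_mul_right (?_ : _ * (2 * Nat.card φ.ker) ≤ _ * (2 * Nat.card φ.ker)) (by positivity)
    calc Nat.card ↥(C.map m) * (2 * Nat.card φ.ker) = Nat.card ↥(C.map m) * 2 * Nat.card φ.ker := by ring
      _ ≤ 2 * Nat.card P := hle
      _ = _ := by rw [← hr]; ring
  have hcC : c ∈ C := mem_centralizer_iff.2 fun b hb => hc b ((hker b).1 hb)
  obtain ⟨y, hy⟩ : m c ∈ φ.range := heq ▸ mem_map_of_mem m hcC
  refine h c ?_
  have hy' : m (y * (σ y)⁻¹) = m c := hy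
  obtain ⟨w, hw, hcw⟩ : ∃ w ∈ center P, c = y * (σ y)⁻¹ * w :=
    ⟨(y * (σ y)⁻¹)⁻¹ * c, (QuotientGroup.eq).1 hy', by group⟩
  have e : c * (σ c)⁻¹ = (y * (σ y)⁻¹) ^ 2 := by
    rw [hcw, map_mul, map_mul, map_inv, hσ, hz w hw, pow_two]
    group
  rw [e]
  exact hP.pow_mem _

variable {G : Type*} [Group G] [Finite G]

/-- `z ∈ Q'` when `Z(Q') ≤ Q` and some element of `Q'` moves `z` to `z z'`. -/
theorem mem_of_shift {Q Q' : Subgroup G} {z z' g x : G} (hg : g * z * g⁻¹ = z')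
    (hQ' : Q' = Q.map (MulAut.conj g).toMonoidHom) (hN : ∀ c, c * z = z * c → ∀ q ∈ Q, c * q * c⁻¹ ∈ Q)
    (hz2 : z * z = 1) (hz'2 : z' * z' = 1) (hzQ : z ∈ Q) (hz'Q : z' ∈ Q)
    (hx1 : x * z * x⁻¹ = z * z') (hx2 : x * z' = z' * x) {y : G} (hy1 : y * z = z * y)
    (hy2 : y * z' * y⁻¹ = z * z') : z ∈ Q' := by
  have hcz : z * z' = z' * z := by
    calc z * z' = y * z' * y⁻¹ := hy2.symm
      _ = y * z' * (y⁻¹ * z) * z⁻¹ := by group
      _ = y * z' * (z * y⁻¹) * z⁻¹ := by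
        rw [show y⁻¹ * z = z * y⁻¹ by
          calc y⁻¹ * z = y⁻¹ * (z * y) * y⁻¹ := by group
            _ = y⁻¹ * (y * z) * y⁻¹ := by rw [hy1]
            _ = z * y⁻¹ := by group]
      _ = _ := by
        have : y * (z' * z) * y⁻¹ = z' := by
          calc y * (z' * z) * y⁻¹ = (y * z' * y⁻¹) * (y * z * y⁻¹) := by group
            _ = z * z' * z := by rw [hy2, hy1, mul_inv_cancel_right]
            _ = z * z' * z := rfl
            _ = _ := by
              have h1 : z * z' * (z * z') = 1 := by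
                rw [← hy2, show y * z' * y⁻¹ * (y * z' * y⁻¹) = y * (z' * z') * y⁻¹ by group, hz'2]; group
              calc z * z' * z = z * z' * (z * z') * z'⁻¹ := by group
                _ = z'⁻¹ := by rw [h1, one_mul]
                _ = z' := inv_eq_of_mul_eq_one_right hz'2
        rw [show y * z' * (z * y⁻¹) = y * (z' * z) * y⁻¹ by group, this]
        rw [inv_eq_of_mul_eq_one_right hz2]
  -- `n` moves `z` to `z'` and `z'` to `z z'`
  set n := y⁻¹ * x with hn
  have hn1 : n * z * n⁻¹ = z' := by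
    calc n * z * n⁻¹ = y⁻¹ * (x * z * x⁻¹) * y := by rw [hn]; group
      _ = y⁻¹ * (y * z' * y⁻¹) * y := by rw [hx1, hy2]
      _ = z' := by group
  have hn2 : n * z' * n⁻¹ = z * z' := by
    calc n * z' * n⁻¹ = y⁻¹ * (x * z' * x⁻¹) * y := by rw [hn]; group
      _ = y⁻¹ * z' * y := by rw [hx2, mul_inv_cancel_right]
      _ = z * (y⁻¹ * (y * z' * y⁻¹) * y) := by
        calc y⁻¹ * z' * y = y⁻¹ * (z * (z * z')) * y := by rw [← mul_assoc z, hz2, one_mul]
          _ = (y⁻¹ * z) * (y * z' * y⁻¹) * y := by rw [hy2]; group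
          _ = y⁻¹ * z * y * (y⁻¹ * (y * z' * y⁻¹) * y) := by group
          _ = _ := by
            congr 1
            rw [mul_assoc, ← hy1, inv_mul_cancel_left]
      _ = _ := by group
  have hc : (g⁻¹ * n) * z = z * (g⁻¹ * n) := by
    calc g⁻¹ * n * z = g⁻¹ * (n * z * n⁻¹) * n := by group
      _ = g⁻¹ * (g * z * g⁻¹) * n := by rw [hn1, hg]
      _ = _ := by group
  have hzz' : z * z' ∈ Q' := by
    rw [hQ', ← hn2]
    exact ⟨g⁻¹ * n * z' * (g⁻¹ * n)⁻¹, hN _ hc _ hz'Q, by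
      show g * (g⁻¹ * n * z' * (g⁻¹ * n)⁻¹) * g⁻¹ = _; group⟩
  have hz'Q' : z' ∈ Q' := by rw [hQ', ← hg]; exact ⟨z, hzQ, rfl⟩
  have := mul_mem hzz' (inv_mem hz'Q')
  rwa [mul_inv_cancel_right] at this

/-- The conjugate subgroup contains the centre. -/
theorem centre_mem_conj (Q : Subgroup G) (z : G) (hE : Cfsg.IsExtraspecial 2 Q)
    (hz : ∀ x, x ∈ (center Q).map Q.subtype ↔ x = 1 ∨ x = z) (hz2 : orderOf z = 2)
    (hL2 : centralizer (Q : Set G) = (center Q).map Q.subtype)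
    (hN : ∀ c, c * z = z * c → ∀ q ∈ Q, c * q * c⁻¹ ∈ Q) (hbig : 32 ≤ Nat.card Q)
    (g : G) (hne : g * z * g⁻¹ ≠ z) (hgQ : g * z * g⁻¹ ∈ Q) :
    z ∈ Q.map (MulAut.conj g).toMonoidHom := by
  haveI : Fact (Nat.Prime 2) := ⟨Nat.prime_two⟩
  have hS := (CfsgLib.PGroup.smallCenter_of_extraspecial hE).1
  have hzQ : z ∈ Q := map_subtype_le _ ((hz z).2 (Or.inr rfl))
  have hzz : z * z = 1 := by rw [← pow_two, ← hz2, pow_orderOf_eq_one]
  have hzne : z ≠ 1 := fun e => by rw [e, orderOf_one] at hz2; omega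
  obtain ⟨z', hz'⟩ : ∃ z', g * z * g⁻¹ = z' := ⟨_, rfl⟩
  rw [hz'] at hne hgQ
  obtain ⟨Q', hQ'⟩ : ∃ Q', Q.map (MulAut.conj g).toMonoidHom = Q' := ⟨_, rfl⟩
  rw [hQ']
  have hz'z' : z' * z' = 1 := by
    rw [← hz', show g * z * g⁻¹ * (g * z * g⁻¹) = g * (z * z) * g⁻¹ by group, hzz]; group
  have hz'ne : z' ≠ 1 := fun e => hzne (by
    calc z = g⁻¹ * (g * z * g⁻¹) * g := by group
      _ = 1 := by rw [hz', e]; group)
  have hcent : ∀ q ∈ Q, q * z = z * q := fun q hq => by
    obtain ⟨w, hw, e⟩ := (hz z).2 (Or.inr rfl)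
    rw [← e]; exact congrArg Subtype.val (mem_center_iff.1 hw ⟨q, hq⟩)
  have hcomm : ∀ a ∈ Q, ∀ b ∈ Q, a * b * a⁻¹ * b⁻¹ = 1 ∨ a * b * a⁻¹ * b⁻¹ = z := fun a ha b hb =>
    (hz _).1 ⟨⁅(⟨a, ha⟩ : Q), ⟨b, hb⟩⁆, hS.comm_mem _ _, rfl⟩
  have conjQ' : ∀ {x}, x ∈ Q' ↔ g⁻¹ * x * g ∈ Q := by
    intro x
    rw [← hQ']
    constructor
    · rintro ⟨q, hq, rfl⟩
      show g⁻¹ * (g * q * g⁻¹) * g ∈ Q
      rwa [show g⁻¹ * (g * q * g⁻¹) * g = q by group]
    · exact fun h => ⟨_, h, show g * (g⁻¹ * x * g) * g⁻¹ = x by group⟩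
  have hz'Q' : z' ∈ Q' := conjQ'.2 (by rw [← hz', show g⁻¹ * (g * z * g⁻¹) * g = z by group]; exact hzQ)
  have hcent' : ∀ q ∈ Q', q * z' = z' * q := fun q hq => by
    have h := hcent _ (conjQ'.1 hq)
    calc q * z' = g * ((g⁻¹ * q * g) * z) * g⁻¹ := by rw [← hz']; group
      _ = g * (z * (g⁻¹ * q * g)) * g⁻¹ := by rw [h]
      _ = _ := by rw [← hz']; group
  have hcomm' : ∀ a ∈ Q', ∀ b ∈ Q', a * b * a⁻¹ * b⁻¹ = 1 ∨ a * b * a⁻¹ * b⁻¹ = z' := by
    intro a ha b hb
    have e : a * b * a⁻¹ * b⁻¹ = g * ((g⁻¹ * a * g) * (g⁻¹ * b * g) * (g⁻¹ * a * g)⁻¹ * (g⁻¹ * b * g)⁻¹) * g⁻¹ := by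
      group
    rcases hcomm _ (conjQ'.1 ha) _ (conjQ'.1 hb) with h | h
    · left; rw [e, h]; group
    · right; rw [e, h, hz']
  have hN' : ∀ c, c * z' = z' * c → ∀ q ∈ Q', c * q * c⁻¹ ∈ Q' := by
    intro c hc q hq
    refine conjQ'.2 ?_
    have h : (g⁻¹ * c * g) * z = z * (g⁻¹ * c * g) := by
      calc g⁻¹ * c * g * z = g⁻¹ * (c * z') * g := by rw [← hz']; group
        _ = g⁻¹ * (z' * c) * g := by rw [hc]
        _ = _ := by rw [← hz']; group
    rw [show g⁻¹ * (c * q * c⁻¹) * g = (g⁻¹ * c * g) * (g⁻¹ * q * g) * (g⁻¹ * c * g)⁻¹ by group]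
    exact hN _ h _ (conjQ'.1 hq)
  have hC' : ∀ c, (∀ q ∈ Q', q * c = c * q) → c = 1 ∨ c = z' := by
    intro c hc
    have hm : g⁻¹ * c * g ∈ centralizer (Q : Set G) := mem_centralizer_iff.2 fun q hq => by
      have h := hc (g * q * g⁻¹) (hQ' ▸ mem_map_of_mem _ hq)
      calc q * (g⁻¹ * c * g) = g⁻¹ * ((g * q * g⁻¹) * c) * g := by group
        _ = g⁻¹ * (c * (g * q * g⁻¹)) * g := by rw [h]
        _ = _ := by group
    rw [hL2, hz] at hm
    rcases hm with h | h
    · exact Or.inl (by calc c = g * (g⁻¹ * c * g) * g⁻¹ := by group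
                        _ = 1 := by rw [h]; group)
    · exact Or.inr (by calc c = g * (g⁻¹ * c * g) * g⁻¹ := by group
                        _ = z' := by rw [h, hz'])
  have hzc : z * z' = z' * z := (hcent z' hgQ).symm
  -- an element of `Q` moving `z'`
  obtain ⟨t, htQ, ht⟩ : ∃ t ∈ Q, t * z' * t⁻¹ = z * z' := by
    by_contra hcon
    push Not at hcon
    have : z' ∈ centralizer (Q : Set G) := mem_centralizer_iff.2 fun q hq => by
      rcases hcomm q hq z' hgQ with h | h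
      · exact mul_inv_eq_iff_eq_mul.1 (mul_inv_eq_one.1 h)
      · exact absurd (mul_inv_eq_iff_eq_mul.1 h) (hcon q hq)
    rw [hL2, hz] at this
    rcases this with h | h
    exacts [hz'ne h, hne h]
  by_contra hzQ'
  have hshift : ∀ x ∈ Q', x * z * x⁻¹ ≠ z * z' := fun x hx h =>
    hzQ' (mem_of_shift hz' hQ'.symm hN hzz hz'z' hzQ hgQ h (hcent' x hx) (hcent t htQ) ht)
  -- the automorphism induced by `z`
  have hzn : ∀ q ∈ Q', z * q * z⁻¹ ∈ Q' := hN' z hzc
  have hzi : z⁻¹ = z := inv_eq_of_mul_eq_one_right hzz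
  let σ : Q' ≃* Q' :=
    { toFun := fun q => ⟨z * q * z⁻¹, hzn q q.2⟩
      invFun := fun q => ⟨z * q * z⁻¹, hzn q q.2⟩
      left_inv := fun q => Subtype.ext (show z * (z * (q : G) * z⁻¹) * z⁻¹ = q by
        rw [hzi, show z * (z * (q : G) * z) * z = z * z * q * (z * z) by group, hzz, one_mul, mul_one])
      right_inv := fun q => Subtype.ext (show z * (z * (q : G) * z⁻¹) * z⁻¹ = q by
        rw [hzi, show z * (z * (q : G) * z) * z = z * z * q * (z * z) by group, hzz, one_mul, mul_one])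
      map_mul' := fun a b => Subtype.ext (show z * ((a : G) * b) * z⁻¹ = z * a * z⁻¹ * (z * b * z⁻¹) by group) }
  let e' : Q ≃* Q' := (Q.equivMapOfInjective _ (MulAut.conj g).injective).trans (MulEquiv.subgroupCongr hQ')
  have hcenQ' : ∀ w : Q', w ∈ center Q' ↔ (w : G) = 1 ∨ (w : G) = z' := by
    intro w
    constructor
    · exact fun hw => hC' _ fun q hq => congrArg Subtype.val (mem_center_iff.1 hw ⟨q, hq⟩)
    · rintro (h | h) <;> refine mem_center_iff.2 fun q => Subtype.ext ?_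
      · show (q : G) * w = w * q
        rw [h, one_mul, mul_one]
      · show (q : G) * w = w * q
        rw [h]; exact hcent' q q.2
  have hS' : CfsgLib.PGroup.SmallCenter 2 Q' := by
    refine ⟨(Nat.card_congr (Subgroup.centerCongr e').toEquiv).symm.trans hS.card_center, fun a b => ?_,
      fun a => ?_⟩
    · exact (hcenQ' _).2 (hcomm' a a.2 b b.2)
    · have h := hS.pow_mem (e'.symm a)
      refine mem_center_iff.2 fun b => ?_
      have h2 := congrArg e' (mem_center_iff.1 h (e'.symm b))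
      simpa [map_mul, map_pow] using h2
  have hzfix : ∀ y ∈ center Q', σ y = y := fun y hy => Subtype.ext (by
    show z * (y : G) * z⁻¹ = y
    rcases (hcenQ' y).1 hy with h | h
    · rw [h]; group
    · rw [h, hzc, mul_inv_cancel_right])
  have hB : ∀ y, y * (σ y)⁻¹ ∈ center Q' → σ y = y := by
    intro y hy
    refine Subtype.ext ?_
    show z * (y : G) * z⁻¹ = y
    rcases (hcenQ' _).1 hy with h | h
    · have h' : (y : G) * (z * y * z⁻¹)⁻¹ = 1 := h
      exact (mul_inv_eq_one.1 h').symm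
    · exfalso
      have h' : (y : G) * (z * y * z⁻¹)⁻¹ = z' := h
      refine hshift y y.2 ?_
      calc (y : G) * z * (y : G)⁻¹ = (y : G) * (z * y * z⁻¹)⁻¹ * z := by group
        _ = z' * z := by rw [h']
        _ = _ := hzc.symm
  -- the intersection of the two subgroups
  have hzA : ∀ e ∈ Q, e ∈ Q' → ∀ a ∈ Q, a * z' = z' * a → a * e = e * a := by
    intro e he he' a ha haz
    rcases hcomm a ha e he with h | h
    · exact mul_inv_eq_iff_eq_mul.1 (mul_inv_eq_one.1 h)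
    · exact absurd (h ▸ mul_mem (hN' a haz e he') (inv_mem he')) hzQ'
  have hE' : ∀ e ∈ Q, e ∈ Q' → e = 1 ∨ e = z' := by
    intro e he he'
    have hA := hzA e he he'
    -- the commutator with `t` decides
    have key : ∀ u ∈ Q, (∀ a ∈ Q, a * z' = z' * a → a * u = u * a) → t * u = u * t → u = 1 ∨ u = z := by
      intro u hu hua hut
      have : u ∈ centralizer (Q : Set G) := mem_centralizer_iff.2 fun q hq => by
        rcases hcomm q hq z' hgQ with h | h
        · exact hua q hq (mul_inv_eq_iff_eq_mul.1 (mul_inv_eq_one.1 h))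
        · have hq' : (t⁻¹ * q) * z' = z' * (t⁻¹ * q) := by
            have h1 : q * z' * q⁻¹ = z * z' := mul_inv_eq_iff_eq_mul.1 h
            calc t⁻¹ * q * z' = t⁻¹ * (q * z' * q⁻¹) * q := by group
              _ = t⁻¹ * (t * z' * t⁻¹) * q := by rw [h1, ht]
              _ = _ := by group
          have h2 := hua _ (mul_mem (inv_mem htQ) hq) hq'
          calc q * u = t * ((t⁻¹ * q) * u) := by group
            _ = (t * u) * (t⁻¹ * q) := by rw [h2]; group
            _ = (u * t) * (t⁻¹ * q) := by rw [hut]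
            _ = _ := by group
      rw [hL2, hz] at this
      exact this
    rcases hcomm t htQ e he with h | h
    · rcases key e he hA (mul_inv_eq_iff_eq_mul.1 (mul_inv_eq_one.1 h)) with h2 | h2
      · exact Or.inl h2
      · exact absurd (h2 ▸ he') hzQ'
    · have h1 : t * e * t⁻¹ = z * e := mul_inv_eq_iff_eq_mul.1 h
      have hz't : t * (e * z') = e * z' * t := by
        calc t * (e * z') = (t * e * t⁻¹) * (t * z' * t⁻¹) * t := by group
          _ = z * (e * z) * z' * t := by rw [h1, ht]; group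
          _ = z * (z * e) * z' * t := by rw [hcent e he]
          _ = _ := by rw [← mul_assoc z, hzz, one_mul]
      rcases key (e * z') (mul_mem he hgQ) (fun a ha haz => by
          rw [← mul_assoc, hA a ha haz, mul_assoc, haz, ← mul_assoc]) hz't with h2 | h2
      · exact Or.inr (by rw [eq_inv_of_mul_eq_one_left h2, inv_eq_of_mul_eq_one_right hz'z'])
      · exfalso
        exact hzQ' (h2 ▸ mul_mem he' hz'Q')
  -- the centralizer of `z'` in `Q` acts on `Q'` through commuting maps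
  have hact : ∀ a ∈ Q, a * z' = z' * a → ∀ y ∈ Q', ∃ c ∈ Q', c * z = z * c ∧
      (∀ b ∈ Q', b * z = z * b → b * c = c * b) ∧ a * y * a⁻¹ = c * y := by
    intro a ha haz y hy
    have hay := hN' a haz y hy
    have hcQ : a * y * a⁻¹ * y⁻¹ ∈ Q' := mul_mem hay (inv_mem hy)
    have hb : ∀ b ∈ Q', b * z = z * b → b * (a * y * a⁻¹ * y⁻¹) = a * y * a⁻¹ * y⁻¹ * b := by
      intro b hb hbz
      have hab : a * b * a⁻¹ * b⁻¹ = 1 ∨ a * b * a⁻¹ * b⁻¹ = z' :=
        hE' _ (by rw [mul_assoc a, mul_assoc a]; exact mul_mem ha (hN b hbz _ (inv_mem ha)))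
          (mul_mem (hN' a haz b hb) (inv_mem hb))
      -- conjugation by `a` preserves the commutator of `b` and `y`
      have hk : a * (b * y * b⁻¹ * y⁻¹) * a⁻¹ = b * y * b⁻¹ * y⁻¹ := by
        rcases hcomm' b hb y hy with h | h <;> rw [h]
        · group
        · rw [haz]; group
      rw [show a * (b * y * b⁻¹ * y⁻¹) * a⁻¹ =
        (a * b * a⁻¹) * (a * y * a⁻¹) * (a * b * a⁻¹)⁻¹ * (a * y * a⁻¹)⁻¹ by group] at hk
      have hk2 : b * (a * y * a⁻¹) * b⁻¹ * (a * y * a⁻¹)⁻¹ = b * y * b⁻¹ * y⁻¹ := by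
        rcases hab with h | h
        · rw [show a * b * a⁻¹ = b from mul_inv_eq_one.1 h] at hk; exact hk
        · rw [show a * b * a⁻¹ = z' * b from mul_inv_eq_iff_eq_mul.1 h] at hk
          have hc := hcent' _ (mul_mem (mul_mem hb hay) (inv_mem hb))
          rw [show z' * b * (a * y * a⁻¹) * (z' * b)⁻¹ * (a * y * a⁻¹)⁻¹ =
            (z' * (b * (a * y * a⁻¹) * b⁻¹)) * z'⁻¹ * (a * y * a⁻¹)⁻¹ by group, ← hc,
            mul_inv_cancel_right] at hk
          exact hk
      have hk3 : (b * y * b⁻¹ * y⁻¹) * (a * y * a⁻¹ * y⁻¹) = (a * y * a⁻¹ * y⁻¹) * (b * y * b⁻¹ * y⁻¹) := by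
        rcases hcomm' b hb y hy with h | h <;> rw [h]
        · rw [one_mul, mul_one]
        · exact (hcent' _ hcQ).symm
      calc b * (a * y * a⁻¹ * y⁻¹)
          = (b * (a * y * a⁻¹) * b⁻¹ * (a * y * a⁻¹)⁻¹) * (a * y * a⁻¹ * y⁻¹) *
            (b * y * b⁻¹ * y⁻¹)⁻¹ * b := by group
        _ = (b * y * b⁻¹ * y⁻¹) * (a * y * a⁻¹ * y⁻¹) * (b * y * b⁻¹ * y⁻¹)⁻¹ * b := by rw [hk2]
        _ = _ := by rw [hk3, mul_inv_cancel_right]
    refine ⟨_, hcQ, ?_, hb, by group⟩
    have h := centralizer_fixed_le hS' σ (fun q => σ.left_inv q) hzfix hB ⟨_, hcQ⟩ fun b hb' => by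
      refine Subtype.ext (hb b b.2 ?_)
      have h' : z * (b : G) * z⁻¹ = b := congrArg Subtype.val hb'
      exact (mul_inv_eq_iff_eq_mul.1 h').symm
    have h' : z * (a * y * a⁻¹ * y⁻¹) * z⁻¹ = a * y * a⁻¹ * y⁻¹ := congrArg Subtype.val h
    exact (mul_inv_eq_iff_eq_mul.1 h').symm
  -- `z` is a commutator in the centralizer of `z'`
  obtain ⟨a, ha, haz, a', ha', ha'z, haa⟩ : ∃ a ∈ Q, a * z' = z' * a ∧ ∃ a' ∈ Q, a' * z' = z' * a' ∧
      a * a' * a⁻¹ * a'⁻¹ = z := by
    by_contra hcon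
    push Not at hcon
    let A : Subgroup Q := (centralizer ({z'} : Set G)).subgroupOf Q
    have hA : IsMulCommutative A := ⟨⟨fun a b => by
      have ha := mem_centralizer_singleton_iff.1 a.2
      have hb := mem_centralizer_singleton_iff.1 b.2
      rcases hcomm _ (a : Q).2 _ (b : Q).2 with h | h
      · exact Subtype.ext (Subtype.ext (mul_inv_eq_iff_eq_mul.1 (mul_inv_eq_one.1 h)))
      · exact absurd h (hcon _ (a : Q).2 ha _ (b : Q).2 hb)⟩⟩
    have h1 := hS.card_abelian_le A hA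
    have h2 : A.index ≤ 2 := by
      let ψ : Q →* Q := CfsgLib.PGroup.commHom hS.comm_mem ⟨z', hgQ⟩
      have hk : ψ.ker ≤ A := fun q hq => mem_subgroupOf.2 (mem_centralizer_singleton_iff.2 (by
        have : ⁅q, (⟨z', hgQ⟩ : Q)⁆ = 1 := hq
        exact congrArg Subtype.val (commutatorElement_eq_one_iff_mul_comm.1 this)))
      refine le_trans (Nat.le_of_dvd (Nat.pos_of_ne_zero ψ.ker.index_ne_zero_of_finite) (index_dvd_of_le hk)) ?_
      rw [index_ker]
      refine le_trans (Subgroup.card_le_of_le ?_) hS.card_center.le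
      rintro _ ⟨x, rfl⟩
      exact hS.comm_mem _ _
    have h3 := A.card_mul_index
    have h4 : Nat.card Q ≤ 2 * Nat.card A := by nlinarith
    nlinarith
  -- so `z` centralises `Q'`
  have hfin : ∀ y ∈ Q', y * z = z * y := by
    intro y hy
    obtain ⟨c, hcQ, hcz, hcb, hc⟩ := hact a ha haz y hy
    obtain ⟨c', hc'Q, hc'z, hc'b, hc'⟩ := hact a' ha' ha'z y hy
    have hcc : c * c' = c' * c := hc'b c hcQ hcz
    obtain ⟨d, hdQ, hd⟩ : ∃ d, (d = 1 ∨ d = z') ∧ a * c' * a⁻¹ = d * c' :=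
      ⟨_, hE' _ (by rw [mul_assoc a, mul_assoc a]; exact mul_mem ha (hN c' hc'z _ (inv_mem ha)))
        (mul_mem (hN' a haz c' hc'Q) (inv_mem hc'Q)), by group⟩
    obtain ⟨d', hdQ', hd'⟩ : ∃ d, (d = 1 ∨ d = z') ∧ a' * c * a'⁻¹ = d * c :=
      ⟨_, hE' _ (by rw [mul_assoc a', mul_assoc a']; exact mul_mem ha' (hN c hcz _ (inv_mem ha')))
        (mul_mem (hN' a' ha'z c hcQ) (inv_mem hcQ)), by group⟩
    have e1 : (a * a') * y * (a * a')⁻¹ = d * (c' * c * y) := by
      rw [show (a * a') * y * (a * a')⁻¹ = a * (a' * y * a'⁻¹) * a⁻¹ by group, hc',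
        show a * (c' * y) * a⁻¹ = (a * c' * a⁻¹) * (a * y * a⁻¹) by group, hd, hc]
      group
    have e2 : (a' * a) * y * (a' * a)⁻¹ = d' * (c' * c * y) := by
      rw [show (a' * a) * y * (a' * a)⁻¹ = a' * (a * y * a⁻¹) * a'⁻¹ by group, hc,
        show a' * (c * y) * a'⁻¹ = (a' * c * a'⁻¹) * (a' * y * a'⁻¹) by group, hd', hc', ← hcc]
      group
    have hza : a * a' = z * (a' * a) := by rw [← haa]; group
    have e3 : z * ((a' * a) * y * (a' * a)⁻¹) * z⁻¹ = d * (c' * c * y) := by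
      rw [← e1, hza]; group
    have hD : z * d' = d' * z := by
      rcases hdQ' with h | h <;> subst h
      · rw [one_mul, mul_one]
      · exact hzc
    rw [e2] at e3
    set w := c' * c * y with hw
    have hw' : w ∈ Q' := mul_mem (mul_mem hc'Q hcQ) hy
    have e4 : z * w * z⁻¹ = d'⁻¹ * d * w := by
      calc z * w * z⁻¹ = d'⁻¹ * ((d' * z) * w * z⁻¹) := by group
        _ = d'⁻¹ * ((z * d') * w * z⁻¹) := by rw [hD]
        _ = d'⁻¹ * (z * (d' * w) * z⁻¹) := by group
        _ = _ := by rw [e3]; group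
    have hdd : d'⁻¹ * d = 1 ∨ d'⁻¹ * d = z' := by
      rcases hdQ with h | h <;> rcases hdQ' with h' | h' <;> subst h <;> subst h'
      · left; group
      · right; rw [mul_one, inv_eq_of_mul_eq_one_right hz'z']
      · right; group
      · left; group
    have hwz : z * w * z⁻¹ = w := by
      rcases hdd with h | h
      · rw [e4, h, one_mul]
      · exfalso
        rw [h] at e4
        refine hshift w hw' ?_
        calc w * z * w⁻¹ = (z * w * z⁻¹ * w⁻¹)⁻¹ * z := by group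
          _ = (z' * w * w⁻¹)⁻¹ * z := by rw [e4]
          _ = z' * z := by rw [mul_inv_cancel_right, inv_eq_of_mul_eq_one_right hz'z']
          _ = _ := hzc.symm
    have hcc' : (c' * c) * z = z * (c' * c) := by
      rw [mul_assoc, hcz, ← mul_assoc, hc'z, mul_assoc]
    calc y * z = (c' * c)⁻¹ * (w * z) := by rw [hw]; group
      _ = (c' * c)⁻¹ * (z * w * z⁻¹ * z) := by rw [hwz]
      _ = (c' * c)⁻¹ * (z * (c' * c)) * y := by rw [hw]; group
      _ = (c' * c)⁻¹ * ((c' * c) * z) * y := by rw [hcc']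
      _ = _ := by group
  rcases hC' z hfin with h | h
  exacts [hzne h, hne h.symm]

end CfsgLib.Spor.LargeQ
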