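/-
The normaliser of a four group spanned by the centres of two conjugate extraspecial subgroups.
-/
import Cfsg.Agent.Lib.Spor.LargeExtraConjCentre

set_option autoImplicit false

namespace CfsgLib.Spor.LargeQ

open Subgroup

variable {G : Type*} [Group G] [Finite G]

/-- A four group whose normaliser contains two transpositions has automizer of order six. -/
theorem relIndex_four {a b s t : G} (V : Subgroup G) (hV : ∀ x, x ∈ V ↔ x = 1 ∨ x = a ∨ x = b ∨ x = a * b)
    (ha : a ≠ 1) (hb : b ≠ 1) (hab : a ≠ b) (haa : a * a = 1) (hbb : b * b = 1)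
    (hs : s * a * s⁻¹ = a ∧ s * b * s⁻¹ = a * b) (ht : t * a * t⁻¹ = a * b ∧ t * b * t⁻¹ = b) :
    (centralizer (V : Set G)).relIndex (normalizer (V : Set G)) = 6 := by
  classical
  have ha' : a ∈ V := (hV a).2 (by tauto)
  have hb' : b ∈ V := (hV b).2 (by tauto)
  have pm : ∀ n ∈ normalizer (V : Set G), ∀ x ∈ V, n * x * n⁻¹ ∈ V := fun n hn x hx => (mem_normalizer_iff.1 hn x).1 hx
  -- membership in the normaliser
  have hmk : ∀ n : G, n * a * n⁻¹ ∈ V → n * b * n⁻¹ ∈ V → n ∈ normalizer (V : Set G) := by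
    intro n h1 h2
    have hle : V.map (MulAut.conj n).toMonoidHom ≤ V := by
      rintro _ ⟨x, hx, rfl⟩
      show n * x * n⁻¹ ∈ V
      rcases (hV x).1 hx with rfl | rfl | rfl | rfl
      · simp
      · exact h1
      · exact h2
      · rw [show n * (a * b) * n⁻¹ = (n * a * n⁻¹) * (n * b * n⁻¹) by group]; exact mul_mem h1 h2
    have heq : V.map (MulAut.conj n).toMonoidHom = V := eq_of_le_of_card_ge hle
      (by rw [Nat.card_congr (V.equivMapOfInjective _ (MulAut.conj n).injective).toEquiv.symm])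
    refine mem_normalizer_iff.2 fun x => ⟨fun hx => hle ⟨x, hx, rfl⟩, fun hx => ?_⟩
    obtain ⟨y, hy, e⟩ : n * x * n⁻¹ ∈ V.map (MulAut.conj n).toMonoidHom := by rw [heq]; exact hx
    have e' : n * y * n⁻¹ = n * x * n⁻¹ := e
    rwa [← mul_left_cancel (mul_right_cancel e')]
  set N := normalizer (V : Set G) with hN
  set C := centralizer (V : Set G) with hC
  let T : Finset (G × G) := {(a, b), (b, a), (a, a * b), (a * b, a), (b, a * b), (a * b, b)}
  have hf : ∀ n : N, ((n : G) * a * (n : G)⁻¹, (n : G) * b * (n : G)⁻¹) ∈ T := by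
    intro n
    have h1 := (hV _).1 (pm n n.2 a ha')
    have h2 := (hV _).1 (pm n n.2 b hb')
    have e1 : (n : G) * a * (n : G)⁻¹ ≠ 1 := fun e => ha (by simpa using e)
    have e2 : (n : G) * b * (n : G)⁻¹ ≠ 1 := fun e => hb (by simpa using e)
    have e3 : (n : G) * a * (n : G)⁻¹ ≠ (n : G) * b * (n : G)⁻¹ := fun e => hab (mul_left_cancel (mul_right_cancel e))
    simp only [T, Finset.mem_insert, Finset.mem_singleton, Prod.mk.injEq]
    rcases h1 with h1 | h1 | h1 | h1 <;> rcases h2 with h2 | h2 | h2 | h2 <;>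
      first
        | exact absurd h1 e1
        | exact absurd h2 e2
        | exact absurd (h1.trans h2.symm) e3
        | tauto
  let f : N ⧸ C.subgroupOf N → T := fun q => Quotient.liftOn q
    (fun n => (⟨_, hf n⟩ : T)) (by
      intro n m h
      have h' : ((n : G))⁻¹ * (m : G) ∈ C := mem_subgroupOf.1 (QuotientGroup.leftRel_apply.1 h)
      refine Subtype.ext (Prod.ext ?_ ?_)
      · have := mem_centralizer_iff.1 h' a ha'
        calc (n : G) * a * (n : G)⁻¹ = (n : G) * (a * ((n : G)⁻¹ * m)) * (m : G)⁻¹ := by group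
          _ = _ := by rw [this]; group
      · have := mem_centralizer_iff.1 h' b hb'
        calc (n : G) * b * (n : G)⁻¹ = (n : G) * (b * ((n : G)⁻¹ * m)) * (m : G)⁻¹ := by group
          _ = _ := by rw [this]; group)
  have hinj : Function.Injective f := by
    intro q r
    refine Quotient.inductionOn₂ q r fun n m h => Quotient.sound (QuotientGroup.leftRel_apply.2 ?_)
    have h1 : (n : G) * a * (n : G)⁻¹ = (m : G) * a * (m : G)⁻¹ := congrArg (fun p : T => p.1.1) h
    have h2 : (n : G) * b * (n : G)⁻¹ = (m : G) * b * (m : G)⁻¹ := congrArg (fun p : T => p.1.2) h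
    have k1 : a * ((n : G)⁻¹ * m) = (n : G)⁻¹ * m * a := by
      calc a * ((n : G)⁻¹ * m) = (n : G)⁻¹ * ((n : G) * a * (n : G)⁻¹) * m := by group
        _ = _ := by rw [h1]; group
    have k2 : b * ((n : G)⁻¹ * m) = (n : G)⁻¹ * m * b := by
      calc b * ((n : G)⁻¹ * m) = (n : G)⁻¹ * ((n : G) * b * (n : G)⁻¹) * m := by group
        _ = _ := by rw [h2]; group
    refine mem_subgroupOf.2 (mem_centralizer_iff.2 fun x hx => ?_)
    show x * ((n : G)⁻¹ * m) = (n : G)⁻¹ * m * x
    rcases (hV x).1 hx with rfl | rfl | rfl | rfl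
    · simp
    · exact k1
    · exact k2
    · rw [mul_assoc, k2, ← mul_assoc, k1, mul_assoc]
  have hs' : s ∈ N := hmk s (hs.1.symm ▸ ha') (hs.2.symm ▸ mul_mem ha' hb')
  have ht' : t ∈ N := hmk t (ht.1.symm ▸ mul_mem ha' hb') (ht.2.symm ▸ hb')
  have mk : ∀ (n : G) (hn : n ∈ N) (p : T), n * a * n⁻¹ = p.1.1 → n * b * n⁻¹ = p.1.2 → ∃ q, f q = p :=
    fun n hn p h1 h2 => ⟨QuotientGroup.mk ⟨n, hn⟩, Subtype.ext (Prod.ext h1 h2)⟩
  have hcb : a * (a * b) = b := by rw [← mul_assoc, haa, one_mul]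
  have sc : s * (a * b) * s⁻¹ = b := by
    rw [show s * (a * b) * s⁻¹ = (s * a * s⁻¹) * (s * b * s⁻¹) by group, hs.1, hs.2, hcb]
  have tc : t * (a * b) * t⁻¹ = a := by
    rw [show t * (a * b) * t⁻¹ = (t * a * t⁻¹) * (t * b * t⁻¹) by group, ht.1, ht.2, mul_assoc, hbb, mul_one]
  have hsurj : Function.Surjective f := by
    rintro ⟨p, hp⟩
    simp only [T, Finset.mem_insert, Finset.mem_singleton] at hp
    rcases hp with rfl | rfl | rfl | rfl | rfl | rfl
    · exact mk 1 (one_mem _) _ (by group) (by group)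
    · exact mk (s * t * s) (mul_mem (mul_mem hs' ht') hs') _
        (by rw [show s * t * s * a * (s * t * s)⁻¹ = s * (t * (s * a * s⁻¹) * t⁻¹) * s⁻¹ by group, hs.1, ht.1, sc])
        (by rw [show s * t * s * b * (s * t * s)⁻¹ = s * (t * (s * b * s⁻¹) * t⁻¹) * s⁻¹ by group, hs.2, tc, hs.1])
    · exact mk s hs' _ hs.1 hs.2
    · exact mk (t * s) (mul_mem ht' hs') _
        (by rw [show t * s * a * (t * s)⁻¹ = t * (s * a * s⁻¹) * t⁻¹ by group, hs.1, ht.1])
        (by rw [show t * s * b * (t * s)⁻¹ = t * (s * b * s⁻¹) * t⁻¹ by group, hs.2, tc])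
    · exact mk (s * t) (mul_mem hs' ht') _
        (by rw [show s * t * a * (s * t)⁻¹ = s * (t * a * t⁻¹) * s⁻¹ by group, ht.1, sc])
        (by rw [show s * t * b * (s * t)⁻¹ = s * (t * b * t⁻¹) * s⁻¹ by group, ht.2, hs.2])
    · exact mk t ht' _ ht.1 ht.2
  show Nat.card (N ⧸ C.subgroupOf N) = 6
  rw [Nat.card_congr (Equiv.ofBijective f ⟨hinj, hsurj⟩), Nat.card_eq_finsetCard]
  have n1 : a ≠ a * b := fun e => hb (by simpa using e)
  have n2 : b ≠ a * b := fun e => ha (by simpa using e)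
  simp [T, Finset.card_insert_of_notMem, hab, hab.symm, n1, n2, n1.symm, n2.symm, Prod.ext_iff]

end CfsgLib.Spor.LargeQ
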