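/-
Two conjugate large extraspecial subgroups, each containing the centre of the other.
-/
import Cfsg.Agent.Lib.Spor.LargeExtraFour
import Mathlib.GroupTheory.Nilpotent
import Cfsg.Prelude.Def_SporadicB

set_option autoImplicit false

namespace CfsgLib.Spor.LargeQ

open Subgroup
open scoped commutatorElement

variable {G : Type*} [Group G]

/-- One member of the duo. -/
structure Half (Q : Subgroup G) (z : G) : Prop where
  mem : z ∈ Q
  ne : z ≠ 1
  sq : z * z = 1
  cz : ∀ q ∈ Q, q * z = z * q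
  comm : ∀ a ∈ Q, ∀ b ∈ Q, a * b * a⁻¹ * b⁻¹ = 1 ∨ a * b * a⁻¹ * b⁻¹ = z
  sqQ : ∀ q ∈ Q, q * q = 1 ∨ q * q = z
  norm : ∀ c, c * z = z * c → ∀ q ∈ Q, c * q * c⁻¹ ∈ Q
  cent : ∀ c, (∀ q ∈ Q, q * c = c * q) → c = 1 ∨ c = z
  two : IsPGroup 2 Q

theorem Half.conj {Q : Subgroup G} {z : G} (h : Half Q z) (g : G) :
    Half (Q.map (MulAut.conj g).toMonoidHom) (g * z * g⁻¹) := by
  have back : ∀ {x}, x ∈ Q.map (MulAut.conj g).toMonoidHom → ∃ q ∈ Q, g * q * g⁻¹ = x := fun hx => hx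
  refine ⟨mem_map_of_mem _ h.mem, fun e => h.ne (by simpa using e), ?_, ?_, ?_, ?_, ?_, ?_, h.two.map _⟩
  · rw [show g * z * g⁻¹ * (g * z * g⁻¹) = g * (z * z) * g⁻¹ by group, h.sq]; group
  · intro x hx
    obtain ⟨q, hq, rfl⟩ := back hx
    rw [show g * q * g⁻¹ * (g * z * g⁻¹) = g * (q * z) * g⁻¹ by group, h.cz q hq]; group
  · intro x hx y hy
    obtain ⟨a, ha, rfl⟩ := back hx
    obtain ⟨b, hb, rfl⟩ := back hy
    rw [show g * a * g⁻¹ * (g * b * g⁻¹) * (g * a * g⁻¹)⁻¹ * (g * b * g⁻¹)⁻¹ = g * (a * b * a⁻¹ * b⁻¹) * g⁻¹ by group]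
    rcases h.comm a ha b hb with e | e <;> rw [e]
    · left; group
    · exact Or.inr rfl
  · intro x hx
    obtain ⟨a, ha, rfl⟩ := back hx
    rw [show g * a * g⁻¹ * (g * a * g⁻¹) = g * (a * a) * g⁻¹ by group]
    rcases h.sqQ a ha with e | e <;> rw [e]
    · left; group
    · exact Or.inr rfl
  · intro c hc x hx
    obtain ⟨a, ha, rfl⟩ := back hx
    refine ⟨_, h.norm (g⁻¹ * c * g) ?_ a ha, show g * (g⁻¹ * c * g * a * (g⁻¹ * c * g)⁻¹) * g⁻¹ = _ by group⟩
    calc g⁻¹ * c * g * z = g⁻¹ * (c * (g * z * g⁻¹)) * g := by group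
      _ = g⁻¹ * ((g * z * g⁻¹) * c) * g := by rw [hc]
      _ = _ := by group
  · intro c hc
    have := h.cent (g⁻¹ * c * g) fun q hq => by
      have h1 : g * q * g⁻¹ * c = c * (g * q * g⁻¹) := hc _ (mem_map_of_mem _ hq)
      calc q * (g⁻¹ * c * g) = g⁻¹ * ((g * q * g⁻¹) * c) * g := by group
        _ = g⁻¹ * (c * (g * q * g⁻¹)) * g := by rw [h1]
        _ = _ := by group
    rcases this with e | e
    · left; calc c = g * (g⁻¹ * c * g) * g⁻¹ := by group
              _ = 1 := by rw [e]; group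
    · right; calc c = g * (g⁻¹ * c * g) * g⁻¹ := by group
              _ = g * z * g⁻¹ := by rw [e]

/-- The two members. -/
structure Duo (Q Q' : Subgroup G) (z z' : G) : Prop where
  left : Half Q z
  right : Half Q' z'
  mem' : z' ∈ Q
  mem : z ∈ Q'
  ne : z' ≠ z
  link : ∃ g, g * z * g⁻¹ = z' ∧ Q.map (MulAut.conj g).toMonoidHom = Q'

theorem Duo.symm {Q Q' : Subgroup G} {z z' : G} (h : Duo Q Q' z z') : Duo Q' Q z' z := by
  refine ⟨h.right, h.left, h.mem, h.mem', h.ne.symm, ?_⟩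
  obtain ⟨g, hg, hQ⟩ := h.link
  refine ⟨g⁻¹, by rw [← hg]; group, ?_⟩
  rw [← hQ, map_map]
  convert Q.map_id
  ext x
  show g⁻¹ * (g * x * g⁻¹) * g⁻¹⁻¹ = x
  group

namespace Duo

variable {Q Q' : Subgroup G} {z z' : G} (h : Duo Q Q' z z')
include h

theorem comm_zz : z * z' = z' * z := (h.left.cz z' h.mem').symm

/-- An element of `Q` moving `z'`. -/
theorem exists_move : ∃ y ∈ Q, y * z' * y⁻¹ = z * z' := by
  by_contra hcon
  push Not at hcon
  have hm := h.left.cent z' fun q hq => by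
    rcases h.left.comm q hq z' h.mem' with e | e
    · exact mul_inv_eq_iff_eq_mul.1 (mul_inv_eq_one.1 e)
    · exact absurd (mul_inv_eq_iff_eq_mul.1 e) (hcon q hq)
  exact hm.elim h.right.ne h.ne

theorem conj_zz {y : G} (hy : y ∈ Q) : y * z' * y⁻¹ = z' ∨ y * z' * y⁻¹ = z * z' := by
  rcases h.left.comm y hy z' h.mem' with e | e
  · exact Or.inl (mul_inv_eq_one.1 e)
  · exact Or.inr (mul_inv_eq_iff_eq_mul.1 e)

/-- The stabiliser of `z'` in `Q` has index two. -/
theorem mem_or_move {y w : G} (hy : y * z' * y⁻¹ = z * z') (hyQ : y ∈ Q) (hw : w ∈ Q) :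
    w * z' = z' * w ∨ (y⁻¹ * w) * z' = z' * (y⁻¹ * w) := by
  rcases h.conj_zz hw with e | e
  · exact Or.inl (mul_inv_eq_iff_eq_mul.1 e)
  · right
    calc y⁻¹ * w * z' = y⁻¹ * (w * z' * w⁻¹) * w := by group
      _ = y⁻¹ * (y * z' * y⁻¹) * w := by rw [e, hy]
      _ = _ := by group

/-- The subgroup `R`. -/
def core (Q Q' : Subgroup G) (z z' : G) : Subgroup G :=
  (Q' ⊓ centralizer ({z} : Set G)) ⊔ (Q ⊓ centralizer ({z'} : Set G))

theorem mem_left {a : G} (ha : a ∈ Q) (haz : a * z' = z' * a) : a ∈ core Q Q' z z' :=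
  mem_sup_right ⟨ha, mem_centralizer_singleton_iff.2 haz⟩

theorem mem_right {a : G} (ha : a ∈ Q') (haz : a * z = z * a) : a ∈ core Q Q' z z' :=
  mem_sup_left ⟨ha, mem_centralizer_singleton_iff.2 haz⟩

theorem core_le : core Q Q' z z' ≤ (Q ⊔ Q') ⊓ centralizer ({z, z'} : Set G) := by
  refine sup_le ?_ ?_ <;> rintro a ⟨ha, haz⟩ <;> replace haz := mem_centralizer_singleton_iff.1 haz <;>
    refine ⟨?_, mem_centralizer_iff.2 fun w hw => ?_⟩
  · exact mem_sup_right ha
  · rcases hw with rfl | rfl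
    exacts [haz.symm, (h.right.cz a ha).symm]
  · exact mem_sup_left ha
  · rcases hw with rfl | rfl
    exacts [(h.left.cz a ha).symm, haz.symm]

theorem core_comm {r : G} (hr : r ∈ core Q Q' z z') : r * z = z * r ∧ r * z' = z' * r := by
  have := mem_centralizer_iff.1 (h.core_le hr).2
  exact ⟨(this z (by simp)).symm, (this z' (by simp)).symm⟩

theorem core_symm : core Q' Q z' z = core Q Q' z z' := sup_comm _ _

/-- Every element of `R` is a product of the two parts. -/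
theorem core_decomp {r : G} (hr : r ∈ core Q Q' z z') :
    ∃ a ∈ Q, a * z' = z' * a ∧ ∃ b ∈ Q', b * z = z * b ∧ r = a * b := by
  have hn : Q' ⊓ centralizer ({z} : Set G) ≤
      normalizer ((Q ⊓ centralizer ({z'} : Set G) : Subgroup G) : Set G) := by
    rintro b ⟨hb, hbz⟩
    replace hbz := mem_centralizer_singleton_iff.1 hbz
    have hbz' := h.right.cz b hb
    have key : ∀ c : G, c * z = z * c → c * z' = z' * c → ∀ a, a ∈ Q ⊓ centralizer ({z'} : Set G) →
        c * a * c⁻¹ ∈ Q ⊓ centralizer ({z'} : Set G) := by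
      rintro c hc hc' a ⟨ha, haz⟩
      refine ⟨h.left.norm c hc a ha, ?_⟩
      have hcm : c ∈ centralizer ({z'} : Set G) := mem_centralizer_singleton_iff.2 hc'
      show c * a * c⁻¹ ∈ centralizer ({z'} : Set G)
      exact mul_mem (mul_mem hcm (haz : a ∈ centralizer ({z'} : Set G))) (inv_mem hcm)
    refine mem_normalizer_iff.2 fun a => ⟨key b hbz hbz' a, fun ha => ?_⟩
    have h1 := mem_centralizer_singleton_iff.1 (inv_mem (mem_centralizer_singleton_iff.2 hbz : b ∈ centralizer ({z} : Set G)))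
    have h2 := mem_centralizer_singleton_iff.1 (inv_mem (mem_centralizer_singleton_iff.2 hbz' : b ∈ centralizer ({z'} : Set G)))
    have := key b⁻¹ h1 h2 _ ha
    rwa [inv_inv, show b⁻¹ * (b * a * b⁻¹) * b = a by group] at this
  rw [core, sup_comm] at hr
  have hc := coe_mul_of_right_le_normalizer_left _ _ hn
  rw [← SetLike.mem_coe, hc] at hr
  obtain ⟨a, ⟨ha, haz⟩, b, ⟨hb, hbz⟩, rfl⟩ := hr
  exact ⟨a, ha, mem_centralizer_singleton_iff.1 haz, b, hb, mem_centralizer_singleton_iff.1 hbz, rfl⟩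

/-- `Q` normalises `R`. -/
theorem conj_core {y : G} (hy : y ∈ Q) {r : G} (hr : r ∈ core Q Q' z z') : y * r * y⁻¹ ∈ core Q Q' z z' := by
  have hc := h.core_comm hr
  have hyz := h.left.cz y hy
  have hz1 : y * r * y⁻¹ * z = z * (y * r * y⁻¹) := by
    have e : y⁻¹ * z = z * y⁻¹ := h.left.cz _ (inv_mem hy)
    calc y * r * y⁻¹ * z = y * (r * z) * y⁻¹ := by rw [mul_assoc (y * r), e]; group
      _ = y * (z * r) * y⁻¹ := by rw [hc.1]
      _ = (y * z) * r * y⁻¹ := by group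
      _ = _ := by rw [hyz]; group
  have hz2 : y * r * y⁻¹ * z' = z' * (y * r * y⁻¹) := by
    obtain ⟨w, hw, hwy⟩ : ∃ w, r * w = w * r ∧ y * w * y⁻¹ = z' := by
      rcases h.conj_zz hy with e | e
      · exact ⟨z', hc.2, e⟩
      · refine ⟨z * z', by rw [← mul_assoc, hc.1, mul_assoc, hc.2, mul_assoc], ?_⟩
        calc y * (z * z') * y⁻¹ = (y * z * y⁻¹) * (y * z' * y⁻¹) := by group
          _ = z * (z * z') := by rw [e, hyz, mul_inv_cancel_right]
          _ = _ := by rw [← mul_assoc, h.left.sq, one_mul]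
    rw [← hwy, show y * r * y⁻¹ * (y * w * y⁻¹) = y * (r * w) * y⁻¹ by group, hw]; group
  have hd : y * r * y⁻¹ * r⁻¹ ∈ Q := by
    rw [mul_assoc y, mul_assoc y]
    exact mul_mem hy (h.left.norm r hc.1 _ (inv_mem hy))
  have hdz : y * r * y⁻¹ * r⁻¹ * z' = z' * (y * r * y⁻¹ * r⁻¹) := by
    have e : r⁻¹ * z' = z' * r⁻¹ := by
      calc r⁻¹ * z' = r⁻¹ * (z' * r) * r⁻¹ := by group
        _ = r⁻¹ * (r * z') * r⁻¹ := by rw [hc.2]
        _ = _ := by group
    rw [mul_assoc (y * r * y⁻¹), e, ← mul_assoc, hz2, mul_assoc]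
  have := mul_mem (h.mem_left hd hdz) hr
  rwa [inv_mul_cancel_right] at this

theorem join_le_normalizer : Q ⊔ Q' ≤ normalizer ((core Q Q' z z') : Set G) := by
  have key : ∀ {P P' : Subgroup G} {w w' : G}, Duo P P' w w' → P ≤ normalizer ((core P P' w w') : Set G) := by
    intro P P' w w' hD y hy
    refine mem_normalizer_iff.2 fun r => ⟨hD.conj_core hy, fun hr => ?_⟩
    have := hD.conj_core (inv_mem hy) hr
    rwa [inv_inv, show y⁻¹ * (y * r * y⁻¹) * y = r by group] at this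
  refine sup_le (key h) ?_
  have := key h.symm
  rwa [h.core_symm] at this

theorem third {x y : G} (hx : x * z * x⁻¹ = z * z') (hy : y * z' * y⁻¹ = z * z') {q' : G} (hq' : q' ∈ Q') :
    ∃ q ∈ Q, x * q * x⁻¹ = y * q' * y⁻¹ := by
  obtain ⟨g, hg, hQ⟩ := h.link
  obtain ⟨q, hq, rfl⟩ : q' ∈ Q.map (MulAut.conj g).toMonoidHom := hQ.symm ▸ hq'
  have hc : (x⁻¹ * y * g) * z = z * (x⁻¹ * y * g) := by
    calc x⁻¹ * y * g * z = x⁻¹ * (y * (g * z * g⁻¹) * y⁻¹) * (y * g) := by group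
      _ = x⁻¹ * (x * z * x⁻¹) * (y * g) := by rw [hg, hy, ← hx]
      _ = _ := by group
  exact ⟨_, h.left.norm _ hc q hq, show x * (x⁻¹ * y * g * q * (x⁻¹ * y * g)⁻¹) * x⁻¹ = y * (g * q * g⁻¹) * y⁻¹ by group⟩

/-- The normal forms in `X`. -/
theorem structure_join [Finite G] :
    ∃ φ : ↥(Q ⊔ Q') →* Equiv.Perm (Fin 3), Function.Surjective φ ∧
      φ.ker = (core Q Q' z z').subgroupOf (Q ⊔ Q') ∧
      core Q Q' z z' = (Q ⊔ Q') ⊓ centralizer ({z, z'} : Set G) ∧
      ∀ p : Fin 3 → G, p = ![z, z', z * z'] → ∀ (x : ↥(Q ⊔ Q')) (i : Fin 3), (x : G) * p i * (x : G)⁻¹ = p (φ x i) := by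
  classical
  obtain ⟨y, hy, hym⟩ := h.exists_move
  obtain ⟨x, hx, hxm⟩ := h.symm.exists_move
  rw [← h.comm_zz] at hxm
  have hzz := h.left.sq
  have hz'z' := h.right.sq
  have hcz := h.comm_zz
  have hp1 : z * z' ≠ z := fun e => h.right.ne (mul_eq_left.1 e)
  have hp2 : z * z' ≠ z' := fun e => h.left.ne (mul_eq_right.1 e)
  set p : Fin 3 → G := ![z, z', z * z'] with hp
  have hpinj : Function.Injective p := by
    intro i j e
    fin_cases i <;> fin_cases j <;> simp_all [p] <;>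
      first | exact absurd e.symm h.ne | exact absurd e hp1 | exact absurd e.symm hp1 | exact absurd e hp2 | exact absurd e.symm hp2
  have yz : y * z * y⁻¹ = z := by rw [h.left.cz y hy, mul_inv_cancel_right]
  have xz : x * z' * x⁻¹ = z' := by rw [h.right.cz x hx, mul_inv_cancel_right]
  have hQact : ∀ {P P' : Subgroup G} {w w' : G}, Duo P P' w w' → ∀ q ∈ P,
      q * w * q⁻¹ = w ∧ ((q * w' * q⁻¹ = w' ∧ q * (w * w') * q⁻¹ = w * w') ∨
        (q * w' * q⁻¹ = w * w' ∧ q * (w * w') * q⁻¹ = w')) := by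
    intro P P' w w' hD q hq
    have h1 : q * w * q⁻¹ = w := by rw [hD.left.cz q hq, mul_inv_cancel_right]
    have h2 : q * (w * w') * q⁻¹ = w * (q * w' * q⁻¹) := by
      rw [show q * (w * w') * q⁻¹ = (q * w * q⁻¹) * (q * w' * q⁻¹) by group, h1]
    refine ⟨h1, ?_⟩
    rcases hD.conj_zz hq with e | e
    · exact Or.inl ⟨e, by rw [h2, e]⟩
    · exact Or.inr ⟨e, by rw [h2, e, ← mul_assoc, hD.left.sq, one_mul]⟩
  have hperm : ∀ w ∈ Q ⊔ Q', ∃ π : Equiv.Perm (Fin 3), ∀ i, w * p i * w⁻¹ = p (π i) := by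
    intro w hw
    rw [sup_eq_closure] at hw
    refine Subgroup.closure_induction (fun u hu => ?_) ⟨1, fun i => by simp⟩ ?_ ?_ hw
    · rcases hu with hu | hu
      · obtain ⟨h1, ⟨h2, h3⟩ | ⟨h2, h3⟩⟩ := hQact h u hu
        · exact ⟨1, fun i => by fin_cases i <;> simp [p, h1, h2, h3]⟩
        · exact ⟨Equiv.swap 1 2, fun i => by fin_cases i <;> simp [p, h1, h2, h3, Equiv.swap_apply_def]⟩
      · obtain ⟨h1, ⟨h2, h3⟩ | ⟨h2, h3⟩⟩ := hQact h.symm u hu <;> rw [← hcz] at h3
        · exact ⟨1, fun i => by fin_cases i <;> simp [p, h1, h2, h3]⟩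
        · rw [← hcz] at h2
          exact ⟨Equiv.swap 0 2, fun i => by fin_cases i <;> simp [p, h1, h2, h3, Equiv.swap_apply_def]⟩
    · rintro a b - - ⟨πa, ha⟩ ⟨πb, hb⟩
      refine ⟨πa * πb, fun i => ?_⟩
      rw [Equiv.Perm.mul_apply, ← ha, ← hb]; group
    · rintro a - ⟨πa, ha⟩
      refine ⟨πa.symm, fun i => ?_⟩
      have := ha (πa.symm i)
      rw [Equiv.apply_symm_apply] at this
      rw [← this]; group
  choose π hπ using hperm
  let φ : ↥(Q ⊔ Q') →* Equiv.Perm (Fin 3) := MonoidHom.mk' (fun w => π w w.2) fun a b => Equiv.ext fun i => hpinj (by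
    rw [Equiv.Perm.mul_apply, ← hπ _ a.2, ← hπ _ b.2, ← hπ _ (a * b).2, Subgroup.coe_mul]; group)
  have hφ : ∀ (w : ↥(Q ⊔ Q')) (i : Fin 3), (w : G) * p i * (w : G)⁻¹ = p (φ w i) := fun w i => hπ _ w.2 i
  have hsurj : Function.Surjective φ := by
    have h1 : φ ⟨y, mem_sup_left hy⟩ = Equiv.swap 1 2 := Equiv.ext fun i => hpinj (by
      rw [← hφ]
      obtain ⟨-, ⟨e, -⟩ | ⟨-, e⟩⟩ := hQact h y hy
      · exact absurd (e.symm.trans hym) hp2.symm
      · fin_cases i <;> simp [p, yz, hym, e, Equiv.swap_apply_def])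
    have h2 : φ ⟨x, mem_sup_right hx⟩ = Equiv.swap 0 2 := Equiv.ext fun i => hpinj (by
      rw [← hφ]
      obtain ⟨-, ⟨e, -⟩ | ⟨-, e⟩⟩ := hQact h.symm x hx
      · exact absurd (e.symm.trans hxm) hp1.symm
      · rw [← hcz] at e
        fin_cases i <;> simp [p, xz, hxm, e, Equiv.swap_apply_def])
    have key : ∀ σ : Equiv.Perm (Fin 3), σ = 1 ∨ σ = Equiv.swap 1 2 ∨ σ = Equiv.swap 0 2 ∨
        σ = Equiv.swap 1 2 * Equiv.swap 0 2 ∨ σ = Equiv.swap 0 2 * Equiv.swap 1 2 ∨
        σ = Equiv.swap 1 2 * Equiv.swap 0 2 * Equiv.swap 1 2 := by decide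
    intro σ
    rcases key σ with e | e | e | e | e | e <;> subst e
    exacts [⟨1, map_one _⟩, ⟨_, h1⟩, ⟨_, h2⟩,
      ⟨⟨y, mem_sup_left hy⟩ * ⟨x, mem_sup_right hx⟩, by rw [map_mul, h1, h2]⟩,
      ⟨⟨x, mem_sup_right hx⟩ * ⟨y, mem_sup_left hy⟩, by rw [map_mul, h2, h1]⟩,
      ⟨⟨y, mem_sup_left hy⟩ * ⟨x, mem_sup_right hx⟩ * ⟨y, mem_sup_left hy⟩, by rw [map_mul, map_mul, h1, h2]⟩]
  set R := core Q Q' z z' with hR
  have hX := h.join_le_normalizer
  haveI hRn : (R.subgroupOf (Q ⊔ Q')).Normal := normal_subgroupOf_of_le_normalizer hX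
  have hle : R.subgroupOf (Q ⊔ Q') ≤ φ.ker := by
    intro w hw
    have hc := h.core_comm (mem_subgroupOf.1 hw)
    refine MonoidHom.mem_ker.2 (Equiv.ext fun i => hpinj ?_)
    rw [← hφ, Equiv.Perm.one_apply, mul_inv_eq_iff_eq_mul]
    fin_cases i
    · exact hc.1
    · exact hc.2
    · show (w : G) * (z * z') = z * z' * (w : G)
      rw [← mul_assoc, hc.1, mul_assoc, hc.2, mul_assoc]
  have hker : φ.ker = R.subgroupOf (Q ⊔ Q') := by
    let y₁ : ↥(Q ⊔ Q') := ⟨y, mem_sup_left hy⟩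
    let x₁ : ↥(Q ⊔ Q') := ⟨x, mem_sup_right hx⟩
    set m := QuotientGroup.mk' (R.subgroupOf (Q ⊔ Q')) with hm
    have mR : ∀ w : ↥(Q ⊔ Q'), (w : G) ∈ R → m w = 1 := fun w hw => (QuotientGroup.eq_one_iff w).2 (mem_subgroupOf.2 hw)
    have hyy : m y₁ * m y₁ = 1 := by
      rw [← map_mul]; refine mR _ ?_
      show y * y ∈ R
      rcases h.left.sqQ y hy with e | e <;> rw [e]
      exacts [one_mem _, h.mem_left h.left.mem hcz]
    have hxx : m x₁ * m x₁ = 1 := by
      rw [← map_mul]; refine mR _ ?_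
      show x * x ∈ R
      rcases h.right.sqQ x hx with e | e <;> rw [e]
      exacts [one_mem _, h.mem_right h.right.mem hcz.symm]
    have gen1 : ∀ w : ↥(Q ⊔ Q'), (w : G) ∈ Q → m w = 1 ∨ m w = m y₁ := by
      intro w hw
      rcases h.mem_or_move hym hy hw with e | e
      · exact Or.inl (mR _ (h.mem_left hw e))
      · refine Or.inr ?_
        have := mR (y₁⁻¹ * w) (h.mem_left (mul_mem (inv_mem hy) hw) e)
        rw [map_mul, map_inv, inv_mul_eq_one] at this
        exact this.symm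
    have gen2 : ∀ w : ↥(Q ⊔ Q'), (w : G) ∈ Q' → m w = 1 ∨ m w = m x₁ := by
      intro w hw
      rcases h.symm.mem_or_move (hxm.trans hcz) hx hw with e | e
      · exact Or.inl (mR _ (h.mem_right hw e))
      · refine Or.inr ?_
        have := mR (x₁⁻¹ * w) (h.mem_right (mul_mem (inv_mem hx) hw) e)
        rw [map_mul, map_inv, inv_mul_eq_one] at this
        exact this.symm
    have hbraid : m x₁ * m y₁ * m x₁ = m y₁ * m x₁ * m y₁ := by
      obtain ⟨q, hq, e⟩ := h.third hxm hym hx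
      let q₁ : ↥(Q ⊔ Q') := ⟨q, mem_sup_left hq⟩
      have e' : x₁ * q₁ * x₁⁻¹ = y₁ * x₁ * y₁⁻¹ := Subtype.ext e
      have e2 := congrArg m e'
      rw [map_mul, map_mul, map_mul, map_mul, map_inv, map_inv, inv_eq_of_mul_eq_one_right hxx,
        inv_eq_of_mul_eq_one_right hyy] at e2
      rcases gen1 q₁ hq with k | k <;> rw [k] at e2
      · exfalso
        rw [mul_one, hxx] at e2
        have h1 : y₁ * x₁ * y₁ ∈ φ.ker := hle ((QuotientGroup.eq_one_iff _).1 (by
          rw [← QuotientGroup.mk'_apply, map_mul, map_mul]; exact e2.symm))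
        have h2 := hφ (y₁ * x₁ * y₁) 0
        rw [MonoidHom.mem_ker.1 h1, Equiv.Perm.one_apply] at h2
        have h3 : y * x * y * z * (y * x * y)⁻¹ = z := h2
        rw [show y * x * y * z * (y * x * y)⁻¹ = y * (x * (y * z * y⁻¹) * x⁻¹) * y⁻¹ by group, yz, hxm,
          show y * (z * z') * y⁻¹ = (y * z * y⁻¹) * (y * z' * y⁻¹) by group, yz, hym, ← mul_assoc, hzz, one_mul] at h3
        exact h.ne h3
      · exact e2
    set S : Set (↥(Q ⊔ Q') ⧸ R.subgroupOf (Q ⊔ Q')) :=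
      {1, m y₁, m x₁, m y₁ * m x₁, m x₁ * m y₁, m y₁ * m x₁ * m y₁} with hS
    have hmul : ∀ u ∈ ({m y₁, m x₁} : Set _), ∀ v ∈ S, u * v ∈ S := by
      rintro u (rfl | rfl) v (rfl | rfl | rfl | rfl | rfl | rfl) <;>
        simp only [hS, Set.mem_insert_iff, Set.mem_singleton_iff]
      · simp
      · simp [hyy]
      · simp
      · simp [← mul_assoc, hyy]
      · simp [← mul_assoc]
      · simp [← mul_assoc, hyy]
      · simp
      · simp
      · simp [hxx]
      · simp [← mul_assoc, hbraid]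
      · simp [← mul_assoc, hxx]
      · rw [← hbraid]; simp [← mul_assoc, hxx]
    have hall : ∀ w : ↥(Q ⊔ Q'), m w ∈ S := by
      suffices H : ∀ g, ∀ hg : g ∈ Q ⊔ Q', ∀ v ∈ S, m ⟨g, hg⟩ * v ∈ S by
        intro w; simpa using H w w.2 1 (by simp [hS])
      intro g hg
      have hgen : g ∈ closure ((Q : Set G) ∪ Q') := by rwa [← sup_eq_closure]
      revert hg
      refine Subgroup.closure_induction_left (p := fun g _ => ∀ hg : g ∈ Q ⊔ Q', ∀ v ∈ S, m ⟨g, hg⟩ * v ∈ S)
        (fun _ v hv => by rw [show (⟨1, _⟩ : ↥(Q ⊔ Q')) = 1 from rfl, map_one, one_mul]; exact hv)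
        (fun a ha b _ ih hab v hv => ?_) (fun a ha b _ ih hab v hv => ?_) hgen
      all_goals
        first
          | (have haX : a ∈ Q ⊔ Q' := ha.elim (fun e => mem_sup_left e) (fun e => mem_sup_right e)
             have hbX : b ∈ Q ⊔ Q' := by simpa using mul_mem (inv_mem haX) hab
             rw [show (⟨a * b, hab⟩ : ↥(Q ⊔ Q')) = ⟨a, haX⟩ * ⟨b, hbX⟩ from rfl, map_mul, mul_assoc]
             rcases ha with ha | ha
             · rcases gen1 ⟨a, haX⟩ ha with k | k <;> rw [k]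
               · rw [one_mul]; exact ih hbX v hv
               · exact hmul _ (Or.inl rfl) _ (ih hbX v hv)
             · rcases gen2 ⟨a, haX⟩ ha with k | k <;> rw [k]
               · rw [one_mul]; exact ih hbX v hv
               · exact hmul _ (Or.inr rfl) _ (ih hbX v hv))
          | (have haX : a⁻¹ ∈ Q ⊔ Q' := inv_mem (ha.elim (fun e => mem_sup_left e) (fun e => mem_sup_right e))
             have hbX : b ∈ Q ⊔ Q' := by simpa using mul_mem (inv_mem haX) hab
             rw [show (⟨a⁻¹ * b, hab⟩ : ↥(Q ⊔ Q')) = ⟨a⁻¹, haX⟩ * ⟨b, hbX⟩ from rfl, map_mul, mul_assoc]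
             rcases ha with ha | ha
             · rcases gen1 ⟨a⁻¹, haX⟩ (inv_mem ha) with k | k <;> rw [k]
               · rw [one_mul]; exact ih hbX v hv
               · exact hmul _ (Or.inl rfl) _ (ih hbX v hv)
             · rcases gen2 ⟨a⁻¹, haX⟩ (inv_mem ha) with k | k <;> rw [k]
               · rw [one_mul]; exact ih hbX v hv
               · exact hmul _ (Or.inr rfl) _ (ih hbX v hv))
    have hcard : Nat.card (↥(Q ⊔ Q') ⧸ R.subgroupOf (Q ⊔ Q')) ≤ 6 := by
      have hu : (Set.univ : Set (↥(Q ⊔ Q') ⧸ R.subgroupOf (Q ⊔ Q'))) ⊆ S := fun q _ => by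
        obtain ⟨w, rfl⟩ := QuotientGroup.mk'_surjective _ q; exact hall w
      rw [← Set.ncard_univ]
      refine (Set.ncard_le_ncard hu (Set.toFinite _)).trans ?_
      rw [hS]
      refine le_trans (Set.ncard_insert_le _ _) (Nat.succ_le_succ ?_)
      refine le_trans (Set.ncard_insert_le _ _) (Nat.succ_le_succ ?_)
      refine le_trans (Set.ncard_insert_le _ _) (Nat.succ_le_succ ?_)
      refine le_trans (Set.ncard_insert_le _ _) (Nat.succ_le_succ ?_)
      refine le_trans (Set.ncard_insert_le _ _) (Nat.succ_le_succ ?_)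
      simp
    have h6 : φ.ker.index = 6 := by
      rw [index_ker, MonoidHom.range_eq_top.2 hsurj, card_top, Nat.card_perm, Nat.card_fin]; rfl
    have h2 := relIndex_mul_index hle
    rw [h6] at h2
    have h3 : (R.subgroupOf (Q ⊔ Q')).index ≤ 6 := hcard
    have h4 : (R.subgroupOf (Q ⊔ Q')).index ≠ 0 := index_ne_zero_of_finite
    have h1 : (R.subgroupOf (Q ⊔ Q')).relIndex φ.ker = 1 := by
      generalize (R.subgroupOf (Q ⊔ Q')).index = n at h2 h3 h4
      generalize (R.subgroupOf (Q ⊔ Q')).relIndex φ.ker = k at h2 ⊢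
      omega
    exact le_antisymm (relIndex_eq_one.1 h1) hle
  refine ⟨φ, hsurj, hker, le_antisymm h.core_le ?_, fun p' e w i => ?_⟩
  · rintro w ⟨hw, hwc⟩
    have hc := mem_centralizer_iff.1 hwc
    have : (⟨w, hw⟩ : ↥(Q ⊔ Q')) ∈ φ.ker := MonoidHom.mem_ker.2 (Equiv.ext fun i => hpinj (by
      rw [← hφ, Equiv.Perm.one_apply, mul_inv_eq_iff_eq_mul]
      have h1 : w * z = z * w := (hc z (by simp)).symm
      have h2 : w * z' = z' * w := (hc z' (by simp)).symm
      fin_cases i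
      · exact h1
      · exact h2
      · show w * (z * z') = z * z' * w
        rw [← mul_assoc, h1, mul_assoc, h2, mul_assoc]))
    rw [hker] at this
    exact mem_subgroupOf.1 this
  · subst e; exact hφ w i

theorem inter_abelian {a b : G} (ha : a ∈ Q) (ha' : a ∈ Q') (hb : b ∈ Q) (hb' : b ∈ Q') : a * b = b * a := by
  rcases h.left.comm a ha b hb with e | e
  · exact mul_inv_eq_iff_eq_mul.1 (mul_inv_eq_one.1 e)
  · rcases h.right.comm a ha' b hb' with e' | e'
    · exact mul_inv_eq_iff_eq_mul.1 (mul_inv_eq_one.1 e')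
    · exact absurd (e.symm.trans e') h.ne.symm

theorem inter_sq {a : G} (ha : a ∈ Q) (ha' : a ∈ Q') : a * a = 1 := by
  rcases h.left.sqQ a ha with e | e
  · exact e
  · rcases h.right.sqQ a ha' with e' | e'
    · exact e'
    · exact absurd (e.symm.trans e') h.ne.symm

/-- Centralisers of `A` inside `Q`. -/
theorem centralizer_stab {u : G} (hu : u ∈ Q) (hA : ∀ a ∈ Q, a * z' = z' * a → a * u = u * a) :
    u = 1 ∨ u = z ∨ u = z' ∨ u = z * z' := by
  obtain ⟨t, ht, htm⟩ := h.exists_move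
  have key : ∀ v, (∀ a ∈ Q, a * z' = z' * a → a * v = v * a) → t * v = v * t → v = 1 ∨ v = z := by
    intro v hva hvt
    refine h.left.cent v fun q hq => ?_
    rcases h.mem_or_move htm ht hq with e | e
    · exact hva q hq e
    · have h2 := hva _ (mul_mem (inv_mem ht) hq) e
      calc q * v = t * ((t⁻¹ * q) * v) := by group
        _ = (t * v) * (t⁻¹ * q) := by rw [h2]; group
        _ = (v * t) * (t⁻¹ * q) := by rw [hvt]
        _ = _ := by group
  rcases h.left.comm t ht u hu with e | e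
  · rcases key u hA (mul_inv_eq_iff_eq_mul.1 (mul_inv_eq_one.1 e)) with k | k <;> tauto
  · have h1 : t * u * t⁻¹ = z * u := mul_inv_eq_iff_eq_mul.1 e
    have huz : t * (u * z') = u * z' * t := by
      calc t * (u * z') = (t * u * t⁻¹) * (t * z' * t⁻¹) * t := by group
        _ = z * (u * z) * z' * t := by rw [h1, htm]; group
        _ = z * (z * u) * z' * t := by rw [h.left.cz u hu]
        _ = _ := by rw [← mul_assoc z, h.left.sq, one_mul]
    have he : ∀ w, u * z' = w → u = w * z' := fun w hw => by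
      rw [← hw, mul_assoc, h.right.sq, mul_one]
    rcases key (u * z') (fun a ha haz => by rw [← mul_assoc, hA a ha haz, mul_assoc, haz, ← mul_assoc]) huz with k | k
    · exact Or.inr (Or.inr (Or.inl (by rw [he _ k, one_mul])))
    · exact Or.inr (Or.inr (Or.inr (he _ k)))

/-- The centre of `R`. -/
theorem center_core {c : G} (hc : c ∈ core Q Q' z z')
    (hcomm : ∀ r ∈ core Q Q' z z', r * c = c * r) : c = 1 ∨ c = z ∨ c = z' ∨ c = z * z' := by
  obtain ⟨y, hy, hym⟩ := h.exists_move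
  have hcc := h.core_comm hc
  have hcy : c * y * c⁻¹ ∈ Q := h.left.norm c hcc.1 y hy
  -- the shift is centralised by the stabiliser
  have hv : c * y * c⁻¹ * y⁻¹ = 1 ∨ c * y * c⁻¹ * y⁻¹ = z ∨ c * y * c⁻¹ * y⁻¹ = z' ∨
      c * y * c⁻¹ * y⁻¹ = z * z' := by
    refine h.centralizer_stab (mul_mem hcy (inv_mem hy)) fun a ha haz => ?_
    have hac := hcomm a (h.mem_left ha haz)
    obtain ⟨k, hk, hka⟩ : ∃ k, (k = 1 ∨ k = z) ∧ a * y * a⁻¹ = k * y :=
      ⟨_, h.left.comm a ha y hy, by group⟩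
    have hck : c * k = k * c := by
      rcases hk with rfl | rfl
      exacts [by rw [one_mul, mul_one], hcc.1]
    calc a * (c * y * c⁻¹ * y⁻¹) = (a * c) * y * c⁻¹ * y⁻¹ := by group
      _ = (c * a) * y * c⁻¹ * y⁻¹ := by rw [hac]
      _ = c * (a * y * a⁻¹) * (a * c⁻¹) * y⁻¹ := by group
      _ = c * (k * y) * (c⁻¹ * a) * y⁻¹ := by
        rw [hka, show a * c⁻¹ = c⁻¹ * (c * a) * c⁻¹ by group, ← hac,
          show c⁻¹ * (a * c) * c⁻¹ = c⁻¹ * a by group]
      _ = (c * k) * y * c⁻¹ * (a * y⁻¹ * a⁻¹) * a := by group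
      _ = (k * c) * y * c⁻¹ * (k * y)⁻¹ * a := by
        rw [hck, show a * y⁻¹ * a⁻¹ = (a * y * a⁻¹)⁻¹ by group, hka]
      _ = k * (c * y * c⁻¹ * y⁻¹) * k⁻¹ * a := by group
      _ = c * y * c⁻¹ * y⁻¹ * a := by
        rcases hk with rfl | rfl
        · group
        · rw [← h.left.cz _ (mul_mem hcy (inv_mem hy)), mul_inv_cancel_right]
  set v := c * y * c⁻¹ * y⁻¹ with hvdef
  have hv1 : c * y * c⁻¹ = v * y := by rw [hvdef]; group
  have hyy : y * y * c = c * (y * y) := by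
    rcases h.left.sqQ y hy with e | e <;> rw [e]
    exacts [by rw [one_mul, mul_one], hcc.1.symm]
  -- conjugate twice
  have hsq : (c * y * c⁻¹) * (c * y * c⁻¹) = y * y := by
    rw [show c * y * c⁻¹ * (c * y * c⁻¹) = c * (y * y) * c⁻¹ by group, ← hyy, mul_inv_cancel_right]
  rw [hv1] at hsq
  have hvy : v * (y * v * y⁻¹) = 1 := by
    calc v * (y * v * y⁻¹) = (v * y * (v * y)) * (y * y)⁻¹ := by group
      _ = 1 := by rw [hsq, mul_inv_cancel]
  have hv2 : v = 1 ∨ v = z := by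
    rcases hv with e | e | e | e
    · exact Or.inl e
    · exact Or.inr e
    · exfalso
      rw [e, hym, ← mul_assoc, ← h.comm_zz, mul_assoc, h.right.sq, mul_one] at hvy
      exact h.left.ne hvy
    · exfalso
      rw [e, show y * (z * z') * y⁻¹ = (y * z * y⁻¹) * (y * z' * y⁻¹) by group, h.left.cz y hy,
        mul_inv_cancel_right, hym, ← mul_assoc z z z', h.left.sq, one_mul, mul_assoc, h.right.sq, mul_one] at hvy
      exact h.left.ne hvy
  have fin : ∀ d, (∀ a ∈ Q, a * z' = z' * a → a * d = d * a) → d * y * d⁻¹ = y → d = 1 ∨ d = z := by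
    intro d hda hdy
    refine h.left.cent d fun q hq => ?_
    rcases h.mem_or_move hym hy hq with e | e
    · exact hda q hq e
    · have h2 := hda _ (mul_mem (inv_mem hy) hq) e
      calc q * d = y * ((y⁻¹ * q) * d) := by group
        _ = (d * y * d⁻¹) * (d * (y⁻¹ * q)) := by rw [hdy, h2]
        _ = _ := by group
  have hAc : ∀ a ∈ Q, a * z' = z' * a → a * c = c * a := fun a ha haz => hcomm a (h.mem_left ha haz)
  rcases hv2 with e | e
  · rw [e, one_mul] at hv1
    rcases fin c hAc hv1 with k | k <;> tauto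
  · rw [e] at hv1
    have hz'y : z' * y * z'⁻¹ = z * y := by
      calc z' * y * z'⁻¹ = y * ((y⁻¹ * z' * y) * z'⁻¹) := by group
        _ = y * z := by
          have : y⁻¹ * z' * y = z * z' := by
            calc y⁻¹ * z' * y = y⁻¹ * (z * (z * z')) * y := by rw [← mul_assoc z, h.left.sq, one_mul]
              _ = y⁻¹ * (z * (y * z' * y⁻¹)) * y := by rw [hym]
              _ = (y⁻¹ * z) * y * z' := by group
              _ = _ := by rw [h.left.cz _ (inv_mem hy)]; group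
          rw [this, mul_assoc z, mul_inv_cancel, mul_one]
        _ = _ := h.left.cz y hy
    have hd : (z' * c) * y * (z' * c)⁻¹ = y := by
      calc (z' * c) * y * (z' * c)⁻¹ = z' * (c * y * c⁻¹) * z'⁻¹ := by group
        _ = (z' * z) * y * z'⁻¹ := by rw [hv1]; group
        _ = z * (z' * y * z'⁻¹) := by rw [← h.comm_zz]; group
        _ = y := by rw [hz'y, ← mul_assoc, h.left.sq, one_mul]
    have he : ∀ w, z' * c = w → c = z' * w := fun w hw => by
      rw [← hw, ← mul_assoc, h.right.sq, one_mul]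
    rcases fin (z' * c) (fun a ha haz => by rw [← mul_assoc, haz, mul_assoc, hAc a ha haz, mul_assoc]) hd with k | k
    · exact Or.inr (Or.inr (Or.inl (by rw [he _ k, mul_one])))
    · exact Or.inr (Or.inr (Or.inr (by rw [he _ k, h.comm_zz])))

end Duo

end CfsgLib.Spor.LargeQ
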