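/-
The normaliser of the four group of a duo and the series of its core.
-/
import Cfsg.Agent.Lib.Spor.LargeExtraDuo

set_option autoImplicit false

namespace CfsgLib.Spor.LargeQ

open Subgroup
open scoped commutatorElement

variable {G : Type*} [Group G]

theorem Duo.of_large [Finite G] {Q : Subgroup G} (hQ : Cfsg.IsLargeExtraspecial Q) {z : G}
    (hz : (center Q).map Q.subtype = zpowers z) (hz2 : orderOf z = 2) (hbig : 32 ≤ Nat.card Q)
    {g : G} (hgH : g ∉ centralizer ({z} : Set G)) (hgQ : g * z * g⁻¹ ∈ Q) :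
    Duo Q (Q.map (MulAut.conj g).toMonoidHom) z (g * z * g⁻¹) := by
  haveI : Fact (Nat.Prime 2) := ⟨Nat.prime_two⟩
  obtain ⟨hE, hC, hN, -⟩ := hQ
  have hzz : z * z = 1 := by rw [← pow_two, ← hz2, pow_orderOf_eq_one]
  have hzi : ∀ x, x ∈ (center Q).map Q.subtype ↔ x = 1 ∨ x = z := by
    intro x
    rw [hz]
    refine ⟨fun hx => ?_, ?_⟩
    · obtain ⟨n, rfl⟩ := mem_zpowers_iff.1 hx
      rcases Int.even_or_odd n with ⟨k, rfl⟩ | ⟨k, rfl⟩
      · left; rw [← two_mul, zpow_mul, zpow_two, hzz, one_zpow]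
      · right; rw [zpow_add, zpow_mul, zpow_two, hzz, one_zpow, one_mul, zpow_one]
    · rintro (rfl | rfl)
      exacts [one_mem _, mem_zpowers _]
  have hzQ : z ∈ Q := map_subtype_le _ ((hzi z).2 (Or.inr rfl))
  have hzne : z ≠ 1 := fun e => by rw [e, orderOf_one] at hz2; omega
  have hcz : ∀ q ∈ Q, q * z = z * q := fun q hq => by
    obtain ⟨w, hw, e⟩ := (hzi z).2 (Or.inr rfl)
    rw [← e]; exact congrArg Subtype.val (mem_center_iff.1 hw ⟨q, hq⟩)
  have hnorm : ∀ c, c * z = z * c → ∀ q ∈ Q, c * q * c⁻¹ ∈ Q := by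
    intro c hc q hq
    refine (mem_normalizer_iff.1 (hN (mem_centralizer_iff.2 fun x hx => ?_)) q).1 hq
    rcases (hzi x).1 hx with rfl | rfl
    · simp
    · exact hc.symm
  have hS := (CfsgLib.PGroup.smallCenter_of_extraspecial (p := 2) hE).1
  have half : Half Q z := by
    refine ⟨hzQ, hzne, hzz, hcz, fun a ha b hb => (hzi _).1 ⟨⁅(⟨a, ha⟩ : Q), ⟨b, hb⟩⁆, hS.comm_mem _ _, rfl⟩,
      fun q hq => (hzi _).1 ⟨(⟨q, hq⟩ : Q) ^ 2, hS.pow_mem _, by simp [pow_two]⟩, hnorm, fun c hc => ?_, hE.1.1⟩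
    refine (hzi c).1 ?_
    rw [← hC]
    exact mem_centralizer_iff.2 hc
  have hne : g * z * g⁻¹ ≠ z := fun e => hgH (mem_centralizer_singleton_iff.2 (mul_inv_eq_iff_eq_mul.1 e))
  exact ⟨half, half.conj g, hgQ, centre_mem_conj Q z hE hzi hz2 hC hnorm hbig g hne hgQ, hne, g, rfl, rfl⟩

namespace Duo

variable {Q Q' : Subgroup G} {z z' : G} (h : Duo Q Q' z z')
include h

theorem mem_V {w : G} : w ∈ closure ({z, z'} : Set G) ↔ w = 1 ∨ w = z ∨ w = z' ∨ w = z * z' := by
  constructor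
  · intro hw
    refine closure_induction (fun x hx => ?_) (Or.inl rfl) ?_ ?_ hw
    · rcases hx with rfl | rfl <;> tauto
    · have e1 : z * (z * z') = z' := by rw [← mul_assoc, h.left.sq, one_mul]
      have e2 : z * z' * z = z' := by rw [h.comm_zz, mul_assoc, h.left.sq, mul_one]
      have e3 : z' * (z * z') = z := by rw [h.comm_zz, ← mul_assoc, h.right.sq, one_mul]
      have e4 : z * z' * z' = z := by rw [mul_assoc, h.right.sq, mul_one]
      have e5 : z * z' * (z * z') = 1 := by rw [← mul_assoc, e2, h.right.sq]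
      rintro _ _ - - (rfl | rfl | rfl | rfl) (rfl | rfl | rfl | rfl) <;>
        simp only [one_mul, mul_one, h.left.sq, h.right.sq, e1, e2, e3, e4, e5, ← h.comm_zz] <;> simp
    · rintro _ - (rfl | rfl | rfl | rfl)
      · exact Or.inl inv_one
      · exact Or.inr (Or.inl (inv_eq_of_mul_eq_one_right h.left.sq))
      · exact Or.inr (Or.inr (Or.inl (inv_eq_of_mul_eq_one_right h.right.sq)))
      · refine Or.inr (Or.inr (Or.inr (inv_eq_of_mul_eq_one_right ?_)))
        rw [mul_assoc, ← mul_assoc z', ← h.comm_zz, mul_assoc z, h.right.sq, mul_one, h.left.sq]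
  · rintro (rfl | rfl | rfl | rfl)
    · exact one_mem _
    · exact subset_closure (by simp)
    · exact subset_closure (by simp)
    · exact mul_mem (subset_closure (by simp)) (subset_closure (by simp))

theorem centralizer_V : centralizer ((closure ({z, z'} : Set G) : Subgroup G) : Set G) = centralizer ({z, z'} : Set G) :=
  centralizer_closure _

theorem core_isPGroup : IsPGroup 2 (core Q Q' z z') := by
  refine (h.right.two.to_le inf_le_left).to_sup_of_normal_right' (h.left.two.to_le inf_le_left) ?_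
  rintro b ⟨hb, hbz⟩
  replace hbz := mem_centralizer_singleton_iff.1 hbz
  have key : ∀ c : G, c ∈ centralizer ({z} : Set G) → c ∈ centralizer ({z'} : Set G) → ∀ a, a ∈ Q ⊓ centralizer ({z'} : Set G) →
      c * a * c⁻¹ ∈ Q ⊓ centralizer ({z'} : Set G) := fun c hc hc' a ha =>
    Subgroup.mem_inf.2 ⟨h.left.norm c (mem_centralizer_singleton_iff.1 hc) a ha.1,
      mul_mem (mul_mem hc' (Subgroup.mem_inf.1 ha).2) (inv_mem hc')⟩
  have h1 : b ∈ centralizer ({z} : Set G) := mem_centralizer_singleton_iff.2 hbz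
  have h2 : b ∈ centralizer ({z'} : Set G) := mem_centralizer_singleton_iff.2 (h.right.cz b hb)
  refine mem_normalizer_iff.2 fun a => ⟨key b h1 h2 a, fun ha => ?_⟩
  have := key b⁻¹ (inv_mem h1) (inv_mem h2) _ ha
  rwa [inv_inv, show b⁻¹ * (b * a * b⁻¹) * b = a by group] at this

/-- The normaliser of the four group normalises `Q ⊔ Q'`. -/
theorem normalizer_V [Finite G] :
    (∀ n ∈ normalizer ((closure ({z, z'} : Set G) : Subgroup G) : Set G), ∀ x ∈ Q ⊔ Q', n * x * n⁻¹ ∈ Q ⊔ Q') ∧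
    normalizer ((closure ({z, z'} : Set G) : Subgroup G) : Set G) =
      (Q ⊔ Q') ⊔ centralizer ((closure ({z, z'} : Set G) : Subgroup G) : Set G) := by
  obtain ⟨φ, hsurj, -, -, hp⟩ := h.structure_join
  set V := closure ({z, z'} : Set G) with hV
  have hp' := hp _ rfl
  have hXN : ∀ x ∈ Q ⊔ Q', x ∈ normalizer (V : Set G) := by
    have key : ∀ x ∈ Q ⊔ Q', ∀ v ∈ V, x * v * x⁻¹ ∈ V := by
      intro x hx v hv
      rcases h.mem_V.1 hv with rfl | e | e | e
      · simp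
      all_goals
        refine h.mem_V.2 (Or.inr ?_)
        subst e
        first
          | (have e1 := hp' ⟨x, hx⟩ 0; simp only [Matrix.cons_val_zero] at e1; rw [e1]; generalize φ _ _ = j; fin_cases j <;> simp)
          | (have e1 := hp' ⟨x, hx⟩ 1; simp only [Matrix.cons_val_one, Matrix.cons_val_zero] at e1; rw [e1]; generalize φ _ _ = j; fin_cases j <;> simp)
          | (have e1 := hp' ⟨x, hx⟩ 2; simp only [Matrix.cons_val] at e1; rw [e1]; generalize φ _ _ = j; fin_cases j <;> simp)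
    intro x hx
    refine mem_normalizer_iff.2 fun v => ⟨key x hx v, fun hv => ?_⟩
    have := key x⁻¹ (inv_mem hx) _ hv
    rwa [inv_inv, show x⁻¹ * (x * v * x⁻¹) * x = v by group] at this
  have hdec : ∀ n ∈ normalizer (V : Set G), ∃ x ∈ Q ⊔ Q', x⁻¹ * n ∈ centralizer (V : Set G) := by
    intro n hn
    have m1 : n * z * n⁻¹ ∈ V := (mem_normalizer_iff.1 hn z).1 (h.mem_V.2 (by tauto))
    have m2 : n * z' * n⁻¹ ∈ V := (mem_normalizer_iff.1 hn z').1 (h.mem_V.2 (by tauto))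
    have e1 : n * z * n⁻¹ ≠ 1 := fun e => h.left.ne (by simpa using e)
    have e2 : n * z' * n⁻¹ ≠ 1 := fun e => h.right.ne (by simpa using e)
    have e3 : n * z * n⁻¹ ≠ n * z' * n⁻¹ := fun e => h.ne (mul_left_cancel (mul_right_cancel e)).symm
    obtain ⟨i, hi⟩ : ∃ i : Fin 3, n * z * n⁻¹ = ![z, z', z * z'] i := by
      rcases h.mem_V.1 m1 with e | e | e | e
      exacts [absurd e e1, ⟨0, e⟩, ⟨1, e⟩, ⟨2, e⟩]
    obtain ⟨j, hj⟩ : ∃ j : Fin 3, n * z' * n⁻¹ = ![z, z', z * z'] j := by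
      rcases h.mem_V.1 m2 with e | e | e | e
      exacts [absurd e e2, ⟨0, e⟩, ⟨1, e⟩, ⟨2, e⟩]
    have hij : i ≠ j := fun e => e3 (by rw [hi, hj, e])
    obtain ⟨σ, hσ⟩ : ∃ σ : Equiv.Perm (Fin 3), σ 0 = i ∧ σ 1 = j :=
      (by decide : ∀ i j : Fin 3, i ≠ j → ∃ σ : Equiv.Perm (Fin 3), σ 0 = i ∧ σ 1 = j) i j hij
    obtain ⟨x, hx⟩ := hsurj σ
    have k1 := hp' x 0
    have k2 := hp' x 1
    rw [hx, hσ.1, ← hi] at k1
    rw [hx, hσ.2, ← hj] at k2
    replace k1 : (x : G) * z * (x : G)⁻¹ = n * z * n⁻¹ := k1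
    replace k2 : (x : G) * z' * (x : G)⁻¹ = n * z' * n⁻¹ := k2
    refine ⟨x, x.2, ?_⟩
    rw [h.centralizer_V]
    refine mem_centralizer_iff.2 ?_
    rintro w (rfl | rfl)
    · calc w * ((x : G)⁻¹ * n) = (x : G)⁻¹ * ((x : G) * w * (x : G)⁻¹) * n := by group
        _ = _ := by rw [k1]; group
    · calc w * ((x : G)⁻¹ * n) = (x : G)⁻¹ * ((x : G) * w * (x : G)⁻¹) * n := by group
        _ = _ := by rw [k2]; group
  have hC : ∀ c ∈ centralizer (V : Set G), ∀ x ∈ Q ⊔ Q', c * x * c⁻¹ ∈ Q ⊔ Q' := by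
    intro c hc x hx
    have hcz := mem_centralizer_iff.1 hc z (h.mem_V.2 (by tauto))
    have hcz' := mem_centralizer_iff.1 hc z' (h.mem_V.2 (by tauto))
    rw [sup_eq_closure] at hx
    refine closure_induction (fun u hu => ?_) (by simp) (fun a b _ _ ha hb => ?_) (fun a _ ha => ?_) hx
    · rcases hu with hu | hu
      exacts [mem_sup_left (h.left.norm c hcz.symm u hu), mem_sup_right (h.right.norm c hcz'.symm u hu)]
    · rw [show c * (a * b) * c⁻¹ = (c * a * c⁻¹) * (c * b * c⁻¹) by group]; exact mul_mem ha hb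
    · rw [show c * a⁻¹ * c⁻¹ = (c * a * c⁻¹)⁻¹ by group]; exact inv_mem ha
  refine ⟨fun n hn x hx => ?_, le_antisymm (fun n hn => ?_) (sup_le hXN ?_)⟩
  · obtain ⟨y, hy, hc⟩ := hdec n hn
    have := mul_mem (mul_mem hy (hC _ hc x hx)) (inv_mem hy)
    rwa [show y * (y⁻¹ * n * x * (y⁻¹ * n)⁻¹) * y⁻¹ = n * x * n⁻¹ by group] at this
  · obtain ⟨y, hy, hc⟩ := hdec n hn
    have := mul_mem (mem_sup_left hy : y ∈ (Q ⊔ Q') ⊔ centralizer (V : Set G)) (mem_sup_right hc)
    rwa [mul_inv_cancel_left] at this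
  · exact centralizer_le_normalizer _

/-- Commutators and squares in `R` lie in the intersection. -/
theorem core_mod {r s : G} (hr : r ∈ core Q Q' z z') (hs : s ∈ core Q Q' z z') :
    r * s * r⁻¹ * s⁻¹ ∈ Q ⊓ Q' ∧ r * r ∈ Q ⊓ Q' := by
  obtain ⟨a, ha, haz, b, hb, hbz, rfl⟩ := h.core_decomp hr
  obtain ⟨c, hc, hcz, d, hd, hdz, rfl⟩ := h.core_decomp hs
  set R := core Q Q' z z' with hR
  set E := Q ⊓ Q' with hE
  have hzE : z ∈ E := ⟨h.left.mem, h.mem⟩
  have hzE' : z' ∈ E := ⟨h.mem', h.right.mem⟩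
  -- work modulo `E` inside `R`
  have hER : E ≤ R := fun e he => h.mem_left he.1 (h.right.cz e he.2)
  have hEn : ∀ x ∈ R, ∀ e ∈ E, x * e * x⁻¹ ∈ E := fun x hx e he =>
    ⟨h.left.norm x (h.core_comm hx).1 e he.1, h.right.norm x (h.core_comm hx).2 e he.2⟩
  haveI : (E.subgroupOf R).Normal := ⟨fun e he x => mem_subgroupOf.2 (hEn x x.2 _ (mem_subgroupOf.1 he))⟩
  let m := QuotientGroup.mk' (E.subgroupOf R)
  have m1 : ∀ u : R, (u : G) ∈ E → m u = 1 := fun u hu => (QuotientGroup.eq_one_iff u).2 (mem_subgroupOf.2 hu)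
  let A : R := ⟨a, h.mem_left ha haz⟩
  let B : R := ⟨b, h.mem_right hb hbz⟩
  let C : R := ⟨c, h.mem_left hc hcz⟩
  let D : R := ⟨d, h.mem_right hd hdz⟩
  have cm : ∀ u v : R, (u : G) * v * (u : G)⁻¹ * (v : G)⁻¹ ∈ E → m u * m v = m v * m u := fun u v huv =>
    commutatorElement_eq_one_iff_mul_comm.1 (by rw [← map_commutatorElement]; exact m1 _ huv)
  have inQ : ∀ u ∈ Q, ∀ v ∈ Q, u * v * u⁻¹ * v⁻¹ ∈ E := fun u hu v hv => by
    rcases h.left.comm u hu v hv with e | e <;> rw [e]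
    exacts [one_mem _, hzE]
  have inQ' : ∀ u ∈ Q', ∀ v ∈ Q', u * v * u⁻¹ * v⁻¹ ∈ E := fun u hu v hv => by
    rcases h.right.comm u hu v hv with e | e <;> rw [e]
    exacts [one_mem _, hzE']
  have inQQ : ∀ u ∈ Q, u * z' = z' * u → ∀ v ∈ Q', v * z = z * v → u * v * u⁻¹ * v⁻¹ ∈ E := fun u hu huz v hv hvz => by
    refine Subgroup.mem_inf.2 ⟨?_, mul_mem (h.right.norm u huz v hv) (inv_mem hv)⟩
    rw [mul_assoc u, mul_assoc u]
    exact mul_mem hu (h.left.norm v hvz _ (inv_mem hu))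
  have AB := cm A B (inQQ a ha haz b hb hbz)
  have AC := cm A C (inQ a ha c hc)
  have AD := cm A D (inQQ a ha haz d hd hdz)
  have CB := cm C B (inQQ c hc hcz b hb hbz)
  have BD := cm B D (inQ' b hb d hd)
  constructor
  · have e : m ⁅A * B, C * D⁆ = 1 := by
      rw [map_commutatorElement, map_mul, map_mul, commutatorElement_eq_one_iff_mul_comm]
      exact ((Commute.mul_left (Commute.mul_right AC AD)
        (Commute.mul_right (CB.symm : m B * m C = m C * m B) BD)))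
    exact mem_subgroupOf.1 ((QuotientGroup.eq_one_iff _).1 e)
  · have e : m ((A * B) * (A * B)) = 1 := by
      have sA : m A * m A = 1 := by
        rw [← map_mul]; refine m1 _ ?_
        show a * a ∈ E
        rcases h.left.sqQ a ha with e | e <;> rw [e]
        exacts [one_mem _, hzE]
      have sB : m B * m B = 1 := by
        rw [← map_mul]; refine m1 _ ?_
        show b * b ∈ E
        rcases h.right.sqQ b hb with e | e <;> rw [e]
        exacts [one_mem _, hzE']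
      rw [map_mul, map_mul, show m A * m B * (m A * m B) = m A * (m B * m A) * m B by group, ← AB, ← mul_assoc, sA, one_mul, sB]
    exact mem_subgroupOf.1 ((QuotientGroup.eq_one_iff _).1 e)

/-- `[E, R] ≤ V`. -/
theorem comm_inter {r e : G} (hr : r ∈ core Q Q' z z') (he : e ∈ Q ⊓ Q') :
    r * e * r⁻¹ * e⁻¹ = 1 ∨ r * e * r⁻¹ * e⁻¹ = z ∨ r * e * r⁻¹ * e⁻¹ = z' ∨ r * e * r⁻¹ * e⁻¹ = z * z' := by
  obtain ⟨a, ha, haz, b, hb, hbz, rfl⟩ := h.core_decomp hr
  have e1 : a * b * e * (a * b)⁻¹ * e⁻¹ = a * (b * e * b⁻¹ * e⁻¹) * a⁻¹ * (a * e * a⁻¹ * e⁻¹) := by group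
  rw [e1]
  rcases h.right.comm b hb e he.2 with k | k <;> rcases h.left.comm a ha e he.1 with k' | k' <;> rw [k, k']
  · left; group
  · right; left; group
  · right; right; left; rw [haz]; group
  · right; right; right; rw [haz, mul_inv_cancel_right, h.comm_zz]

end Duo

end CfsgLib.Spor.LargeQ
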