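import Cfsg.Agent.Lib.Spor.LargeExtraConjCentre
import Cfsg.Agent.Lib.Coprime.Component

/-!
# Simplicity from an extraspecial generalized Fitting subgroup of an involution centralizer
-/

set_option autoImplicit false
set_option linter.style.haveILetI false

open Subgroup
open scoped commutatorElement

namespace CfsgLib.Spor.LargeQ

variable {G : Type*} [Group G] [Finite G]

/-- The basic consequences of `F*(C_G(z)) = Q` extraspecial. -/
structure Core (Q : Subgroup G) (z : G) : Prop where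
  ord : orderOf z = 2
  ext : Cfsg.IsExtraspecial 2 Q
  le : Q ≤ centralizer ({z} : Set G)
  mem : z ∈ Q
  center_iff : ∀ x, x ∈ (center Q).map Q.subtype ↔ x = 1 ∨ x = z
  cent : centralizer (Q : Set G) = (center Q).map Q.subtype
  norm : ∀ c, c * z = z * c → ∀ q ∈ Q, c * q * c⁻¹ ∈ Q

theorem core_of_fitting (z : G) (hz : orderOf z = 2) (Q : Subgroup G)
    (hF : (Cfsg.generalizedFittingSubgroup ↥(centralizer ({z} : Set G))).map
      (centralizer ({z} : Set G)).subtype = Q)
    (hQ : Cfsg.IsExtraspecial 2 Q) : Core Q z := by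
  haveI : Fact (Nat.Prime 2) := ⟨Nat.prime_two⟩
  set C := centralizer ({z} : Set G) with hC
  set F := Cfsg.generalizedFittingSubgroup ↥C
  haveI hFn : F.Normal := CfsgLib.Coprime.generalizedFitting_normal
  have hQC : Q ≤ C := hF ▸ map_subtype_le _
  have hzC : z ∈ C := mem_centralizer_singleton_iff.2 rfl
  have hle : ∀ c : G, (∀ q ∈ Q, q * c = c * q) → c ∈ C → c ∈ Q := by
    intro c hc hcC
    rw [← hF]
    refine ⟨⟨c, hcC⟩, CfsgLib.Coprime.centralizer_generalizedFitting_le ?_, rfl⟩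
    exact mem_centralizer_iff.2 fun x hx => Subtype.ext (hc (x : G) (hF ▸ mem_map_of_mem _ hx))
  have hzQ : z ∈ Q := hle z (fun q hq => mem_centralizer_singleton_iff.1 (hQC hq)) hzC
  have hzz : z ∈ (center Q).map Q.subtype :=
    ⟨⟨z, hzQ⟩, mem_center_iff.2 fun q => Subtype.ext (mem_centralizer_singleton_iff.1 (hQC q.2)), rfl⟩
  have hcard : Nat.card ((center Q).map Q.subtype) = 2 := by
    rw [card_map_of_injective Q.subtype_injective, hQ.2]
  have hzp : zpowers z = (center Q).map Q.subtype :=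
    eq_of_le_of_card_ge (zpowers_le.2 hzz) (by rw [hcard, Nat.card_zpowers, hz])
  have hiff : ∀ x, x ∈ (center Q).map Q.subtype ↔ x = 1 ∨ x = z := by
    intro x
    rw [← hzp]
    refine ⟨fun hx => ?_, ?_⟩
    · classical
      rw [mem_zpowers_iff_mem_range_orderOf, hz, show Finset.range 2 = {0, 1} from rfl] at hx
      simpa [eq_comm] using hx
    · rintro (rfl | rfl)
      exacts [one_mem _, mem_zpowers _]
  refine ⟨hz, hQ, hQC, hzQ, hiff, le_antisymm (fun c hc => ?_) ?_, fun c hc q hq => ?_⟩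
  · have hc' : ∀ q ∈ Q, q * c = c * q := mem_centralizer_iff.1 hc
    have hcQ := hle c hc' (mem_centralizer_singleton_iff.2 (hc' z hzQ).symm)
    exact ⟨⟨c, hcQ⟩, mem_center_iff.2 fun q => Subtype.ext (hc' q q.2), rfl⟩
  · rintro _ ⟨x, hx, rfl⟩
    exact mem_centralizer_iff.2 fun q hq => congrArg Subtype.val (mem_center_iff.1 hx ⟨q, hq⟩)
  · rw [← hF] at hq ⊢
    obtain ⟨q', hq', rfl⟩ := hq
    exact ⟨⟨c, mem_centralizer_singleton_iff.2 hc⟩ * q' * ⟨c, mem_centralizer_singleton_iff.2 hc⟩⁻¹,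
      hFn.conj_mem q' hq' _, rfl⟩

variable {Q : Subgroup G} {z : G}

theorem Core.normalizer_le (h : Core Q z) :
    centralizer (((center Q).map Q.subtype : Subgroup G) : Set G) ≤ normalizer (Q : Set G) := by
  intro c hc
  have hcz : c * z = z * c := (mem_centralizer_iff.1 hc z ((h.center_iff z).2 (Or.inr rfl))).symm
  refine mem_normalizer_iff.2 fun q => ⟨fun hq => h.norm c hcz q hq, fun hq => ?_⟩
  have := h.norm c⁻¹ (Commute.inv_left (show Commute c z from hcz)) _ hq
  simpa [mul_assoc] using this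

theorem Core.large_of_witness (h : Core Q z) {b : G} (hbQ : b ∈ Q) (hb : orderOf b = 2) (hbz : b ≠ z)
    (hzb : ∃ hz' : z ∈ centralizer ({b} : Set G),
      (⟨z, hz'⟩ : ↥(centralizer ({b} : Set G))) ∈ Cfsg.pCore 2 ↥(centralizer ({b} : Set G))) :
    Cfsg.IsLargeExtraspecial Q := by
  refine large_of_involution Q h.ext h.cent h.normalizer_le b hbQ ?_ hb ?_
  · rw [h.center_iff]
    rintro (e | e)
    · rw [e, orderOf_one] at hb; omega
    · exact hbz e
  · intro x hx
    rcases (h.center_iff x).1 hx with rfl | rfl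
    · exact one_mem _
    · obtain ⟨hz', hm⟩ := hzb
      exact ⟨_, hm, rfl⟩

/-- If the involution `z` is not weakly closed in `Q`, then `Q` is large. -/
theorem Core.large_of_conj (h : Core Q z) (hbig : 32 ≤ Nat.card Q) (g : G) (hne : g * z * g⁻¹ ≠ z)
    (hgQ : g * z * g⁻¹ ∈ Q) : Cfsg.IsLargeExtraspecial Q := by
  haveI : Fact (Nat.Prime 2) := ⟨Nat.prime_two⟩
  have hord : orderOf (g * z * g⁻¹) = 2 := by
    rw [show g * z * g⁻¹ = MulAut.conj g z from rfl, MulEquiv.orderOf_eq, h.ord]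
  obtain ⟨q, hq, hqz⟩ := centre_mem_conj Q z h.ext h.center_iff h.ord h.cent h.norm hbig g hne hgQ
  have hqz' : g * q * g⁻¹ = z := hqz
  set C' := centralizer ({g * z * g⁻¹} : Set G) with hC'
  have hzC : z ∈ C' := mem_centralizer_singleton_iff.2 (mem_centralizer_singleton_iff.1 (h.le hgQ)).symm
  refine h.large_of_witness hgQ hord hne ⟨hzC, ?_⟩
  have hQg : Q.map (MulAut.conj g).toMonoidHom ≤ C' := by
    rintro _ ⟨x, hx, rfl⟩
    rw [hC', mem_centralizer_singleton_iff]
    show g * x * g⁻¹ * (g * z * g⁻¹) = g * z * g⁻¹ * (g * x * g⁻¹)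
    calc g * x * g⁻¹ * (g * z * g⁻¹) = g * (x * z) * g⁻¹ := by group
      _ = g * (z * x) * g⁻¹ := by rw [mem_centralizer_singleton_iff.1 (h.le hx)]
      _ = _ := by group
  haveI : ((Q.map (MulAut.conj g).toMonoidHom).subgroupOf C').Normal := by
    refine ⟨fun x hx c => mem_subgroupOf.2 ?_⟩
    obtain ⟨y, hy, hyx⟩ := mem_subgroupOf.1 hx
    have hc := mem_centralizer_singleton_iff.1 c.2
    have hyx' : g * y * g⁻¹ = (x : G) := hyx
    refine ⟨(g⁻¹ * c * g) * y * (g⁻¹ * c * g)⁻¹, h.norm _ ?_ y hy, ?_⟩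
    · calc g⁻¹ * c * g * z = g⁻¹ * (c * (g * z * g⁻¹)) * g := by group
        _ = g⁻¹ * (g * z * g⁻¹ * c) * g := by rw [hc]
        _ = _ := by group
    · show g * (g⁻¹ * c * g * y * (g⁻¹ * c * g)⁻¹) * g⁻¹ = (c : G) * (x : G) * (c : G)⁻¹
      rw [← hyx']; group
  exact CfsgLib.Coprime.le_pCore (N := (Q.map (MulAut.conj g).toMonoidHom).subgroupOf C')
    ((h.ext.1.1.map _).of_equiv (subgroupOfEquivOfLe hQg).symm)
    (mem_subgroupOf.2 ⟨q, hq, hqz⟩)

/-- A nontrivial normal subgroup contains `z`. -/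
theorem Core.mem_normal (h : Core Q z) (hlarge : Cfsg.IsLargeExtraspecial Q) (N : Subgroup G) [hN : N.Normal]
    (hne : N ≠ ⊥) : z ∈ N := by
  haveI : Fact (Nat.Prime 2) := ⟨Nat.prime_two⟩
  by_contra hzN
  have hfix : ∀ x ∈ N, x * z = z * x → x = 1 := by
    intro x hx hxz
    have hc : ∀ q ∈ Q, q * x = x * q := by
      intro q hq
      have h1 : x * q * x⁻¹ * q⁻¹ ∈ Q := mul_mem (h.norm x hxz q hq) (inv_mem hq)
      have h2 : x * q * x⁻¹ * q⁻¹ ∈ N := by
        rw [mul_assoc x, mul_assoc x]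
        exact mul_mem hx (hN.conj_mem _ (inv_mem hx) q)
      by_contra hcon
      have hd : x * q * x⁻¹ * q⁻¹ ≠ 1 := fun e =>
        hcon (mul_inv_eq_iff_eq_mul.1 (mul_inv_eq_one.1 e)).symm
      -- a nontrivial element of `N ∩ Q` yields `z ∈ N`
      set d := x * q * x⁻¹ * q⁻¹
      by_cases hdz : d ∈ (center Q).map Q.subtype
      · rcases (h.center_iff d).1 hdz with e | e
        exacts [hd e, hzN (e ▸ h2)]
      · have : ∃ r ∈ Q, r * d * r⁻¹ * d⁻¹ ≠ 1 := by
          by_contra hall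
          push Not at hall
          refine hdz ⟨⟨d, h1⟩, mem_center_iff.2 fun r => Subtype.ext ?_, rfl⟩
          exact mul_inv_eq_iff_eq_mul.1 (mul_inv_eq_one.1 (hall r r.2))
        obtain ⟨r, hr, hrd⟩ := this
        have h3 : r * d * r⁻¹ * d⁻¹ ∈ (center Q).map Q.subtype :=
          ⟨⁅(⟨r, hr⟩ : Q), ⟨d, h1⟩⁆, (CfsgLib.PGroup.smallCenter_of_extraspecial h.ext).1.comm_mem _ _, rfl⟩
        rcases (h.center_iff _).1 h3 with e | e
        · exact hrd e
        · exact hzN (e ▸ mul_mem (hN.conj_mem d h2 r) (inv_mem h2))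
    have hxZ : x ∈ centralizer (Q : Set G) := mem_centralizer_iff.2 hc
    rw [h.cent, h.center_iff] at hxZ
    exact hxZ.resolve_right fun e => hzN (e ▸ hx)
  have hzz : z * z = 1 := by rw [← pow_two, ← h.ord, pow_orderOf_eq_one]
  have hodd : Odd (Nat.card N) := by
    rw [← Nat.not_even_iff_odd]
    intro heven
    obtain ⟨x, hx⟩ := exists_prime_orderOf_dvd_card' (G := N) 2 (even_iff_two_dvd.1 heven)
    have h1 := inverts hzz (fun k hk => hN.conj_mem k hk z) (fun k hk e => hfix k hk e.symm) x x.2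
    have hxi : (x : G)⁻¹ = x := by
      refine inv_eq_of_mul_eq_one_right ?_
      rw [← pow_two, ← Subgroup.coe_pow, ← hx, pow_orderOf_eq_one, Subgroup.coe_one]
    rw [hxi] at h1
    have := hfix x x.2 (mul_inv_eq_iff_eq_mul.1 h1).symm
    rw [← Subgroup.orderOf_coe, this, orderOf_one] at hx
    omega
  exact hne (hlarge.2.2.2 N hodd fun q _ => mem_normalizer_iff.2 fun k =>
    ⟨fun hk => hN.conj_mem k hk q, fun hk => by simpa [mul_assoc] using hN.conj_mem _ hk q⁻¹⟩)

theorem Core.isSimple (h : Core Q z) (hlarge : Cfsg.IsLargeExtraspecial Q)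
    (hgen : ∀ N : Subgroup G, N.Normal → z ∈ N → centralizer ({z} : Set G) ≤ N) : IsSimpleGroup G := by
  haveI : Fact (Nat.Prime 2) := ⟨Nat.prime_two⟩
  have hz1 : z ≠ 1 := fun e => by have := h.ord; rw [e, orderOf_one] at this; omega
  haveI : Nontrivial G := ⟨⟨z, 1, hz1⟩⟩
  refine ⟨fun N hN => or_iff_not_imp_left.2 fun hne => ?_⟩
  haveI := hN
  have hCN := hgen N hN (h.mem_normal hlarge N hne)
  obtain ⟨P, hP⟩ := h.ext.1.1.exists_le_sylow
  obtain ⟨t, htP, ht2, htc⟩ := exists_involution_center P fun e => by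
    have := hP h.mem
    rw [e, mem_bot] at this
    exact hz1 this
  have huniq : ∀ v : G, orderOf v = 2 → (∀ x ∈ (P : Subgroup G), x * v = v * x) → v = z := by
    intro v hv hvc
    have : v ∈ centralizer (Q : Set G) := mem_centralizer_iff.2 fun q hq => hvc q (hP hq)
    rw [h.cent, h.center_iff] at this
    exact this.resolve_left fun e => by rw [e, orderOf_one] at hv; omega
  have htz := huniq t ht2 htc
  subst htz
  have hPN : (P : Subgroup G) ≤ N := fun x hx =>
    hCN (mem_centralizer_singleton_iff.2 (htc x hx))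
  have hnorm : normalizer ((P : Subgroup G) : Set G) ≤ N := by
    intro g hg
    refine hCN (mem_centralizer_singleton_iff.2 ?_)
    have e : g * t * g⁻¹ = t := by
      refine huniq _ (by rw [show g * t * g⁻¹ = MulAut.conj g t from rfl, MulEquiv.orderOf_eq, ht2])
        fun x hx => ?_
      have hy : g⁻¹ * x * g ∈ (P : Subgroup G) := (mem_normalizer_iff''.1 hg x).1 hx
      calc x * (g * t * g⁻¹) = g * ((g⁻¹ * x * g) * t) * g⁻¹ := by group
        _ = g * (t * (g⁻¹ * x * g)) * g⁻¹ := by rw [htc _ hy]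
        _ = _ := by group
    exact mul_inv_eq_iff_eq_mul.1 e
  have htop := Sylow.normalizer_sup_eq_top' P hPN
  rw [eq_top_iff, ← htop]
  exact sup_le hnorm le_rfl

end CfsgLib.Spor.LargeQ
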