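import Cfsg.Agent.Lib.Coprime.LayerProjection
import Cfsg.Agent.Lib.Coprime.Solvable
import Cfsg.Agent.Lib.Invol.CyclicCentralizer
import Cfsg.Agent.Lib.PGroup.FrattiniLe
import Cfsg.Agent.Lib.Spor.LargeExtraBasic
import Cfsg.Agent.Lib.PGroup.ExtraspecialClassify
import Cfsg.Agent.Lib.PGroup.Basic
import Cfsg.Prelude.Def_MonsterType

/-!
# Groups with a large extraspecial 2-subgroup
-/

set_option autoImplicit false
set_option linter.style.haveILetI false

open Subgroup
open scoped commutatorElement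
open CfsgLib.Coprime

namespace CfsgLib.Spor.LargeQ

variable {G : Type*} [Group G] [Finite G]

/-- What a large extraspecial subgroup supplies. -/
structure LargeData (Q : Subgroup G) (z : G) : Prop where
  ord : orderOf z = 2
  two : IsPGroup 2 Q
  mem : z ∈ Q
  comm : ∀ a ∈ Q, ∀ b ∈ Q, a * b * a⁻¹ * b⁻¹ = 1 ∨ a * b * a⁻¹ * b⁻¹ = z
  sq : ∀ q ∈ Q, q * q = 1 ∨ q * q = z
  cent : ∀ c : G, (∀ q ∈ Q, q * c = c * q) → c = 1 ∨ c = z
  cz : ∀ q ∈ Q, q * z = z * q
  norm : ∀ c : G, c * z = z * c → ∀ q ∈ Q, c * q * c⁻¹ ∈ Q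
  odd : ∀ K : Subgroup G, Odd (Nat.card K) → Q ≤ normalizer (K : Set G) → K = ⊥

theorem LargeData.of_large {Q : Subgroup G} (hQ : Cfsg.IsLargeExtraspecial Q) {z : G}
    (hz : (center ↥Q).map Q.subtype = zpowers z) : LargeData Q z := by
  haveI : Fact (Nat.Prime 2) := ⟨Nat.prime_two⟩
  obtain ⟨hE, hC, hN, hK⟩ := hQ
  obtain ⟨z₀, hz0, hiff⟩ := exists_central_involution hE
  have hzz : z = z₀ := by
    rcases (hiff z).1 (hz ▸ mem_zpowers z) with e | e
    · exfalso
      have h2 := (hiff z₀).2 (Or.inr rfl)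
      rw [hz, e, zpowers_one_eq_bot, mem_bot] at h2
      rw [h2, orderOf_one] at hz0; omega
    · exact e
  subst hzz
  have hzQ : z ∈ Q := map_subtype_le _ ((hiff z).2 (Or.inr rfl))
  have hS := (CfsgLib.PGroup.smallCenter_of_extraspecial (p := 2) hE).1
  have hcz : ∀ q ∈ Q, q * z = z * q := fun q hq => by
    obtain ⟨w, hw, e⟩ := (hiff z).2 (Or.inr rfl)
    rw [← e]; exact congrArg Subtype.val (mem_center_iff.1 hw ⟨q, hq⟩)
  refine ⟨hz0, hE.1.1, hzQ, fun a ha b hb => (hiff _).1 ⟨⁅(⟨a, ha⟩ : Q), ⟨b, hb⟩⁆, hS.comm_mem _ _, rfl⟩,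
    fun q hq => (hiff _).1 ⟨(⟨q, hq⟩ : Q) ^ 2, hS.pow_mem _, by simp [pow_two]⟩,
    fun c hc => (hiff c).1 (hC ▸ mem_centralizer_iff.2 hc), hcz, fun c hc q hq => ?_, hK⟩
  refine (mem_normalizer_iff.1 (hN (mem_centralizer_iff.2 fun x hx => ?_)) q).1 hq
  rcases (hiff x).1 hx with rfl | rfl
  · simp
  · exact hc.symm

variable {Q : Subgroup G} {z : G} (h : LargeData Q z)
include h

theorem LargeData.z_ne : z ≠ 1 := fun e => by have := h.ord; rw [e, orderOf_one] at this; omega

theorem LargeData.normalizes (K : Subgroup G) (hn : ∀ q ∈ Q, ∀ k ∈ K, q * k * q⁻¹ ∈ K) :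
    Q ≤ normalizer (K : Set G) := fun q hq => mem_normalizer_iff.2 fun k =>
  ⟨fun hk => hn q hq k hk, fun hk => by simpa [mul_assoc] using hn q⁻¹ (inv_mem hq) _ hk⟩

theorem LargeData.pPrimeCore_bot : Cfsg.pPrimeCore 2 G = ⊥ := by
  haveI : Fact (Nat.Prime 2) := ⟨Nat.prime_two⟩
  haveI : (Cfsg.pPrimeCore 2 G).Normal := Subgroup.sSup_normal _ (fun _ h => h.1)
  refine h.odd _ ?_ (h.normalizes _ fun q _ k hk =>
    (inferInstance : (Cfsg.pPrimeCore 2 G).Normal).conj_mem k hk q)
  exact Nat.coprime_two_right.1 (pPrimeCore_coprime Nat.prime_two)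

/-- A nontrivial `Q`-invariant subgroup of even order contains `z`. -/
theorem LargeData.mem_of_invariant (N : Subgroup G) (hne : N ≠ ⊥)
    (hn : ∀ q ∈ Q, ∀ k ∈ N, q * k * q⁻¹ ∈ N) : z ∈ N := by
  haveI : Fact (Nat.Prime 2) := ⟨Nat.prime_two⟩
  have heven : Even (Nat.card N) := by
    rw [← Nat.not_odd_iff_even]
    exact fun ho => hne (h.odd N ho (h.normalizes N hn))
  -- `Q` fixes a nontrivial element of a Sylow subgroup of `N`
  set J := N ⊔ Q with hJ
  haveI : (N.subgroupOf J).Normal := (normal_subgroupOf_iff_le_normalizer le_sup_left).2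
    (sup_le le_normalizer (h.normalizes N hn))
  obtain ⟨P, hP⟩ := (h.two.comap_subtype (K := J)).exists_le_sylow
  have hPN : ((P : Subgroup J) ⊓ N.subgroupOf J) ≠ ⊥ := by
    intro e
    refine P.not_dvd_index (dvd_trans ?_ (CfsgLib.PGroup.relIndex_dvd_index_normal_right _ (N.subgroupOf J)))
    rw [← inf_relIndex_right, e, relIndex_bot_left,
      Nat.card_congr (subgroupOfEquivOfLe (le_sup_left : N ≤ J)).toEquiv]
    exact even_iff_two_dvd.1 heven
  haveI : Nontrivial ↥((P : Subgroup J) ⊓ N.subgroupOf J) := (Subgroup.nontrivial_iff_ne_bot _).2 hPN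
  haveI : (((P : Subgroup J) ⊓ N.subgroupOf J).subgroupOf (P : Subgroup J)).Normal :=
    ⟨fun x hx g => mem_subgroupOf.2 ⟨(g * x * g⁻¹).2,
      (inferInstance : (N.subgroupOf J).Normal).conj_mem _ (mem_subgroupOf.1 hx).2 _⟩⟩
  obtain ⟨c, hcN, hc1, hcP⟩ : ∃ c : J, c ∈ N.subgroupOf J ∧ c ≠ 1 ∧ ∀ p ∈ (P : Subgroup J), p * c = c * p := by
    set N' := ((P : Subgroup J) ⊓ N.subgroupOf J).subgroupOf (P : Subgroup J)
    haveI : Nontrivial ↥N' := (subgroupOfEquivOfLe (inf_le_left :
      (P : Subgroup J) ⊓ N.subgroupOf J ≤ (P : Subgroup J))).toEquiv.nontrivial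
    obtain ⟨w, hw⟩ : ∃ w : ↥(P : Subgroup J), w ∈ N' ⊓ center ↥(P : Subgroup J) ∧ w ≠ 1 := by
      haveI : Group.IsNilpotent ↥(P : Subgroup J) := P.isPGroup'.isNilpotent
      have h1 := nilpotent_inf_center_ne_bot N' ((Subgroup.nontrivial_iff_ne_bot _).1 inferInstance)
      by_contra hcon
      push Not at hcon
      exact h1 ((eq_bot_iff_forall _).2 hcon)
    exact ⟨w, (mem_subgroupOf.1 hw.1.1).2, fun e => hw.2 (Subtype.ext e),
      fun p hp => congrArg Subtype.val (mem_center_iff.1 hw.1.2 ⟨p, hp⟩)⟩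
  rcases h.cent (c : G) (fun q hq => congrArg Subtype.val
      (hcP ⟨q, mem_sup_right hq⟩ (hP (mem_comap.2 hq)))) with e | e
  · exact absurd (Subtype.ext e) hc1
  · exact e ▸ mem_subgroupOf.1 hcN

/-- The case of a nontrivial 2-core. -/
theorem LargeData.two_core_case (M : Subgroup G) (hM : M = normalClosure ({z} : Set G))
    (hO : Cfsg.pCore 2 G ≠ ⊥) :
    IsMulCommutative ↥M ∧ Cfsg.generalizedFittingSubgroup G = Cfsg.pCore 2 G := by
  haveI : Fact (Nat.Prime 2) := ⟨Nat.prime_two⟩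
  set R := Cfsg.pCore 2 G
  haveI hRn : R.Normal := pCore_normal' 2
  have hR2 : IsPGroup 2 R := pCore_isPGroup 2
  set ZR := (center ↥R).map R.subtype with hZR
  haveI hZn : ZR.Normal := map_subtype_normal_of_characteristic R (center ↥R)
  have hne : ZR ≠ ⊥ := by
    haveI : Nontrivial ↥R := (Subgroup.nontrivial_iff_ne_bot _).2 hO
    intro e
    haveI := hR2.center_nontrivial
    exact not_subsingleton ↥(center ↥R)
      ⟨fun a b => Subtype.ext (Subtype.ext (by
        have ha : ((a : ↥R) : G) ∈ ZR := ⟨a, a.2, rfl⟩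
        have hb : ((b : ↥R) : G) ∈ ZR := ⟨b, b.2, rfl⟩
        rw [e, mem_bot] at ha hb
        rw [ha, hb]))⟩
  have hzZ : z ∈ ZR := h.mem_of_invariant ZR hne fun q _ k hk => hZn.conj_mem k hk q
  refine ⟨?_, ?_⟩
  · have hMle : M ≤ ZR := by
      rw [hM]
      exact normalClosure_le_normal (Set.singleton_subset_iff.2 hzZ)
    refine ⟨⟨fun a b => Subtype.ext ?_⟩⟩
    obtain ⟨a', ha', ea⟩ := hMle a.2
    obtain ⟨b', -, eb⟩ := hMle b.2
    show (a : G) * b = b * a
    rw [← ea, ← eb]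
    exact (congrArg Subtype.val (mem_center_iff.1 ha' b')).symm
  · have hfit : Cfsg.fittingSubgroup G = R := fitting_eq_pCore_of_pPrimeCore_eq_bot h.pPrimeCore_bot
    have hlay : Cfsg.layer G = ⊥ := by
      haveI : Group.IsNilpotent R := hR2.isNilpotent
      have hER : ⁅Cfsg.layer G, R⁆ = ⊥ :=
        layer_commutator_solvable_eq_bot inferInstance (by rw [normalizer_eq_top]; exact le_top)
      have hzR : z ∈ R := map_subtype_le _ hzZ
      haveI : Group.IsNilpotent Q := h.two.isNilpotent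
      have hEQ : ⁅Cfsg.layer G, Q⁆ = ⊥ := by
        refine layer_commutator_solvable_eq_bot inferInstance fun e he => ?_
        have hez : e * z = z * e := commutator_eq_bot_iff_forall.1 hER e he z hzR
        refine mem_normalizer_iff.2 fun q => ⟨fun hq => h.norm e hez q hq, fun hq => ?_⟩
        simpa [mul_assoc] using h.norm e⁻¹ (Commute.inv_left (show Commute e z from hez)) _ hq
      refine le_antisymm (sSup_le fun K hK => ?_) bot_le
      exfalso
      refine not_le_of_isComponent_of_isSolvable hK (inferInstance : Group.IsSolvable Q) fun k hk => ?_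
      rcases h.cent k fun q hq => (commutator_eq_bot_iff_forall.1 hEQ k (component_le_layer hK hk) q hq).symm
        with e | e
      · rw [e]; exact one_mem _
      · rw [e]; exact h.mem
    rw [Cfsg.generalizedFittingSubgroup, hlay, bot_sup_eq, hfit]

open LayerProj

/-- The case of a trivial 2-core. -/
theorem LargeData.layer_case (M : Subgroup G) (hM : M = normalClosure ({z} : Set G))
    (hO : Cfsg.pCore 2 G = ⊥) :
    (M = Cfsg.generalizedFittingSubgroup G ∧ IsSimpleGroup ↥M ∧ ¬ IsMulCommutative ↥M) ∨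
    (M = Cfsg.generalizedFittingSubgroup G ∧ ∃ (L : Subgroup G) (u : G), u ∈ Q ∧ IsSimpleGroup ↥L ∧
      ¬ IsMulCommutative ↥L ∧ L ⊓ (L).map (MulAut.conj u).toMonoidHom = ⊥ ∧
      (∀ x ∈ L, ∀ y ∈ (L).map (MulAut.conj u).toMonoidHom, x * y = y * x) ∧
      L ⊔ (L).map (MulAut.conj u).toMonoidHom = M ∧ ∃ z₁ ∈ L, z = z₁ * (u * z₁ * u⁻¹) ∧
      (∃ R : Sylow 2 ↥L, (R : Subgroup ↥L) = (centralizer ({z₁} : Set G)).subgroupOf L ∧
        (frattini ↥(R : Subgroup ↥L)).map ((L.subtype).comp (R : Subgroup ↥L).subtype) ≤ zpowers z₁) ∧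
      Q ≠ (Cfsg.pCore 2 ↥(centralizer ({z} : Set G))).map (centralizer ({z} : Set G)).subtype) := by
  haveI : Fact (Nat.Prime 2) := ⟨Nat.prime_two⟩
  have hF : Cfsg.fittingSubgroup G = ⊥ := by
    rw [fitting_eq_pCore_of_pPrimeCore_eq_bot h.pPrimeCore_bot, hO]
  set E := Cfsg.layer G with hE
  haveI hEn : E.Normal := layer_normal
  have hgen : Cfsg.generalizedFittingSubgroup G = E := by
    rw [Cfsg.generalizedFittingSubgroup, hF, sup_bot_eq]
  have hE1 : E ≠ ⊥ := fun e => by
    have h1 := centralizer_generalizedFitting_le (G := G)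
    rw [hgen, e, coe_bot] at h1
    have h2 : z ∈ (⊥ : Subgroup G) := h1 (mem_centralizer_iff.2 fun x hx => by
      rw [Set.mem_singleton_iff.1 hx]; simp)
    exact h.z_ne (mem_bot.1 h2)
  have hzE : z ∈ E := h.mem_of_invariant E hE1 fun q _ k hk => hEn.conj_mem k hk q
  let cj : G → Subgroup G → Subgroup G := fun q K => K.map (MulAut.conj q).toMonoidHom
  have hcj : ∀ q K, Cfsg.IsComponent K → Cfsg.IsComponent (cj q K) := fun q K hK => isComponent_map_equiv _ hK
  have hcjmul : ∀ a b K, cj (a * b) K = cj a (cj b K) := fun a b K => by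
    simp only [cj, map_map]
    congr 1
    ext x
    simp [mul_assoc]
  have hcjone : ∀ K, cj 1 K = K := fun K => by
    simp only [cj, map_one]
    exact Subgroup.map_id K
  have hcjinj : ∀ q K K', cj q K = cj q K' → K = K' := fun q K K' e =>
    Subgroup.map_injective (MulAut.conj q).injective e
  -- a component
  obtain ⟨L, hL⟩ : ∃ L : Subgroup G, Cfsg.IsComponent L := by
    by_contra hcon
    push Not at hcon
    exact hE1 (le_antisymm (sSup_le fun K hK => absurd hK (hcon K)) bot_le)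
  have hLne : L ≠ ⊥ := fun e => not_isSolvable_of_isComponent hL (by rw [e]; infer_instance)
  -- transitivity
  set O := sSup {K : Subgroup G | ∃ q ∈ Q, K = cj q L} with hOdef
  have hzO : z ∈ O := by
    refine h.mem_of_invariant O ?_ fun q hq k hk => ?_
    · intro e
      have : L ≤ O := le_sSup ⟨1, one_mem _, (hcjone L).symm⟩
      exact hLne (le_bot_iff.1 (this.trans e.le))
    · have hle : O ≤ O.comap (MulAut.conj q).toMonoidHom := by
        refine sSup_le ?_
        rintro _ ⟨r, hr, rfl⟩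
        rw [← map_le_iff_le_comap]
        exact le_sSup ⟨q * r, mul_mem hq hr, (hcjmul q r L).symm⟩
      exact hle hk
  have htrans : ∀ K, Cfsg.IsComponent K → ∃ q ∈ Q, K = cj q L := by
    intro K hK
    by_contra hKO
    push Not at hKO
    set O' := sSup {K' : Subgroup G | ∃ q ∈ Q, K' = cj q K}
    have hzO' : z ∈ O' := by
      refine h.mem_of_invariant O' ?_ fun q hq k hk => ?_
      · intro e
        have : K ≤ O' := le_sSup ⟨1, one_mem _, (hcjone K).symm⟩
        exact not_isSolvable_of_isComponent hK (by rw [le_bot_iff.1 (this.trans e.le)]; infer_instance)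
      · have hle : O' ≤ O'.comap (MulAut.conj q).toMonoidHom := by
          refine sSup_le ?_
          rintro _ ⟨r, hr, rfl⟩
          rw [← map_le_iff_le_comap]
          exact le_sSup ⟨q * r, mul_mem hq hr, (hcjmul q r K).symm⟩
        exact hle hk
    refine h.z_ne (eq_one_of_forall hF hzE fun J hJ a ha => ?_)
    by_cases hJO : ∃ q ∈ Q, J = cj q L
    · obtain ⟨q, hq, rfl⟩ := hJO
      have hle : O' ≤ others (cj q L) := by
        refine sSup_le ?_
        rintro _ ⟨r, hr, rfl⟩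
        refine le_sSup ⟨hcj r K hK, fun e => hKO (r⁻¹ * q) (mul_mem (inv_mem hr) hq) ?_⟩
        apply hcjinj r
        rw [← hcjmul, mul_inv_cancel_left, e]
      exact others_comm (hcj q L hL) a ha z (hle hzO')
    · have hle : O ≤ others J := by
        refine sSup_le ?_
        rintro _ ⟨r, hr, rfl⟩
        exact le_sSup ⟨hcj r L hL, fun e => hJO ⟨r, hr, e.symm⟩⟩
      exact others_comm hJ a ha z (hle hzO)
  -- the normal closure of `z`
  have hME : M = E := by
    refine le_antisymm (hM ▸ normalClosure_le_normal (Set.singleton_subset_iff.2 hzE)) ?_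
    haveI : M.Normal := hM ▸ normalClosure_normal
    have hzM : z ∈ M := hM ▸ subset_normalClosure (Set.mem_singleton _)
    by_cases hLM : L ≤ M
    · refine sSup_le fun K hK => ?_
      obtain ⟨q, -, rfl⟩ := htrans K hK
      rintro _ ⟨x, hx, rfl⟩
      exact (inferInstance : M.Normal).conj_mem x (hLM hx) q
    · exfalso
      have h1 := (component_le_or_commutator_eq_bot hL (inferInstance : M.Normal).isSubnormal).resolve_left hLM
      refine h.z_ne (eq_one_of_forall hF hzE fun K hK a ha => ?_)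
      obtain ⟨q, hq, rfl⟩ := htrans K hK
      obtain ⟨x, hx, rfl⟩ := ha
      have h2 := commutator_eq_bot_iff_forall.1 h1 x hx z hzM
      show q * x * q⁻¹ * z = z * (q * x * q⁻¹)
      calc q * x * q⁻¹ * z = q * x * (q⁻¹ * z) := by group
        _ = q * x * (z * q⁻¹) := by rw [h.cz q⁻¹ (inv_mem hq)]
        _ = q * (x * z) * q⁻¹ := by group
        _ = q * z * x * q⁻¹ := by rw [h2]; group
        _ = z * q * x * q⁻¹ := by rw [h.cz q hq]
        _ = _ := by group
  by_cases hone : ∀ K, Cfsg.IsComponent K → K = L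
  · left
    have hEL : E = L := le_antisymm (sSup_le fun K hK => (hone K hK).le) (component_le_layer hL)
    refine ⟨hME.trans hgen.symm, ?_, ?_⟩
    · rw [hME, hEL]; exact isSimple hF hL
    · rw [hME, hEL]; exact not_comm hF hL
  right
  push Not at hone
  obtain ⟨L', hL', hL'ne⟩ := hone
  obtain ⟨u, hu, rfl⟩ := htrans L' hL'
  -- projections of `z`
  have hπconj : ∀ q ∈ Q, ∀ K, Cfsg.IsComponent K → proj (cj q K) z = q * proj K z * q⁻¹ := by
    intro q hq K hK
    have h1 := proj_conj hF hK hzE q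
    rwa [h.cz q hq, mul_inv_cancel_right] at h1
  set z₁ := proj L z with hz₁
  have hz₁L : z₁ ∈ L := proj_mem L z
  have hz₁ne : z₁ ≠ 1 := by
    intro e
    refine h.z_ne (eq_one_of_proj hF hzE fun K hK => ?_)
    obtain ⟨q, hq, rfl⟩ := htrans K hK
    rw [hπconj q hq L hL, ← hz₁, e]; group
  have hzz : z * z = 1 := by rw [← pow_two, ← h.ord, pow_orderOf_eq_one]
  have hz₁z₁ : z₁ * z₁ = 1 := by rw [hz₁, ← proj_mul hF hL hzE hzE, hzz, proj_one hF hL]
  -- centralizers in components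
  set C₁ := L ⊓ centralizer ({z₁} : Set G) with hC₁
  have hC₁z : ∀ x ∈ C₁, x * z = z * x := by
    intro x hx
    have h1 := others_comm hL x hx.1 _ (proj_spec hL hzE)
    have h2 := mem_centralizer_singleton_iff.1 hx.2
    calc x * z = (x * z₁) * (z₁⁻¹ * z) := by group
      _ = z₁ * (x * (z₁⁻¹ * z)) := by rw [h2]; group
      _ = z₁ * ((z₁⁻¹ * z) * x) := by rw [h1]
      _ = _ := by group
  -- the twisted elements of `Q`
  have htwist : ∀ x ∈ C₁, ∀ q ∈ Q, x * (q * x⁻¹ * q⁻¹) ∈ Q := fun x hx q hq => by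
    rw [show x * (q * x⁻¹ * q⁻¹) = x * q * x⁻¹ * q⁻¹ by group]
    exact mul_mem (h.norm x (hC₁z x hx) q hq) (inv_mem hq)
  have hmemc : ∀ {x : G} (q : G), x ∈ L → q * x * q⁻¹ ∈ cj q L := fun q hx => ⟨_, hx, rfl⟩
  have htwE : ∀ x ∈ C₁, ∀ q : G, x * (q * x⁻¹ * q⁻¹) ∈ E := fun x hx q =>
    mul_mem (component_le_layer hL hx.1) (hEn.conj_mem _ (component_le_layer hL (inv_mem hx.1)) q)
  have hπtw : ∀ x ∈ C₁, ∀ q : G, cj q L ≠ L → proj L (x * (q * x⁻¹ * q⁻¹)) = x := fun x hx q hq => by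
    rw [proj_mul hF hL (component_le_layer hL hx.1) (hEn.conj_mem _ (component_le_layer hL (inv_mem hx.1)) q),
      proj_self hF hL hx.1, proj_other hF hL (hcj q L hL) hq (hmemc q (inv_mem hx.1)), mul_one]
  have hC₁2 : IsPGroup 2 C₁ := by
    intro x
    obtain ⟨k, hk⟩ := h.two ⟨_, htwist x x.2 u hu⟩
    refine ⟨k, Subtype.ext ?_⟩
    show ((x : G)) ^ 2 ^ k = 1
    have hk' : ((x : G) * (u * (x : G)⁻¹ * u⁻¹)) ^ 2 ^ k = 1 := congrArg Subtype.val hk
    have hcom : Commute (x : G) (u * (x : G)⁻¹ * u⁻¹) :=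
      commutator_eq_bot_iff_forall.1 (components_commute hL (hcj u L hL) hL'ne.symm) _ x.2.1 _
        (hmemc u (inv_mem x.2.1))
    rw [hcom.mul_pow] at hk'
    have h1 : (u * (x : G)⁻¹ * u⁻¹) ^ 2 ^ k ∈ cj u L := pow_mem (hmemc u (inv_mem x.2.1)) _
    have h2 : (x : G) ^ 2 ^ k ∈ others L := by
      rw [eq_inv_of_mul_eq_one_left hk']
      exact inv_mem (le_sSup (show cj u L ∈ {K : Subgroup G | Cfsg.IsComponent K ∧ K ≠ L} from
        ⟨hcj u L hL, hL'ne⟩) h1)
    exact inf_others hF hL (pow_mem x.2.1 _) h2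
  -- `C₁` is a Sylow subgroup of `L`
  have hz₁C : z₁ ∈ C₁ := ⟨hz₁L, mem_centralizer_singleton_iff.2 rfl⟩
  obtain ⟨P, hP⟩ := h.two.exists_le_sylow
  obtain ⟨t, -, ht2, htc⟩ := exists_involution_center P fun e => by
    have := hP h.mem
    rw [e, mem_bot] at this
    exact h.z_ne this
  have htz : t = z := (h.cent t fun q hq => htc q (hP hq)).resolve_left fun e => by
    rw [e, orderOf_one] at ht2; omega
  rw [htz] at htc
  set RL : Subgroup ↥L := (centralizer ({z₁} : Set G)).subgroupOf L with hRL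
  have hRLiso : ↥RL ≃* ↥C₁ :=
    { toFun := fun x => ⟨((x : ↥L) : G), ⟨(x : ↥L).2, mem_subgroupOf.1 x.2⟩⟩
      invFun := fun x => ⟨⟨(x : G), x.2.1⟩, mem_subgroupOf.2 x.2.2⟩
      left_inv := fun x => rfl
      right_inv := fun x => rfl
      map_mul' := fun x y => rfl }
  have hRL2 : IsPGroup 2 RL := hC₁2.of_equiv hRLiso.symm
  have hsyl : ∃ R : Sylow 2 ↥L, (R : Subgroup ↥L) = RL := by
    let π : ↥E →* ↥L := MonoidHom.mk' (fun e => ⟨proj L (e : G), proj_mem L _⟩)
      fun a b => Subtype.ext (proj_mul hF hL a.2 b.2)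
    have hπs : Function.Surjective π := fun a =>
      ⟨⟨(a : G), component_le_layer hL a.2⟩, Subtype.ext (proj_self hF hL a.2)⟩
    set PE := (P : Subgroup G).subgroupOf E with hPE
    have hPE2 : IsPGroup 2 PE := P.isPGroup'.comap_subtype
    have hPEidx : ¬ 2 ∣ PE.index := fun hd =>
      P.not_dvd_index (hd.trans (CfsgLib.PGroup.relIndex_dvd_index_normal_right _ E))
    have hle : PE.map π ≤ RL := by
      rintro _ ⟨e, he, rfl⟩
      rw [hRL, mem_subgroupOf, mem_centralizer_singleton_iff]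
      show proj L (e : G) * z₁ = z₁ * proj L (e : G)
      rw [hz₁, ← proj_mul hF hL e.2 hzE, ← proj_mul hF hL hzE e.2, htc _ (mem_subgroupOf.1 he)]
    have hidx : ¬ 2 ∣ RL.index := fun hd =>
      hPEidx ((hd.trans (index_dvd_of_le hle)).trans (PE.index_map_dvd hπs))
    exact ⟨hRL2.toSylow hidx, hRL2.toSylow_coe hidx⟩
  have hLnc := not_comm hF hL
  haveI hLs := isSimple hF hL
  have hnot2 : ¬ ∀ x ∈ C₁, x = 1 ∨ x = z₁ := by
    intro hall
    obtain ⟨R, hR⟩ := hsyl
    have hRc : IsCyclic (R : Subgroup ↥L) := by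
      refine ⟨⟨⟨⟨z₁, hz₁L⟩, by rw [hR, hRL, mem_subgroupOf]; exact hz₁C.2⟩, fun x => ?_⟩⟩
      have hx : ((x : ↥L) : G) ∈ C₁ :=
        ⟨(x : ↥L).2, mem_subgroupOf.1 ((SetLike.ext_iff.1 hR (x : ↥L)).1 x.2)⟩
      rcases hall _ hx with e | e
      · exact ⟨0, Subtype.ext (Subtype.ext (by simp [e]))⟩
      · exact ⟨1, Subtype.ext (Subtype.ext (by simp [e]))⟩
    have heven : Even (Nat.card L) := by
      have h1 := orderOf_dvd_natCard (⟨z₁, hz₁L⟩ : ↥L)
      have h2 : orderOf (⟨z₁, hz₁L⟩ : ↥L) = 2 := orderOf_eq_prime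
        (Subtype.ext (by rw [pow_two]; exact hz₁z₁)) fun e => hz₁ne (congrArg Subtype.val e)
      rw [h2] at h1
      exact even_iff_two_dvd.2 h1
    obtain ⟨H, hH⟩ := CfsgLib.Invol.exists_index_two_of_cyclic heven R hRc
    haveI : H.Normal := normal_of_index_eq_two hH
    rcases hLs.eq_bot_or_eq_top_of_normal H inferInstance with e | e
    · rw [e, index_bot] at hH
      haveI : Fact (Nat.Prime 2) := ⟨Nat.prime_two⟩
      haveI := isCyclic_of_prime_card (α := ↥L) hH
      exact hLnc ⟨⟨fun a b => (IsCyclic.commGroup (α := ↥L)).mul_comm a b⟩⟩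
    · rw [e, index_top] at hH; omega
  have hperm : ∀ a ∈ Q, ∀ b ∈ Q, ∀ K, Cfsg.IsComponent K → cj (a * b) K = cj (b * a) K := by
    intro a ha b hb K hK
    have hzfix : cj z K = K := by
      have h1 := layer_le_normalizer_component hK hzE
      ext x
      constructor
      · rintro ⟨y, hy, rfl⟩
        exact (mem_normalizer_iff.1 h1 y).1 hy
      · intro hx
        exact ⟨z⁻¹ * x * z, (mem_normalizer_iff''.1 h1 x).1 hx, by show z * (z⁻¹ * x * z) * z⁻¹ = x; group⟩
    rcases h.comm a ha b hb with e | e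
    · rw [show a * b = b * a from mul_inv_eq_iff_eq_mul.1 (mul_inv_eq_one.1 e)]
    · have e' : a * b = z * (b * a) := by
        rw [← e]; group
      rw [e', hcjmul, ← hcjmul, ← h.cz _ (mul_mem hb ha), hcjmul, hzfix]
  -- only two components
  have htwo : ∀ K, Cfsg.IsComponent K → K = L ∨ K = cj u L := by
    intro K hK
    by_contra hcon
    push Not at hcon
    obtain ⟨v, hv, rfl⟩ := htrans K hK
    obtain ⟨hK1, hK2⟩ := hcon
    have h4 : cj (v * u) L ≠ L := by
      intro e
      have e2 : cj u (cj v L) = cj u (cj u L) := by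
        rcases h.sq u hu with s | s
        · rw [← hcjmul, hperm u hu v hv L hL, e, ← hcjmul, s, hcjone]
        · rw [← hcjmul, hperm u hu v hv L hL, e, ← hcjmul, s]
          exact (by
            have h1 := layer_le_normalizer_component hL hzE
            ext x
            constructor
            · intro hx
              exact ⟨z⁻¹ * x * z, (mem_normalizer_iff''.1 h1 x).1 hx, by show z * (z⁻¹ * x * z) * z⁻¹ = x; group⟩
            · rintro ⟨y, hy, rfl⟩
              exact (mem_normalizer_iff.1 h1 y).1 hy : L = cj z L)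
      exact hK2 (hcjinj u _ _ e2)
    have h5 : cj (v * u) L ≠ cj v L := fun e => hL'ne (hcjinj v _ _ (by rwa [← hcjmul]))
    refine hnot2 fun x hx => ?_
    set a := x * (u * x⁻¹ * u⁻¹) with ha
    have haQ : a ∈ Q := htwist x hx u hu
    have hb : v * a * v⁻¹ * a⁻¹ = 1 ∨ v * a * v⁻¹ * a⁻¹ = z := h.comm v hv a haQ
    have hvaE : v * a * v⁻¹ ∈ E := hEn.conj_mem _ (htwE x hx u) v
    have hπa : proj (cj v L) (v * a * v⁻¹ * a⁻¹) = v * x * v⁻¹ := by
      rw [proj_mul hF (hcj v L hL) hvaE (inv_mem (htwE x hx u)), proj_inv hF (hcj v L hL) (htwE x hx u),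
        proj_conj hF hL (htwE x hx u) v, hπtw x hx u hL'ne,
        proj_mul hF (hcj v L hL) (component_le_layer hL hx.1)
          (hEn.conj_mem _ (component_le_layer hL (inv_mem hx.1)) u),
        proj_other hF (hcj v L hL) hL hK1.symm hx.1,
        proj_other hF (hcj v L hL) (hcj u L hL) hK2.symm (hmemc u (inv_mem hx.1))]
      simp
    rcases hb with e | e
    · left
      rw [e, proj_one hF (hcj v L hL)] at hπa
      calc x = v⁻¹ * (v * x * v⁻¹) * v := by group
        _ = 1 := by rw [← hπa]; group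
    · right
      rw [e, hπconj v hv L hL, ← hz₁] at hπa
      calc x = v⁻¹ * (v * x * v⁻¹) * v := by group
        _ = z₁ := by rw [← hπa]; group
  have hsup : L ⊔ cj u L = E := le_antisymm (sup_le (component_le_layer hL) (component_le_layer hL'))
    (sSup_le fun K hK => by
      rcases htwo K hK with e | e
      · rw [e]; exact le_sup_left
      · rw [e]; exact le_sup_right)
  have hcomm : ∀ x ∈ L, ∀ y ∈ cj u L, x * y = y * x :=
    commutator_eq_bot_iff_forall.1 (components_commute hL hL' hL'ne.symm)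
  have hz12 : z = z₁ * (u * z₁ * u⁻¹) := by
    have h1 := proj_spec hL hzE
    have hle : others L ≤ cj u L := sSup_le fun K hK => (((htwo K hK.1).resolve_left hK.2)).le
    have h2 : proj (cj u L) z = z₁⁻¹ * z := proj_eq hF hL' hzE (hle h1) (by
      rw [show (z₁⁻¹ * z)⁻¹ * z = z⁻¹ * z₁ * z by group]
      have hc : z⁻¹ * z₁ * z = z₁ := by
        rw [mul_assoc, hC₁z z₁ hz₁C, inv_mul_cancel_left]
      rw [hc]
      exact le_sSup (show L ∈ {K : Subgroup G | Cfsg.IsComponent K ∧ K ≠ cj u L} from ⟨hL, hL'ne.symm⟩) hz₁L)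
    rw [← hz₁] at h1
    rw [hπconj u hu L hL, ← hz₁] at h2
    rw [h2, mul_inv_cancel_left]
  obtain ⟨R, hR⟩ := hsyl
  refine ⟨hME.trans hgen.symm, L, u, hu, hLs, hLnc, ?_, hcomm, hsup.trans hME.symm, z₁, hz₁L, hz12, ⟨R, hR, ?_⟩, ?_⟩
  · rw [eq_bot_iff]
    intro x hx
    exact mem_bot.2 (inf_others hF hL hx.1 (le_sSup (show cj u L ∈ {K : Subgroup G | Cfsg.IsComponent K ∧ K ≠ L}
      from ⟨hL', hL'ne⟩) hx.2))
  · -- the Frattini subgroup
    have hmem : ∀ r : ↥(R : Subgroup ↥L), ((r : ↥L) : G) ∈ C₁ := fun r =>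
      ⟨(r : ↥L).2, mem_subgroupOf.1 ((SetLike.ext_iff.1 hR (r : ↥L)).1 r.2)⟩
    have hone : ∀ w, (w = 1 ∨ w = z) → w ∈ E → proj L w = 1 ∨ proj L w = z₁ := by
      rintro w (rfl | rfl) _
      · exact Or.inl (proj_one hF hL)
      · exact Or.inr rfl
    have hin : ∀ w, (w = 1 ∨ w = z₁) → w ∈ zpowers z₁ := by
      rintro w (rfl | rfl)
      exacts [one_mem _, mem_zpowers _]
    set F := (zpowers z₁).comap ((L.subtype).comp (R : Subgroup ↥L).subtype)
    have hle : frattini ↥(R : Subgroup ↥L) ≤ F := by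
      refine CfsgLib.FrattiniLe.frattini_le_of_pow_of_commutator (p := 2) (fun r => ?_) ?_
      · refine hin _ ?_
        show ((r ^ 2 : ↥(R : Subgroup ↥L)) : ↥L).1 = 1 ∨ ((r ^ 2 : ↥(R : Subgroup ↥L)) : ↥L).1 = z₁
        have hx := hmem r
        have h1 := hone _ (h.sq _ (htwist _ hx u hu)) (mul_mem (htwE _ hx u) (htwE _ hx u))
        rw [proj_mul hF hL (htwE _ hx u) (htwE _ hx u), hπtw _ hx u hL'ne] at h1
        simpa [pow_two] using h1
      · rw [_root_.commutator_def, Subgroup.commutator_le]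
        intro a _ b _
        refine hin _ ?_
        have hx := hmem a
        have hy := hmem b
        set x := ((a : ↥L) : G)
        set y := ((b : ↥L) : G)
        have hA := htwE x hx u
        have hB := htwE y hy u
        have h1 := hone _ (h.comm _ (htwist x hx u hu) _ (htwist y hy u hu))
          (mul_mem (mul_mem (mul_mem hA hB) (inv_mem hA)) (inv_mem hB))
        rw [proj_mul hF hL (mul_mem (mul_mem hA hB) (inv_mem hA)) (inv_mem hB),
          proj_mul hF hL (mul_mem hA hB) (inv_mem hA), proj_mul hF hL hA hB, proj_inv hF hL hA,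
          proj_inv hF hL hB, hπtw x hx u hL'ne, hπtw y hy u hL'ne] at h1
        simpa [commutatorElement_def] using h1
    exact map_le_iff_le_comap.2 hle
  · intro hQeq
    refine hnot2 fun x hx => ?_
    set C := centralizer ({z} : Set G) with hC
    have hDC : E ⊓ C ≤ C := inf_le_right
    have hxQ : x ∈ Q := by
      have hxC : x ∈ C := mem_centralizer_singleton_iff.2 (hC₁z x hx)
      rw [hQeq]
      refine ⟨⟨x, hxC⟩, le_pCore (N := E.subgroupOf C) ?_ (mem_subgroupOf.2 (component_le_layer hL hx.1)), rfl⟩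
      -- `C_E(z)` is a 2-group
      intro e
      obtain ⟨e, he⟩ := e
      have heE : (e : G) ∈ E := mem_subgroupOf.1 he
      have hez : (e : G) * z = z * (e : G) := mem_centralizer_singleton_iff.1 e.2
      have key : ∀ q ∈ Q, ∃ k, (proj (cj q L) (e : G)) ^ 2 ^ k = 1 := by
        intro q hq
        set y := q⁻¹ * (e : G) * q with hy
        have hyE : y ∈ E := by simpa [hy] using hEn.conj_mem _ heE q⁻¹
        have hyz : y * z = z * y := by
          calc y * z = q⁻¹ * (e : G) * (q * z) := by rw [hy]; group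
            _ = q⁻¹ * ((e : G) * z) * q := by rw [h.cz q hq]; group
            _ = (q⁻¹ * z) * (e : G) * q := by rw [hez]; group
            _ = (z * q⁻¹) * (e : G) * q := by rw [h.cz q⁻¹ (inv_mem hq)]
            _ = _ := by rw [hy]; group
        have hyC : proj L y ∈ C₁ := ⟨proj_mem L y, mem_centralizer_singleton_iff.2 (by
          rw [hz₁, ← proj_mul hF hL hyE hzE, ← proj_mul hF hL hzE hyE, hyz])⟩
        obtain ⟨k, hk⟩ := hC₁2 ⟨_, hyC⟩
        refine ⟨k, ?_⟩
        have h1 := proj_conj hF hL hyE q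
        rw [show q * y * q⁻¹ = (e : G) by rw [hy]; group] at h1
        show proj (cj q L) (e : G) ^ 2 ^ k = 1
        rw [h1, conj_pow, show proj L y ^ 2 ^ k = 1 from congrArg Subtype.val hk]; group
      obtain ⟨k₁, hk₁⟩ := key 1 (one_mem _)
      obtain ⟨k₂, hk₂⟩ := key u hu
      rw [hcjone] at hk₁
      refine ⟨k₁ + k₂, Subtype.ext (Subtype.ext ?_)⟩
      show (e : G) ^ 2 ^ (k₁ + k₂) = 1
      refine eq_one_of_proj hF (pow_mem heE _) fun K hK => ?_
      let πK : ↥E →* G := MonoidHom.mk' (fun w => proj K (w : G)) fun a b => proj_mul hF hK a.2 b.2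
      have hp : proj K ((e : G) ^ 2 ^ (k₁ + k₂)) = proj K (e : G) ^ 2 ^ (k₁ + k₂) :=
        map_pow πK ⟨(e : G), heE⟩ _
      rw [hp]
      rcases htwo K hK with e' | e' <;> subst e'
      · rw [pow_add, pow_mul, hk₁, one_pow]
      · rw [add_comm, pow_add, pow_mul, hk₂, one_pow]
    have h1 := h.comm x hxQ u hu
    rw [show x * u * x⁻¹ * u⁻¹ = x * (u * x⁻¹ * u⁻¹) by group] at h1
    rcases h1 with e | e
    · left; rw [← hπtw x hx u hL'ne, e, proj_one hF hL]
    · right; rw [← hπtw x hx u hL'ne, e]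

end CfsgLib.Spor.LargeQ
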