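/-
Classes modulo twice an even lattice of rank 24 without roots: the counts of short vectors
fill all classes.
-/
import Mathlib

set_option autoImplicit false

open Matrix

namespace CfsgLib.Spor.LatticeClasses

/-- Reduction of the coordinates modulo 2. -/
def red (v : Fin 24 → ℤ) : Fin 24 → ZMod 2 := fun i => (v i : ZMod 2)

theorem red_eq_red {x y : Fin 24 → ℤ} : red x = red y ↔ ∀ i, (2 : ℤ) ∣ (x - y) i := by
  constructor
  · intro h i
    have h1 : (y i : ZMod 2) = (x i : ZMod 2) := (congrFun h i).symm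
    exact_mod_cast (ZMod.intCast_eq_intCast_iff_dvd_sub _ _ 2).1 h1
  · intro h
    funext i
    exact ((ZMod.intCast_eq_intCast_iff_dvd_sub _ _ 2).2 (by exact_mod_cast h i)).symm

theorem red_neg (x : Fin 24 → ℤ) : red (-x) = red x := by
  rw [red_eq_red]
  intro i
  simp only [Pi.sub_apply, Pi.neg_apply]
  omega

variable (B : Matrix (Fin 24) (Fin 24) ℤ)

/-- The quadratic form of the matrix. -/
def q (v : Fin 24 → ℤ) : ℤ := v ⬝ᵥ (B *ᵥ v)

theorem q_neg (v : Fin 24 → ℤ) : q B (-v) = q B v := by
  simp [q, Matrix.mulVec_neg]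

theorem q_zero : q B 0 = 0 := by simp [q]

variable {B}

/-- Two congruent vectors that are neither equal nor opposite. -/
theorem congr_bounds (hsymm : B.IsSymm) (hpos : ∀ x : Fin 24 → ℤ, x ≠ 0 → 0 < q B x)
    (heven : ∀ x : Fin 24 → ℤ, (2 : ℤ) ∣ q B x) (h2 : ∀ x : Fin 24 → ℤ, q B x ≠ 2)
    {x y : Fin 24 → ℤ} (hc : red x = red y) (h1 : y ≠ x) (hn : y ≠ -x) :
    16 ≤ q B x + q B y ∧ (q B x + q B y = 16 → x ⬝ᵥ (B *ᵥ y) = 0) := by
  rw [red_eq_red] at hc
  obtain ⟨z, hz⟩ : ∃ z : Fin 24 → ℤ, x - y = (2 : ℤ) • z :=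
    ⟨fun i => (x - y) i / 2, funext fun i => (Int.mul_ediv_cancel' (hc i)).symm⟩
  have hsym : y ⬝ᵥ (B *ᵥ x) = x ⬝ᵥ (B *ᵥ y) := by
    rw [Matrix.dotProduct_mulVec, dotProduct_comm, ← Matrix.mulVec_transpose, hsymm.eq]
  have hzero : ∀ v, v ≠ 0 → 4 ≤ q B v := fun v hv => by
    have := hpos v hv
    have := heven v
    have := h2 v
    omega
  have e1 : 4 * q B z = q B x + q B y - 2 * (x ⬝ᵥ (B *ᵥ y)) := by
    have : q B (x - y) = 4 * q B z := by
      rw [hz]
      simp only [q, Matrix.mulVec_smul, dotProduct_smul, smul_dotProduct, smul_eq_mul]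
      ring
    rw [← this]
    simp only [q, Matrix.mulVec_sub, dotProduct_sub, sub_dotProduct, hsym]
    ring
  have e2 : 4 * q B (x - z) = q B x + q B y + 2 * (x ⬝ᵥ (B *ᵥ y)) := by
    have hxy : x + y = (2 : ℤ) • (x - z) := by
      rw [smul_sub, ← hz, two_smul]
      abel
    have : q B (x + y) = 4 * q B (x - z) := by
      rw [hxy]
      simp only [q, Matrix.mulVec_smul, dotProduct_smul, smul_dotProduct, smul_eq_mul]
      ring
    rw [← this]
    simp only [q, Matrix.mulVec_add, dotProduct_add, add_dotProduct, hsym]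
    ring
  have hz0 : z ≠ 0 := by
    intro h0
    rw [h0, smul_zero, sub_eq_zero] at hz
    exact h1 hz.symm
  have hxz : x - z ≠ 0 := by
    intro h0
    rw [sub_eq_zero] at h0
    rw [← h0, two_smul] at hz
    refine hn (funext fun i => ?_)
    have := congrFun hz i
    simp only [Pi.sub_apply, Pi.add_apply] at this
    simp only [Pi.neg_apply]
    omega
  have := hzero z hz0
  have := hzero (x - z) hxz
  exact ⟨by omega, fun h => by omega⟩

/-- Pairwise orthogonal vectors of norm 8, up to sign, number at most 48. -/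
theorem card_le_of_orthogonal (F : Finset (Fin 24 → ℤ)) (h8 : ∀ y ∈ F, q B y = 8)
    (ho : ∀ y ∈ F, ∀ z ∈ F, z ≠ y → z ≠ -y → y ⬝ᵥ (B *ᵥ z) = 0) : F.card ≤ 48 := by
  classical
  have hne : ∀ y ∈ F, y ≠ 0 := fun y hy h => by
    have := h8 y hy
    rw [h, q_zero] at this
    omega
  have hneg : ∀ y ∈ F, -y ≠ y := fun y hy h => hne y hy (funext fun i => by
    have := congrFun h i
    simp only [Pi.neg_apply] at this
    simp only [Pi.zero_apply]
    omega)
  let r : (Fin 24 → ℤ) → (Fin 24 → ℤ) := fun y => if toLex (-y) < toLex y then y else -y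
  have hr : ∀ y ∈ F, ∀ z ∈ F, r y = r z → z = y ∨ z = -y := by
    intro y _ z _ h
    simp only [r] at h
    split_ifs at h with a b
    · exact Or.inl h.symm
    · exact Or.inr (by rw [h, neg_neg])
    · exact Or.inr h.symm
    · exact Or.inl (neg_injective h).symm
  have hli' : LinearIndependent ℤ (fun y : F.image r => (y : Fin 24 → ℤ)) := by
    rw [linearIndependent_iff']
    intro s g hg j hj
    have h := congrArg (fun v => (j : Fin 24 → ℤ) ⬝ᵥ (B *ᵥ v)) hg
    simp only [Matrix.mulVec_sum, dotProduct_sum, Matrix.mulVec_smul, dotProduct_smul,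
      Matrix.mulVec_zero, dotProduct_zero, smul_eq_mul] at h
    obtain ⟨a, ha, haj⟩ := Finset.mem_image.1 j.2
    have hra : r a = a ∨ r a = -a := by simp only [r]; split_ifs <;> simp
    rw [Finset.sum_eq_single_of_mem j hj] at h
    · have hj8 := h8 a ha
      rw [← haj] at h
      rcases hra with e | e <;> rw [e] at h <;>
        simp only [q, Matrix.mulVec_neg, dotProduct_neg, neg_dotProduct, neg_neg] at h hj8 <;>
        rw [hj8] at h <;> omega
    · intro i _ hij
      obtain ⟨b, hb, hbi⟩ := Finset.mem_image.1 i.2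
      have hrb : r b = b ∨ r b = -b := by simp only [r]; split_ifs <;> simp
      have hne' : r b ≠ r a := fun e => hij (Subtype.ext (by rw [← hbi, ← haj, e]))
      have hba : b ≠ a := fun e => hne' (by rw [e])
      have hbna : b ≠ -a := fun e => hne' (by
        rw [e]
        simp only [r, neg_neg]
        have := hneg a ha
        rcases lt_trichotomy (toLex (-a)) (toLex a) with hl | hl | hl
        · split_ifs <;> first | rfl | exact absurd hl (lt_asymm (by assumption)) | exact absurd hl (by assumption)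
        · exact absurd (toLex.injective hl) this
        · split_ifs <;> first | rfl | exact absurd hl (lt_asymm (by assumption)) | exact absurd hl (by assumption))
      rw [← hbi, ← haj]
      have := ho a ha b hb hba hbna
      rcases hra with e | e <;> rcases hrb with e' | e' <;> rw [e, e'] <;>
        simp [Matrix.mulVec_neg, this]
  have h24 : (F.image r).card ≤ 24 := by
    have := hli'.fintype_card_le_finrank
    rwa [Fintype.card_coe, Module.finrank_fin_fun] at this
  have := Finset.card_le_mul_card_image (f := r) F 2 (fun b hb => by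
    obtain ⟨a, ha, rfl⟩ := Finset.mem_image.1 hb
    refine (Finset.card_le_card (t := {a, -a}) fun z hz => ?_).trans Finset.card_le_two
    obtain ⟨hzF, hze⟩ := Finset.mem_filter.1 hz
    rcases hr a ha z hzF hze.symm with e | e <;> simp [e])
  omega



/-- Under the counts of the Leech lattice every class of norm 8 has exactly 48 members. -/
theorem class_card_eq (hsymm : B.IsSymm) (hpos : ∀ x : Fin 24 → ℤ, x ≠ 0 → 0 < q B x)
    (heven : ∀ x : Fin 24 → ℤ, (2 : ℤ) ∣ q B x) (h2 : ∀ x : Fin 24 → ℤ, q B x ≠ 2)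
    (h4 : {x | q B x = 4}.ncard = 196560) (h6 : {x | q B x = 6}.ncard = 16773120)
    (h8 : {x | q B x = 8}.ncard = 398034000) (x : Fin 24 → ℤ) (hx : q B x = 8) :
    {y | q B y = 8 ∧ red x = red y}.ncard = 48 := by
  classical
  have key : ∀ n : ℤ, n ≠ 0 → ∀ N : ℕ, N ≠ 0 → {x | q B x = n}.ncard = N →
      ∃ s : Finset (Fin 24 → ℤ), (∀ v, v ∈ s ↔ q B v = n) ∧ s.card = N := by
    intro n _ N hN hcard
    have hfin : {x | q B x = n}.Finite := Set.finite_of_ncard_ne_zero (by rw [hcard]; exact hN)
    exact ⟨hfin.toFinset, fun v => by simp, by rw [← hcard, Set.ncard_eq_toFinset_card _ hfin]⟩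
  obtain ⟨s4, m4, c4⟩ := key 4 (by norm_num) _ (by norm_num) h4
  obtain ⟨s6, m6, c6⟩ := key 6 (by norm_num) _ (by norm_num) h6
  obtain ⟨s8, m8, c8⟩ := key 8 (by norm_num) _ (by norm_num) h8
  -- the fibres of the short vectors are pairs
  have pairs : ∀ (s : Finset (Fin 24 → ℤ)) (n : ℤ), 0 < n → n < 8 → (∀ v, v ∈ s ↔ q B v = n) →
      s.card ≤ 2 * (s.image red).card := by
    intro s n hn hn8 hs
    refine Finset.card_le_mul_card_image s 2 fun b hb => ?_
    obtain ⟨a, ha, rfl⟩ := Finset.mem_image.1 hb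
    refine (Finset.card_le_card (t := {a, -a}) fun z hz => ?_).trans Finset.card_le_two
    obtain ⟨hzs, hze⟩ := Finset.mem_filter.1 hz
    rw [Finset.mem_insert, Finset.mem_singleton]
    by_contra hcon
    rw [not_or] at hcon
    have := (congr_bounds hsymm hpos heven h2 hze.symm hcon.1 hcon.2).1
    rw [(hs a).1 ha, (hs z).1 hzs] at this
    omega
  have p4 := pairs s4 4 (by norm_num) (by norm_num) m4
  have p6 := pairs s6 6 (by norm_num) (by norm_num) m6
  -- the fibres over the long vectors
  have fib : ∀ b ∈ s8.image red, (s8.filter fun v => red v = b).card ≤ 48 := by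
    intro b _
    refine card_le_of_orthogonal (B := B) _ (fun y hy => (m8 y).1 (Finset.mem_filter.1 hy).1) ?_
    intro y hy z hz hzy hzny
    obtain ⟨hy8, hyb⟩ := Finset.mem_filter.1 hy
    obtain ⟨hz8, hzb⟩ := Finset.mem_filter.1 hz
    have hb := (congr_bounds hsymm hpos heven h2 (hyb.trans hzb.symm) hzy hzny).2
    exact hb (by rw [(m8 y).1 hy8, (m8 z).1 hz8]; norm_num)
  -- the four images are disjoint
  have apart : ∀ (a b : ℤ) (u v : Fin 24 → ℤ), q B u = a → q B v = b → a ≠ b → a + b < 16 →
      red u ≠ red v := by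
    intro a b u v hu hv hab hlt he
    have h1 : v ≠ u := fun e => hab (by rw [← hu, ← hv, e])
    have h3 : v ≠ -u := fun e => hab (by rw [← hu, ← hv, e, q_neg])
    have := (congr_bounds hsymm hpos heven h2 he h1 h3).1
    omega
  have hq0 := q_zero B
  have d0 : Disjoint ({red 0} : Finset _) (s4.image red ∪ s6.image red ∪ s8.image red) := by
    rw [Finset.disjoint_singleton_left]
    simp only [Finset.mem_union, Finset.mem_image]
    rintro ((⟨v, hv, he⟩ | ⟨v, hv, he⟩) | ⟨v, hv, he⟩)
    · exact apart 4 0 v 0 ((m4 v).1 hv) hq0 (by norm_num) (by norm_num) he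
    · exact apart 6 0 v 0 ((m6 v).1 hv) hq0 (by norm_num) (by norm_num) he
    · exact apart 8 0 v 0 ((m8 v).1 hv) hq0 (by norm_num) (by norm_num) he
  have d8 : Disjoint (s4.image red ∪ s6.image red) (s8.image red) := by
    rw [Finset.disjoint_left]
    simp only [Finset.mem_union, Finset.mem_image]
    rintro b (⟨v, hv, rfl⟩ | ⟨v, hv, rfl⟩) ⟨w, hw, he⟩
    · exact apart 4 8 v w ((m4 v).1 hv) ((m8 w).1 hw) (by norm_num) (by norm_num) he.symm
    · exact apart 6 8 v w ((m6 v).1 hv) ((m8 w).1 hw) (by norm_num) (by norm_num) he.symm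
  have d46 : Disjoint (s4.image red) (s6.image red) := by
    rw [Finset.disjoint_left]
    simp only [Finset.mem_image]
    rintro b ⟨v, hv, rfl⟩ ⟨w, hw, he⟩
    exact apart 4 6 v w ((m4 v).1 hv) ((m6 w).1 hw) (by norm_num) (by norm_num) he.symm
  have htot := Finset.card_le_univ ({red 0} ∪ (s4.image red ∪ s6.image red ∪ s8.image red))
  rw [Finset.card_union_of_disjoint d0, Finset.card_union_of_disjoint d8,
    Finset.card_union_of_disjoint d46, Finset.card_singleton] at htot
  simp only [Fintype.card_fun, Fintype.card_fin, ZMod.card] at htot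
  norm_num at htot
  have himg : (s8.image red).card ≤ 8292375 := by omega
  have hsum := Finset.card_eq_sum_card_fiberwise (f := red) (s := s8) (t := s8.image red)
    (fun v hv => Finset.mem_image_of_mem red hv)
  have hx8 : x ∈ s8 := (m8 x).2 hx
  have hset : {y | q B y = 8 ∧ red x = red y} = ↑(s8.filter fun v => red v = red x) := by
    ext y
    simp only [Set.mem_ofPred_eq, Finset.coe_filter, m8, eq_comm]
  rw [hset, Set.ncard_coe_finset]
  refine le_antisymm (fib _ (Finset.mem_image_of_mem red hx8)) ?_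
  by_contra hlt
  rw [not_le] at hlt
  have h := Finset.sum_lt_sum (g := fun _ => 48) fib ⟨red x, Finset.mem_image_of_mem red hx8, hlt⟩
  rw [← hsum, Finset.sum_const, smul_eq_mul, c8] at h
  omega

end CfsgLib.Spor.LatticeClasses
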