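/-
Every element of prime order of M11 fixes one of the twelve points outside the dodecad of squares.
-/
import Cfsg.Agent.Lib.Spor.ElementClasses
import Cfsg.Agent.Lib.Spor.MeetCounts
import Cfsg.Agent.Lib.Spor.SylowTwoMathieu
import Cfsg.Prelude.Def_Spor_Mathieu

namespace CfsgLib.Spor

open Cfsg
open scoped Pointwise

theorem apply_mem_iff {g : Equiv.Perm GolayPt} {S : Finset GolayPt} (h : g • S = S) (p : GolayPt) :
    g p ∈ S ↔ p ∈ S := by
  conv_lhs => rw [← h]
  exact Finset.smul_mem_smul_finset_iff g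

theorem exists_fixed_of_not_dvd {g : Equiv.Perm GolayPt} (hp : (orderOf g).Prime) {S : Finset GolayPt}
    (hS : g • S = S) (hdvd : ¬ orderOf g ∣ S.card) : ∃ x ∈ S, g x = x := by
  haveI : Fact (orderOf g).Prime := ⟨hp⟩
  let σ : Equiv.Perm {x // x ∈ S} := g.subtypePerm (fun x => apply_mem_iff hS x)
  have hσ : σ ^ (orderOf g) ^ 1 = 1 := by
    rw [pow_one, Equiv.Perm.subtypePerm_pow]
    ext ⟨x, hx⟩
    simp [pow_orderOf_eq_one]
  obtain ⟨a, ha⟩ := Equiv.Perm.exists_fixed_point_of_prime (p := orderOf g) (n := 1)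
    (by rwa [Fintype.card_coe]) hσ
  exact ⟨a, a.2, congrArg Subtype.val ha⟩

theorem m11_elusive {g : Equiv.Perm GolayPt} (hg : g ∈ Spor.M11) (hp : (orderOf g).Prime) :
    ∃ x : GolayPt, x ∉ Spor.squareDodecad ∧ g x = x := by
  simp only [Spor.M11, Spor.M12, Subgroup.mem_inf] at hg
  obtain ⟨⟨hgM, hD⟩, h0⟩ := hg
  rw [MulAction.mem_stabilizer_iff] at hD h0
  have hd := squareDodecad_mem
  generalize Spor.squareDodecad = D at hD hd ⊢
  have hmem : ∀ p, g p ∈ D ↔ p ∈ D := apply_mem_iff hD
  haveI := hp
  by_contra hno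
  push Not at hno
  have hsub : fixSet g ⊆ D := fun x hx => by
    by_contra hxD
    exact hno x hxD (Finset.mem_filter.1 hx).2
  have hfix0 : (some 0 : GolayPt) ∈ fixSet g := Finset.mem_filter.2 ⟨Finset.mem_univ _, h0⟩
  have hcompl : g • Dᶜ = Dᶜ := by
    ext p
    rw [← Finset.inv_smul_mem_iff, Finset.mem_compl, Finset.mem_compl, Finset.inv_smul_mem_iff, hD]
  have h12 : orderOf g ∣ 12 := by
    by_contra h
    obtain ⟨x, hx, hgx⟩ := exists_fixed_of_not_dvd hp hcompl (by
      rw [Finset.card_compl, hd.2, show Fintype.card GolayPt = 24 by decide +kernel]; exact h)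
    exact hno x (Finset.mem_compl.1 hx) hgx
  have hle := Nat.le_of_dvd (by norm_num) h12
  obtain h2 | h3 : orderOf g = 2 ∨ orderOf g = 3 := by
    generalize orderOf g = n at hp h12 hle
    interval_cases n <;> simp_all (config := { decide := true })
  · rcases two_fix hgM h2 with h | h
    · have := card_octad_inter_dodecad hd h
      rw [Finset.inter_eq_left.2 hsub, h.2] at this
      omega
    · rw [h] at hfix0; exact Finset.notMem_empty _ hfix0
  · rcases three_fix hgM h3 with h6 | hz
    swap
    · rw [Finset.card_eq_zero] at hz; rw [hz] at hfix0; exact Finset.notMem_empty _ hfix0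
    obtain ⟨s, hsF, hs5⟩ := Finset.exists_subset_card_eq (s := fixSet g) (n := 5) (by omega)
    obtain ⟨o, ho, hso⟩ := exists_octad_superset hs5
    have hgo : g • o = o := octad_eq_of_five (smul_mem_octads hgM ho) ho (by
      refine hs5 ▸ Finset.card_le_card fun p hp => Finset.mem_inter.2 ⟨?_, hso hp⟩
      have hgp : g p = p := (Finset.mem_filter.1 (hsF hp)).2
      exact hgp ▸ Finset.smul_mem_smul_finset (a := g) (hso hp))
    -- the octad contains the six fixed points, so all eight of its points are fixed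
    have hbig : 6 ≤ (o ∩ D).card := by
      have h5 : 5 ≤ (o ∩ D).card := hs5 ▸ Finset.card_le_card fun p hp =>
        Finset.mem_inter.2 ⟨hso hp, hsub (hsF hp)⟩
      have := card_octad_inter_dodecad hd ho
      omega
    have hout : (o \ D).card = 2 := by
      have := card_octad_inter_dodecad hd ho
      have := Finset.card_sdiff_add_card_inter o D
      rw [ho.2] at this
      omega
    obtain ⟨x, hx, hgx⟩ := exists_fixed_of_not_dvd hp (S := o \ D)
      (by rw [Finset.smul_finset_sdiff, hgo, hD]) (by rw [hout, h3]; norm_num)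
    exact hno x (Finset.mem_sdiff.1 hx).2 hgx

end CfsgLib.Spor
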