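/-
Stabilizers of an outer point and of an outer pair in the group of degree 11: PSL(2,11) and Sym 5.
-/
import Cfsg.Agent.Lib.Spor.M11OuterData
import Cfsg.Agent.Lib.Spor.M11Transport
import Cfsg.Agent.Lib.Spor.SylowTwoCert
import Cfsg.Agent.Lib.Classical.ProjLine

set_option autoImplicit false

namespace CfsgLib.Spor.M11Outer

open Cfsg MulAction
open scoped Pointwise

local notation "M11" => Spor.M11

theorem isPerm_id : isPermCode idPacked = true := by decide +kernel

/-- Table access in segments. -/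
def get2 {α : Type} (T : List (List α)) (d : α) (i : ℕ) : α := (T.getD (i / 22) []).getD (i % 22) d

/-- The packed element at an index of a tree. -/
def code (T : List (List (ℕ × ℕ × ℕ))) (i : ℕ) : ℕ := (get2 T (0, 0, 0) i).1

/-- The codes of a tree. -/
def codes (T : List (List (ℕ × ℕ × ℕ))) (n : ℕ) : List ℕ := (List.range n).map (code T)

theorem length_codes (T : List (List (ℕ × ℕ × ℕ))) (n : ℕ) : (codes T n).length = n := by
  rw [codes, List.length_map, List.length_range]

/-- The test of one node: a generator times the parent. -/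
def nodeOk (gens : List ℕ) (T : List (List (ℕ × ℕ × ℕ))) (i : ℕ) : Bool :=
  let e := get2 T (0, 0, 0) i
  isPermCode e.1 && (permMulCode e.1 idPacked == e.1) &&
    (((i == 0) && (e.1 == idPacked)) || (decide (e.2.1 < i ∧ e.2.2 < gens.length) &&
      (permMulCode (gens.getD e.2.2 0) (code T e.2.1) == e.1)))

/-- The test of a tree. -/
def treeOk (gens : List ℕ) (T : List (List (ℕ × ℕ × ℕ))) (n : ℕ) : Bool :=
  gens.all isPermCode && (List.range n).all (nodeOk gens T)

theorem tree_mem {gens : List ℕ} {T : List (List (ℕ × ℕ × ℕ))} {n : ℕ} (h : treeOk gens T n = true)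
    {H : Subgroup (Equiv.Perm GolayPt)} (hg : ∀ g ∈ gens, permOf g ∈ H) : ∀ i < n,
    isPermCode (code T i) = true ∧ permOf (code T i) ∈ H ∧ permMulCode (code T i) idPacked = code T i := by
  simp only [treeOk, Bool.and_eq_true] at h
  intro i
  induction i using Nat.strong_induction_on with
  | _ i ih =>
    intro hi
    have h' := List.all_eq_true.1 h.2 i (List.mem_range.2 hi)
    simp only [nodeOk, Bool.and_eq_true, Bool.or_eq_true, beq_iff_eq, decide_eq_true_eq] at h'
    obtain ⟨⟨h1, h2⟩, h3⟩ := h'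
    refine ⟨h1, ?_, h2⟩
    rcases h3 with ⟨-, e⟩ | ⟨⟨hlt, hk⟩, e⟩
    · show permOf (get2 T (0, 0, 0) i).1 ∈ H
      rw [e, permOf_idPacked]; exact H.one_mem
    · obtain ⟨a, b, -⟩ := ih _ hlt (by omega)
      have hm : gens.getD (get2 T (0, 0, 0) i).2.2 0 ∈ gens := by
        rw [List.getD_eq_getElem _ _ hk]; exact List.getElem_mem _
      show permOf (get2 T (0, 0, 0) i).1 ∈ H
      rw [← permOf_permMulCode (List.all_eq_true.1 h.1 _ hm) a h1 e]
      exact H.mul_mem (hg _ hm) b

theorem tree_mem_codes {gens : List ℕ} {T : List (List (ℕ × ℕ × ℕ))} {n : ℕ} (h : treeOk gens T n = true)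
    {H : Subgroup (Equiv.Perm GolayPt)} (hg : ∀ g ∈ gens, permOf g ∈ H) : ∀ c ∈ codes T n,
    isPermCode c = true ∧ permOf c ∈ H ∧ permMulCode c idPacked = c := by
  intro c hc
  obtain ⟨i, hi, rfl⟩ := List.mem_map.1 hc
  exact tree_mem h hg i (List.mem_range.1 hi)

theorem norm_inj {a b : ℕ} (ha : isPermCode a = true) (hb : isPermCode b = true)
    (na : permMulCode a idPacked = a) (nb : permMulCode b idPacked = b) (h : permOf a = permOf b) : a = b := by
  rw [← na, ← nb, permMulCode_eq_iff ha isPerm_id hb isPerm_id, h]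

/-- The subgroup of the model fixing a set of points. -/
abbrev B (s : Finset GolayPt) : Subgroup (Equiv.Perm GolayPt) := M11 ⊓ stabilizer (Equiv.Perm GolayPt) s

/-- Certified list of a stabilizer, with movers onto every set of the same size outside the dodecad. -/
theorem listed {sm k : ℕ} {L M : List ℕ}
    (hsm : pts sm ⊆ Spor.squareDodecadᶜ) (hk : (pts sm).card = k)
    (hL : ∀ g ∈ L, isPermCode g = true ∧ permOf g ∈ B (pts sm) ∧ permMulCode g idPacked = g)
    (hnd : L.Nodup) (hMs : ∀ g ∈ M, isPermCode g = true ∧ permOf g ∈ M11)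
    (hT : (M.map fun g => permMask g sm).Nodup)
    (hTlt : (M.map fun g => permMask g sm).all (fun m => decide (m < 2 ^ 24)) = true)
    (hMk : M.length = Nat.choose 12 k) (hcard : M.length * L.length = 7920) :
    Nat.card (B (pts sm)) = L.length ∧ (∀ x ∈ B (pts sm), ∃ g ∈ L, permOf g = x) ∧
      ∀ t : Finset GolayPt, t ⊆ Spor.squareDodecadᶜ → t.card = k → ∃ h ∈ M11, h • t = pts sm := by
  classical
  have hLs := hL
  have hdod : Spor.squareDodecad.card = 12 := squareDodecad_mem.2
  have hfix : ∀ h ∈ M11, h • Spor.squareDodecadᶜ = Spor.squareDodecadᶜ := by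
    intro h hh
    ext p
    rw [← Finset.inv_smul_mem_iff, Finset.mem_compl, Finset.mem_compl, Finset.inv_smul_mem_iff,
      ((M11Transport.mem_M11_iff h).1 hh).2.1]
  set P := Finset.powersetCard k (Spor.squareDodecadᶜ) with hP
  have hPc : P.card = M.length := by
    rw [hP, Finset.card_powersetCard, Finset.card_compl, hdod, hMk]; rfl
  set O : Finset (Finset GolayPt) := ((M.map fun g => permMask g sm).map pts).toFinset with hO
  have hOP : O ⊆ P := by
    intro t ht
    simp only [hO, List.mem_toFinset, List.mem_map] at ht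
    obtain ⟨m, ⟨g, hg, rfl⟩, rfl⟩ := ht
    obtain ⟨a, b⟩ := hMs g hg
    rw [← smul_pts a, hP, Finset.mem_powersetCard, Finset.card_smul_finset, ← hfix _ b]
    exact ⟨Finset.smul_finset_subset_smul_finset hsm, hk⟩
  have hOc : O.card = M.length := by
    rw [hO, List.toFinset_card_of_nodup, List.length_map, List.length_map]
    refine hT.map_on fun a ha b hb e => ?_
    exact eq_of_pts_eq (of_decide_eq_true (List.all_eq_true.1 hTlt a ha))
      (of_decide_eq_true (List.all_eq_true.1 hTlt b hb)) e
  have hOeq : O = P := Finset.eq_of_subset_of_card_le hOP (by rw [hPc, hOc])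
  have hmove : ∀ t ∈ P, ∃ h ∈ M11, h • pts sm = t := by
    intro t ht
    rw [← hOeq] at ht
    simp only [hO, List.mem_toFinset, List.mem_map] at ht
    obtain ⟨m, ⟨g, hg, rfl⟩, rfl⟩ := ht
    exact ⟨_, (hMs g hg).2, smul_pts (hMs g hg).1 _⟩
  -- orbit inside the group
  let H : Subgroup (Equiv.Perm GolayPt) := M11
  have horb : M.length ≤ Nat.card (MulAction.orbit H (pts sm)) := by
    rw [← hOc, hOeq, ← Set.ncard_coe_finset, Nat.card_coe_set_eq]
    refine Set.ncard_le_ncard (fun t ht => ?_) (Set.toFinite _)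
    obtain ⟨h, hh, e⟩ := hmove t ht
    exact ⟨⟨h, hh⟩, e⟩
  have hos := Nat.card_congr (MulAction.orbitProdStabilizerEquivGroup H (pts sm))
  rw [Nat.card_prod, card_sporM11] at hos
  have est : Nat.card (MulAction.stabilizer H (pts sm)) = Nat.card (B (pts sm)) :=
    Nat.card_congr
      { toFun := fun g => ⟨g.1.1, g.1.2, g.2⟩
        invFun := fun g => ⟨⟨g.1, g.2.1⟩, g.2.2⟩
        left_inv := fun _ => rfl
        right_inv := fun _ => rfl }
  rw [est] at hos
  let f : Fin L.length → B (pts sm) := fun i => ⟨_, (hLs _ (List.get_mem L i)).2.1⟩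
  have hf : Function.Injective f := by
    intro i j e
    obtain ⟨a, -, c⟩ := hLs _ (List.get_mem L i)
    obtain ⟨a', -, c'⟩ := hLs _ (List.get_mem L j)
    exact hnd.injective_get (norm_inj a a' c c' (congrArg Subtype.val e))
  have hle := Nat.card_le_card_of_injective f hf
  rw [Nat.card_fin] at hle
  have hMpos : 0 < M.length := by
    rcases Nat.eq_zero_or_pos M.length with h | h
    · rw [h, zero_mul] at hcard; omega
    · exact h
  have hB : Nat.card (B (pts sm)) = L.length := by
    refine le_antisymm ?_ hle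
    by_contra hlt
    have h1 : M.length * L.length < M.length * Nat.card (B (pts sm)) :=
      Nat.mul_lt_mul_of_pos_left (Nat.lt_of_not_le hlt) hMpos
    have h2 := Nat.mul_le_mul_right (Nat.card (B (pts sm))) horb
    omega
  refine ⟨hB, fun x hx => ?_, fun t ht htc => ?_⟩
  · obtain ⟨i, hi⟩ := (hf.bijective_of_nat_card_le (by rw [Nat.card_fin, hB])).2 ⟨x, hx⟩
    exact ⟨_, List.get_mem L i, congrArg Subtype.val hi⟩
  · obtain ⟨h, hh, e⟩ := hmove t (Finset.mem_powersetCard.2 ⟨ht, htc⟩)
    exact ⟨h⁻¹, Subgroup.inv_mem _ hh, by rw [← e, inv_smul_smul]⟩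

/-- Transport of the stabilizer of a set to the model. -/
def transport {d : Finset GolayPt} {p : GolayPt} {t s : Finset GolayPt} {g : Equiv.Perm GolayPt}
    (hg : g ∈ M24) (hd : g • d = Spor.squareDodecad) (hp : g p = some 0) (ht : g • t = s) :
    ↥(stabilizer M24 d ⊓ stabilizer M24 p ⊓ stabilizer M24 t) ≃* B s where
  toFun x := ⟨g * ((x : M24) : Equiv.Perm GolayPt) * g⁻¹,
    (M11Transport.toModel hg hd hp ⟨(x : M24), x.2.1⟩).2, by
      have h : ((x : M24) : Equiv.Perm GolayPt) • t = t := x.2.2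
      change g * _ * g⁻¹ ∈ stabilizer (Equiv.Perm GolayPt) s
      rw [mem_stabilizer_iff, mul_smul, mul_smul, ← ht, inv_smul_smul, h]⟩
  invFun y := ⟨((M11Transport.toModel hg hd hp).symm ⟨y.1, y.2.1⟩).1,
    ((M11Transport.toModel hg hd hp).symm ⟨y.1, y.2.1⟩).2, by
      show (g⁻¹ * (y : Equiv.Perm GolayPt) * g) • t = t
      have h : (y : Equiv.Perm GolayPt) • s = s := y.2.2
      rw [mul_smul, mul_smul, ht, h, inv_smul_eq_iff, ht]⟩
  left_inv x := Subtype.ext (Subtype.ext (by
    show g⁻¹ * (g * ((x : M24) : Equiv.Perm GolayPt) * g⁻¹) * g = _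
    simp [mul_assoc]))
  right_inv y := Subtype.ext (by
    show g * (g⁻¹ * (y : Equiv.Perm GolayPt) * g) * g⁻¹ = _
    simp [mul_assoc])
  map_mul' x y := Subtype.ext (by simp [mul_assoc])

theorem exists_transport {d : Finset GolayPt} (hd : d ∈ dodecads) {p : GolayPt} (hp : p ∈ d)
    {t s : Finset GolayPt} (ht : Disjoint t d)
    (hs : ∀ u : Finset GolayPt, u ⊆ Spor.squareDodecadᶜ → u.card = t.card → ∃ h ∈ M11, h • u = s) :
    Nonempty (↥(stabilizer M24 d ⊓ stabilizer M24 p ⊓ stabilizer M24 t) ≃* B s) := by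
  obtain ⟨g, hg, hgd, hgp⟩ := M11Transport.exists_conj hd hp
  obtain ⟨h, hh, e⟩ := hs (g • t) (fun x hx => by
    rw [Finset.mem_compl, ← hgd, ← Finset.inv_smul_mem_iff]
    rw [← Finset.inv_smul_mem_iff] at hx
    exact Finset.disjoint_left.1 ht hx) (Finset.card_smul_finset g t)
  obtain ⟨h1, h2, h3⟩ := (M11Transport.mem_M11_iff h).1 hh
  exact ⟨transport (M24.mul_mem h1 hg) (by rw [mul_smul, hgd, h2]) (by rw [Equiv.Perm.mul_apply, hgp, h3])
    (by rw [mul_smul, e])⟩

/-- The base outer point. -/
def pointMask : ℕ := 2 ^ 23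

/-- The base outer pair. -/
def pairMask : ℕ := 2 ^ 23 + 2 ^ 5

/-- The test for a generator of a stabilizer. -/
def genOk (sm g : ℕ) : Bool := inM11 g && (permMask g sm == sm)

theorem gen_spec {sm : ℕ} {gens : List ℕ} (h : gens.all (genOk sm) = true) :
    ∀ g ∈ gens, permOf g ∈ B (pts sm) := by
  intro g hg
  have h' := List.all_eq_true.1 h g hg
  simp only [genOk, Bool.and_eq_true, beq_iff_eq] at h'
  obtain ⟨a, b⟩ := m11_sound h'.1
  exact Subgroup.mem_inf.2 ⟨b, by rw [mem_stabilizer_iff, smul_pts a, h'.2]⟩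

theorem gens_ok : groupGens.all inM11 = true ∧ pairGens.all (genOk pairMask) = true ∧
    pointGens.all (genOk pointMask) = true := by decide +kernel

theorem group_gen : ∀ g ∈ groupGens, permOf g ∈ M11 :=
  fun c hc => (m11_sound (List.all_eq_true.1 gens_ok.1 c hc)).2

theorem pairTree_ok : treeOk pairGens pairTree 120 = true := by decide +kernel

theorem pointTree_ok : treeOk pointGens pointTree 660 = true := by decide +kernel

theorem moverTrees_ok : treeOk groupGens pairMoverTree 66 = true ∧ treeOk groupGens pointMoverTree 12 = true := by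
  decide +kernel

theorem pair_listed : Nat.card (B (pts pairMask)) = (codes pairTree 120).length ∧
    (∀ x ∈ B (pts pairMask), ∃ g ∈ codes pairTree 120, permOf g = x) ∧
      ∀ t : Finset GolayPt, t ⊆ Spor.squareDodecadᶜ → t.card = 2 → ∃ h ∈ M11, h • t = pts pairMask :=
  listed (sm := pairMask) (k := 2) (M := codes pairMoverTree 66)
    (by rw [squareDodecad_eq]; decide +kernel) (by decide +kernel)
    (tree_mem_codes pairTree_ok (gen_spec gens_ok.2.1)) (by decide +kernel)
    (fun g hg => ⟨(tree_mem_codes moverTrees_ok.1 group_gen g hg).1,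
      (tree_mem_codes moverTrees_ok.1 group_gen g hg).2.1⟩)
    (by decide +kernel) (by decide +kernel) (by decide +kernel) (by decide +kernel)

theorem pair_facts : (pts fiveMask).card = 5 ∧
    pairGens.all (fun g => isPermCode g && (permMask g fiveMask == fiveMask)) = true ∧
    (codes pairTree 120).all (fun g => ((List.range 24).any fun i => fiveMask.testBit i && (permFn g i != i)) ||
      (g == idPacked)) = true := by
  decide +kernel

theorem pair_perm : Nonempty (B (pts pairMask) ≃* Equiv.Perm (Fin 5)) := by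
  classical
  obtain ⟨hc, hall, -⟩ := pair_listed
  obtain ⟨h5, hF, hid⟩ := pair_facts
  have hS : ∀ c ∈ pairGens, permOf c ∈ stabilizer (Equiv.Perm GolayPt) (pts fiveMask) := fun c hc => by
    have h := List.all_eq_true.1 hF c hc
    simp only [Bool.and_eq_true, beq_iff_eq] at h
    rw [mem_stabilizer_iff, smul_pts h.1, h.2]
  have hinv : ∀ x : B (pts pairMask), ∀ i : GolayPt, (x : Equiv.Perm GolayPt) i ∈ pts fiveMask ↔ i ∈ pts fiveMask := by
    intro x i
    obtain ⟨g, hg, e⟩ := hall x x.2
    have : (x : Equiv.Perm GolayPt) • pts fiveMask = pts fiveMask := by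
      rw [← e]; exact (tree_mem_codes pairTree_ok hS g hg).2.1
    conv_lhs => rw [← this]
    exact Finset.smul_mem_smul_finset_iff (x : Equiv.Perm GolayPt)
  let φ : B (pts pairMask) →* Equiv.Perm (pts fiveMask) :=
    MonoidHom.mk' (fun x => (x : Equiv.Perm GolayPt).subtypePerm (hinv x))
      (fun x y => Equiv.ext fun i => Subtype.ext rfl)
  have hφ : Function.Injective φ := by
    refine (injective_iff_map_eq_one φ).2 fun x hx => ?_
    obtain ⟨g, hg, e⟩ := hall x x.2
    have hgp := (tree_mem_codes pairTree_ok (gen_spec gens_ok.2.1) g hg).1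
    have h := List.all_eq_true.1 hid g hg
    simp only [Bool.or_eq_true, List.any_eq_true, List.mem_range, Bool.and_eq_true, bne_iff_ne, beq_iff_eq] at h
    rcases h with ⟨i, hi, hb, hne⟩ | rfl
    · exfalso
      have hm : idxPt i ∈ pts fiveMask := by rw [mem_pts, ptIdx_idxPt i hi]; exact hb
      have h1 := congrArg Subtype.val (DFunLike.congr_fun hx ⟨idxPt i, hm⟩)
      change (x : Equiv.Perm GolayPt) (idxPt i) = idxPt i at h1
      rw [← e, permOf_idxPt hgp hi] at h1
      have h2 := congrArg ptIdx h1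
      rw [ptIdx_idxPt _ (permFn_lt hgp hi), ptIdx_idxPt _ hi] at h2
      exact hne h2
    · exact Subtype.ext (e.symm.trans permOf_idPacked)
  have hbij : Function.Bijective φ := hφ.bijective_of_nat_card_le (by
    rw [Nat.card_perm, Nat.card_eq_finsetCard, h5, hc, length_codes]; rfl)
  exact ⟨(MulEquiv.ofBijective φ hbij).trans
    (((pts fiveMask).equivFinOfCardEq h5).permCongrHom)⟩

/-- The codes of the point stabilizer, increasing. -/
def pointCodes : List ℕ := (List.range 660).map fun j => code pointTree (get2 pointOrder 0 j)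

theorem order_ok : (List.range 660).all (fun j => decide (get2 pointOrder 0 j < 660) &&
    ((j == 0) || decide (code pointTree (get2 pointOrder 0 (j - 1)) < code pointTree (get2 pointOrder 0 j)))) =
      true := by decide +kernel

theorem pointCodes_nodup : pointCodes.Nodup := by
  have hstep : ∀ j, j + 1 < 660 →
      code pointTree (get2 pointOrder 0 j) < code pointTree (get2 pointOrder 0 (j + 1)) := by
    intro j hj
    have h := List.all_eq_true.1 order_ok (j + 1) (List.mem_range.2 hj)
    simp only [Bool.and_eq_true, Bool.or_eq_true, beq_iff_eq, decide_eq_true_eq, Nat.add_sub_cancel] at h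
    exact h.2.resolve_left (by omega)
  have hmono : ∀ d i, i + d + 1 < 660 →
      code pointTree (get2 pointOrder 0 i) < code pointTree (get2 pointOrder 0 (i + d + 1)) := by
    intro d
    induction d with
    | zero => exact fun i hi => hstep i hi
    | succ d ih => exact fun i hi => (ih i (by omega)).trans (hstep _ (by omega))
  refine (List.nodup_range).map_on fun a ha b hb e => ?_
  rw [List.mem_range] at ha hb
  rcases Nat.lt_trichotomy a b with h | h | h
  · obtain ⟨d, rfl⟩ : ∃ d, b = a + d + 1 := ⟨b - a - 1, by omega⟩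
    exact absurd e (hmono d a hb).ne
  · exact h
  · obtain ⟨d, rfl⟩ : ∃ d, a = b + d + 1 := ⟨a - b - 1, by omega⟩
    exact absurd e (hmono d b ha).ne'

theorem pointCodes_sub : ∀ c ∈ pointCodes, c ∈ codes pointTree 660 := by
  intro c hc
  obtain ⟨j, hj, rfl⟩ := List.mem_map.1 hc
  have h := List.all_eq_true.1 order_ok j hj
  simp only [Bool.and_eq_true, decide_eq_true_eq] at h
  exact List.mem_map_of_mem (List.mem_range.2 h.1)

theorem length_pointCodes : pointCodes.length = 660 := by
  rw [pointCodes, List.length_map, List.length_range]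

theorem point_listed : Nat.card (B (pts pointMask)) = (pointCodes).length ∧
    (∀ x ∈ B (pts pointMask), ∃ g ∈ pointCodes, permOf g = x) ∧
      ∀ t : Finset GolayPt, t ⊆ Spor.squareDodecadᶜ → t.card = 1 → ∃ h ∈ M11, h • t = pts pointMask :=
  listed (sm := pointMask) (k := 1) (M := codes pointMoverTree 12)
    (by rw [squareDodecad_eq]; decide +kernel) (by decide +kernel)
    (fun c hc => tree_mem_codes pointTree_ok (gen_spec gens_ok.2.2) c (pointCodes_sub c hc)) pointCodes_nodup
    (fun g hg => ⟨(tree_mem_codes moverTrees_ok.2 group_gen g hg).1,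
      (tree_mem_codes moverTrees_ok.2 group_gen g hg).2.1⟩)
    (by decide +kernel) (by decide +kernel) (by decide +kernel) (by rw [length_pointCodes, length_codes])

abbrev SL11 := Matrix.SpecialLinearGroup (Fin 2) (ZMod 11)
abbrev PSL11 := Matrix.ProjectiveSpecialLinearGroup (Fin 2) (ZMod 11)
abbrev Quad := ℕ × ℕ × ℕ × ℕ

/-- The matrix with the given entries. -/
def raw (m : Quad) : Matrix (Fin 2) (Fin 2) (ZMod 11) :=
  !![(m.1 : ZMod 11), (m.2.1 : ZMod 11); (m.2.2.1 : ZMod 11), (m.2.2.2 : ZMod 11)]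

/-- The special linear matrix with the given entries. -/
def mat (m : Quad) : SL11 := if h : (raw m).det = 1 then Subtype.mk (raw m) h else (1 : SL11)

/-- Entries are reduced and the determinant is one. -/
def quadOk (m : Quad) : Bool :=
  decide (m.1 < 11 ∧ m.2.1 < 11 ∧ m.2.2.1 < 11 ∧ m.2.2.2 < 11 ∧ (m.1 * m.2.2.2 + 10 * (m.2.1 * m.2.2.1)) % 11 = 1)

/-- Equal up to sign. -/
def same (m n : Quad) : Bool :=
  (m == n) || (m == ((11 - n.1) % 11, (11 - n.2.1) % 11, (11 - n.2.2.1) % 11, (11 - n.2.2.2) % 11))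

/-- Times the upper transvection. -/
def mulA (m : Quad) : Quad := (m.1, (m.1 + m.2.1) % 11, m.2.2.1, (m.2.2.1 + m.2.2.2) % 11)

/-- Times the lower transvection. -/
def mulB (m : Quad) : Quad := ((m.1 + m.2.1) % 11, m.2.1, (m.2.2.1 + m.2.2.2) % 11, m.2.2.2)

theorem ten_eq : (10 : ZMod 11) = -1 := by decide

theorem mat_val {m : Quad} (h : quadOk m = true) : (mat m).1 = raw m := by
  simp only [quadOk, decide_eq_true_eq] at h
  have hd : (raw m).det = 1 := by
    have e := congrArg (Nat.cast : ℕ → ZMod 11) h.2.2.2.2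
    rw [ZMod.natCast_mod] at e
    push_cast [ten_eq] at e
    rw [raw, Matrix.det_fin_two_of, ← e]
    ring
  exact congrArg Subtype.val (dif_pos hd : mat m = _)

theorem raw_mulA (m : Quad) : raw (mulA m) = raw m * raw (1, 1, 0, 1) := by
  ext i j
  fin_cases i <;> fin_cases j <;>
    simp [raw, mulA, Matrix.mul_apply, Fin.sum_univ_two, ZMod.natCast_mod, Nat.cast_add]

theorem raw_mulB (m : Quad) : raw (mulB m) = raw m * raw (1, 0, 1, 1) := by
  ext i j
  fin_cases i <;> fin_cases j <;>
    simp [raw, mulB, Matrix.mul_apply, Fin.sum_univ_two, ZMod.natCast_mod, Nat.cast_add]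

theorem cast_negated {x : ℕ} (h : x < 11) : (((11 - x) % 11 : ℕ) : ZMod 11) = - (x : ZMod 11) := by
  rw [ZMod.natCast_mod, Nat.cast_sub h.le, ZMod.natCast_self, zero_sub]

theorem raw_same {m n : Quad} (hn : quadOk n = true) (h : same m n = true) :
    raw m = raw n ∨ raw m = - raw n := by
  simp only [same, Bool.or_eq_true, beq_iff_eq] at h
  simp only [quadOk, decide_eq_true_eq] at hn
  rcases h with rfl | rfl
  · exact Or.inl rfl
  · right
    ext i j
    fin_cases i <;> fin_cases j <;>
      simp [raw, cast_negated hn.1, cast_negated hn.2.1, cast_negated hn.2.2.1, cast_negated hn.2.2.2.1]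

theorem mk_neg (m : SL11) : ((-m : SL11) : PSL11) = (m : PSL11) := by
  rw [QuotientGroup.eq, Matrix.SpecialLinearGroup.mem_center_iff]
  have h : (-m)⁻¹ * m = (-1 : SL11) := by
    rw [inv_mul_eq_iff_eq_mul]; simp
  refine ⟨-1, by decide, ?_⟩
  rw [h, Matrix.SpecialLinearGroup.coe_neg, Matrix.SpecialLinearGroup.coe_one, map_neg, map_one]

theorem mk_step {m n g : Quad} (hm : quadOk m = true) (hn : quadOk n = true) (hg : quadOk g = true)
    {f : Quad → Quad} (hf : raw (f m) = raw m * raw g) (h : same (f m) n = true) :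
    ((mat m : PSL11) * (mat g : PSL11)) = (mat n : PSL11) := by
  rw [← QuotientGroup.mk_mul]
  rcases raw_same hn h with e | e
  · congr 1
    apply Subtype.ext
    rw [Matrix.SpecialLinearGroup.coe_mul, mat_val hm, mat_val hg, ← hf, e, mat_val hn]
  · have h' : mat m * mat g = - mat n := by
      apply Subtype.ext
      rw [Matrix.SpecialLinearGroup.coe_mul, Matrix.SpecialLinearGroup.coe_neg, mat_val hm, mat_val hg, ← hf, e,
        mat_val hn]
    rw [h', mk_neg]

/-- Matrix and successors at an index. -/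
def row (i : ℕ) : Quad × ℕ × ℕ := get2 pointMats ((0, 0, 0, 0), 0, 0) i

/-- The first generator. -/
def genA : ℕ := pointGens.getD 0 0

/-- The second generator. -/
def genB : ℕ := pointGens.getD 1 0

/-- The local test at an index. -/
def rowOk (i : ℕ) : Bool :=
  let r := row i
  let c := code pointTree i
  quadOk r.1 && decide (r.2.1 < 660 ∧ r.2.2 < 660) &&
    (permMulCode c genA == code pointTree r.2.1) && (permMulCode c genB == code pointTree r.2.2) &&
    same (mulA r.1) (row r.2.1).1 && same (mulB r.1) (row r.2.2).1 &&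
    (!((r.1.2.1 == 0) && ((r.1.2.2.1 == 0) && (r.1.1 == r.1.2.2.2))) || (c == idPacked))

theorem rows_ok : (List.range 660).all rowOk = true := by decide +kernel

theorem first_facts : code pointTree 0 = idPacked ∧ (row 0).1 = (1, 0, 0, 1) ∧ pointGens = [genA, genB] ∧
    isPermCode genA = true ∧ isPermCode genB = true := by
  decide +kernel

/-- The pairs listed in the table. -/
def Graph : Set (Equiv.Perm GolayPt × PSL11) :=
  {x | ∃ i < 660, x = (permOf (code pointTree i), (mat (row i).1 : PSL11))}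

/-- The first pair. -/
noncomputable def pA : Equiv.Perm GolayPt × PSL11 := (permOf genA, (mat (1, 1, 0, 1) : PSL11))

/-- The second pair. -/
noncomputable def pB : Equiv.Perm GolayPt × PSL11 := (permOf genB, (mat (1, 0, 1, 1) : PSL11))

theorem row_spec {i : ℕ} (hi : i < 660) : isPermCode (code pointTree i) = true ∧ quadOk (row i).1 = true :=
  ⟨(tree_mem pointTree_ok (gen_spec gens_ok.2.2) i hi).1, by
    have h := List.all_eq_true.1 rows_ok i (List.mem_range.2 hi)
    simp only [rowOk, Bool.and_eq_true] at h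
    exact h.1.1.1.1.1.1⟩

theorem graph_step {x : Equiv.Perm GolayPt × PSL11} (hx : x ∈ Graph) : x * pA ∈ Graph ∧ x * pB ∈ Graph := by
  obtain ⟨i, hi, rfl⟩ := hx
  obtain ⟨hg, hq⟩ := row_spec hi
  have h := List.all_eq_true.1 rows_ok i (List.mem_range.2 hi)
  simp only [rowOk, Bool.and_eq_true, beq_iff_eq, decide_eq_true_eq] at h
  obtain ⟨⟨⟨⟨⟨⟨-, ha, hb⟩, hca⟩, hcb⟩, hma⟩, hmb⟩, -⟩ := h
  obtain ⟨-, -, -, hA, hB⟩ := first_facts
  obtain ⟨hga, hqa⟩ := row_spec ha
  obtain ⟨hgb, hqb⟩ := row_spec hb
  exact ⟨⟨_, ha, Prod.ext (permOf_permMulCode hg hA hga hca) (mk_step hq hqa (by decide) (raw_mulA _) hma)⟩,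
    ⟨_, hb, Prod.ext (permOf_permMulCode hg hB hgb hcb) (mk_step hq hqb (by decide) (raw_mulB _) hmb)⟩⟩

/-- The subgroup generated by the two pairs. -/
def Γ : Subgroup (Equiv.Perm GolayPt × PSL11) := Subgroup.closure {pA, pB}

theorem mat_one : mat (1, 0, 0, 1) = 1 := by
  apply Subtype.ext
  rw [mat_val (by decide)]
  ext a b
  fin_cases a <;> fin_cases b <;> simp [raw]

theorem Γ_subset {x : Equiv.Perm GolayPt × PSL11} (hx : x ∈ Γ) : x ∈ Graph := by
  rw [Γ, ← Subgroup.mem_toSubmonoid, Subgroup.closure_toSubmonoid_of_finite] at hx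
  induction hx using Submonoid.closure_induction_right with
  | one =>
    obtain ⟨h0, h1, -, -, -⟩ := first_facts
    refine ⟨0, by norm_num, Prod.ext ?_ ?_⟩
    · show (1 : Equiv.Perm GolayPt) = permOf (code pointTree 0)
      rw [h0, permOf_idPacked]
    · show (1 : PSL11) = (mat (row 0).1 : PSL11)
      rw [h1, mat_one]; rfl
  | mul_right y hy z hz ih =>
    rcases hz with rfl | rfl
    · exact (graph_step ih).1
    · exact (graph_step ih).2

theorem point_psl : Nonempty (B (pts pointMask) ≃* PSL11) := by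
  classical
  obtain ⟨hc, hall, -⟩ := point_listed
  obtain ⟨-, -, hgens, -, -⟩ := first_facts
  let π₁ : Γ →* Equiv.Perm GolayPt := (MonoidHom.fst (Equiv.Perm GolayPt) PSL11).comp Γ.subtype
  have hgen : ∀ g ∈ pointGens, permOf g ∈ π₁.range := by
    intro g hg
    simp only [hgens, List.mem_cons, List.not_mem_nil, or_false] at hg
    rcases hg with rfl | rfl
    · exact ⟨⟨pA, Subgroup.subset_closure (Or.inl rfl)⟩, rfl⟩
    · exact ⟨⟨pB, Subgroup.subset_closure (Or.inr rfl)⟩, rfl⟩
  have hB : ∀ x : Γ, π₁ x ∈ B (pts pointMask) := by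
    rintro ⟨x, hx⟩
    obtain ⟨i, hi, rfl⟩ := Γ_subset hx
    exact (tree_mem pointTree_ok (gen_spec gens_ok.2.2) i hi).2.1
  let π : Γ →* B (pts pointMask) := π₁.codRestrict _ hB
  have hsurj : Function.Surjective π := by
    rintro ⟨x, hx⟩
    obtain ⟨g, hg, rfl⟩ := hall x hx
    obtain ⟨y, hy⟩ := (tree_mem_codes pointTree_ok hgen g (pointCodes_sub g hg)).2.1
    exact ⟨y, Subtype.ext hy⟩
  have hψ : Function.Injective ((MonoidHom.snd _ _).comp Γ.subtype) := by
    refine (injective_iff_map_eq_one _).2 fun x hx => ?_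
    obtain ⟨x, hxΓ⟩ := x
    obtain ⟨i, hi, rfl⟩ := Γ_subset hxΓ
    have hx' : (mat (row i).1 : PSL11) = 1 := hx
    rw [QuotientGroup.eq_one_iff, Matrix.SpecialLinearGroup.mem_center_iff] at hx'
    obtain ⟨r, -, hr⟩ := hx'
    obtain ⟨-, hq⟩ := row_spec hi
    have hv := mat_val hq
    rw [← hr] at hv
    have h00 := congrFun (congrFun hv 0) 0
    have h01 := congrFun (congrFun hv 0) 1
    have h10 := congrFun (congrFun hv 1) 0
    have h11 := congrFun (congrFun hv 1) 1
    simp [raw] at h00 h01 h10 h11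
    simp only [quadOk, decide_eq_true_eq] at hq
    have e0 : ∀ {a b : ℕ}, a < 11 → b < 11 → (a : ZMod 11) = b → a = b := fun ha hb e =>
      Nat.ModEq.eq_of_lt_of_lt ((ZMod.natCast_eq_natCast_iff _ _ _).1 e) ha hb
    have b1 : (row i).1.2.1 = 0 := e0 hq.2.1 (by norm_num) (by rw [← h01, Nat.cast_zero])
    have b2 : (row i).1.2.2.1 = 0 := e0 hq.2.2.1 (by norm_num) (by rw [← h10, Nat.cast_zero])
    have b3 : (row i).1.1 = (row i).1.2.2.2 := e0 hq.1 hq.2.2.2.1 (h00.symm.trans h11)
    have h := List.all_eq_true.1 rows_ok i (List.mem_range.2 hi)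
    simp only [rowOk, Bool.and_eq_true, Bool.or_eq_true, beq_iff_eq] at h
    have he : code pointTree i = idPacked := by
      rcases h.2 with h' | h'
      · simp [b1, b2, b3] at h'
      · exact h'
    refine Subtype.ext (Prod.ext ?_ hx)
    show permOf (code pointTree i) = 1
    rw [he, permOf_idPacked]
  have hpsl : Nat.card PSL11 = 660 := by
    haveI : Fact (Nat.Prime 11) := ⟨by norm_num⟩
    have h := CfsgLib.Classical.card_psl2 (F := ZMod 11)
    rw [ZMod.card] at h
    rw [show Nat.gcd 2 (11 - 1) = 2 by decide] at h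
    have h' : 2 * Nat.card PSL11 = 11 * ((11 - 1) * (11 + 1)) := h
    omega
  have hBc : Nat.card (B (pts pointMask)) = 660 := hc.trans length_pointCodes
  have h1 : Nat.card Γ ≤ Nat.card PSL11 := Nat.card_le_card_of_injective _ hψ
  have h2 : Nat.card (B (pts pointMask)) ≤ Nat.card Γ := Nat.card_le_card_of_surjective _ hsurj
  have hπ : Function.Bijective π := hsurj.bijective_of_nat_card_le (by omega)
  have hψ' : Function.Bijective ((MonoidHom.snd (Equiv.Perm GolayPt) PSL11).comp Γ.subtype) :=
    hψ.bijective_of_nat_card_le (by omega)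
  exact ⟨(MulEquiv.ofBijective π hπ).symm.trans (MulEquiv.ofBijective _ hψ')⟩

end CfsgLib.Spor.M11Outer
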