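/-
The stabilizer of a dodecad and three of its points: order 72, elementary nine normal, quaternion Sylow 2-subgroups.
-/
import Cfsg.Agent.Lib.Spor.M9Data
import Cfsg.Agent.Lib.Spor.M11Outer
import Mathlib.GroupTheory.SpecificGroups.Quaternion
import Mathlib.GroupTheory.Sylow

set_option autoImplicit false

namespace CfsgLib.Spor.M9

open Cfsg MulAction CfsgLib.Spor.M11Outer
open scoped Pointwise

/-- The stabilizer of a dodecad and three points. -/
abbrev St (d : Finset GolayPt) (p q r : GolayPt) : Subgroup M24 :=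
  stabilizer M24 d ⊓ stabilizer M24 p ⊓ stabilizer M24 q ⊓ stabilizer M24 r

theorem mem_St {d : Finset GolayPt} {p q r : GolayPt} (x : M24) : x ∈ St d p q r ↔
    (x : Equiv.Perm GolayPt) • d = d ∧ (x : Equiv.Perm GolayPt) p = p ∧ (x : Equiv.Perm GolayPt) q = q ∧
      (x : Equiv.Perm GolayPt) r = r := by
  simp only [St, Subgroup.mem_inf, mem_stabilizer_iff]
  exact ⟨fun h => ⟨h.1.1.1, h.1.1.2, h.1.2, h.2⟩, fun h => ⟨⟨⟨h.1, h.2.1⟩, h.2.2.1⟩, h.2.2.2⟩⟩

/-- The model. -/
def Base : Subgroup (Equiv.Perm GolayPt) :=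
  Spor.M11 ⊓ stabilizer (Equiv.Perm GolayPt) (idxPt 1) ⊓ stabilizer (Equiv.Perm GolayPt) (idxPt 2)

theorem mem_Base (g : Equiv.Perm GolayPt) : g ∈ Base ↔
    g ∈ M24 ∧ g • Spor.squareDodecad = Spor.squareDodecad ∧ g (some 0) = some 0 ∧ g (idxPt 1) = idxPt 1 ∧
      g (idxPt 2) = idxPt 2 := by
  simp only [Base, Subgroup.mem_inf, mem_stabilizer_iff, Equiv.Perm.smul_def, M11Transport.mem_M11_iff]
  simp only [and_assoc]

theorem exists_embedding {d : Finset GolayPt} (hd : d ∈ dodecads) {p q r : GolayPt} (hp : p ∈ d) (hq : q ∈ d)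
    (hr : r ∈ d) (hpq : p ≠ q) (hpr : p ≠ r) (hqr : q ≠ r) :
    ∃ x : Fin 5 ↪ GolayPt, x 0 = p ∧ x 1 = q ∧ x 2 = r ∧ ∀ i, x i ∈ d := by
  have hc : 1 < (((d.erase p).erase q).erase r).card := by
    rw [Finset.card_erase_of_mem, Finset.card_erase_of_mem, Finset.card_erase_of_mem hp, hd.2]
    · norm_num
    · simp [hq, hpq.symm]
    · simp [hr, hqr.symm, hpr.symm]
  obtain ⟨u, hu, v, hv, huv⟩ := Finset.one_lt_card.1 hc
  simp only [Finset.mem_erase] at hu hv
  refine ⟨⟨![p, q, r, u, v], fun i j h => ?_⟩, rfl, rfl, rfl, fun i => ?_⟩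
  · fin_cases i <;> fin_cases j <;> simp_all
  · fin_cases i
    exacts [hp, hq, hr, hu.2.2.2, hv.2.2.2]

theorem base_points : (some 0 : GolayPt) ∈ Spor.squareDodecad ∧ idxPt 1 ∈ Spor.squareDodecad ∧
    idxPt 2 ∈ Spor.squareDodecad ∧ (some 0 : GolayPt) ≠ idxPt 1 ∧ (some 0 : GolayPt) ≠ idxPt 2 ∧
      idxPt 1 ≠ idxPt 2 := by
  rw [squareDodecad_eq]; decide +kernel

theorem exists_equiv {d : Finset GolayPt} (hd : d ∈ dodecads) {p q r : GolayPt} (hp : p ∈ d) (hq : q ∈ d)
    (hr : r ∈ d) (hpq : p ≠ q) (hpr : p ≠ r) (hqr : q ≠ r) : Nonempty (St d p q r ≃* Base) := by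
  obtain ⟨g, hg⟩ := exists_smul_dodecad hd squareDodecad_mem
  obtain ⟨x, hx0, hx1, hx2, hx⟩ := exists_embedding hd hp hq hr hpq hpr hqr
  obtain ⟨b0, b1, b2, n01, n02, n12⟩ := base_points
  obtain ⟨y, hy0, hy1, hy2, hy⟩ := exists_embedding squareDodecad_mem b0 b1 b2 n01 n02 n12
  let gp : Equiv.Perm GolayPt := (g : Equiv.Perm GolayPt)
  have hgd : gp • d = Spor.squareDodecad := hg
  obtain ⟨k, hk, -⟩ := sharply_five_transitive_dodecad squareDodecad_mem (x.trans gp.toEmbedding) y
    (fun i => by rw [← hgd]; exact Finset.smul_mem_smul_finset (hx i)) hy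
  let h : Equiv.Perm GolayPt := ((k : M24) : Equiv.Perm GolayPt) * gp
  have hh : h ∈ M24 := M24.mul_mem (k : M24).2 g.2
  have hkd : ((k : M24) : Equiv.Perm GolayPt) • Spor.squareDodecad = Spor.squareDodecad := k.2
  have hhd : h • d = Spor.squareDodecad := by rw [mul_smul, hgd, hkd]
  have hp' : h p = some 0 := by rw [← hx0, ← hy0]; exact hk 0
  have hq' : h q = idxPt 1 := by rw [← hx1, ← hy1]; exact hk 1
  have hr' : h r = idxPt 2 := by rw [← hx2, ← hy2]; exact hk 2
  exact ⟨{
    toFun := fun z => ⟨h * ((z : M24) : Equiv.Perm GolayPt) * h⁻¹, by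
      obtain ⟨e1, e2, e3, e4⟩ := (mem_St _).1 z.2
      refine (mem_Base _).2 ⟨M24.mul_mem (M24.mul_mem hh (z : M24).2) (M24.inv_mem hh), ?_, ?_, ?_, ?_⟩
      · rw [mul_smul, mul_smul, ← hhd, inv_smul_smul, e1]
      · rw [Equiv.Perm.mul_apply, Equiv.Perm.mul_apply, ← hp', Equiv.Perm.inv_def, Equiv.symm_apply_apply, e2]
      · rw [Equiv.Perm.mul_apply, Equiv.Perm.mul_apply, ← hq', Equiv.Perm.inv_def, Equiv.symm_apply_apply, e3]
      · rw [Equiv.Perm.mul_apply, Equiv.Perm.mul_apply, ← hr', Equiv.Perm.inv_def, Equiv.symm_apply_apply, e4]⟩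
    invFun := fun w => ⟨⟨h⁻¹ * (w : Equiv.Perm GolayPt) * h,
      M24.mul_mem (M24.mul_mem (M24.inv_mem hh) ((mem_Base _).1 w.2).1) hh⟩, by
      obtain ⟨-, e1, e2, e3, e4⟩ := (mem_Base _).1 w.2
      refine (mem_St _).2 ⟨?_, ?_, ?_, ?_⟩
      · simp only [mul_smul]; rw [hhd, e1, inv_smul_eq_iff, hhd]
      · simp only [Equiv.Perm.mul_apply]; rw [hp', e2, Equiv.Perm.inv_eq_iff_eq, hp']
      · simp only [Equiv.Perm.mul_apply]; rw [hq', e3, Equiv.Perm.inv_eq_iff_eq, hq']
      · simp only [Equiv.Perm.mul_apply]; rw [hr', e4, Equiv.Perm.inv_eq_iff_eq, hr']⟩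
    left_inv := fun z => Subtype.ext (Subtype.ext (by simp [mul_assoc]))
    right_inv := fun w => Subtype.ext (by simp [mul_assoc])
    map_mul' := fun z w => Subtype.ext (by simp [mul_assoc]) }⟩

/-! ### The model -/

/-- The generator test. -/
def baseGen (g : ℕ) : Bool := inM11 g && ((permFn g 1 == 1) && (permFn g 2 == 2))

theorem base_sound {g : ℕ} (h : baseGen g = true) : permOf g ∈ Base := by
  simp only [baseGen, Bool.and_eq_true, beq_iff_eq] at h
  obtain ⟨a, b⟩ := m11_sound h.1
  simp only [Base, Subgroup.mem_inf, mem_stabilizer_iff, Equiv.Perm.smul_def]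
  exact ⟨⟨b, fix_sound a (by norm_num) h.2.1⟩, fix_sound a (by norm_num) h.2.2⟩

theorem gens_ok : nineGens.all baseGen = true ∧ threeGens.all baseGen = true := by decide +kernel

theorem gen_mem : ∀ g ∈ nineGens, permOf g ∈ Base := fun g hg => base_sound (List.all_eq_true.1 gens_ok.1 g hg)

theorem trees_ok : treeOk nineGens nineTree 72 = true ∧ treeOk threeGens threeTree 9 = true := by decide +kernel

theorem trees_nodup : (codes nineTree 72).Nodup ∧ (codes threeTree 9).Nodup := by decide +kernel

theorem nine_spec : ∀ c ∈ codes nineTree 72,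
    isPermCode c = true ∧ permOf c ∈ Base ∧ permMulCode c idPacked = c :=
  tree_mem_codes trees_ok.1 gen_mem

theorem card_Base : Nat.card Base = 72 ∧ ∀ x ∈ Base, ∃ c ∈ codes nineTree 72, permOf c = x := by
  classical
  have hne : ∀ i j : Fin 5, i ≠ j → (![(some 0 : GolayPt), idxPt 1, idxPt 2, idxPt 3, idxPt 4]) i ≠
      (![(some 0 : GolayPt), idxPt 1, idxPt 2, idxPt 3, idxPt 4]) j := by decide +kernel
  have hin : ∀ i : Fin 5, (![(some 0 : GolayPt), idxPt 1, idxPt 2, idxPt 3, idxPt 4]) i ∈ Spor.squareDodecad := by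
    rw [squareDodecad_eq]; decide +kernel
  let x : Fin 5 ↪ GolayPt := ⟨_, fun i j h => by_contra fun e => hne i j e h⟩
  let T : Finset GolayPt :=
    ((Spor.squareDodecad.erase (some 0)).erase (idxPt 1)).erase (idxPt 2)
  have hT : T.offDiag.card = 72 := by
    simp only [T, squareDodecad_eq]; decide +kernel
  have hmove : ∀ z : Base, ∀ i : Fin 5, (z : Equiv.Perm GolayPt) (x i) ∈ Spor.squareDodecad := fun z i => by
    rw [← ((mem_Base _).1 z.2).2.1]; exact Finset.smul_mem_smul_finset (hin i)
  let f : Base → T.offDiag := fun z => ⟨((z : Equiv.Perm GolayPt) (x 3), (z : Equiv.Perm GolayPt) (x 4)), by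
    obtain ⟨-, -, e0, e1, e2⟩ := (mem_Base _).1 z.2
    have key : ∀ i : Fin 5, 3 ≤ i.val → (z : Equiv.Perm GolayPt) (x i) ∈ T := by
      intro i hi
      simp only [T, Finset.mem_erase]
      refine ⟨fun h => ?_, fun h => ?_, fun h => ?_, hmove z i⟩
      · exact absurd (x.injective (Equiv.injective _ (h.trans e2.symm) : x i = x 2)) (by omega)
      · exact absurd (x.injective (Equiv.injective _ (h.trans e1.symm) : x i = x 1)) (by omega)
      · exact absurd (x.injective (Equiv.injective _ (h.trans e0.symm) : x i = x 0)) (by omega)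
    rw [Finset.mem_offDiag]
    exact ⟨key 3 le_rfl, key 4 (by decide), fun h => absurd (x.injective (Equiv.injective _ h)) (by decide)⟩⟩
  have hf : Function.Injective f := by
    intro z w h
    simp only [f, Subtype.mk.injEq, Prod.mk.injEq] at h
    have hzw := (Base.mul_mem (Base.inv_mem w.2) z.2)
    obtain ⟨hM, hsq, e0, e1, e2⟩ := (mem_Base _).1 hzw
    have := eq_one_of_five hM squareDodecad_mem hsq x hin fun i => by
      fin_cases i
      · exact e0
      · exact e1
      · exact e2
      · show (w : Equiv.Perm GolayPt)⁻¹ ((z : Equiv.Perm GolayPt) (x 3)) = x 3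
        rw [h.1, Equiv.Perm.inv_def, Equiv.symm_apply_apply]
      · show (w : Equiv.Perm GolayPt)⁻¹ ((z : Equiv.Perm GolayPt) (x 4)) = x 4
        rw [h.2, Equiv.Perm.inv_def, Equiv.symm_apply_apply]
    exact Subtype.ext (inv_mul_eq_one.1 this).symm
  have hle : Nat.card Base ≤ 72 := by
    refine (Nat.card_le_card_of_injective f hf).trans ?_
    rw [Nat.card_eq_finsetCard, hT]
  let L := codes nineTree 72
  let e : Fin L.length → Base := fun i => ⟨_, (nine_spec _ (List.get_mem L i)).2.1⟩
  have he : Function.Injective e := fun i j h => by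
    obtain ⟨a, -, c⟩ := nine_spec _ (List.get_mem L i)
    obtain ⟨a', -, c'⟩ := nine_spec _ (List.get_mem L j)
    exact trees_nodup.1.injective_get (norm_inj a a' c c' (congrArg Subtype.val h))
  have hge := Nat.card_le_card_of_injective e he
  rw [Nat.card_fin, length_codes] at hge
  refine ⟨le_antisymm hle hge, fun z hz => ?_⟩
  obtain ⟨i, hi⟩ := (he.bijective_of_nat_card_le (by rw [Nat.card_fin, length_codes]; exact hle)).2 ⟨z, hz⟩
  exact ⟨_, List.get_mem L i, congrArg Subtype.val hi⟩

/-- The normal nine inside the model. -/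
def nine : Subgroup Base :=
  (Subgroup.closure ((fun c => permOf c) '' {c | c ∈ threeGens})).subgroupOf Base

/-- Conjugates of the generators of the nine by the generators of the model. -/
def normCheck : Bool :=
  nineGens.all fun g => threeGens.all fun a => (codes threeTree 9).any fun b => permMulCode g a == permMulCode b g

theorem norm_ok : normCheck = true ∧ nineGens.all isPermCode = true ∧ threeGens.all isPermCode = true ∧
    (codes threeTree 9).all (fun c => permMulCode c (permMulCode c c) == idPacked) = true ∧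
    (List.finRange 72).all (fun i => let c := code nineTree i.1
      (permMulCode c (permMulCode c c) != idPacked) || (codes threeTree 9).contains c) = true := by
  decide +kernel

theorem pow_three_eq {c : ℕ} (hc : isPermCode c = true) (h : permMulCode c (permMulCode c c) = idPacked) :
    isPermCode (permMulCode c c) = true → permOf c ^ 3 = 1 := by
  intro h2
  rw [pow_succ', pow_two, permOf_permMulCode hc hc h2 rfl,
    permOf_permMulCode hc h2 (by decide +kernel) h, permOf_idPacked]

theorem sq_perm : (codes nineTree 72).all (fun c => isPermCode (permMulCode c c)) = true := by decide +kernel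

theorem quat_ok : (quatA ++ quatX).all (fun c => (codes nineTree 72).contains c) = true := by decide +kernel

/-- The image of an element of the quaternion group. -/
def quatCode : QuaternionGroup 2 → ℕ
  | .a i => quatA.getD i.val 0
  | .xa i => quatX.getD i.val 0

theorem quat_check :
    (∀ i : ZMod (2 * 2), (codes nineTree 72).contains (quatA.getD i.val 0) = true ∧
      (codes nineTree 72).contains (quatX.getD i.val 0) = true) ∧
    (∀ i j : ZMod (2 * 2),
      permMulCode (quatA.getD i.val 0) (quatA.getD j.val 0) = quatA.getD (i + j).val 0 ∧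
      permMulCode (quatA.getD i.val 0) (quatX.getD j.val 0) = quatX.getD (j - i).val 0 ∧
      permMulCode (quatX.getD i.val 0) (quatA.getD j.val 0) = quatX.getD (i + j).val 0 ∧
      permMulCode (quatX.getD i.val 0) (quatX.getD j.val 0) = quatA.getD ((2 : ℕ) + j - i).val 0) ∧
    (∀ i : ZMod (2 * 2), quatA.getD i.val 0 = idPacked → i = 0) ∧
    (∀ i : ZMod (2 * 2), quatX.getD i.val 0 ≠ idPacked) := by
  decide +kernel

theorem quat_mem (u : QuaternionGroup 2) : quatCode u ∈ codes nineTree 72 := by
  cases u with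
  | a i => exact List.contains_iff_mem.1 (quat_check.1 i).1
  | xa i => exact List.contains_iff_mem.1 (quat_check.1 i).2

/-- The quaternion subgroup. -/
noncomputable def quatHom : QuaternionGroup 2 →* Base :=
  MonoidHom.mk' (fun u => ⟨permOf (quatCode u), (nine_spec _ (quat_mem u)).2.1⟩) fun u v => Subtype.ext (by
    have h : permMulCode (quatCode u) (quatCode v) = quatCode (u * v) := by
      cases u <;> cases v
      · exact (quat_check.2.1 _ _).1
      · exact (quat_check.2.1 _ _).2.1
      · exact (quat_check.2.1 _ _).2.2.1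
      · exact (quat_check.2.1 _ _).2.2.2
    exact (permOf_permMulCode (nine_spec _ (quat_mem u)).1 (nine_spec _ (quat_mem v)).1
      (nine_spec _ (quat_mem (u * v))).1 h).symm)

theorem quatHom_injective : Function.Injective quatHom := by
  refine (injective_iff_map_eq_one _).2 fun u hu => ?_
  have h : quatCode u = idPacked := by
    obtain ⟨a, -, c⟩ := nine_spec _ (quat_mem u)
    exact norm_inj a isPerm_id c (by decide +kernel) ((congrArg Subtype.val hu).trans permOf_idPacked.symm)
  cases u with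
  | a i => rw [quat_check.2.2.1 i h]; rfl
  | xa i => exact absurd h (quat_check.2.2.2 i)

theorem fac : (72 : ℕ).factorization 3 = 2 ∧ (72 : ℕ).factorization 2 = 3 := by
  have h : 72 = 2 ^ 3 * 3 ^ 2 := by norm_num
  rw [h, Nat.factorization_mul (by norm_num) (by norm_num), Nat.Prime.factorization_pow Nat.prime_two,
    Nat.Prime.factorization_pow Nat.prime_three]
  simp

theorem sylow_two (P : Sylow 2 Base) : Nonempty (P ≃* QuaternionGroup 2) := by
  haveI : Finite Base := Nat.finite_of_card_ne_zero (by rw [card_Base.1]; norm_num)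
  have hc : Nat.card quatHom.range = 8 := by
    rw [← Nat.card_congr (MonoidHom.ofInjective quatHom_injective).toEquiv, Nat.card_eq_fintype_card,
      QuaternionGroup.card]
  have hc' : Nat.card quatHom.range = 2 ^ (Nat.card Base).factorization 2 := by
    rw [hc, card_Base.1, fac.2]; rfl
  let Q : Sylow 2 Base := Sylow.ofCard quatHom.range hc'
  exact ⟨(Sylow.equiv P Q).trans ((MulEquiv.subgroupCongr (Sylow.coe_ofCard _ hc')).trans
    (MonoidHom.ofInjective quatHom_injective).symm)⟩

theorem sylow_three (Q : Sylow 3 Base) : (Q : Subgroup Base).Normal ∧ Nat.card Q = 9 ∧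
    ∀ x ∈ (Q : Subgroup Base), x ^ 3 = 1 := by
  haveI : Finite Base := Nat.finite_of_card_ne_zero (by rw [card_Base.1]; norm_num)
  haveI : Fact (Nat.Prime 3) := ⟨Nat.prime_three⟩
  obtain ⟨hn, hpn, hpt, hcube, hsub⟩ := norm_ok
  set C := Subgroup.closure ((fun c => permOf c) '' {c | c ∈ threeGens}) with hC
  have hgC : ∀ a ∈ threeGens, permOf a ∈ C := fun a ha => Subgroup.subset_closure ⟨a, ha, rfl⟩
  have hCB : C ≤ Base := (Subgroup.closure_le _).2 fun y ⟨a, ha, e⟩ => e ▸
    base_sound (List.all_eq_true.1 gens_ok.2 a ha)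
  have hmem : ∀ c ∈ codes threeTree 9, isPermCode c = true ∧ permOf c ∈ C ∧ permMulCode c idPacked = c :=
    tree_mem_codes trees_ok.2 hgC
  -- exactly the nine listed elements
  have hcl : ∀ y ∈ Base, y ∈ C → y ^ 3 = 1 → ∃ c ∈ codes threeTree 9, permOf c = y := by
    intro y hy _ h3
    obtain ⟨c, hc, rfl⟩ := card_Base.2 y hy
    obtain ⟨i, hi, rfl⟩ := List.mem_map.1 hc
    have h := List.all_eq_true.1 hsub ⟨i, List.mem_range.1 hi⟩ (List.mem_finRange _)
    simp only [Bool.or_eq_true, bne_iff_ne, List.contains_iff_mem] at h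
    rcases h with h | h
    · exfalso
      obtain ⟨a, -, -⟩ := nine_spec _ hc
      have a2 := List.all_eq_true.1 sq_perm _ hc
      rw [pow_succ', pow_two, permOf_permMulCode a a a2 rfl] at h3
      apply h
      rw [← show permMulCode idPacked idPacked = idPacked by decide +kernel,
        permMulCode_eq_iff a a2 isPerm_id isPerm_id, h3, permOf_idPacked, one_mul]
    · exact ⟨_, h, rfl⟩
  have hC3 : ∀ y ∈ C, y ∈ (fun c => permOf c) '' {c | c ∈ codes threeTree 9} := by
    intro y hy
    haveI : Finite C := Finite.of_injective (fun z : C => (⟨z.1, hCB z.2⟩ : Base)) fun z w h =>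
      Subtype.ext (congrArg Subtype.val h :)
    rw [hC, ← Subgroup.mem_toSubmonoid, Subgroup.closure_toSubmonoid_of_finite] at hy
    induction hy using Submonoid.closure_induction_right with
    | one => exact ⟨idPacked, show idPacked ∈ codes threeTree 9 by decide +kernel, permOf_idPacked⟩
    | mul_right u hu v hv ih =>
      obtain ⟨a, ha, rfl⟩ := hv
      obtain ⟨c, hc, rfl⟩ := ih
      have hclose : ((codes threeTree 9).all fun c => threeGens.all fun a =>
          (codes threeTree 9).contains (permMulCode c a)) = true := by decide +kernel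
      have h := List.all_eq_true.1 (List.all_eq_true.1 hclose c hc) a ha
      rw [List.contains_iff_mem] at h
      exact ⟨_, h, (permOf_permMulCode (hmem c hc).1 (List.all_eq_true.1 hpt a ha) (hmem _ h).1 rfl).symm⟩
  have hcard : Nat.card C = 9 := by
    have h : (C : Set (Equiv.Perm GolayPt)) = (fun c => permOf c) '' ↑(codes threeTree 9).toFinset := by
      ext y
      constructor
      · intro hy; obtain ⟨c, hc, e⟩ := hC3 y hy; exact ⟨c, List.mem_toFinset.2 hc, e⟩
      · rintro ⟨c, hc, rfl⟩; exact (hmem c (List.mem_toFinset.1 hc)).2.1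
    rw [← SetLike.coe_sort_coe, Nat.card_coe_set_eq, h, Set.InjOn.ncard_image, Set.ncard_coe_finset,
      List.toFinset_card_of_nodup trees_nodup.2, length_codes]
    intro a ha b hb e
    exact norm_inj (hmem a (List.mem_toFinset.1 ha)).1 (hmem b (List.mem_toFinset.1 hb)).1
      (hmem a (List.mem_toFinset.1 ha)).2.2 (hmem b (List.mem_toFinset.1 hb)).2.2 e
  have hexp : ∀ y ∈ C, y ^ 3 = 1 := by
    intro y hy
    obtain ⟨c, hc, rfl⟩ := hC3 y hy
    have hc' : c ∈ codes nineTree 72 := by
      have h : (codes threeTree 9).all (fun c => (codes nineTree 72).contains c) = true := by decide +kernel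
      exact List.contains_iff_mem.1 (List.all_eq_true.1 h c hc)
    exact pow_three_eq (hmem c hc).1 (eq_of_beq (List.all_eq_true.1 hcube c hc)) (List.all_eq_true.1 sq_perm c hc')
  have hconj : ∀ g ∈ nineGens, ∀ y ∈ C, permOf g * y * (permOf g)⁻¹ ∈ C := by
    intro g hg y hy
    have hle : C ≤ C.comap (MulAut.conj (permOf g)).toMonoidHom := by
      refine (Subgroup.closure_le _).2 ?_
      rintro _ ⟨a, ha, rfl⟩
      have h := List.all_eq_true.1 (List.all_eq_true.1 hn g hg) a ha
      simp only [List.any_eq_true, beq_iff_eq] at h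
      obtain ⟨b, hb, e⟩ := h
      rw [permMulCode_eq_iff (List.all_eq_true.1 hpn g hg) (List.all_eq_true.1 hpt a ha) (hmem b hb).1
        (List.all_eq_true.1 hpn g hg)] at e
      show permOf g * permOf a * (permOf g)⁻¹ ∈ C
      rw [e, mul_inv_cancel_right]
      exact (hmem b hb).2.1
    exact hle hy
  let S : Sylow 3 Base := Sylow.ofCard (C.subgroupOf Base) (by
    rw [Nat.card_congr (Subgroup.subgroupOfEquivOfLe hCB).toEquiv, hcard, card_Base.1, fac.1]; rfl)
  have hSn : (S : Subgroup Base).Normal := by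
    refine ⟨fun y hy z => ?_⟩
    rw [Sylow.coe_ofCard, Subgroup.mem_subgroupOf] at hy ⊢
    obtain ⟨c, hc, e⟩ := card_Base.2 z z.2
    have hall := tree_mem_codes trees_ok.1
      (H := Subgroup.normalizer (C : Set (Equiv.Perm GolayPt))) (fun g hg => by
        haveI : Finite C := Finite.of_injective (fun z : C => (⟨z.1, hCB z.2⟩ : Base)) fun z w h =>
          Subtype.ext (congrArg Subtype.val h :)
        rw [Subgroup.mem_normalizer_iff_map_conj_eq]
        refine Subgroup.eq_of_le_of_card_ge (Subgroup.map_le_iff_le_comap.2 (hconj g hg)) ?_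
        exact (Subgroup.card_map_of_injective (MulAut.conj (permOf g)).injective).ge)
    have hz := (hall c hc).2.1
    rw [e] at hz
    exact (Subgroup.mem_normalizer_iff.1 hz _).1 hy
  haveI := Sylow.unique_of_normal S hSn
  have hQ : Q = S := Subsingleton.elim _ _
  subst hQ
  refine ⟨hSn, ?_, fun x hx => ?_⟩
  · show Nat.card ↥(S : Subgroup Base) = 9
    rw [Sylow.coe_ofCard, Nat.card_congr (Subgroup.subgroupOfEquivOfLe hCB).toEquiv, hcard]
  · rw [Sylow.coe_ofCard, Subgroup.mem_subgroupOf] at hx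
    exact Subtype.ext (by simpa using hexp _ hx)

/-- Transfer of the Sylow facts along an isomorphism. -/
theorem transfer {G : Type*} [Group G] (e : G ≃* Base) :
    (∀ Q : Sylow 3 G, (Q : Subgroup G).Normal ∧ Nat.card Q = 9 ∧ ∀ x ∈ (Q : Subgroup G), x ^ 3 = 1) ∧
      ∀ P : Sylow 2 G, Nonempty (P ≃* QuaternionGroup 2) := by
  haveI : Finite Base := Nat.finite_of_card_ne_zero (by rw [card_Base.1]; norm_num)
  haveI : Fact (Nat.Prime 2) := ⟨Nat.prime_two⟩
  haveI : Fact (Nat.Prime 3) := ⟨Nat.prime_three⟩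
  haveI : Finite G := Finite.of_injective e e.injective
  have key : ∀ (p : ℕ) (_ : Fact p.Prime) (Q : Sylow p G),
      ∃ R : Sylow p Base, (R : Subgroup Base) = (Q : Subgroup G).map e.toMonoidHom := by
    intro p _ Q
    exact ⟨Q.mapSurjective (f := e.toMonoidHom) e.surjective, rfl⟩
  refine ⟨fun Q => ?_, fun P => ?_⟩
  · obtain ⟨R, hR⟩ := key 3 inferInstance Q
    obtain ⟨h1, h2, h3⟩ := sylow_three R
    refine ⟨⟨fun y hy z => ?_⟩, ?_, fun x hx => e.injective ?_⟩
    · have h := h1.conj_mem (e y) (hR ▸ ⟨y, hy, rfl⟩) (e z)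
      rw [hR] at h
      obtain ⟨w, hw, hwe⟩ := h
      have : w = z * y * z⁻¹ := e.injective (by simpa using hwe)
      exact this ▸ hw
    · change Nat.card (R : Subgroup Base) = 9 at h2
      rwa [hR, Subgroup.card_map_of_injective e.injective] at h2
    · rw [map_pow, map_one]
      exact h3 _ (hR ▸ ⟨x, hx, rfl⟩)
  · obtain ⟨R, hR⟩ := key 2 inferInstance P
    obtain ⟨f⟩ := sylow_two R
    exact ⟨((MulEquiv.subgroupMap e (P : Subgroup G)).trans (MulEquiv.subgroupCongr hR.symm)).trans f⟩

end CfsgLib.Spor.M9
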