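/-
Pairs of commuting Majorana involutions, and groups generated by pairs of type 2A.
-/
import Cfsg.Prelude.Def_AxialAlgebras

set_option autoImplicit false

namespace CfsgLib.Spor.Majorana

open Cfsg.Axial

variable {V : Type*} [AddCommGroup V] [Module ℝ V] {mul : V →ₗ[ℝ] V →ₗ[ℝ] V} {B : LinearMap.BilinForm ℝ V}

theorem mem_eigen {a v : V} {c : ℝ} : v ∈ eigen mul a c ↔ mul a v = c • v := Module.End.mem_eigenspace_iff

theorem eq_zero_of_B (hV : IsMajoranaAmbient mul B) {v : V} (h : B v v = 0) : v = 0 := by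
  by_contra hne
  have := hV.2.2.1 v hne
  linarith

theorem orth (hV : IsMajoranaAmbient mul B) {a u v : V} {c d : ℝ} (hcd : c ≠ d) (hu : u ∈ eigen mul a c)
    (hv : v ∈ eigen mul a d) : B u v = 0 := by
  have e1 : B (mul a u) v = B u (mul a v) := by rw [hV.1 a u, ← hV.2.2.2.1 u a v]
  rw [mem_eigen.1 hu, mem_eigen.1 hv, map_smul, map_smul, LinearMap.smul_apply, smul_eq_mul, smul_eq_mul] at e1
  have : (c - d) * B u v = 0 := by linarith
  exact (mul_eq_zero.1 this).resolve_left (sub_ne_zero.2 hcd)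

theorem mem_sum_one_zero {a v : V} (h : v ∈ eigenSum mul a ({1, 0} : Set ℝ)) :
    ∃ x ∈ eigen mul a 1, ∃ y ∈ eigen mul a 0, x + y = v := by
  simp only [eigenSum, iSup_insert, iSup_singleton] at h
  exact Submodule.mem_sup.1 h

theorem eigenSum_single (a : V) (c : ℝ) : eigenSum mul a ({c} : Set ℝ) = eigen mul a c := by
  simp [eigenSum]

theorem fusion {μ : V ≃ₗ[ℝ] V} {a : V} (h : IsMajoranaPair mul B μ a) {c d : ℝ} {u v : V}
    (hc : c ∈ majoranaSpectrum) (hd : d ∈ majoranaSpectrum) (hu : u ∈ eigen mul a c) (hv : v ∈ eigen mul a d) :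
    mul u v ∈ eigenSum mul a (monsterLaw (1 / 4) (1 / 32) c d) := h.2.2.1.1.2.2.2 c hc d hd u hu v hv

theorem decompose (hV : IsMajoranaAmbient mul B) {μ : V ≃ₗ[ℝ] V} {a v : V} (h : IsMajoranaPair mul B μ a)
    (hfix : μ v = v) :
    ∃ (t : ℝ) (z q : V), z ∈ eigen mul a 0 ∧ q ∈ eigen mul a (1 / 4) ∧ v = t • a + z + q := by
  have hmem : v ∈ eigenSum mul a majoranaSpectrum := h.2.2.1.1.2.2.1 ▸ Submodule.mem_top
  simp only [eigenSum, majoranaSpectrum, iSup_insert, iSup_singleton] at hmem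
  obtain ⟨x, hx, r, hr, rfl⟩ := Submodule.mem_sup.1 hmem
  obtain ⟨z, hz, r', hr', rfl⟩ := Submodule.mem_sup.1 hr
  obtain ⟨q, hq, b, hb, rfl⟩ := Submodule.mem_sup.1 hr'
  rw [h.2.2.1.2, Submodule.mem_span_singleton] at hx
  obtain ⟨t, rfl⟩ := hx
  have fixed : ∀ c ∈ ({1, 0, 1 / 4} : Set ℝ), ∀ u ∈ eigen mul a c, μ u = u := fun c hc u hu =>
    h.2.2.2.1 u (Submodule.mem_iSup_of_mem c (Submodule.mem_iSup_of_mem hc hu))
  have ha : t • a ∈ eigen mul a 1 := by
    rw [h.2.2.1.2]; exact Submodule.smul_mem _ t (Submodule.mem_span_singleton_self a)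
  have hb' : μ b = -b := h.2.2.2.2 b hb
  rw [map_add, map_add, map_add, fixed 1 (by simp) _ ha, fixed 0 (by simp) _ hz,
    fixed (1 / 4) (by simp) _ hq, hb'] at hfix
  have e : -b = b := add_left_cancel (add_left_cancel (add_left_cancel hfix))
  have b0 : b = 0 := by
    refine eq_zero_of_B hV ?_
    have := congrArg (fun w => B b w) e
    simp only [map_neg] at this
    linarith
  exact ⟨t, z, q, hz, hq, by rw [b0]; abel⟩

theorem isPair_conj {μ ν : V ≃ₗ[ℝ] V} {a : V} (h : IsMajoranaPair mul B μ a)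
    (hν : ∀ u v : V, ν (mul u v) = mul (ν u) (ν v)) (hcomm : ∀ v, μ (ν v) = ν (μ v)) :
    IsMajoranaPair mul B μ (ν a) := by
  obtain ⟨h1, h2, ⟨⟨hne, hid, htop, hfus⟩, hprim⟩, hm1, hm2⟩ := h
  have he : ∀ c, eigen mul (ν a) c = (eigen mul a c).map (ν : V →ₗ[ℝ] V) := fun c => by
    ext v
    rw [Submodule.mem_map_equiv, mem_eigen, mem_eigen]
    constructor <;> intro hv
    · apply ν.injective
      rw [hν, LinearEquiv.apply_symm_apply, hv, map_smul, LinearEquiv.apply_symm_apply]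
    · rw [← ν.apply_symm_apply v, ← hν, hv, map_smul]
  have hs : ∀ S : Set ℝ, eigenSum mul (ν a) S = (eigenSum mul a S).map (ν : V →ₗ[ℝ] V) := fun S => by
    simp only [eigenSum, he, Submodule.map_iSup]
  refine ⟨h1, h2, ⟨⟨fun e => hne (ν.injective (e.trans (map_zero ν).symm)), by rw [← hν, hid], ?_, ?_⟩, ?_⟩, ?_, ?_⟩
  · rw [hs, htop, Submodule.map_top, LinearEquiv.range]
  · intro c hc d hd u hu v hv
    rw [he, Submodule.mem_map] at hu hv
    obtain ⟨u', hu', rfl⟩ := hu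
    obtain ⟨v', hv', rfl⟩ := hv
    rw [hs]
    exact ⟨mul u' v', hfus c hc d hd u' hu' v' hv', hν u' v'⟩
  · rw [he, hprim, Submodule.map_span, Set.image_singleton]; rfl
  · intro v hv
    rw [hs, Submodule.mem_map] at hv
    obtain ⟨w, hw, rfl⟩ := hv
    show μ (ν w) = ν w
    rw [hcomm]; exact congrArg ν (hm1 w hw)
  · intro v hv
    rw [he, Submodule.mem_map] at hv
    obtain ⟨w, hw, rfl⟩ := hv
    show μ (ν w) = -ν w
    rw [hcomm, show μ w = -w from hm2 w hw, map_neg]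

theorem law_vals : monsterLaw (1 / 4 : ℝ) (1 / 32) 0 0 = {0} ∧
    monsterLaw (1 / 4 : ℝ) (1 / 32) 0 (1 / 4) = {1 / 4} ∧
    monsterLaw (1 / 4 : ℝ) (1 / 32) (1 / 4) (1 / 4) = {1, 0} := by
  refine ⟨?_, ?_, ?_⟩ <;> (unfold monsterLaw; norm_num)

theorem dichotomy (hV : IsMajoranaAmbient mul B) {μ₀ μ₁ : V ≃ₗ[ℝ] V} {a₀ a₁ : V}
    (h₀ : IsMajoranaPair mul B μ₀ a₀) (h₁ : IsMajoranaPair mul B μ₁ a₁)
    (hu₀ : ∀ a : V, IsMajoranaPair mul B μ₀ a → a = a₀)
    (hu₁ : ∀ a : V, IsMajoranaPair mul B μ₁ a → a = a₁) (hn₀ : B a₀ a₀ = 1) (hn₁ : B a₁ a₁ = 1)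
    (hc : μ₀ * μ₁ = μ₁ * μ₀) (hne : a₀ ≠ a₁) :
    (B a₀ a₁ = 0 ∧ mul a₀ a₁ = 0) ∨
      (B a₀ a₁ = 1 / 8 ∧
        mul (a₀ + a₁ - (8 : ℝ) • mul a₀ a₁) (a₀ + a₁ - (8 : ℝ) • mul a₀ a₁) = a₀ + a₁ - (8 : ℝ) • mul a₀ a₁ ∧
        mul a₀ (a₀ + a₁ - (8 : ℝ) • mul a₀ a₁) =
          (1 / 8 : ℝ) • (a₀ + (a₀ + a₁ - (8 : ℝ) • mul a₀ a₁) - a₁) ∧
        mul a₁ (a₀ + a₁ - (8 : ℝ) • mul a₀ a₁) =
          (1 / 8 : ℝ) • (a₁ + (a₀ + a₁ - (8 : ℝ) • mul a₀ a₁) - a₀)) := by
  have hfix : μ₀ a₁ = a₁ := hu₁ _ (isPair_conj h₁ h₀.1 fun v => (LinearMap.congr_fun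
    (congrArg (fun e : V ≃ₗ[ℝ] V => (e : V →ₗ[ℝ] V)) hc) v).symm)
  obtain ⟨t, z, q, hz, hq, e⟩ := decompose hV h₀ hfix
  obtain ⟨hcomm, hsym, hpos, hass, -⟩ := id hV
  have haa : mul a₀ a₀ = a₀ := h₀.2.2.1.1.2.1
  have h11 : mul a₁ a₁ = a₁ := h₁.2.2.1.1.2.1
  have haz : mul a₀ z = 0 := by rw [mem_eigen.1 hz, zero_smul]
  have haq : mul a₀ q = (1 / 4 : ℝ) • q := mem_eigen.1 hq
  have ha1 : a₀ ∈ eigen mul a₀ 1 := mem_eigen.2 (by rw [one_smul, haa])
  obtain ⟨l00, l0q, lqq⟩ := law_vals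
  have m0 : (0 : ℝ) ∈ majoranaSpectrum := by simp [majoranaSpectrum]
  have mq : (1 / 4 : ℝ) ∈ majoranaSpectrum := by simp [majoranaSpectrum]
  have hzz : mul z z ∈ eigen mul a₀ 0 := by
    have := fusion h₀ m0 m0 hz hz; rwa [l00, eigenSum_single] at this
  have hzq : mul z q ∈ eigen mul a₀ (1 / 4) := by
    have := fusion h₀ m0 mq hz hq; rwa [l0q, eigenSum_single] at this
  have hqq := fusion h₀ mq mq hq hq
  rw [lqq] at hqq
  obtain ⟨x, hx, y, hy, hxy⟩ := mem_sum_one_zero hqq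
  rw [h₀.2.2.1.2, Submodule.mem_span_singleton] at hx
  obtain ⟨s, rfl⟩ := hx
  -- projection to the three components
  have proj : ∀ {c c' : ℝ} {u u' w w' : V}, u ∈ eigen mul a₀ 0 → u' ∈ eigen mul a₀ 0 →
      w ∈ eigen mul a₀ (1 / 4) → w' ∈ eigen mul a₀ (1 / 4) → c • a₀ + u + w = c' • a₀ + u' + w' →
      c = c' ∧ u = u' ∧ w = w' := by
    intro c c' u u' w w' hu hu' hw hw' he
    have hc' : c = c' := by
      have h := congrArg (B a₀) he
      simp only [map_add, map_smul, smul_eq_mul, hn₀, orth hV (by norm_num) ha1 hu, orth hV (by norm_num) ha1 hu',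
        orth hV (by norm_num) ha1 hw, orth hV (by norm_num) ha1 hw'] at h
      linarith
    subst hc'
    have he' : u + w = u' + w' := by rw [add_assoc, add_assoc] at he; exact add_left_cancel he
    have hw0 : w - w' = 0 := by
      refine eq_zero_of_B hV ?_
      have hh : u' - u = w - w' := by linear_combination (norm := abel) -(1 : ℤ) • he'
      conv_lhs => arg 1; arg 2; rw [← hh]
      exact orth hV (by norm_num : (0 : ℝ) ≠ 1 / 4) (sub_mem hu' hu) (sub_mem hw hw')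
    have hw' := sub_eq_zero.1 hw0
    exact ⟨rfl, by rw [hw'] at he'; exact add_right_cancel he', hw'⟩
  have hexp : mul a₁ a₁ = (t * t + s) • a₀ + (mul z z + y) + ((t / 2) • q + (2 : ℝ) • mul z q) := by
    rw [e]
    simp only [map_add, map_smul, LinearMap.add_apply, LinearMap.smul_apply, haa, haz, haq,
      show mul z a₀ = 0 by rw [hcomm, haz], show mul q a₀ = (1 / 4 : ℝ) • q by rw [hcomm, haq],
      show mul q z = mul z q from hcomm q z, ← hxy]
    module
  rw [h11] at hexp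
  conv at hexp => lhs; rw [e]
  obtain ⟨p1, p0, pq⟩ := proj hz (add_mem hzz hy) hq
    (add_mem (Submodule.smul_mem _ _ hq) (Submodule.smul_mem _ _ hzq)) hexp
  have hB : B a₀ a₁ = t := by
    rw [e, map_add, map_add, map_smul, hn₀, orth hV (by norm_num) ha1 hz, orth hV (by norm_num) ha1 hq]
    simp
  have hprod : mul a₀ a₁ = t • a₀ + (1 / 4 : ℝ) • q := by
    rw [e, map_add, map_add, map_smul, haa, haz, haq]; abel
  have hzq' : mul z q = (1 / 2 - t / 4) • q := by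
    have h2 : (2 : ℝ) • mul z q = (1 - t / 2) • q := by linear_combination (norm := module) -pq
    linear_combination (norm := module) (1 / 2 : ℝ) • h2
  -- the reversed equation
  have hfix' : μ₁ a₀ = a₀ := hu₀ _ (isPair_conj h₀ h₁.1 fun v => LinearMap.congr_fun
    (congrArg (fun e : V ≃ₗ[ℝ] V => (e : V →ₗ[ℝ] V)) hc) v)
  obtain ⟨t', z', q', hz', hq', e'⟩ := decompose hV h₁ hfix'
  have hb1 : a₁ ∈ eigen mul a₁ 1 := mem_eigen.2 (by rw [one_smul, h11])
  have ht' : t' = t := by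
    have h : B a₁ a₀ = t' := by
      rw [e', map_add, map_add, map_smul, hn₁, orth hV (by norm_num) hb1 hz', orth hV (by norm_num) hb1 hq']
      simp
    rw [← h, hsym, hB]
  subst ht'
  have hp' : mul a₁ a₀ = t' • a₁ + (1 / 4 : ℝ) • q' := by
    rw [e', map_add, map_add, map_smul, h11, mem_eigen.1 hz', mem_eigen.1 hq', zero_smul]; abel
  have hrev : mul a₁ (mul a₀ a₁) = (3 / 4 * t') • a₁ + (1 / 4 : ℝ) • mul a₀ a₁ := by
    rw [hcomm a₀ a₁, hp', map_add, map_smul, map_smul, h11, mem_eigen.1 hq']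
    module
  have hsplit : (t' * t' + s / 4) • a₀ + (1 / 4 : ℝ) • y + (t' / 4 + 1 / 8 : ℝ) • q =
      (3 / 4 * (t' * t') + t' / 4) • a₀ + (3 / 4 * t') • z + (3 / 4 * t' + 1 / 16 : ℝ) • q := by
    have h := hrev
    rw [hprod, e] at h
    simp only [map_add, map_smul, LinearMap.add_apply, LinearMap.smul_apply, haa, haz, haq,
      show mul z a₀ = 0 by rw [hcomm, haz], show mul q a₀ = (1 / 4 : ℝ) • q by rw [hcomm, haq],
      hzq', ← hxy] at h
    linear_combination (norm := module) h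
  obtain ⟨-, r0, rq⟩ := proj (Submodule.smul_mem _ _ hy) (Submodule.smul_mem _ _ hz)
    (Submodule.smul_mem _ _ hq) (Submodule.smul_mem _ _ hq) hsplit
  have hy' : y = (3 * t') • z := by linear_combination (norm := module) (4 : ℝ) • r0
  have hq0 : (1 / 16 - t' / 2) • q = 0 := by linear_combination (norm := module) rq
  rcases smul_eq_zero.1 hq0 with h | h
  · -- type 2A
    right
    obtain rfl : t' = 1 / 8 := by linarith
    obtain rfl : s = 7 / 64 := by linarith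
    have hzz' : mul z z = (5 / 8 : ℝ) • z := by linear_combination (norm := module) -p0 - hy'
    have ha2 : a₀ + a₁ - (8 : ℝ) • mul a₀ a₁ = (1 / 8 : ℝ) • a₀ + z - q := by rw [hprod, e]; module
    refine ⟨hB, ?_, ?_, ?_⟩ <;> rw [ha2] <;> (try rw [e]) <;>
      simp only [map_add, map_sub, map_smul, LinearMap.add_apply, LinearMap.sub_apply, LinearMap.smul_apply, haa,
        haz, haq, show mul z a₀ = 0 by rw [hcomm, haz], show mul q a₀ = (1 / 4 : ℝ) • q by rw [hcomm, haq],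
        show mul q z = mul z q from hcomm q z, hzq', ← hxy, hzz', hy'] <;> module
  · -- type 2B
    left
    subst h
    have hs0 : s = 0 := by
      have h0 : s • a₀ + y + 0 = (0 : ℝ) • a₀ + 0 + 0 := by rw [hxy, map_zero]; simp
      exact (proj hy (zero_mem _) (zero_mem _) (zero_mem _) h0).1
    rcases mul_eq_zero.1 (show t' * (t' - 1) = 0 by rw [hs0] at p1; linarith) with h | h
    · exact ⟨hB.trans h, by rw [hprod, h]; simp⟩
    · exfalso
      obtain rfl : t' = 1 := by linarith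
      refine hne ?_
      have hz0 : z = 0 := by
        refine eq_zero_of_B hV ?_
        rw [e] at hn₁
        simp only [one_smul, add_zero, map_add, LinearMap.add_apply, hn₀, orth hV (by norm_num) ha1 hz,
          hsym z a₀] at hn₁
        linarith
      rw [e, hz0]; simp

theorem inner_two (hV : IsMajoranaAmbient mul B) {a b c : V} (ha : mul a a = a) (haa : B a a = 1)
    (hab : mul a b = (1 / 8 : ℝ) • (a + b - c)) (hac : mul a c = (1 / 8 : ℝ) • (a + c - b)) :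
    B a b = 1 / 8 := by
  have f : ∀ u, B a u = B a (mul a u) := fun u => by rw [hV.2.2.2.1, ha]
  have e1 := f b
  have e2 := f c
  rw [hab] at e1
  rw [hac] at e2
  simp only [map_smul, map_add, map_sub, smul_eq_mul, haa] at e1 e2
  linarith

theorem card_le_four (hV : IsMajoranaAmbient mul B) (X : Subgroup (V ≃ₗ[ℝ] V)) (hX : ∀ x ∈ X, x * x = 1)
    (ax : (V ≃ₗ[ℝ] V) → V) (hax : ∀ x ∈ X, x ≠ 1 → IsMajoranaPair mul B x (ax x))
    (h1 : ∀ x ∈ X, x ≠ 1 → B (ax x) (ax x) = 1)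
    (h2A : ∀ x ∈ X, ∀ y ∈ X, x ≠ 1 → y ≠ 1 → x ≠ y →
      mul (ax x) (ax y) = (1 / 8 : ℝ) • (ax x + ax y - ax (x * y))) : Nat.card X ≤ 4 := by
  by_contra hgt
  obtain ⟨x, hx, x1⟩ : ∃ x ∈ X, x ≠ 1 := by
    by_contra hcon; push Not at hcon
    have : X = ⊥ := (Subgroup.eq_bot_iff_forall X).2 hcon
    rw [this, Subgroup.card_bot] at hgt; omega
  haveI : Finite X := Nat.finite_of_card_ne_zero (by omega)
  haveI := Fintype.ofFinite X
  classical
  obtain ⟨y, hy, y1, yx⟩ : ∃ y ∈ X, y ≠ 1 ∧ y ≠ x := by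
    by_contra hcon; push Not at hcon
    refine hgt (le_trans (b := ({1, ⟨x, hx⟩} : Finset X).card) ?_ (Finset.card_le_two.trans (by norm_num)))
    rw [Nat.card_eq_fintype_card, ← Finset.card_univ]
    refine Finset.card_le_card fun u _ => ?_
    rcases eq_or_ne (u : V ≃ₗ[ℝ] V) 1 with h | h
    · simp [Subtype.ext_iff, h]
    · simp [Subtype.ext_iff, hcon u u.2 h]
  obtain ⟨z, hz, z1, zx, zy, zxy⟩ : ∃ z ∈ X, z ≠ 1 ∧ z ≠ x ∧ z ≠ y ∧ z ≠ x * y := by
    by_contra hcon; push Not at hcon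
    refine hgt (le_trans (b := ({1, ⟨x, hx⟩, ⟨y, hy⟩, ⟨x * y, mul_mem hx hy⟩} : Finset X).card) ?_
      Finset.card_le_four)
    rw [Nat.card_eq_fintype_card, ← Finset.card_univ]
    refine Finset.card_le_card fun u _ => ?_
    rcases eq_or_ne (u : V ≃ₗ[ℝ] V) 1 with h | h
    · simp [Subtype.ext_iff, h]
    rcases eq_or_ne (u : V ≃ₗ[ℝ] V) x with h' | h'
    · simp [Subtype.ext_iff, h']
    rcases eq_or_ne (u : V ≃ₗ[ℝ] V) y with h'' | h''
    · simp [Subtype.ext_iff, h'']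
    simp [Subtype.ext_iff, hcon u u.2 h h' h'']
  have comm : ∀ u ∈ X, ∀ v ∈ X, u * v = v * u := fun u hu v hv => by
    have e := hX _ (mul_mem hu hv)
    calc u * v = u * (u * v * (u * v)) * v := by rw [e, mul_one]
      _ = (u * u) * v * u * (v * v) := by group
      _ = v * u := by rw [hX u hu, hX v hv, one_mul, mul_one]
  have cancel : ∀ u ∈ X, ∀ v : V ≃ₗ[ℝ] V, u * (u * v) = v := fun u hu v => by rw [← mul_assoc, hX u hu, one_mul]
  have ne1 : ∀ u ∈ X, ∀ v, u ≠ v → u * v ≠ 1 := fun u hu v hne h => hne (by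
    have := congrArg (u * ·) h
    simpa [cancel u hu] using this.symm)
  -- the triangle through two elements
  have tri : ∀ u ∈ X, ∀ v ∈ X, u ≠ 1 → v ≠ 1 → u ≠ v →
      mul (ax u) (ax (u * v)) = (1 / 8 : ℝ) • (ax u + ax (u * v) - ax v) := fun u hu v hv hu1 hv1 huv => by
    have := h2A u hu (u * v) (mul_mem hu hv) hu1 (ne1 u hu v huv) fun h => hv1 (mul_eq_left.1 h.symm)
    rwa [cancel u hu] at this
  have u14 : ∀ u ∈ X, ∀ v ∈ X, u ≠ 1 → v ≠ 1 → u ≠ v → ax v - ax (u * v) ∈ eigen mul (ax u) (1 / 4) :=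
    fun u hu v hv hu1 hv1 huv => mem_eigen.2 (by rw [map_sub, h2A u hu v hv hu1 hv1 huv, tri u hu v hv hu1 hv1 huv]; module)
  have hxyne : x * y ≠ 1 := ne1 x hx y (Ne.symm yx)
  have hxz1 : x * z ≠ 1 := ne1 x hx z (Ne.symm zx)
  have hyz1 : y * z ≠ 1 := ne1 y hy z (Ne.symm zy)
  have hxyz : x ≠ y * z := fun h => zxy (by
    rw [h, comm y hy z hz, mul_assoc, hX y hy, mul_one])
  have hy_xz : y ≠ x * z := fun h => zxy (by rw [h, cancel x hx])
  have hxy_xz : x * y ≠ x * z := fun h => zy (mul_left_cancel h).symm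
  -- the product of two eigenvectors
  have hprod : mul (ax y - ax (x * y)) (ax z - ax (x * z)) =
      -(1 / 4 : ℝ) • (ax (y * z) - ax (x * (y * z))) := by
    have e1 : x * y * (x * z) = y * z := by
      rw [comm x hx y hy, mul_assoc, cancel x hx]
    have e2 : y * (x * z) = x * (y * z) := by rw [← mul_assoc, comm y hy x hx, mul_assoc]
    have e3 : x * y * z = x * (y * z) := mul_assoc _ _ _
    simp only [map_sub, LinearMap.sub_apply]
    rw [h2A y hy z hz y1 z1 (Ne.symm zy), h2A y hy _ (mul_mem hx hz) y1 hxz1 hy_xz,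
      h2A _ (mul_mem hx hy) z hz hxyne z1 (Ne.symm zxy),
      h2A _ (mul_mem hx hy) _ (mul_mem hx hz) hxyne hxz1 hxy_xz, e1, e2, e3]
    module
  have hf := fusion (hax x hx x1) (by simp [majoranaSpectrum]) (by simp [majoranaSpectrum])
    (u14 x hx y hy x1 y1 (Ne.symm yx)) (u14 x hx z hz x1 z1 (Ne.symm zx))
  rw [law_vals.2.2] at hf
  obtain ⟨p, hp, r, hr, hpr⟩ := mem_sum_one_zero hf
  have hw := u14 x hx (y * z) (mul_mem hy hz) x1 hyz1 hxyz
  have hw0 : ax (y * z) - ax (x * (y * z)) = 0 := by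
    refine eq_zero_of_B hV ?_
    have h0 : B (-(1 / 4 : ℝ) • (ax (y * z) - ax (x * (y * z)))) (ax (y * z) - ax (x * (y * z))) = 0 := by
      rw [← hprod, ← hpr, map_add, LinearMap.add_apply, orth hV (by norm_num) hp hw, orth hV (by norm_num) hr hw,
        add_zero]
    rw [map_smul, LinearMap.smul_apply, smul_eq_mul] at h0
    linarith
  -- but distinct axes are distinct
  have hm := mul_mem hy hz
  have hm1 := ne1 x hx _ hxyz
  have hne' : y * z ≠ x * (y * z) := fun h => x1 (mul_eq_right.1 h.symm)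
  have h3 := h2A _ hm _ (mul_mem hx hm) hyz1 hm1 hne'
  have e4 : y * z * (x * (y * z)) = x := by
    rw [comm x hx _ hm, cancel _ hm]
  rw [e4] at h3
  have hh := h2A _ hm x hx hyz1 x1 hxyz.symm
  rw [comm (y * z) hm x hx] at hh
  have hb := inner_two hV (hax _ hm hyz1).2.2.1.1.2.1 (h1 _ hm hyz1) h3 hh
  rw [← sub_eq_zero.1 hw0, h1 _ hm hyz1] at hb
  norm_num at hb

end CfsgLib.Spor.Majorana
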