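/-
Maximality of a point stabilizer from the sizes of its orbits, and moving orbits along a group element.
-/
import Mathlib

namespace CfsgLib.Spor

open scoped Pointwise

theorem orbit_stabilizer_smul {G α β : Type*} [Group G] [MulAction G α] [MulAction G β] (g : G) (x : α)
    (y : β) : MulAction.orbit (MulAction.stabilizer G (g • x)) (g • y) =
      g • MulAction.orbit (MulAction.stabilizer G x) y := by
  ext z
  constructor
  · rintro ⟨⟨h, hh⟩, rfl⟩
    refine ⟨(g⁻¹ * h * g) • y, ⟨⟨g⁻¹ * h * g, ?_⟩, rfl⟩, ?_⟩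
    · rw [MulAction.mem_stabilizer_iff] at hh ⊢
      rw [mul_smul, mul_smul, hh, inv_smul_smul]
    · show g • (g⁻¹ * h * g) • y = h • g • y
      rw [mul_smul, mul_smul, smul_inv_smul]
  · rintro ⟨_, ⟨⟨h, hh⟩, rfl⟩, rfl⟩
    refine ⟨⟨g * h * g⁻¹, ?_⟩, ?_⟩
    · rw [MulAction.mem_stabilizer_iff] at hh ⊢
      rw [mul_smul, mul_smul, inv_smul_smul, hh]
    · show (g * h * g⁻¹) • g • y = g • h • y
      rw [mul_smul, mul_smul, inv_smul_smul]

theorem ncard_orbit_stabilizer_smul {G α β : Type*} [Group G] [MulAction G α] [MulAction G β] (g : G)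
    (x : α) (y : β) : (MulAction.orbit (MulAction.stabilizer G (g • x)) (g • y)).ncard =
      (MulAction.orbit (MulAction.stabilizer G x) y).ncard := by
  rw [orbit_stabilizer_smul, Set.ncard_smul_set]

theorem isCoatom_stabilizer_smul {G α : Type*} [Group G] [MulAction G α] (g : G) {x : α}
    (h : IsCoatom (MulAction.stabilizer G x)) : IsCoatom (MulAction.stabilizer G (g • x)) := by
  rw [MulAction.stabilizer_smul_eq_stabilizer_map_conj]
  exact (OrderIso.isCoatom_iff (MulEquiv.mapSubgroup (MulAut.conj g)) _).2 h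

/-- Orbits of a stabilizer whose partial sums do not divide the index force maximality. -/
theorem isCoatom_stabilizer_of_orbits {G β : Type*} [Group G] [Finite G] [MulAction G β] (x : β) {m : ℕ}
    (hm : 0 < m) (r : Fin m → β) (n : Fin m → ℕ)
    (hn : ∀ i, (MulAction.orbit (MulAction.stabilizer G x) (r i)).ncard = n i)
    (horb : MulAction.orbit G x = {x} ∪ ⋃ i, MulAction.orbit (MulAction.stabilizer G x) (r i))
    (hN : (MulAction.orbit G x).ncard = 1 + ∑ i, n i)
    (hdiv : ∀ I : Finset (Fin m), (1 + ∑ i ∈ I, n i) ∣ (1 + ∑ i, n i) → I = ∅ ∨ I = Finset.univ) :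
    IsCoatom (MulAction.stabilizer G x) := by
  classical
  set H := MulAction.stabilizer G x with hH
  set B := fun i => MulAction.orbit H (r i) with hB
  have hGfin : (MulAction.orbit G x).Finite := Set.finite_range _
  have hBfin : ∀ i, (B i).Finite := fun i => Set.finite_range _
  have hle : ∀ I : Finset (Fin m), (⋃ i ∈ I, B i).ncard ≤ ∑ i ∈ I, n i := fun I => by
    refine (Finset.set_ncard_biUnion_le I B).trans (le_of_eq (Finset.sum_congr rfl fun i _ => hn i))
  refine ⟨fun htop => ?_, fun K hK => ?_⟩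
  · have h1 : MulAction.orbit G x = {x} := by
      ext y
      constructor
      · rintro ⟨g, rfl⟩
        have hg : g ∈ H := by rw [htop]; exact Subgroup.mem_top g
        exact hg
      · rintro rfl; exact MulAction.mem_orbit_self _
    rw [h1, Set.ncard_singleton] at hN
    have h2 : n ⟨0, hm⟩ = 0 := by
      have := Finset.single_le_sum (f := n) (fun i _ => Nat.zero_le _) (Finset.mem_univ ⟨0, hm⟩)
      omega
    rw [← hn, Set.ncard_eq_zero (hBfin _)] at h2
    exact (MulAction.nonempty_orbit (M := H) (r ⟨0, hm⟩)).ne_empty h2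
  obtain ⟨k, hk, hkH⟩ := SetLike.exists_of_lt hK
  set A := MulAction.orbit K x with hA
  have hAG : A ⊆ MulAction.orbit G x := by rintro _ ⟨g, rfl⟩; exact ⟨g.1, rfl⟩
  have hAstable : ∀ h ∈ H, ∀ y ∈ A, h • y ∈ A := by
    rintro h hh _ ⟨g, rfl⟩
    exact ⟨⟨h * g, K.mul_mem (hK.le hh) g.2⟩, mul_smul h (g : G) x⟩
  let I : Finset (Fin m) := Finset.univ.filter fun i => r i ∈ A
  have hsub : A ⊆ {x} ∪ ⋃ i ∈ I, B i := by
    intro y hy
    have := horb ▸ hAG hy
    rcases this with h | h
    · exact Or.inl h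
    · obtain ⟨i, ⟨h', hh'⟩⟩ := Set.mem_iUnion.1 h
      refine Or.inr (Set.mem_biUnion (x := i) ?_ ⟨h', hh'⟩)
      simp only [I, Finset.coe_filter, Finset.mem_univ, true_and, Set.mem_ofPred_eq]
      have := hAstable _ (H.inv_mem h'.2) _ hy
      have e : ((h' : G))⁻¹ • y = r i := by
        rw [← hh']; exact inv_smul_smul (h' : G) (r i)
      rwa [e] at this
  have hrest : MulAction.orbit G x \ A ⊆ ⋃ i ∈ Iᶜ, B i := by
    rintro y ⟨hy, hyA⟩
    rw [horb] at hy
    rcases hy with h | h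
    · exact absurd (Set.mem_singleton_iff.1 h ▸ MulAction.mem_orbit_self x) hyA
    · obtain ⟨i, ⟨h', hh'⟩⟩ := Set.mem_iUnion.1 h
      refine Set.mem_biUnion (x := i) ?_ ⟨h', hh'⟩
      simp only [Finset.coe_compl, Set.mem_compl_iff, I, Finset.coe_filter, Finset.mem_univ, true_and,
        Set.mem_ofPred_eq]
      intro hr
      exact hyA (hh' ▸ hAstable _ h'.2 _ hr)
  have c1 : A.ncard ≤ 1 + ∑ i ∈ I, n i := by
    refine (Set.ncard_le_ncard hsub ((Set.finite_singleton x).union
      (Set.Finite.biUnion I.finite_toSet fun i _ => hBfin i))).trans ((Set.ncard_union_le _ _).trans ?_)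
    rw [Set.ncard_singleton]; exact Nat.add_le_add_left (hle I) 1
  have c2 : (MulAction.orbit G x \ A).ncard ≤ ∑ i ∈ Iᶜ, n i :=
    (Set.ncard_le_ncard hrest (Set.Finite.biUnion (Iᶜ).finite_toSet fun i _ => hBfin i)).trans (hle _)
  have c3 := Set.ncard_sdiff_add_ncard_of_subset hAG hGfin
  rw [hN] at c3
  have c4 : ∑ i ∈ I, n i + ∑ i ∈ Iᶜ, n i = ∑ i, n i := Finset.sum_add_sum_compl I n
  have hcard : A.ncard = 1 + ∑ i ∈ I, n i := by omega
  have hdvd : (1 + ∑ i ∈ I, n i) ∣ (1 + ∑ i, n i) := by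
    have e1 := Nat.card_congr (MulAction.orbitProdStabilizerEquivGroup K x)
    have e2 := Nat.card_congr (MulAction.orbitProdStabilizerEquivGroup G x)
    rw [Nat.card_prod, Nat.card_coe_set_eq] at e1 e2
    rw [hcard] at e1
    rw [hN] at e2
    have e3 : Nat.card (MulAction.stabilizer K x) = Nat.card H := Nat.card_congr
      { toFun := fun g => ⟨(g.1 : G), g.2⟩
        invFun := fun g => ⟨⟨g.1, hK.le g.2⟩, g.2⟩
        left_inv := fun _ => rfl
        right_inv := fun _ => rfl }
    rw [e3] at e1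
    have h4 := K.card_subgroup_dvd_card
    rw [← e1, ← e2] at h4
    exact Nat.dvd_of_mul_dvd_mul_right Nat.card_pos h4
  rcases hdiv I hdvd with hI | hI
  · have h1 : A ⊆ {x} := fun y hy => by simpa [hI] using hsub hy
    exact absurd (MulAction.mem_stabilizer_iff.2 (h1 ⟨⟨k, hk⟩, rfl⟩)) hkH
  · rw [eq_top_iff]
    intro g _
    have hall : A = MulAction.orbit G x :=
      Set.eq_of_subset_of_ncard_le hAG (by rw [hN, hcard, hI]) hGfin
    obtain ⟨k', hk'⟩ : g • x ∈ A := hall ▸ ⟨g, rfl⟩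
    have : ((k' : G))⁻¹ * g ∈ H := by
      rw [hH, MulAction.mem_stabilizer_iff, mul_smul, inv_smul_eq_iff]; exact hk'.symm
    simpa using K.mul_mem k'.2 (hK.le this)

end CfsgLib.Spor
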