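/-
Groups of order 7920 with disconnected prime graph.
-/
import Cfsg.Agent.Lib.Coprime.SylowProduct

set_option autoImplicit false

namespace CfsgLib.Spor.OrderM11

open Subgroup MulAction

/-- No element has order `r * s`. -/
def Sep (G : Type*) [Group G] (r s : ℕ) : Prop := ¬ ∃ g : G, orderOf g = r * s

variable {G : Type*} [Group G] [Finite G]

theorem exists_order_of_dvd {g : G} {m : ℕ} (hm : m ∣ orderOf g) : ∃ x : G, orderOf x = m := by
  have h0 := orderOf_pos g
  refine ⟨g ^ (orderOf g / m), ?_⟩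
  rw [orderOf_pow, Nat.gcd_eq_right (Nat.div_dvd_of_dvd hm), Nat.div_div_self hm h0.ne']

theorem free_action {r s : ℕ} (hr : r.Prime) (hs : s.Prime) (hne : r ≠ s) (hsep : Sep G r s) (R S : Subgroup G)
    (hR : IsPGroup r R) (hS : IsPGroup s S) (hn : R ≤ normalizer (S : Set G)) :
    Nat.card R ∣ Nat.card S - 1 := by
  haveI : Fact r.Prime := ⟨hr⟩
  haveI : Fact s.Prime := ⟨hs⟩
  let X := {x : S // x ≠ 1}
  let actFun : R → X → X := fun g x => ⟨⟨(g : G) * (x.1 : G) * (g : G)⁻¹, (mem_normalizer_iff.1 (hn g.2) _).1 x.1.2⟩,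
    fun e => x.2 (Subtype.ext (conj_eq_one_iff.1 (congrArg Subtype.val e)))⟩
  letI : MulAction R X :=
    { smul := actFun
      one_smul := fun x => Subtype.ext (Subtype.ext (show (1 : G) * (x.1 : G) * (1 : G)⁻¹ = x.1 by group))
      mul_smul := fun a b x => Subtype.ext (Subtype.ext
        (show ((a : G) * b) * (x.1 : G) * ((a : G) * b)⁻¹ = a * (b * (x.1 : G) * (b : G)⁻¹) * (a : G)⁻¹ by group)) }
  have hfree : ∀ x : X, stabilizer R x = ⊥ := by
    intro x
    refine (eq_bot_iff_forall _).2 fun g hg => ?_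
    by_contra hg1
    have e : (g : G) * (x.1 : G) * (g : G)⁻¹ = x.1 := congrArg (fun y : X => ((y.1 : S) : G)) hg
    obtain ⟨i, hi⟩ := IsPGroup.iff_orderOf.1 hR g
    obtain ⟨j, hj⟩ := IsPGroup.iff_orderOf.1 hS x.1
    rw [← Subgroup.orderOf_coe] at hi hj
    have hc : Commute (g : G) (x.1 : G) := mul_inv_eq_iff_eq_mul.1 e
    have ho := hc.orderOf_mul_eq_mul_orderOf_of_coprime (by
      rw [hi, hj]; exact Nat.Coprime.pow _ _ ((Nat.coprime_primes hr hs).2 hne))
    have hi0 : i ≠ 0 := fun h0 => hg1 (by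
      rw [h0, pow_zero, Subgroup.orderOf_coe, orderOf_eq_one_iff] at hi; exact hi)
    have hj0 : j ≠ 0 := fun h0 => x.2 (by
      rw [h0, pow_zero, Subgroup.orderOf_coe, orderOf_eq_one_iff] at hj; exact hj)
    refine hsep (exists_order_of_dvd (g := (g : G) * (x.1 : G)) ?_)
    rw [ho, hi, hj]
    exact mul_dvd_mul (dvd_pow_self r hi0) (dvd_pow_self s hj0)
  have hcard := Nat.card_congr (MulAction.selfEquivOrbitsQuotientProd hfree)
  rw [Nat.card_prod] at hcard
  have hX : Nat.card X = Nat.card S - 1 := by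
    classical
    haveI := Fintype.ofFinite S
    rw [Nat.card_eq_fintype_card, Nat.card_eq_fintype_card, Fintype.card_subtype_compl, Fintype.card_subtype_eq]
  exact hX ▸ hcard ▸ dvd_mul_left _ _

theorem exists_order_fifteen {H : Type*} [Group H] [Finite H] (h : Nat.card H = 45) :
    ∃ x : H, orderOf x = 15 := by
  by_contra hno
  haveI : Fact (Nat.Prime 5) := ⟨by norm_num⟩
  haveI : Fact (Nat.Prime 3) := ⟨Nat.prime_three⟩
  obtain ⟨P⟩ : Nonempty (Sylow 5 H) := inferInstance
  obtain ⟨R⟩ : Nonempty (Sylow 3 H) := inferInstance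
  have h45 : (45 : ℕ).factorization 5 = 1 ∧ (45 : ℕ).factorization 3 = 2 := by
    rw [Nat.factorization_def _ (by norm_num), Nat.factorization_def _ Nat.prime_three,
      show (45 : ℕ) = 5 ^ 1 * 9 by norm_num, padicValNat.mul (by norm_num) (by norm_num), padicValNat.prime_pow,
      padicValNat.eq_zero_of_not_dvd (by norm_num : ¬ (5 : ℕ) ∣ 9), padicValNat.mul (by norm_num) (by norm_num),
      show (9 : ℕ) = 3 ^ 2 by norm_num, padicValNat.prime_pow,
      padicValNat.eq_zero_of_not_dvd (by norm_num : ¬ (3 : ℕ) ∣ 5 ^ 1)]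
    omega
  have hP : Nat.card P = 5 := by rw [P.card_eq_multiplicity, h, h45.1, pow_one]
  have hR : Nat.card R = 9 := by rw [R.card_eq_multiplicity, h, h45.2]; norm_num
  have hidx : (P : Subgroup H).index = 9 := by
    have := (P : Subgroup H).card_mul_index; rw [hP, h] at this; omega
  have hn : Nat.card (Sylow 5 H) = 1 := by
    have h1 := card_sylow_modEq_one 5 H
    have h2 := hidx ▸ P.card_dvd_index
    have h3 : ∀ n ∈ Nat.divisors 9, n % 5 = 1 → n = 1 := by decide
    exact h3 _ (Nat.mem_divisors.2 ⟨h2, by norm_num⟩) h1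
  haveI : Subsingleton (Sylow 5 H) := (Nat.card_eq_one_iff_unique.1 hn).1
  have hN : normalizer ((P : Subgroup H) : Set H) = ⊤ := by
    haveI := Sylow.normal_of_subsingleton P
    exact Subgroup.normalizer_eq_top_iff.2 inferInstance
  have := free_action Nat.prime_three (by norm_num) (by norm_num) (show Sep H 3 5 from hno) R P R.isPGroup'
    P.isPGroup' (hN ▸ le_top)
  rw [hP, hR] at this
  norm_num at this

/-- An abelian self-normalising Sylow subgroup of a normal subgroup gives a normal subgroup. -/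
theorem exists_complement_normal {p : ℕ} [Fact p.Prime] (M : Subgroup G) [M.Normal] (P : Sylow p M)
    (hP : normalizer ((P : Subgroup M) : Set M) ≤ centralizer ((P : Subgroup M) : Set M)) :
    ∃ K : Subgroup G, K.Normal ∧ K ≤ M ∧ Nat.card K = (P : Subgroup M).index := by
  set K := (MonoidHom.transferSylow P hP).ker
  have hc := MonoidHom.ker_transferSylow_isComplement' P hP
  have hcard : Nat.card K = (P : Subgroup M).index := hc.index_eq_card.symm
  have hi : K.index = Nat.card (P : Subgroup M) := hc.symm.index_eq_card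
  have hcop : (Nat.card K).Coprime K.index := by
    rw [hi]
    obtain ⟨n, hn⟩ := P.isPGroup'.exists_card_eq
    rw [hn]
    refine Nat.Coprime.pow_right _ (((Fact.out : p.Prime).coprime_iff_not_dvd.2 ?_).symm)
    rw [hcard]; exact P.not_dvd_index
  haveI : K.Characteristic := CfsgLib.Coprime.normal_hall_characteristic K hcop
  refine ⟨K.map M.subtype, inferInstance, map_subtype_le _, ?_⟩
  rw [← hcard]
  exact (Nat.card_congr (K.equivMapOfInjective _ M.subtype_injective).toEquiv).symm

theorem prime_of_dvd (h : Nat.card G = 7920) {q : ℕ} (hq : q.Prime) (hd : q ∣ Nat.card G) :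
    q = 2 ∨ q = 3 ∨ q = 5 ∨ q = 11 := by
  rw [h, show (7920 : ℕ) = 2 ^ 4 * (3 ^ 2 * (5 * 11)) by norm_num] at hd
  rcases hq.dvd_mul.1 hd with h | h
  · exact Or.inl ((Nat.prime_dvd_prime_iff_eq hq Nat.prime_two).1 (hq.dvd_of_dvd_pow h))
  rcases hq.dvd_mul.1 h with h | h
  · exact Or.inr (Or.inl ((Nat.prime_dvd_prime_iff_eq hq Nat.prime_three).1 (hq.dvd_of_dvd_pow h)))
  rcases hq.dvd_mul.1 h with h | h
  · exact Or.inr (Or.inr (Or.inl ((Nat.prime_dvd_prime_iff_eq hq (by norm_num)).1 h)))
  · exact Or.inr (Or.inr (Or.inr ((Nat.prime_dvd_prime_iff_eq hq (by norm_num)).1 h)))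

theorem fac_values : (7920 : ℕ).factorization 2 = 4 ∧ (7920 : ℕ).factorization 3 = 2 ∧
    (7920 : ℕ).factorization 5 = 1 ∧ (7920 : ℕ).factorization 11 = 1 := by
  have key : ∀ p a m, Nat.Prime p → ¬ p ∣ m → 7920 = p ^ a * m → (7920 : ℕ).factorization p = a := by
    intro p a m hp hm he
    haveI : Fact p.Prime := ⟨hp⟩
    rw [he, Nat.factorization_def _ hp, padicValNat.mul (pow_ne_zero _ hp.ne_zero) (by rintro rfl; exact hm (dvd_zero p)),
      padicValNat.prime_pow, padicValNat.eq_zero_of_not_dvd hm, add_zero]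
  exact ⟨key 2 4 495 Nat.prime_two (by norm_num) (by norm_num), key 3 2 880 Nat.prime_three (by norm_num) (by norm_num),
    key 5 1 1584 (by norm_num) (by norm_num) (by norm_num), key 11 1 720 (by norm_num) (by norm_num) (by norm_num)⟩

theorem eleven_count {H : Type*} [Group H] [Finite H] (P : Sylow 11 H) [Fact (Nat.Prime 11)]
    (hd : (P : Subgroup H).index ∣ 720) :
    Nat.card (Sylow 11 H) = 1 ∨ Nat.card (Sylow 11 H) = 12 ∨ Nat.card (Sylow 11 H) = 45 ∨
      Nat.card (Sylow 11 H) = 144 := by
  have h1 := card_sylow_modEq_one 11 H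
  have h2 := P.card_dvd_index.trans hd
  have h3 : ∀ n ∈ Nat.divisors 720, n % 11 = 1 → n = 1 ∨ n = 12 ∨ n = 45 ∨ n = 144 := by decide +kernel
  exact h3 _ (Nat.mem_divisors.2 ⟨h2, by norm_num⟩) h1

section Main

variable (hord : Nat.card G = 7920) (A : Set ℕ)
  (hA : (∃ a ∈ A, a.Prime ∧ a ∣ Nat.card G) ∧ (∃ b ∉ A, b.Prime ∧ b ∣ Nat.card G) ∧
    ∀ a ∈ A, ∀ b ∉ A, a.Prime → b.Prime → a ∣ Nat.card G → b ∣ Nat.card G → ¬ ∃ g : G, orderOf g = a * b)
include hord hA

/-- In the same part as eleven. -/
local notation "Side" q:max => (q ∈ A ↔ 11 ∈ A)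

theorem exists_outside : ∃ q, q.Prime ∧ q ∣ Nat.card G ∧ ¬ Side q := by
  obtain ⟨⟨a, ha, hap, had⟩, ⟨b, hb, hbp, hbd⟩, -⟩ := hA
  by_cases h : 11 ∈ A
  · exact ⟨b, hbp, hbd, fun e => hb (e.2 h)⟩
  · exact ⟨a, hap, had, fun e => h (e.1 ha)⟩

theorem sep {p q : ℕ} (hp : p.Prime) (hq : q.Prime) (hpd : p ∣ Nat.card G) (hqd : q ∣ Nat.card G)
    (hps : Side p) (hqs : ¬ Side q) : Sep G p q ∧ Sep G q p := by
  obtain ⟨-, -, h⟩ := hA
  by_cases h11 : 11 ∈ A
  · have := h p (hps.2 h11) q (fun e => hqs ⟨fun _ => h11, fun _ => e⟩) hp hq hpd hqd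
    exact ⟨this, fun hh => this (by rwa [mul_comm] at hh)⟩
  · have := h q (by by_contra e; exact hqs ⟨fun x => absurd x e, fun x => absurd x h11⟩) p
      (fun e => h11 (hps.1 e)) hq hp hqd hpd
    exact ⟨fun hh => this (by rwa [mul_comm] at hh), this⟩

theorem side_eleven : Side 11 := Iff.rfl

theorem eleven_dvd_normal {N : Subgroup G} [N.Normal] (hN : N ≠ ⊥) : 11 ∣ Nat.card N := by
  by_contra h11
  have hN0 : Nat.card N ≠ 0 := Nat.card_pos.ne'
  have hcardG : Nat.card N * N.index = 7920 := hord ▸ N.card_mul_index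
  obtain ⟨f2, f3, f5, f11⟩ := fac_values
  -- the basic congruence
  have key : ∀ r s : ℕ, r.Prime → s.Prime → ¬ r ∣ Nat.card N → s ∣ Nat.card N → Sep G r s →
      r ^ (7920 : ℕ).factorization r ∣ s ^ (Nat.card N).factorization s - 1 := by
    intro r s hr hs hrN hsN hsep
    haveI : Fact r.Prime := ⟨hr⟩
    haveI : Fact s.Prime := ⟨hs⟩
    obtain ⟨S⟩ : Nonempty (Sylow s N) := inferInstance
    set S' := (S : Subgroup N).map N.subtype
    set T := normalizer (S' : Set G)
    obtain ⟨R⟩ : Nonempty (Sylow r T) := inferInstance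
    have hfr := Sylow.normalizer_sup_eq_top S
    have hle : (7920 : ℕ).factorization r ≤ (Nat.card T).factorization r := by
      have hdvd : (7920 : ℕ) ∣ Nat.card T * Nat.card N := by
        rw [← hcardG, mul_comm, ← relIndex_top_right, ← hfr, relIndex_sup_right]
        exact mul_dvd_mul_right (relIndex_dvd_card N T) _
      have := (Nat.factorization_le_iff_dvd (by norm_num) (mul_ne_zero Nat.card_pos.ne' hN0)).2 hdvd r
      rwa [Nat.factorization_mul Nat.card_pos.ne' hN0, Finsupp.add_apply, Nat.factorization_eq_zero_of_not_dvd hrN,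
        add_zero] at this
    have hfree := free_action hr hs (fun e => hrN (e ▸ hsN)) hsep ((R : Subgroup T).map T.subtype) S'
      (R.isPGroup'.map _) (S.isPGroup'.map _) (map_subtype_le _)
    rw [Nat.card_congr ((R : Subgroup T).equivMapOfInjective _ T.subtype_injective).toEquiv.symm,
      Nat.card_congr ((S : Subgroup N).equivMapOfInjective _ N.subtype_injective).toEquiv.symm,
      R.card_eq_multiplicity, S.card_eq_multiplicity] at hfree
    exact (pow_dvd_pow r hle).trans hfree
  have hsle : ∀ s : ℕ, (Nat.card N).factorization s ≤ (7920 : ℕ).factorization s := fun s =>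
    (Nat.factorization_le_iff_dvd hN0 (by norm_num)).2 ⟨_, hcardG.symm⟩ s
  have hdvdG : ∀ {s : ℕ}, s ∣ Nat.card N → s ∣ Nat.card G := fun h => h.trans N.card_subgroup_dvd_card
  have h11G : 11 ∣ Nat.card G := hord ▸ (by norm_num : 11 ∣ 7920)
  have p5 : Nat.Prime 5 := by norm_num
  have p11 : Nat.Prime 11 := by norm_num
  have hs1 : ∀ s : ℕ, s.Prime → s ∣ Nat.card N → 1 ≤ (Nat.card N).factorization s := fun s hs hd =>
    hs.factorization_pos_of_dvd hN0 hd
  -- every prime of N is on the side of eleven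
  have hside : ∀ s : ℕ, s.Prime → s ∣ Nat.card N → Side s := by
    intro s hs hd
    by_contra hns
    have h := key 11 s p11 hs h11 hd (sep hord A hA p11 hs h11G (hdvdG hd) (side_eleven hord A hA) hns).1
    rw [f11, pow_one] at h
    have := hsle s
    have := hs1 s hs hd
    rcases prime_of_dvd hord hs (hdvdG hd) with rfl | rfl | rfl | rfl
    · rw [f2] at *; interval_cases (Nat.card N).factorization 2 <;> norm_num at h
    · rw [f3] at *; interval_cases (Nat.card N).factorization 3 <;> norm_num at h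
    · rw [f5] at *; interval_cases (Nat.card N).factorization 5; norm_num at h
    · exact h11 hd
  obtain ⟨r, hr, hrd, hrs⟩ := exists_outside hord A hA
  have hrN : ¬ r ∣ Nat.card N := fun h => hrs (hside r hr h)
  have hkey : ∀ s : ℕ, s.Prime → s ∣ Nat.card N → r ^ (7920 : ℕ).factorization r ∣ s ^ (Nat.card N).factorization s - 1 :=
    fun s hs hd => key r s hr hs hrN hd (sep hord A hA hs hr (hdvdG hd) hrd (hside s hs hd) hrs).2
  obtain ⟨s, hs, hsN⟩ := Nat.exists_prime_and_dvd (n := Nat.card N) fun e => hN (card_eq_one.1 e)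
  have hk := hkey s hs hsN
  have hb := hsle s
  have hb1 := hs1 s hs hsN
  have hr5 : r = 5 := by
    rcases prime_of_dvd hord hr hrd with rfl | rfl | rfl | rfl
    · exfalso
      rw [f2] at hk
      rcases prime_of_dvd hord hs (hdvdG hsN) with rfl | rfl | rfl | rfl
      · exact hrN hsN
      · rw [f3] at hb; interval_cases (Nat.card N).factorization 3 <;> norm_num at hk
      · rw [f5] at hb; interval_cases (Nat.card N).factorization 5; norm_num at hk
      · exact h11 hsN
    · exfalso
      rw [f3] at hk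
      rcases prime_of_dvd hord hs (hdvdG hsN) with rfl | rfl | rfl | rfl
      · rw [f2] at hb; interval_cases (Nat.card N).factorization 2 <;> norm_num at hk
      · exact hrN hsN
      · rw [f5] at hb; interval_cases (Nat.card N).factorization 5; norm_num at hk
      · exact h11 hsN
    · rfl
    · exact absurd (side_eleven hord A hA) hrs
  subst hr5
  have h3 : ¬ 3 ∣ Nat.card N := fun h => by
    have hk := hkey 3 Nat.prime_three h
    have hb := hsle 3
    have := hs1 3 Nat.prime_three h
    rw [f5, pow_one] at hk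
    rw [f3] at hb
    interval_cases (Nat.card N).factorization 3 <;> norm_num at hk
  have h2 : (Nat.card N).factorization 2 = 4 := by
    rcases prime_of_dvd hord hs (hdvdG hsN) with rfl | rfl | rfl | rfl
    · rw [f5, pow_one] at hk; rw [f2] at hb
      interval_cases (Nat.card N).factorization 2 <;> first | rfl | (norm_num at hk)
    · exact absurd hsN h3
    · exact absurd hsN hrN
    · exact absurd hsN h11
  -- so N has order sixteen and three is on the side of eleven
  have hN16 : Nat.card N = 16 := by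
    refine Nat.eq_of_factorization_eq hN0 (by norm_num) fun q => ?_
    rw [show (16 : ℕ) = 2 ^ 4 by norm_num, Nat.Prime.factorization_pow Nat.prime_two, Finsupp.single_apply]
    by_cases hq : 2 = q
    · subst hq; rw [if_pos rfl, h2]
    rw [if_neg hq]
    by_contra h
    have hqp : q.Prime := Nat.prime_of_mem_primeFactors (Nat.support_factorization (Nat.card N) ▸ Finsupp.mem_support_iff.2 h)
    have hqd : q ∣ Nat.card N := Nat.dvd_of_factorization_pos h
    rcases prime_of_dvd hord hqp (hdvdG hqd) with rfl | rfl | rfl | rfl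
    exacts [hq rfl, h3 hqd, hrN hqd, h11 hqd]
  have h3side : Side 3 := by
    by_contra h
    have hk := key 3 2 Nat.prime_three Nat.prime_two h3 (by rw [hN16]; norm_num)
      (sep hord A hA Nat.prime_two Nat.prime_three (by rw [hord]; norm_num) (by rw [hord]; norm_num)
        (hside 2 Nat.prime_two (by rw [hN16]; norm_num)) h).2
    rw [f3, h2] at hk
    norm_num at hk
  have hsep35 : Sep G 3 5 := (sep hord A hA Nat.prime_three p5 (by rw [hord]; norm_num) hrd h3side hrs).1
  -- a section of order forty-five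
  haveI : Fact (Nat.Prime 11) := ⟨p11⟩
  have hq : Nat.card (G ⧸ N) = 495 := by
    have : Nat.card (G ⧸ N) = N.index := rfl
    rw [this]; rw [hN16] at hcardG; omega
  obtain ⟨P⟩ : Nonempty (Sylow 11 (G ⧸ N)) := inferInstance
  have hP : Nat.card P = 11 := by
    rw [P.card_eq_multiplicity, hq, show (495 : ℕ) = 45 * 11 by norm_num,
      Nat.factorization_mul (by norm_num) (by norm_num), Finsupp.add_apply,
      Nat.factorization_eq_zero_of_not_dvd (by norm_num : ¬ 11 ∣ 45), Nat.Prime.factorization p11,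
      Finsupp.single_eq_same]
    norm_num
  have hidx : (P : Subgroup (G ⧸ N)).index = 45 := by
    have := (P : Subgroup (G ⧸ N)).card_mul_index; rw [hP, hq] at this; omega
  have hlift : ∀ (x : G ⧸ N), 15 ∣ orderOf x → False := fun x hx => by
    obtain ⟨g, rfl⟩ := QuotientGroup.mk_surjective x
    exact hsep35 (exists_order_of_dvd (g := g) (hx.trans (orderOf_map_dvd (QuotientGroup.mk' N) g)))
  rcases eleven_count P (hidx ▸ by norm_num) with hn | hn | hn | hn
  · haveI : Subsingleton (Sylow 11 (G ⧸ N)) := (Nat.card_eq_one_iff_unique.1 hn).1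
    haveI := Sylow.normal_of_subsingleton P
    obtain ⟨x, hx⟩ := exists_order_fifteen (H := (G ⧸ N) ⧸ (P : Subgroup (G ⧸ N))) hidx
    obtain ⟨y, rfl⟩ := QuotientGroup.mk_surjective x
    exact hlift y (hx ▸ orderOf_map_dvd (QuotientGroup.mk' (P : Subgroup (G ⧸ N))) y)
  · have := hidx ▸ P.card_dvd_index; rw [hn] at this; norm_num at this
  · have hnorm : normalizer ((P : Subgroup (G ⧸ N)) : Set (G ⧸ N)) = (P : Subgroup (G ⧸ N)) := by
      refine (eq_of_le_of_card_ge Subgroup.le_normalizer ?_).symm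
      have := (normalizer ((P : Subgroup (G ⧸ N)) : Set (G ⧸ N))).card_mul_index
      rw [show (normalizer ((P : Subgroup (G ⧸ N)) : Set (G ⧸ N))).index = 45 from
        P.card_eq_index_normalizer.symm.trans hn, hq] at this
      rw [hP]; omega
    haveI : IsCyclic P := isCyclic_of_prime_card (p := 11) hP
    have hc : (P : Subgroup (G ⧸ N)) ≤ centralizer ((P : Subgroup (G ⧸ N)) : Set (G ⧸ N)) := fun a ha =>
      mem_centralizer_iff.2 fun b hb => congrArg Subtype.val
        ((IsCyclic.commGroup (α := ↥(P : Subgroup (G ⧸ N)))).mul_comm ⟨b, hb⟩ ⟨a, ha⟩)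
    have hP' : normalizer ((P : Subgroup (G ⧸ N)) : Set (G ⧸ N)) ≤ centralizer ((P : Subgroup (G ⧸ N)) : Set (G ⧸ N)) := by
      rw [hnorm]; exact hc
    obtain ⟨x, hx⟩ := exists_order_fifteen (H := (MonoidHom.transferSylow P hP').ker)
      ((MonoidHom.ker_transferSylow_isComplement' P hP').index_eq_card.symm.trans hidx)
    exact hlift x (by rw [Subgroup.orderOf_coe, hx])
  · have := hidx ▸ P.card_dvd_index; rw [hn] at this; norm_num at this

end Main

section Counts

variable [Fact (Nat.Prime 11)]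

/-- A commuting element of order prime to eleven moving a point inside an orbit of length eleven fixes it. -/
theorem shift {S : Sylow 11 G} (hS : Nat.card S = 11) {c : G} (hc : ∀ s ∈ (S : Subgroup G), c * s = s * c) {m : ℕ}
    (hcm : c ^ m = 1) (hm : m.Coprime 11) {P : Sylow 11 G} {s : G} (hs : s ∈ (S : Subgroup G))
    (hstab : ∀ t ∈ (S : Subgroup G), t • P = P → t = 1) (h : c • P = s • P) : c • P = P := by
  have hp : ∀ k : ℕ, c ^ k • P = s ^ k • P := by
    intro k
    induction k with
    | zero => simp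
    | succ k ih => rw [pow_succ', mul_smul, ih, ← mul_smul, hc _ (pow_mem hs k), mul_smul, h, ← mul_smul, ← pow_succ]
  have h1 := hp m
  rw [hcm, one_smul] at h1
  have e := hstab _ (pow_mem hs m) h1.symm
  have hd : orderOf s ∣ 11 := by
    have := orderOf_dvd_natCard (⟨s, hs⟩ : (S : Subgroup G))
    rwa [← Subgroup.orderOf_coe, hS] at this
  have := Nat.eq_one_of_dvd_coprimes hm (orderOf_dvd_of_pow_eq_one e) hd
  rw [h, orderOf_eq_one_iff.1 this, one_smul]

theorem stab_trivial {S P : Sylow 11 G} (hS : Nat.card S = 11) (hne : P ≠ S) :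
    ∀ t ∈ (S : Subgroup G), t • P = P → t = 1 := by
  intro t ht htP
  by_contra h1
  have hP : ∀ x ∈ (S : Subgroup G), x ∈ zpowers t := fun x hx => by
    obtain ⟨k, hk⟩ := mem_zpowers_iff.1 (mem_zpowers_of_prime_card hS (g := (⟨t, ht⟩ : (S : Subgroup G)))
      (g' := ⟨x, hx⟩) fun e => h1 (congrArg Subtype.val e))
    exact ⟨k, congrArg Subtype.val hk⟩
  refine hne (Sylow.ext (le_antisymm ?_ ?_))
  · have hle : (S : Subgroup G) ≤ normalizer ((P : Subgroup G) : Set G) := fun x hx => by
      obtain ⟨k, rfl⟩ := mem_zpowers_iff.1 (hP x hx)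
      exact zpow_mem (Sylow.smul_eq_iff_mem_normalizer.1 htP) k
    have hsup := P.is_maximal' (IsPGroup.to_sup_of_normal_left' P.isPGroup' S.isPGroup' hle) le_sup_left
    exact (S.is_maximal' P.isPGroup' (hsup ▸ le_sup_right)).le
  · have hle : (S : Subgroup G) ≤ normalizer ((P : Subgroup G) : Set G) := fun x hx => by
      obtain ⟨k, rfl⟩ := mem_zpowers_iff.1 (hP x hx)
      exact zpow_mem (Sylow.smul_eq_iff_mem_normalizer.1 htP) k
    have hsup := P.is_maximal' (IsPGroup.to_sup_of_normal_left' P.isPGroup' S.isPGroup' hle) le_sup_left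
    exact hsup ▸ le_sup_right

theorem smul_self_of_mem {S : Sylow 11 G} {s : G} (hs : s ∈ (S : Subgroup G)) : s • S = S :=
  Sylow.smul_eq_iff_mem_normalizer.2 (Subgroup.le_normalizer hs)

/-- The centraliser of a Sylow subgroup meets its normaliser in index dividing ten. -/
theorem relIndex_dvd_ten {S : Sylow 11 G} (hS : Nat.card S = 11) :
    (centralizer ((S : Subgroup G) : Set G)).relIndex (normalizer ((S : Subgroup G) : Set G)) ∣ 10 := by
  have hker := (S : Subgroup G).normalizerMonoidHom_ker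
  rw [relIndex, ← hker, Subgroup.index_ker]
  haveI : IsCyclic S := isCyclic_of_prime_card (p := 11) hS
  have h := Subgroup.card_subgroup_dvd_card (MonoidHom.range (S : Subgroup G).normalizerMonoidHom)
  rwa [IsCyclic.card_mulAut, hS, Nat.totient_prime Fact.out] at h

end Counts

end CfsgLib.Spor.OrderM11
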