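/-
A group of order 7920 with disconnected prime graph is simple.
-/
import Cfsg.Agent.Lib.Spor.OrderM11

set_option autoImplicit false

namespace CfsgLib.Spor.OrderM11

open Subgroup MulAction

variable {G : Type*} [Group G] [Finite G]

theorem burnside_abelian {M : Subgroup G} [M.Normal] {p : ℕ} [Fact p.Prime] (P : Sylow p M)
    (hab : ∀ a ∈ (P : Subgroup M), ∀ b ∈ (P : Subgroup M), a * b = b * a)
    (hself : ∀ n : M, n ∈ normalizer ((P : Subgroup M) : Set M) → n ∈ (P : Subgroup M)) :
    ∃ K : Subgroup G, K.Normal ∧ K ≤ M ∧ Nat.card K = (P : Subgroup M).index :=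
  exists_complement_normal M P fun n hn => mem_centralizer_iff.2 fun b hb => hab b hb n (hself n hn)

section

variable [Fact (Nat.Prime 11)]
variable (hord : Nat.card G = 7920) (hcase : ∀ N : Subgroup G, N.Normal → N ≠ ⊥ → 11 ∣ Nat.card N)
include hord hcase

theorem no_small_normal {K : Subgroup G} (hK : K.Normal) {n : ℕ} (hn : Nat.card K = n) (h1 : 1 < n)
    (h11 : ¬ 11 ∣ n) : False := by
  refine h11 (hn ▸ hcase K hK fun e => ?_)
  rw [e, card_bot] at hn; omega

theorem sylow_card (S : Sylow 11 G) : Nat.card S = 11 := by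
  rw [S.card_eq_multiplicity, hord, fac_values.2.2.2, pow_one]

theorem mem_of_orderOf_eleven {S : Sylow 11 G} {x : G} (hx : x ∈ normalizer ((S : Subgroup G) : Set G)) {k : ℕ}
    (hk : x ^ 11 ^ k = 1) : x ∈ (S : Subgroup G) := by
  have hp : IsPGroup 11 (zpowers x) := by
    obtain ⟨j, -, hj⟩ := (Nat.dvd_prime_pow (Fact.out : Nat.Prime 11)).1 (orderOf_dvd_of_pow_eq_one hk)
    exact IsPGroup.of_card (n := j) (by rw [Nat.card_zpowers, hj])
  exact (S.is_maximal' (IsPGroup.to_sup_of_normal_left' S.isPGroup' hp (zpowers_le.2 hx)) le_sup_left) ▸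
    mem_sup_right (mem_zpowers x)

theorem orbit_others (S : Sylow 11 G) {P : Sylow 11 G} (hP : P ≠ S) :
    Nat.card ((fun s : (S : Subgroup G) => (s : G) • P) '' Set.univ : Set (Sylow 11 G)) = 11 := by
  rw [Nat.card_image_of_injective (fun a b h => Subtype.ext ?_)]
  · rw [Nat.card_univ]; exact sylow_card hord hcase S
  · refine (inv_mul_eq_one.1 (stab_trivial (sylow_card hord hcase S) hP _ (mul_mem (inv_mem a.2) b.2) ?_))
    rw [mul_smul, ← (show (a : G) • P = (b : G) • P from h), inv_smul_smul]

theorem sylows_ne_one : Nat.card (Sylow 11 G) ≠ 1 := by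
  intro hn
  haveI : Subsingleton (Sylow 11 G) := (Nat.card_eq_one_iff_unique.1 hn).1
  obtain ⟨S⟩ : Nonempty (Sylow 11 G) := inferInstance
  haveI := Sylow.normal_of_subsingleton S
  set C := centralizer ((S : Subgroup G) : Set G)
  have hCi : C.index ∣ 10 := by
    have h := relIndex_dvd_ten (sylow_card hord hcase S)
    rwa [Subgroup.normalizer_eq_top_iff.2 inferInstance, relIndex_top_right] at h
  have hSC : (S : Subgroup G) ≤ C := fun a ha => by
    haveI : IsCyclic S := isCyclic_of_prime_card (p := 11) (sylow_card hord hcase S)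
    exact mem_centralizer_iff.2 fun b hb => congrArg Subtype.val
      ((IsCyclic.commGroup (α := ↥(S : Subgroup G))).mul_comm ⟨b, hb⟩ ⟨a, ha⟩)
  haveI : C.Normal := inferInstance
  let T : Sylow 11 C := S.subtype hSC
  have hT : (T : Subgroup C) = (S : Subgroup G).subgroupOf C := rfl
  obtain ⟨K, hK, -, hcard⟩ := exists_complement_normal C T fun x _ => mem_centralizer_iff.2 fun b hb =>
    Subtype.ext (mem_centralizer_iff.1 x.2 _ hb)
  have hc : Nat.card C * C.index = 7920 := hord ▸ C.card_mul_index
  have hs : 11 * (T : Subgroup C).index = Nat.card C := by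
    rw [← (T : Subgroup C).card_mul_index, hT, Nat.card_congr (subgroupOfEquivOfLe hSC).toEquiv, sylow_card hord hcase S]
  refine no_small_normal hord hcase hK hcard ?_ ?_
  · have := Nat.le_of_dvd (by norm_num) hCi
    by_contra h
    have : C.index ≤ 10 := Nat.le_of_dvd (by norm_num) hCi
    nlinarith
  · exact T.not_dvd_index

theorem sylows_ne_twelve : Nat.card (Sylow 11 G) ≠ 12 := by
  intro hn
  haveI : Fact (Nat.Prime 3) := ⟨Nat.prime_three⟩
  obtain ⟨S⟩ : Nonempty (Sylow 11 G) := inferInstance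
  have hS := sylow_card hord hcase S
  set N := normalizer ((S : Subgroup G) : Set G)
  have hN : Nat.card N = 660 := by
    have := N.card_mul_index
    rw [show N.index = 12 from S.card_eq_index_normalizer.symm.trans hn, hord] at this
    omega
  -- an element of order three centralising S
  have hrel : (centralizer ((S : Subgroup G) : Set G)).relIndex N ∣ 10 := relIndex_dvd_ten hS
  have h3 : 3 ∣ Nat.card ↥(centralizer ((S : Subgroup G) : Set G)) := by
    set C := centralizer ((S : Subgroup G) : Set G)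
    have hle : C ≤ N := centralizer_le_normalizer _
    have := (C.subgroupOf N).card_mul_index
    rw [Nat.card_congr (subgroupOfEquivOfLe hle).toEquiv, hN] at this
    have h' : 3 ∣ Nat.card C * C.relIndex N := by rw [show C.relIndex N = (C.subgroupOf N).index from rfl, this]; norm_num
    refine (Nat.prime_three.dvd_mul.1 h').resolve_right fun h => ?_
    have := h.trans hrel
    norm_num at this
  obtain ⟨c, hc⟩ := exists_prime_orderOf_dvd_card' 3 h3
  have hcS : ∀ s ∈ (S : Subgroup G), (c : G) * s = s * c := fun s hs => (mem_centralizer_iff.1 c.2 s hs).symm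
  have hfix : ∀ P : Sylow 11 G, (c : G) • P = P := by
    intro P
    rcases eq_or_ne P S with rfl | hne
    · exact Sylow.smul_eq_iff_mem_normalizer.2 (centralizer_le_normalizer _ c.2)
    have hcP : (c : G) • P ≠ S := fun e => hne (by
      have h : (c : G) • S = S := Sylow.smul_eq_iff_mem_normalizer.2 (centralizer_le_normalizer _ c.2)
      exact (MulAction.injective (c : G)) (e.trans h.symm))
    -- the orbit of S exhausts the others
    have horb : (fun s : (S : Subgroup G) => (s : G) • P) '' Set.univ = {S}ᶜ := by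
      refine Set.eq_of_subset_of_ncard_le ?_ ?_ (Set.toFinite _)
      · rintro _ ⟨s, -, rfl⟩ e
        exact hne ((MulAction.injective (s : G)) ((e : (s : G) • P = S).trans (smul_self_of_mem s.2).symm))
      · rw [Set.ncard_compl, Set.ncard_singleton, hn, ← Nat.card_coe_set_eq, orbit_others hord hcase S hne]
    obtain ⟨s, -, hs⟩ := horb.ge (show (c : G) • P ∈ ({S}ᶜ : Set (Sylow 11 G)) from hcP)
    exact shift hS hcS (m := 3) (by rw [← hc, ← orderOf_coe, pow_orderOf_eq_one]) (by norm_num) s.2
      (stab_trivial hS hne) hs.symm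
  set K := (MulAction.toPermHom G (Sylow 11 G)).ker
  refine no_small_normal hord hcase (K := K) inferInstance rfl ?_ fun h11 => ?_
  · refine Finite.one_lt_card_iff_nontrivial.2 ⟨⟨⟨c, MonoidHom.mem_ker.2 (Equiv.ext hfix)⟩, 1, fun e => ?_⟩⟩
    have : (c : G) = 1 := congrArg Subtype.val e
    rw [← orderOf_coe, this, orderOf_one] at hc; omega
  · obtain ⟨x, hx⟩ := exists_prime_orderOf_dvd_card' 11 h11
    have hall : ∀ P : Sylow 11 G, (x : G) ∈ (P : Subgroup G) := fun P =>
      mem_of_orderOf_eleven hord hcase (Sylow.smul_eq_iff_mem_normalizer.1 (Equiv.ext_iff.1 (MonoidHom.mem_ker.1 x.2) P))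
        (k := 1) (by rw [pow_one, ← hx, ← orderOf_coe, pow_orderOf_eq_one])
    obtain ⟨P, hP⟩ : ∃ P : Sylow 11 G, P ≠ S := by
      by_contra h; push Not at h
      haveI : Subsingleton (Sylow 11 G) := ⟨fun a b => (h a).trans (h b).symm⟩
      rw [Nat.card_of_subsingleton S] at hn; omega
    have := stab_trivial hS hP x (hall S) (smul_self_of_mem (hall P))
    rw [← orderOf_coe, this, orderOf_one] at hx; omega

theorem all_sylows {M : Subgroup G} [M.Normal] (hM : 11 ∣ Nat.card M) (S : Sylow 11 G) : (S : Subgroup G) ≤ M := by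
  obtain ⟨x, hx⟩ := exists_prime_orderOf_dvd_card' 11 hM
  obtain ⟨T, hT⟩ := (IsPGroup.of_card (p := 11) (n := 1) (G := zpowers (x : G))
    (by rw [Nat.card_zpowers, orderOf_coe, hx, pow_one])).exists_le_sylow
  have hTM : (T : Subgroup G) ≤ M := by
    have h : zpowers (x : G) = (T : Subgroup G) := eq_of_le_of_card_ge hT (by
      rw [Nat.card_zpowers, orderOf_coe, hx, sylow_card hord hcase T])
    rw [← h]; exact zpowers_le.2 x.2
  obtain ⟨g, rfl⟩ := MulAction.exists_smul_eq G T S
  rintro _ ⟨t, ht, rfl⟩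
  exact ‹M.Normal›.conj_mem t (hTM ht) g

theorem card_normal {M : Subgroup G} [M.Normal] (hM : 11 ∣ Nat.card M) (S : Sylow 11 G) :
    Nat.card M = Nat.card (Sylow 11 G) * Nat.card ↥(M ⊓ normalizer ((S : Subgroup G) : Set G)) := by
  set N := normalizer ((S : Subgroup G) : Set G)
  have hsup : N ⊔ M = ⊤ := by
    have hle := all_sylows hord hcase hM S
    have h := (S.subtype hle).normalizer_sup_eq_top
    rwa [Sylow.coe_subtype, subgroupOf_map_subtype, inf_eq_left.2 hle] at h
  have h1 : N.relIndex M = N.index := by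
    have e := Subgroup.relIndex_sup_right (H := N) (K := M)
    have h2 := M.card_mul_index
    rw [← relIndex_top_right, ← hsup, e] at h2
    have h4 := N.card_mul_index
    have h5 := (N.subgroupOf M).card_mul_index
    rw [show (N.subgroupOf M).index = N.relIndex M from rfl] at h5
    have h6 : Nat.card (N.subgroupOf M) = Nat.card ↥(M ⊓ N) := by
      rw [← inf_subgroupOf_left, Nat.card_congr (subgroupOfEquivOfLe inf_le_left).toEquiv]
    have h7 : Nat.card (M.subgroupOf N) = Nat.card ↥(M ⊓ N) := by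
      rw [← inf_subgroupOf_right, Nat.card_congr (subgroupOfEquivOfLe inf_le_right).toEquiv]
    have h8 := (M.subgroupOf N).card_mul_index
    rw [show (M.subgroupOf N).index = M.relIndex N from rfl, h7] at h8
    rw [h6] at h5
    refine Nat.eq_of_mul_eq_mul_left (show 0 < Nat.card ↥(M ⊓ N) * M.relIndex N from
      Nat.mul_pos Nat.card_pos (Nat.pos_of_ne_zero Subgroup.index_ne_zero_of_finite)) ?_
    calc Nat.card ↥(M ⊓ N) * M.relIndex N * N.relIndex M = Nat.card M * M.relIndex N := by rw [← h5]; ring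
      _ = Nat.card ↥(M ⊓ N) * M.relIndex N * N.index := by rw [h8, h4, h2]
  have h5 := (N.subgroupOf M).card_mul_index
  rw [show (N.subgroupOf M).index = N.relIndex M from rfl, h1, ← inf_subgroupOf_left,
    Nat.card_congr (subgroupOfEquivOfLe inf_le_left).toEquiv] at h5
  rw [← h5, mul_comm, show N.index = Nat.card (Sylow 11 G) from S.card_eq_index_normalizer.symm]

theorem small_normaliser {M : Subgroup G} [M.Normal] (hM : 11 ∣ Nat.card M) (S : Sylow 11 G)
    (h : Nat.card ↥(M ⊓ normalizer ((S : Subgroup G) : Set G)) = 11) (h1 : 1 < Nat.card (Sylow 11 G)) : False := by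
  have hle := all_sylows hord hcase hM S
  let T : Sylow 11 M := S.subtype hle
  have heq : (S : Subgroup G) = M ⊓ normalizer ((S : Subgroup G) : Set G) :=
    eq_of_le_of_card_ge (le_inf hle Subgroup.le_normalizer) (by rw [h, sylow_card hord hcase S])
  have hcy : ∀ a ∈ (S : Subgroup G), ∀ b ∈ (S : Subgroup G), a * b = b * a := fun a ha b hb => by
    haveI : IsCyclic S := isCyclic_of_prime_card (p := 11) (sylow_card hord hcase S)
    exact congrArg Subtype.val ((IsCyclic.commGroup (α := ↥(S : Subgroup G))).mul_comm ⟨a, ha⟩ ⟨b, hb⟩)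
  obtain ⟨K, hK, -, hcard⟩ := burnside_abelian T (fun a ha b hb => Subtype.ext (hcy a ha b hb)) fun n hn => by
    show (n : G) ∈ (S : Subgroup G)
    rw [heq]
    refine ⟨n.2, mem_normalizer_iff.2 fun x => ⟨fun hx => ?_, fun hx => ?_⟩⟩
    · exact (mem_normalizer_iff.1 hn ⟨x, hle hx⟩).1 hx
    · have hxM : x ∈ M := by
        have := ‹M.Normal›.conj_mem _ (hle hx) (n : G)⁻¹
        simpa [mul_assoc] using this
      exact (mem_normalizer_iff.1 hn ⟨x, hxM⟩).2 hx
  refine no_small_normal hord hcase hK hcard ?_ T.not_dvd_index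
  have hmul := (T : Subgroup M).card_mul_index
  rw [show (T : Subgroup M) = (S : Subgroup G).subgroupOf M from rfl,
    Nat.card_congr (subgroupOfEquivOfLe hle).toEquiv, sylow_card hord hcase S,
    card_normal hord hcase hM S, h] at hmul
  rw [show (T : Subgroup M) = (S : Subgroup G).subgroupOf M from rfl]
  omega

theorem sylows_ne_fortyfive : Nat.card (Sylow 11 G) ≠ 45 := by
  classical
  intro hn
  haveI := Fintype.ofFinite (Sylow 11 G)
  haveI : Fact (Nat.Prime 2) := ⟨Nat.prime_two⟩
  obtain ⟨S⟩ : Nonempty (Sylow 11 G) := inferInstance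
  have hS := sylow_card hord hcase S
  set N := normalizer ((S : Subgroup G) : Set G) with hNdef
  set C := centralizer ((S : Subgroup G) : Set G) with hCdef
  have hSN : (S : Subgroup G) ≤ N := Subgroup.le_normalizer
  have hCN : C ≤ N := centralizer_le_normalizer _
  have hmemN : ∀ g, g ∈ N ↔ g • S = S := fun g => Sylow.smul_eq_iff_mem_normalizer.symm
  have hNcard : Nat.card N = 176 := by
    have := N.card_mul_index
    rw [show N.index = 45 from S.card_eq_index_normalizer.symm.trans hn, hord] at this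
    omega
  have hCcard : 88 ≤ Nat.card C := by
    have h := (C.subgroupOf N).card_mul_index
    rw [Nat.card_congr (subgroupOfEquivOfLe hCN).toEquiv, hNcard] at h
    have h10 : C.relIndex N ∣ 10 := relIndex_dvd_ten hS
    have h176 : C.relIndex N ∣ 176 := ⟨_, by rw [mul_comm]; exact h.symm⟩
    have : C.relIndex N ∣ 2 := Nat.dvd_gcd h10 h176
    have : C.relIndex N ≤ 2 := Nat.le_of_dvd two_pos this
    have h' : Nat.card C * C.relIndex N = 176 := h
    nlinarith
  -- two-element facts
  have hpre : ∀ {P : Sylow 11 G}, P ≠ S → ∀ s ∈ (S : Subgroup G), (s • P) ≠ S := fun hP s hs e =>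
    hP ((MulAction.injective s) (e.trans (smul_self_of_mem hs).symm))
  let sgn : G →* ℤˣ := Equiv.Perm.sign.comp (MulAction.toPermHom G (Sylow 11 G))
  let fixd : G → Finset (Sylow 11 G) := fun g => Finset.univ.filter fun P => g • P = P
  have hsgn : ∀ g : G, g * g = 1 → sgn g = (-1) ^ ((45 - (fixd g).card) / 2) ∧ Odd (fixd g).card := by
    intro g hg
    set σ := MulAction.toPermHom G (Sylow 11 G) g
    have hfp : Fintype.card (Function.fixedPoints σ) = (fixd g).card := by
      rw [Fintype.card_ofFinset]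
      rfl
    have hσ : σ ^ 2 ^ 1 = 1 := by rw [pow_one, pow_two, ← map_mul, hg, map_one]
    have hcf := σ.card_fixedPoints
    rw [hfp, ← Nat.card_eq_fintype_card, hn] at hcf
    have hodd : Odd (fixd g).card := by
      have h := Equiv.Perm.card_fixedPoints_modEq (p := 2) (n := 1) (f := (⇑σ : Function.End (Sylow 11 G)))
        (by
          funext P
          show σ (σ P) = P
          have := Equiv.ext_iff.1 hσ P
          simpa [pow_two] using this)
      rw [Nat.odd_iff]
      rw [← Nat.card_eq_fintype_card (α := Sylow 11 G), hn] at h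
      have h' : (45 : ℕ) % 2 = (fixd g).card % 2 := h.trans (by rw [← hfp])
      omega
    refine ⟨?_, hodd⟩
    by_cases h1 : σ = 1
    · show Equiv.Perm.sign σ = _
      have : (fixd g).card = 45 := by
        rw [← hfp, ← hn, Nat.card_eq_fintype_card]
        exact Fintype.card_congr (Equiv.subtypeUnivEquiv fun P => by rw [Function.mem_fixedPoints, Function.IsFixedPt, h1]; rfl)
      rw [h1, map_one, this]; norm_num
    · have ho : orderOf σ = 2 := orderOf_eq_prime (by rw [← hσ, pow_one]) h1
      obtain ⟨k, hk⟩ := Equiv.Perm.cycleType_prime_order (σ := σ) (ho ▸ Nat.prime_two)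
      rw [ho] at hk
      show Equiv.Perm.sign σ = _
      rw [Equiv.Perm.sign_of_cycleType, hk, Multiset.sum_replicate, Multiset.card_replicate, smul_eq_mul]
      have hle := σ.sum_cycleType_le
      rw [hk, Multiset.sum_replicate, smul_eq_mul] at hcf hle
      rw [← Nat.card_eq_fintype_card, hn] at hle
      rw [show (45 - (fixd g).card) / 2 = k + 1 by omega, show (k + 1) * 2 + (k + 1) = 2 * (k + 1) + (k + 1) by ring,
        pow_add, pow_mul, neg_one_sq, one_pow, one_mul]
  -- only the trivial element of C fixes everything (kernel)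
  have hker : ∀ g : G, (∀ P : Sylow 11 G, g • P = P) → g = 1 := by
    intro g hg
    set K := (MulAction.toPermHom G (Sylow 11 G)).ker
    have hgK : g ∈ K := MonoidHom.mem_ker.2 (Equiv.ext hg)
    by_contra hg1
    have h11 := hcase K inferInstance fun e => hg1 (by rw [e, mem_bot] at hgK; exact hgK)
    have hle := all_sylows hord hcase h11 S
    obtain ⟨P, hP⟩ : ∃ P : Sylow 11 G, P ≠ S := by
      by_contra h; push Not at h
      haveI : Subsingleton (Sylow 11 G) := ⟨fun a b => (h a).trans (h b).symm⟩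
      rw [Nat.card_of_subsingleton S] at hn; omega
    obtain ⟨x, hxS, hx1⟩ := ((S : Subgroup G).ne_bot_iff_exists_ne_one).1 (fun e => by
      have := hS; rw [e, card_bot] at this; omega) |> fun ⟨x, hx⟩ => (⟨(x : G), x.2, fun e => hx (Subtype.ext e)⟩ :
        ∃ x, x ∈ (S : Subgroup G) ∧ x ≠ 1)
    exact hx1 (stab_trivial hS hP x hxS (Equiv.ext_iff.1 (MonoidHom.mem_ker.1 (hle hxS)) P))
  -- a centralising element fixing another point is an involution with odd sign
  have hinv : ∀ c ∈ C, c * c = 1 → c ≠ 1 → ∀ P, P ≠ S → c • P = P → sgn c = -1 := by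
    intro c hc hcc hc1 P hP hcP
    obtain ⟨h1, h2⟩ := hsgn c hcc
    set F := (fixd c).erase S
    have hSF : S ∈ fixd c := Finset.mem_filter.2 ⟨Finset.mem_univ _, (hmemN c).1 (hCN hc)⟩
    have hcardF : F.card + 1 = (fixd c).card := Finset.card_erase_add_one hSF
    have hclosed : ∀ Q ∈ F, ∀ s ∈ (S : Subgroup G), s • Q ∈ F := by
      intro Q hQ s hs
      obtain ⟨hQS, hQ'⟩ := Finset.mem_erase.1 hQ
      refine Finset.mem_erase.2 ⟨hpre hQS s hs, Finset.mem_filter.2 ⟨Finset.mem_univ _, ?_⟩⟩
      rw [← mul_smul, ← mem_centralizer_iff.1 hc s hs, mul_smul, (Finset.mem_filter.1 hQ').2]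
    -- S acts freely on the fixed points other than S
    have h11 : 11 ∣ F.card := by
      letI : MulAction (S : Subgroup G) F :=
        { smul := fun s Q => ⟨(s : G) • (Q : Sylow 11 G), hclosed Q Q.2 s s.2⟩
          one_smul := fun Q => Subtype.ext (one_smul G (Q : Sylow 11 G))
          mul_smul := fun a b Q => Subtype.ext (mul_smul (a : G) (b : G) (Q : Sylow 11 G)) }
      have hfree : ∀ Q : F, stabilizer (S : Subgroup G) Q = ⊥ := fun Q => (eq_bot_iff_forall _).2 fun s hs =>
        Subtype.ext (stab_trivial hS (Finset.mem_erase.1 Q.2).1 s s.2 (congrArg Subtype.val hs))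
      have h := Nat.card_congr (MulAction.selfEquivOrbitsQuotientProd hfree)
      rw [Nat.card_prod, hS, Nat.card_eq_fintype_card (α := F), Fintype.card_coe] at h
      exact h ▸ dvd_mul_left 11 _
    have hpos : 0 < F.card := Finset.card_pos.2 ⟨P, Finset.mem_erase.2 ⟨hP, Finset.mem_filter.2 ⟨Finset.mem_univ _, hcP⟩⟩⟩
    have hlt : F.card < 44 := by
      by_contra hge
      have hle : (fixd c).card ≤ 45 := by
        rw [← hn, Nat.card_eq_fintype_card]; exact Finset.card_le_univ _
      have hall : fixd c = Finset.univ := Finset.eq_univ_of_card _ (by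
        rw [← Nat.card_eq_fintype_card, hn]; omega)
      exact hc1 (hker c fun Q => (Finset.mem_filter.1 (hall.symm ▸ Finset.mem_univ Q : Q ∈ fixd c)).2)
    obtain ⟨j, hj⟩ := h11
    obtain ⟨i, hi⟩ := h2
    have hF : (fixd c).card = 23 := by omega
    rw [h1, hF]; norm_num
  -- a centralising element fixing another point gives an involution
  have hpoint : ∀ c ∈ C, c ≠ 1 → ∀ P, P ≠ S → c • P = P → ∃ d ∈ zpowers c, d * d = 1 ∧ d ≠ 1 := by
    intro c hc hc1 P hP hcP
    have hdvd : orderOf c ∣ 176 := hNcard ▸ (by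
      have := orderOf_dvd_natCard (⟨c, hCN hc⟩ : N); rwa [← orderOf_coe] at this)
    have hev : 2 ∣ orderOf c := by
      by_contra hno
      have hco : (orderOf c).Coprime (2 ^ 4) := (Nat.prime_two.coprime_iff_not_dvd.2 hno).symm.pow_right 4
      have h11 : orderOf c ∣ 11 := hco.dvd_of_dvd_mul_left (by norm_num; exact hdvd)
      have hcS : c ∈ (S : Subgroup G) := mem_of_orderOf_eleven hord hcase (hCN hc) (k := 1)
        (orderOf_dvd_iff_pow_eq_one.1 (by simpa using h11))
      exact hc1 (stab_trivial hS hP c hcS hcP)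
    obtain ⟨j, hj⟩ := hev
    refine ⟨c ^ j, pow_mem (mem_zpowers c) j, ?_, ?_⟩
    · rw [← pow_add, show j + j = orderOf c by omega, pow_orderOf_eq_one]
    · intro e
      have := Nat.le_of_dvd (by have := orderOf_pos c; omega) (orderOf_dvd_of_pow_eq_one e)
      have := orderOf_pos c
      omega
  -- the odd element exists
  set M := sgn.ker with hM
  have hMindex : M.index = 2 := by
    have hrange : ∃ g, sgn g ≠ 1 := by
      obtain ⟨P, hP⟩ : ∃ P : Sylow 11 G, P ≠ S := by
        by_contra h; push Not at h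
        haveI : Subsingleton (Sylow 11 G) := ⟨fun a b => (h a).trans (h b).symm⟩
        rw [Nat.card_of_subsingleton S] at hn; omega
      let f : C → {Q : Sylow 11 G // Q ≠ S} := fun c => ⟨(c : G) • P, fun e =>
        hP ((MulAction.injective (c : G)) (e.trans ((hmemN c).1 (hCN c.2)).symm))⟩
      have hnotinj : ¬ Function.Injective f := fun hf => by
        have h := Nat.card_le_card_of_injective f hf
        rw [Nat.card_eq_fintype_card (α := {Q : Sylow 11 G // Q ≠ S}), Fintype.card_subtype_compl,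
          Fintype.card_subtype_eq, ← Nat.card_eq_fintype_card (α := Sylow 11 G), hn] at h
        omega
      simp only [Function.Injective, not_forall] at hnotinj
      obtain ⟨a, b, hab, hne⟩ := hnotinj
      have hfixP : ((b : G)⁻¹ * a) • P = P := by
        rw [mul_smul, show (a : G) • P = (b : G) • P from congrArg Subtype.val hab, inv_smul_smul]
      have hmem : (b : G)⁻¹ * a ∈ C := mul_mem (inv_mem b.2) a.2
      obtain ⟨d, hd, hdd, hd1⟩ := hpoint _ hmem (fun e => hne (Subtype.ext (inv_mul_eq_one.1 e).symm)) P hP hfixP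
      refine ⟨d, ?_⟩
      rw [hinv d (zpowers_le.2 hmem hd) hdd hd1 P hP (zpowers_le.2
        (show ((b : G)⁻¹ * a) ∈ stabilizer G P from hfixP) hd)]
      decide
    obtain ⟨g, hg⟩ := hrange
    rw [hM, index_ker]
    have hle : Nat.card sgn.range ≤ 2 := by
      refine le_trans (Nat.card_le_card_of_injective _ Subtype.val_injective) ?_
      simp [Nat.card_eq_fintype_card, Fintype.card_units_int]
    have : 1 < Nat.card sgn.range := Finite.one_lt_card_iff_nontrivial.2
      ⟨⟨⟨_, g, rfl⟩, 1, fun e => hg (congrArg Subtype.val e)⟩⟩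
    omega
  have hMcard : Nat.card M = 3960 := by
    have := M.card_mul_index; rw [hMindex, hord] at this; omega
  haveI : M.Normal := sgn.normal_ker
  have h11M : 11 ∣ Nat.card M := by rw [hMcard]; norm_num
  have hSM := all_sylows hord hcase h11M S
  have hMN : Nat.card ↥(M ⊓ N) = 88 := by
    have := card_normal hord hcase h11M S; rw [hMcard, hn, ← hNdef] at this; omega
  -- C in M is free
  have hfreeM : ∀ c ∈ C, c ∈ M → c ≠ 1 → ∀ P, P ≠ S → c • P ≠ P := by
    intro c hc hcM hc1 P hP hcP
    obtain ⟨d, hd, hdd, hd1⟩ := hpoint c hc hc1 P hP hcP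
    have := hinv d (zpowers_le.2 hc hd) hdd hd1 P hP (zpowers_le.2 (show c ∈ stabilizer G P from hcP) hd)
    rw [MonoidHom.mem_ker.1 (zpowers_le.2 hcM hd)] at this
    exact absurd this (by decide)
  obtain ⟨P₀, hP₀⟩ : ∃ P : Sylow 11 G, P ≠ S := by
    by_contra h; push Not at h
    haveI : Subsingleton (Sylow 11 G) := ⟨fun a b => (h a).trans (h b).symm⟩
    rw [Nat.card_of_subsingleton S] at hn; omega
  have hothers : ∀ g ∈ N, g • P₀ ≠ S := fun g hg e => hP₀ ((MulAction.injective g) (e.trans ((hmemN g).1 hg).symm))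
  have hcard44 : Nat.card {Q : Sylow 11 G // Q ≠ S} = 44 := by
    rw [Nat.card_eq_fintype_card, Fintype.card_subtype_compl,
      Fintype.card_subtype_eq, ← Nat.card_eq_fintype_card, hn]
  set CM := M ⊓ C with hCM
  let f : CM → {Q : Sylow 11 G // Q ≠ S} := fun c => ⟨(c : G) • P₀, hothers _ (hCN c.2.2)⟩
  have hfinj : Function.Injective f := fun a b hab => by
    by_contra hne
    have hfixP : ((b : G)⁻¹ * a) • P₀ = P₀ := by
      rw [mul_smul, show (a : G) • P₀ = (b : G) • P₀ from congrArg Subtype.val hab, inv_smul_smul]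
    exact hfreeM _ (mul_mem (inv_mem b.2.2) a.2.2) (mul_mem (inv_mem b.2.1) a.2.1)
      (fun e => hne (Subtype.ext (inv_mul_eq_one.1 e).symm)) P₀ hP₀ hfixP
  have hCMcard : Nat.card CM = 44 := by
    have hle := Nat.card_le_card_of_injective f hfinj
    rw [hcard44] at hle
    have hge : 44 ≤ Nat.card CM := by
      have h := (M.subgroupOf C).card_mul_index
      rw [show (M.subgroupOf C).index = M.relIndex C from rfl,
        ← inf_subgroupOf_right, Nat.card_congr (subgroupOfEquivOfLe inf_le_right).toEquiv, ← hCM] at h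
      have h2 : M.relIndex C ≤ 2 := by
        have := relIndex_dvd_index_of_normal M C
        rw [hMindex] at this; exact Nat.le_of_dvd two_pos this
      nlinarith
    omega
  have hfbij : Function.Bijective f := (Nat.bijective_iff_injective_and_card f).2 ⟨hfinj, by rw [hCMcard, hcard44]⟩
  -- an inverting involution
  obtain ⟨w, hwM, hwN, hw1, hwP⟩ : ∃ w, w ∈ M ∧ w ∈ N ∧ w ≠ 1 ∧ w • P₀ = P₀ := by
    let f' : ↥(M ⊓ N) → {Q : Sylow 11 G // Q ≠ S} := fun c => ⟨(c : G) • P₀, hothers _ c.2.2⟩
    have hnotinj : ¬ Function.Injective f' := fun hf => by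
      have h := Nat.card_le_card_of_injective f' hf
      rw [hcard44, hMN] at h; omega
    simp only [Function.Injective, not_forall] at hnotinj
    obtain ⟨a, b, hab, hne⟩ := hnotinj
    exact ⟨(b : G)⁻¹ * a, mul_mem (inv_mem b.2.1) a.2.1, mul_mem (inv_mem b.2.2) a.2.2,
      fun e => hne (Subtype.ext (inv_mul_eq_one.1 e).symm), by
        rw [mul_smul, show (a : G) • P₀ = (b : G) • P₀ from congrArg Subtype.val hab, inv_smul_smul]⟩
  have hwC : w ∉ C := fun h => hfreeM w h hwM hw1 P₀ hP₀ hwP
  have hsq : ∀ g ∈ M ⊓ N, g * g ∈ CM := by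
    have hle : CM ≤ M ⊓ N := inf_le_inf_left M hCN
    have h2 : (CM.subgroupOf (M ⊓ N)).index = 2 := by
      have := (CM.subgroupOf (M ⊓ N)).card_mul_index
      rw [Nat.card_congr (subgroupOfEquivOfLe hle).toEquiv, hCMcard, hMN] at this; omega
    intro g hg
    exact mul_self_mem_of_index_two h2 ⟨g, hg⟩
  have hww : w * w = 1 := by
    by_contra h
    have h' := hsq w ⟨hwM, hwN⟩
    exact hfreeM _ h'.2 h'.1 h P₀ hP₀ (by rw [mul_smul, hwP, hwP])
  -- the fixed points of w
  set V := CM ⊓ centralizer ({w} : Set G) with hV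
  have hVS : ∀ x ∈ V, x ∈ (S : Subgroup G) → x = 1 := by
    intro x hx hxS
    by_contra hx1
    refine hwC (mem_centralizer_iff.2 fun y hy => ?_)
    obtain ⟨k, hk⟩ := mem_zpowers_iff.1 (mem_zpowers_of_prime_card hS (g := (⟨x, hxS⟩ : (S : Subgroup G)))
      (g' := ⟨y, hy⟩) fun e => hx1 (congrArg Subtype.val e))
    have hyx : y = x ^ k := (congrArg Subtype.val hk).symm
    rw [hyx]
    exact (Commute.zpow_left (mem_centralizer_singleton_iff.1 hx.2) k).eq
  have hV11 : ¬ 11 ∣ Nat.card V := fun h => by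
    obtain ⟨x, hx⟩ := exists_prime_orderOf_dvd_card' 11 h
    have hx1 := hVS x x.2 (mem_of_orderOf_eleven hord hcase (hCN x.2.1.2) (k := 1)
      (by rw [pow_one, ← hx, ← orderOf_coe, pow_orderOf_eq_one]))
    rw [← orderOf_coe, hx1, orderOf_one] at hx; omega
  have hV4 : Nat.card V ∣ 4 := by
    have h : Nat.card V ∣ 44 := hCMcard ▸ Subgroup.card_dvd_of_le inf_le_left
    have hco : (Nat.card V).Coprime 11 := ((Fact.out : Nat.Prime 11).coprime_iff_not_dvd.2 hV11).symm
    exact hco.dvd_of_dvd_mul_right (by norm_num; exact h)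
  have hfix : (fixd w).card = Nat.card V + 1 := by
    have hSw : S ∈ fixd w := Finset.mem_filter.2 ⟨Finset.mem_univ _, (hmemN w).1 hwN⟩
    rw [← Finset.card_erase_add_one hSw, Nat.add_right_cancel_iff, ← Fintype.card_coe, ← Nat.card_eq_fintype_card]
    refine (Nat.card_eq_of_bijective (fun v : V => (⟨(v : G) • P₀, Finset.mem_erase.2
      ⟨hothers _ (hCN v.2.1.2), Finset.mem_filter.2 ⟨Finset.mem_univ _, ?_⟩⟩⟩ : (fixd w).erase S)) ⟨?_, ?_⟩).symm
    · rw [← mul_smul, ← mem_centralizer_singleton_iff.1 v.2.2, mul_smul, hwP]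
    · intro a b hab
      exact Subtype.ext (congrArg Subtype.val (hfinj (a₁ := ⟨(a : G), a.2.1⟩) (a₂ := ⟨(b : G), b.2.1⟩)
        (Subtype.ext (congrArg (fun y : (fixd w).erase S => (y : Sylow 11 G)) hab))) :)
    · rintro ⟨Q, hQ⟩
      obtain ⟨hQS, hQ'⟩ := Finset.mem_erase.1 hQ
      obtain ⟨c, hc⟩ := hfbij.2 ⟨Q, hQS⟩
      have hcQ : (c : G) • P₀ = Q := congrArg Subtype.val hc
      refine ⟨⟨c, c.2, mem_centralizer_singleton_iff.2 ?_⟩, Subtype.ext hcQ⟩
      have hconj : w * (c : G) * w⁻¹ ∈ CM := by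
        refine ⟨‹M.Normal›.conj_mem _ c.2.1 w, mem_centralizer_iff.2 fun y hy => ?_⟩
        have hy' : w⁻¹ * y * w ∈ (S : Subgroup G) := by
          simpa using (mem_normalizer_iff.1 (inv_mem hwN) y).1 hy
        calc y * (w * (c : G) * w⁻¹) = w * (w⁻¹ * y * w * c) * w⁻¹ := by group
          _ = w * ((c : G) * (w⁻¹ * y * w)) * w⁻¹ := by rw [mem_centralizer_iff.1 c.2.2 _ hy']
          _ = _ := by group
      have := hfinj (a₁ := ⟨_, hconj⟩) (a₂ := c) (Subtype.ext (show (w * (c : G) * w⁻¹) • P₀ = (c : G) • P₀ by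
        rw [mul_smul, show w⁻¹ • P₀ = P₀ by rw [inv_smul_eq_iff, hwP], mul_smul, hcQ, (Finset.mem_filter.1 hQ').2]))
      exact (mul_inv_eq_iff_eq_mul.1 (congrArg Subtype.val this)).symm
  have hVcard : Nat.card V = 4 := by
    obtain ⟨h1, h2⟩ := hsgn w hww
    rw [MonoidHom.mem_ker.1 hwM] at h1
    rw [hfix] at h1 h2
    have := Nat.le_of_dvd (by norm_num) hV4
    obtain ⟨i, hi⟩ := h2
    interval_cases hk : Nat.card V <;> first | rfl | omega | (exfalso; revert hV4; decide) | (exfalso; revert h1; decide)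
  -- the Sylow subgroup of M
  have hwV : ∀ v ∈ V, v * w = w * v := fun v hv => mem_centralizer_singleton_iff.1 hv.2
  have hwnot : w ∉ V := fun h => hwC h.1.2
  let P : Subgroup G := V ⊔ zpowers w
  have hPsplit : ∀ x ∈ P, x ∈ V ∨ x * w ∈ V := by
    intro x hx
    rw [show P = closure ((V : Set G) ∪ {w}) by rw [Subgroup.closure_union, Subgroup.closure_eq, ← zpowers_eq_closure]] at hx
    induction hx using closure_induction with
    | mem y hy =>
      rcases hy with hy | hy
      · exact Or.inl hy
      · rw [Set.mem_singleton_iff.1 hy]; exact Or.inr (by rw [hww]; exact one_mem V)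
    | one => exact Or.inl (one_mem V)
    | mul a b _ _ ha hb =>
      rcases ha with ha | ha <;> rcases hb with hb | hb
      · exact Or.inl (mul_mem ha hb)
      · exact Or.inr (by rw [mul_assoc]; exact mul_mem ha hb)
      · exact Or.inr (by rw [mul_assoc, hwV b hb, ← mul_assoc]; exact mul_mem ha hb)
      · refine Or.inl ?_
        have e : w * b = b * w := by
          have := hwV _ hb
          calc w * b = w * (b * w) * w⁻¹ := by group
            _ = b * w * w * w⁻¹ := by rw [this]
            _ = b * w := by group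
        have := mul_mem ha hb
        rwa [mul_assoc a w, ← mul_assoc w b, e, mul_assoc b w w, hww, mul_one] at this
    | inv a _ ha =>
      rcases ha with ha | ha
      · exact Or.inl (inv_mem ha)
      · refine Or.inr ?_
        have h := inv_mem ha
        rw [mul_inv_rev, inv_eq_of_mul_eq_one_right hww] at h
        have := hwV _ h
        have e : a⁻¹ * w = w * a⁻¹ := by
          calc a⁻¹ * w = w * (w * a⁻¹ * w) := by
                rw [show w * (w * a⁻¹ * w) = w * w * (a⁻¹ * w) by group, hww, one_mul]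
            _ = w * (w * (w * a⁻¹)) := by rw [this]
            _ = w * a⁻¹ := by rw [← mul_assoc w w, hww, one_mul]
        rwa [e]
  have hPM : P ≤ M := sup_le (inf_le_left.trans inf_le_left) (zpowers_le.2 hwM)
  have hPN : P ≤ N := sup_le (inf_le_left.trans (inf_le_right.trans hCN)) (zpowers_le.2 hwN)
  have hPab : ∀ a ∈ P, ∀ b ∈ P, a * b = b * a := by
    have hVab : ∀ a ∈ V, ∀ b ∈ V, a * b = b * a := fun a ha b hb => by
      haveI := IsPGroup.isMulCommutative_of_card_eq_prime_sq (p := 2) (G := V) (by rw [hVcard]; norm_num)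
      exact congrArg Subtype.val ((IsMulCommutative.is_comm (M := V)).comm ⟨a, ha⟩ ⟨b, hb⟩)
    have hgen : P ≤ centralizer (P : Set G) := by
      refine sup_le (le_centralizer_iff.1 (sup_le ?_ ?_)) (le_centralizer_iff.1 (sup_le ?_ ?_))
      · exact fun x hx => mem_centralizer_iff.2 fun y hy => hVab y hy x hx
      · exact zpowers_le.2 (mem_centralizer_iff.2 fun y hy => hwV y hy)
      · exact le_centralizer_iff.1 (zpowers_le.2 (mem_centralizer_iff.2 fun y hy => hwV y hy))
      · exact zpowers_le.2 (mem_centralizer_iff.2 fun y hy => by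
          obtain ⟨k, rfl⟩ := mem_zpowers_iff.1 hy
          exact (Commute.zpow_left (Commute.refl w) k).eq)
    exact fun a ha b hb => (mem_centralizer_iff.1 (hgen hb) a ha)
  have hPcard : Nat.card P = 8 := by
    have hle : (V : Subgroup G) ≤ P := le_sup_left
    have h2 : (V.subgroupOf P).index = 2 := by
      refine index_eq_two_iff.2 ⟨⟨w, mem_sup_right (mem_zpowers w)⟩, fun b => ?_⟩
      simp only [mem_subgroupOf, coe_mul]
      rcases hPsplit b b.2 with h | h
      · refine Or.inr ⟨h, fun h' => hwnot ?_⟩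
        have := mul_mem (inv_mem h) h'
        rwa [inv_mul_cancel_left] at this
      · refine Or.inl ⟨h, fun h' => hwnot ?_⟩
        have := mul_mem (inv_mem h') h
        rwa [inv_mul_cancel_left] at this
    have := (V.subgroupOf P).card_mul_index
    rw [h2, Nat.card_congr (subgroupOfEquivOfLe hle).toEquiv, hVcard] at this
    omega
  have hfac : (3960 : ℕ).factorization 2 = 3 := by
    rw [Nat.factorization_def _ Nat.prime_two, show (3960 : ℕ) = 2 ^ 3 * 495 by norm_num,
      padicValNat.mul (by norm_num) (by norm_num), padicValNat.prime_pow,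
      padicValNat.eq_zero_of_not_dvd (by norm_num : ¬ (2 : ℕ) ∣ 495)]
  let T : Sylow 2 M := Sylow.ofCard (P.subgroupOf M) (by
    rw [Nat.card_congr (subgroupOfEquivOfLe hPM).toEquiv, hPcard, hMcard, hfac]; norm_num)
  have hTP : ∀ n : M, n ∈ normalizer ((T : Subgroup M) : Set M) → ∀ x ∈ P, (n : G) * x * (n : G)⁻¹ ∈ P :=
    fun n hn x hx => (mem_normalizer_iff.1 hn ⟨x, hPM hx⟩).1 hx
  obtain ⟨K, hK, hKM, hKcard⟩ := burnside_abelian T (fun a ha b hb => Subtype.ext (hPab a ha b hb)) fun n hn => by
    show (n : G) ∈ P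
    -- n fixes the only fixed point of a central element
    obtain ⟨v, hv, hv1⟩ : ∃ v ∈ V, v ≠ 1 := by
      by_contra h; push Not at h
      rw [(eq_bot_iff_forall V).2 h, card_bot] at hVcard; omega
    have hnN : (n : G) ∈ N := by
      rw [hmemN]
      by_contra hne
      have hvn : (n : G) * v * (n : G)⁻¹ ∈ P := hTP n hn v (mem_sup_left hv)
      have hfixS : ((n : G) * v * (n : G)⁻¹) • S = S := (hmemN _).1 (hPN hvn)
      have : v • ((n : G)⁻¹ • S) = (n : G)⁻¹ • S := by
        conv_rhs => rw [← hfixS]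
        rw [mul_smul, mul_smul, inv_smul_smul]
      exact hfreeM v hv.1.2 hv.1.1 hv1 _ (fun e => hne (by rw [inv_smul_eq_iff] at e; exact e.symm)) this
    -- inside the normaliser
    by_contra hnP
    set D := (M ⊓ N) ⊓ normalizer (P : Set G)
    have hnD : (n : G) ∈ D := by
      refine ⟨⟨n.2, hnN⟩, mem_normalizer_iff.2 fun x => ⟨fun hx => hTP n hn x hx, fun hx => ?_⟩⟩
      have := hTP n⁻¹ (inv_mem hn) _ hx
      simpa [mul_assoc] using this
    have hPD : P ≤ D := le_inf (le_inf hPM hPN) Subgroup.le_normalizer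
    have hcardD : Nat.card D = 88 := by
      have h88 : Nat.card D ∣ 88 := hMN ▸ Subgroup.card_dvd_of_le inf_le_left
      have h8 : 8 ∣ Nat.card D := hPcard ▸ Subgroup.card_dvd_of_le hPD
      have hne : Nat.card D ≠ 8 := fun e => hnP ((eq_of_le_of_card_ge hPD (by rw [e, hPcard])).ge hnD)
      have hd : ∀ d ∈ Nat.divisors 88, 8 ∣ d → d = 8 ∨ d = 88 := by decide
      exact (hd _ (Nat.mem_divisors.2 ⟨h88, by norm_num⟩) h8).resolve_left hne
    have hDeq : D = M ⊓ N := eq_of_le_of_card_ge inf_le_left (by rw [hMN, hcardD])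
    -- then w would centralise S
    refine hwC (mem_centralizer_iff.2 fun x hx => ?_)
    have hxD : x ∈ D := hDeq ▸ ⟨hSM hx, hSN hx⟩
    have hmem : x * w * x⁻¹ * w⁻¹ ∈ P :=
      mul_mem ((mem_normalizer_iff.1 hxD.2 w).1 (mem_sup_right (mem_zpowers w))) (inv_mem (mem_sup_right (mem_zpowers w)))
    have hS' : x * w * x⁻¹ * w⁻¹ ∈ (S : Subgroup G) := by
      rw [mul_assoc x, mul_assoc x]
      exact mul_mem hx ((mem_normalizer_iff.1 hwN _).1 (inv_mem hx))
    have hbot : P ⊓ (S : Subgroup G) = ⊥ := inf_eq_bot_of_coprime (by rw [hPcard, hS]; norm_num)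
    have h1 : x * w * x⁻¹ * w⁻¹ = 1 := by rw [← mem_bot, ← hbot]; exact ⟨hmem, hS'⟩
    exact mul_inv_eq_iff_eq_mul.1 (mul_inv_eq_one.1 h1)
  have hK495 : Nat.card K = 495 := by
    rw [hKcard]
    have := (T : Subgroup M).card_mul_index
    rw [show (T : Subgroup M) = P.subgroupOf M from rfl, Nat.card_congr (subgroupOfEquivOfLe hPM).toEquiv, hPcard,
      hMcard] at this
    rw [show (T : Subgroup M) = P.subgroupOf M from rfl]
    omega
  haveI := hK
  have h11K : 11 ∣ Nat.card K := by rw [hK495]; norm_num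
  refine small_normaliser hord hcase h11K S ?_ (by omega)
  have := card_normal hord hcase h11K S
  rw [hK495, hn] at this
  omega

end

theorem isSimple_of_eleven (hord : Nat.card G = 7920)
    (hcase : ∀ N : Subgroup G, N.Normal → N ≠ ⊥ → 11 ∣ Nat.card N) : IsSimpleGroup G := by
  haveI : Fact (Nat.Prime 11) := ⟨by norm_num⟩
  obtain ⟨S⟩ : Nonempty (Sylow 11 G) := inferInstance
  have hidx : (S : Subgroup G).index = 720 := by
    have h := (S : Subgroup G).card_mul_index
    rw [sylow_card hord hcase S, hord] at h; omega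
  have hn : Nat.card (Sylow 11 G) = 144 := by
    rcases eleven_count S (hidx ▸ dvd_rfl) with h | h | h | h
    · exact absurd h (sylows_ne_one hord hcase)
    · exact absurd h (sylows_ne_twelve hord hcase)
    · exact absurd h (sylows_ne_fortyfive hord hcase)
    · exact h
  haveI : Nontrivial G := Finite.one_lt_card_iff_nontrivial.1 (by rw [hord]; norm_num)
  refine ⟨fun M hM => ?_⟩
  by_contra hcon
  push Not at hcon
  obtain ⟨hbot, htop⟩ := hcon
  haveI := hM
  have h11 := hcase M hM hbot
  have h := card_normal hord hcase h11 S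
  set N := normalizer ((S : Subgroup G) : Set G)
  have hN : Nat.card N = 55 := by
    have := N.card_mul_index
    rw [show N.index = 144 from S.card_eq_index_normalizer.symm.trans hn, hord] at this
    omega
  rw [hn] at h
  have hdvd : Nat.card ↥(M ⊓ N) ∣ 55 := hN ▸ Subgroup.card_dvd_of_le inf_le_right
  have h11' : 11 ∣ Nat.card ↥(M ⊓ N) := by
    have := Subgroup.card_dvd_of_le (le_inf (all_sylows hord hcase h11 S) (Subgroup.le_normalizer : _ ≤ N))
    rwa [sylow_card hord hcase S] at this
  have hd : ∀ d ∈ Nat.divisors 55, 11 ∣ d → d = 11 ∨ d = 55 := by decide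
  rcases hd _ (Nat.mem_divisors.2 ⟨hdvd, by norm_num⟩) h11' with e | e
  · exact small_normaliser hord hcase h11 S e (by omega)
  · rw [e] at h
    exact htop (eq_top_of_card_eq _ (by rw [h, hord]))

theorem isSimple (hord : Nat.card G = 7920)
    (hdisc : ∃ A : Set ℕ, (∃ a ∈ A, a.Prime ∧ a ∣ Nat.card G) ∧ (∃ b ∉ A, b.Prime ∧ b ∣ Nat.card G) ∧
      ∀ a ∈ A, ∀ b ∉ A, a.Prime → b.Prime → a ∣ Nat.card G → b ∣ Nat.card G → ¬ ∃ g : G, orderOf g = a * b) :
    IsSimpleGroup G := by
  haveI : Fact (Nat.Prime 11) := ⟨by norm_num⟩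
  obtain ⟨A, hA⟩ := hdisc
  exact isSimple_of_eleven hord fun N hN hne =>
    haveI := hN
    eleven_dvd_normal hord A hA hne

end CfsgLib.Spor.OrderM11
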