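/-
Two simplicity criteria for groups that are two-transitive on an invariant finite set of points.
-/
import Mathlib

namespace CfsgLib.Spor

variable {G α : Type*} [Group G] [MulAction G α] [DecidableEq α]

/-- The hypotheses shared by both criteria. -/
structure TwoTransOn (G : Type*) {α : Type*} [Group G] [MulAction G α] (O : Finset α) : Prop where
  invariant : ∀ g : G, ∀ a ∈ O, g • a ∈ O
  faithful : ∀ g : G, (∀ a ∈ O, g • a = a) → g = 1
  two : ∀ a ∈ O, ∀ b ∈ O, a ≠ b → ∀ c ∈ O, ∀ d ∈ O, c ≠ d → ∃ g : G, g • a = c ∧ g • b = d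

theorem TwoTransOn.transitive_normal {O : Finset α} (h : TwoTransOn G O) {N : Subgroup G}
    (hN : N.Normal) (hne : N ≠ ⊥) {a c : α} (ha : a ∈ O) (hc : c ∈ O) : ∃ n ∈ N, n • a = c := by
  obtain ⟨n, hn, hn1⟩ : ∃ n ∈ N, n ≠ 1 := by
    by_contra hcon; push Not at hcon
    exact hne ((Subgroup.eq_bot_iff_forall _).2 hcon)
  obtain ⟨b, hb, hbn⟩ : ∃ b ∈ O, n • b ≠ b := by
    by_contra hcon; push Not at hcon
    exact hn1 (h.faithful n hcon)
  by_cases hac : a = c
  · exact ⟨1, N.one_mem, by rw [one_smul, hac]⟩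
  obtain ⟨g, hg1, hg2⟩ := h.two b hb (n • b) (h.invariant n b hb) (Ne.symm hbn) a ha c hc hac
  refine ⟨g * n * g⁻¹, hN.conj_mem n hn g, ?_⟩
  rw [← hg1, mul_smul, mul_smul, inv_smul_smul, hg2]

theorem TwoTransOn.orbit_normal {O : Finset α} (h : TwoTransOn G O) {N : Subgroup G}
    (hN : N.Normal) (hne : N ≠ ⊥) {a : α} (ha : a ∈ O) : MulAction.orbit N a = ↑O := by
  ext c
  constructor
  · rintro ⟨n, rfl⟩; exact h.invariant n a ha
  · intro hc
    obtain ⟨n, hn, e⟩ := h.transitive_normal hN hne ha hc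
    exact ⟨⟨n, hn⟩, e⟩

theorem TwoTransOn.card_dvd_normal [Finite G] {O : Finset α} (h : TwoTransOn G O) {N : Subgroup G}
    (hN : N.Normal) (hne : N ≠ ⊥) (hO : O.Nonempty) : O.card ∣ Nat.card N := by
  obtain ⟨a, ha⟩ := hO
  have := Nat.card_congr (MulAction.orbitProdStabilizerEquivGroup N a)
  rw [Nat.card_prod, Nat.card_coe_set_eq, h.orbit_normal hN hne ha, Set.ncard_coe_finset] at this
  exact ⟨_, this.symm⟩

/-- A prime dividing the degree but whose square does not divide the order, and generation by elements of that order. -/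
theorem TwoTransOn.isSimpleGroup_of_prime [Finite G] {O : Finset α} (h : TwoTransOn G O) {p : ℕ}
    (hp : p.Prime) (hpO : p ∣ O.card) (hp2 : ¬ p * p ∣ Nat.card G) (hO : 1 < O.card)
    (hgen : Subgroup.closure {g : G | g ^ p = 1} = ⊤) : IsSimpleGroup G := by
  obtain ⟨a, ha, b, hb, hab⟩ := Finset.one_lt_card.1 hO
  obtain ⟨g, hga, -⟩ := h.two a ha b hb hab b hb a ha (Ne.symm hab)
  haveI : Nontrivial G := ⟨g, 1, by rintro rfl; exact hab (by simpa using hga)⟩
  refine { eq_bot_or_eq_top_of_normal := fun N hN => or_iff_not_imp_left.2 fun hne => ?_ }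
  have hd : p ∣ Nat.card N := hpO.trans (h.card_dvd_normal hN hne ⟨a, ha⟩)
  have hidx : ¬ p ∣ N.index := fun hc => hp2 (N.card_mul_index ▸ Nat.mul_dvd_mul hd hc)
  rw [eq_top_iff, ← hgen, Subgroup.closure_le]
  intro x hx
  have h1 : orderOf (QuotientGroup.mk' N x) ∣ p :=
    orderOf_dvd_of_pow_eq_one (by rw [← map_pow, (hx : x ^ p = 1), map_one])
  rcases (Nat.dvd_prime hp).1 h1 with h2 | h2
  · exact (QuotientGroup.eq_one_iff x).1 (orderOf_eq_one_iff.1 h2)
  · refine absurd ?_ hidx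
    rw [← h2, Subgroup.index]
    exact orderOf_dvd_natCard _

/-- A simple point stabilizer and a degree divisible by two primes. -/
theorem TwoTransOn.isSimpleGroup_of_stabilizer [Finite G] {O : Finset α} (h : TwoTransOn G O) {a : α}
    (ha : a ∈ O) (hs : IsSimpleGroup (MulAction.stabilizer G a)) {p q : ℕ} (hp : p.Prime) (hq : q.Prime)
    (hpq : p ≠ q) (hpO : p ∣ O.card) (hqO : q ∣ O.card) : IsSimpleGroup G := by
  haveI := hs
  haveI : Nontrivial G := (Subtype.val_injective (p := fun g : G => g ∈ MulAction.stabilizer G a)).nontrivial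
  refine { eq_bot_or_eq_top_of_normal := fun N hN => or_iff_not_imp_left.2 fun hne => ?_ }
  rcases hs.eq_bot_or_eq_top_of_normal (N.subgroupOf (MulAction.stabilizer G a))
    (hN.comap _) with hb | ht
  swap
  · rw [eq_top_iff]
    intro g _
    obtain ⟨n, hn, e⟩ := h.transitive_normal hN hne ha (h.invariant g a ha)
    have hmem : n⁻¹ * g ∈ MulAction.stabilizer G a := by
      rw [MulAction.mem_stabilizer_iff, mul_smul, ← e, inv_smul_smul]
    have : (⟨_, hmem⟩ : MulAction.stabilizer G a) ∈ N.subgroupOf (MulAction.stabilizer G a) :=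
      ht ▸ Subgroup.mem_top _
    simpa using N.mul_mem hn (Subgroup.mem_subgroupOf.1 this)
  exfalso
  have hfix : ∀ n ∈ N, n • a = a → n = 1 := fun n hn e => by
    have : (⟨n, e⟩ : MulAction.stabilizer G a) ∈ N.subgroupOf (MulAction.stabilizer G a) :=
      Subgroup.mem_subgroupOf.2 hn
    rw [hb, Subgroup.mem_bot] at this
    exact congrArg Subtype.val this
  have hinj : ∀ n ∈ N, ∀ m ∈ N, n • a = m • a → n = m := fun n hn m hm e => by
    have := hfix (m⁻¹ * n) (N.mul_mem (N.inv_mem hm) hn) (by rw [mul_smul, e, inv_smul_smul])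
    exact (inv_mul_eq_one.1 this).symm
  have hconj : ∀ n ∈ N, ∀ m ∈ N, n ≠ 1 → m ≠ 1 → orderOf n = orderOf m := by
    intro n hn m hm hn1 hm1
    have hna : a ≠ n • a := fun e => hn1 (hfix n hn e.symm)
    have hma : a ≠ m • a := fun e => hm1 (hfix m hm e.symm)
    obtain ⟨g, hg1, hg2⟩ := h.two a ha _ (h.invariant n a ha) hna a ha _ (h.invariant m a ha) hma
    have e : g * n * g⁻¹ = m := hinj _ (hN.conj_mem n hn g) m hm (by
      rw [mul_smul, mul_smul, inv_smul_eq_iff.2 hg1.symm, hg2])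
    rw [← e]
    exact (SemiconjBy.orderOf_eq (x := n) (y := g * n * g⁻¹) g (by simp [SemiconjBy])).trans rfl
  have hcard : ∀ r : ℕ, r.Prime → r ∣ O.card → ∃ n ∈ N, orderOf n = r := by
    intro r hr hrO
    haveI := Fact.mk hr
    obtain ⟨n, hn⟩ := exists_prime_orderOf_dvd_card' r (hrO.trans (h.card_dvd_normal hN hne ⟨a, ha⟩))
    exact ⟨n, n.2, by rw [Subgroup.orderOf_coe, hn]⟩
  obtain ⟨n, hn, hno⟩ := hcard p hp hpO
  obtain ⟨m, hm, hmo⟩ := hcard q hq hqO
  refine hpq (hno.symm.trans ((hconj n hn m hm ?_ ?_).trans hmo))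
  · rintro rfl; rw [orderOf_one] at hno; exact hp.one_lt.ne hno
  · rintro rfl; rw [orderOf_one] at hmo; exact hq.one_lt.ne hmo

end CfsgLib.Spor
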