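/-
Sharply four-fold transitive groups of degree eleven and sharply five-fold transitive groups of
degree twelve are simple.
-/
import Cfsg.Agent.Lib.Spor.OrderM11Simple
import Cfsg.Agent.Lib.Spor.SimpleCriterion

set_option autoImplicit false

namespace CfsgLib.Spor

open MulAction

variable {α : Type*} [Fintype α] [DecidableEq α]

theorem card_of_sharply {G : Subgroup (Equiv.Perm α)} {k : ℕ} (hk : k ≤ Fintype.card α)
    [IsMultiplyPretransitive G α k] (hsharp : ∀ x : Fin k ↪ α, stabilizer G x = ⊥) :
    Nat.card G = (Fintype.card α).descFactorial k := by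
  obtain ⟨x⟩ : Nonempty (Fin k ↪ α) :=
    Function.Embedding.nonempty_of_card_le (by rwa [Fintype.card_fin])
  have hbij : Function.Bijective fun g : G => g • x := by
    refine ⟨fun g g' h => ?_, fun y => exists_smul_eq (M := G) x y⟩
    have : g'⁻¹ * g ∈ stabilizer G x := by
      exact (mul_smul g'⁻¹ g x).trans ((congrArg (g'⁻¹ • ·) h).trans (inv_smul_smul g' x))
    rw [hsharp x, Subgroup.mem_bot, inv_mul_eq_one] at this
    exact this.symm
  rw [Nat.card_eq_of_bijective _ hbij, Nat.card_eq_fintype_card, Fintype.card_embedding_eq, Fintype.card_fin]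

theorem twoTransOn_univ {G : Subgroup (Equiv.Perm α)} (h2 : IsMultiplyPretransitive G α 2) :
    TwoTransOn G (Finset.univ : Finset α) where
  invariant _ _ _ := Finset.mem_univ _
  faithful g hg := Subtype.ext (Equiv.ext fun a => hg a (Finset.mem_univ a))
  two _ _ _ _ hab _ _ _ _ hcd := is_two_pretransitive_iff.1 h2 hab hcd

theorem isSimpleGroup_four {G : Subgroup (Equiv.Perm α)} (hα : Fintype.card α = 11)
    [IsMultiplyPretransitive G α 4] (hsharp : ∀ x : Fin 4 ↪ α, stabilizer G x = ⊥) :
    IsSimpleGroup G ∧ Nat.card G = 7920 := by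
  have hcard : Nat.card G = 7920 := by
    rw [card_of_sharply (by omega) hsharp, hα]; rfl
  have h2 := twoTransOn_univ (G := G)
    (isMultiplyPretransitive_of_le (n := 4) (by norm_num) (by rw [Nat.card_eq_fintype_card]; omega))
  refine ⟨OrderM11.isSimple_of_eleven hcard fun N hN hne => ?_, hcard⟩
  have := h2.card_dvd_normal hN hne (Finset.card_pos.1 (by rw [Finset.card_univ]; omega))
  rwa [Finset.card_univ, hα] at this

theorem isSimpleGroup_five {G : Subgroup (Equiv.Perm α)} (hα : Fintype.card α = 12)
    [IsMultiplyPretransitive G α 5] (hsharp : ∀ x : Fin 5 ↪ α, stabilizer G x = ⊥) :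
    IsSimpleGroup G ∧ Nat.card G = 95040 := by
  have hcard : Nat.card G = 95040 := by
    rw [card_of_sharply (by omega) hsharp, hα]; rfl
  refine ⟨?_, hcard⟩
  have hn : Nat.card α = 12 := by rw [Nat.card_eq_fintype_card, hα]
  haveI h3 : IsMultiplyPretransitive G α 3 :=
    isMultiplyPretransitive_of_le (n := 5) (by norm_num) (by omega)
  have htwo : IsMultiplyPretransitive G α 2 :=
    isMultiplyPretransitive_of_le (n := 5) (by norm_num) (by omega)
  obtain ⟨a⟩ : Nonempty α := Fintype.card_pos_iff.1 (by omega)
  haveI : IsPretransitive G α := isPretransitive_of_is_two_pretransitive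
  set H := stabilizer G a with hH
  have hcardH : Nat.card H = 7920 := by
    have h := Nat.card_congr (orbitProdStabilizerEquivGroup G a)
    rw [Nat.card_prod, orbit_eq_univ, Nat.card_coe_set_eq, Set.ncard_univ, hn, hcard] at h
    rw [hH]; omega
  have hO : TwoTransOn H (Finset.univ.erase a) :=
    { invariant := fun g b hb => Finset.mem_erase.2 ⟨fun e => (Finset.mem_erase.1 hb).1
        (MulAction.injective (g : G) ((show (g : G) • b = a from e).trans g.2.symm)), Finset.mem_univ _⟩
      faithful := fun g hg => Subtype.ext (Subtype.ext (Equiv.ext fun b => by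
        by_cases hb : b = a
        · subst hb; exact g.2
        · exact hg b (Finset.mem_erase.2 ⟨hb, Finset.mem_univ _⟩)))
      two := fun b hb c hc hbc d hd e he hde => by
        have hb' := (Finset.mem_erase.1 hb).1
        have hc' := (Finset.mem_erase.1 hc).1
        have hd' := (Finset.mem_erase.1 hd).1
        have he' := (Finset.mem_erase.1 he).1
        have i1 : Function.Injective ![a, b, c] := by
          intro i j h
          fin_cases i <;> fin_cases j <;> simp_all [eq_comm]
        have i2 : Function.Injective ![a, d, e] := by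
          intro i j h
          fin_cases i <;> fin_cases j <;> simp_all [eq_comm]
        obtain ⟨g, hg⟩ := exists_smul_eq (M := G) (⟨_, i1⟩ : Fin 3 ↪ α) ⟨_, i2⟩
        have hga : g • a = a := congrArg (fun f : Fin 3 ↪ α => f 0) hg
        exact ⟨⟨g, hga⟩, congrArg (fun f : Fin 3 ↪ α => f 1) hg, congrArg (fun f : Fin 3 ↪ α => f 2) hg⟩ }
  have hHs : IsSimpleGroup H := OrderM11.isSimple_of_eleven hcardH fun N hN hne => by
    have hc : (Finset.univ.erase a).card = 11 := by
      rw [Finset.card_erase_of_mem (Finset.mem_univ a), Finset.card_univ, hα]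
    have := hO.card_dvd_normal hN hne (Finset.card_pos.1 (by omega))
    rwa [hc] at this
  exact (twoTransOn_univ htwo).isSimpleGroup_of_stabilizer (Finset.mem_univ a) hHs Nat.prime_two
    Nat.prime_three (by norm_num) (by rw [Finset.card_univ, hα]; norm_num)
    (by rw [Finset.card_univ, hα]; norm_num)

end CfsgLib.Spor
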