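/-
Subgroups of small index in the Mathieu group of degree 24. A subgroup containing a Sylow 2-subgroup and no element
of order eleven or twenty-three fixes the invariant octad, trio or sextet.
-/
import Cfsg.Agent.Lib.Spor.OddIndexM24Data
import Cfsg.Agent.Lib.Spor.SylowTwoM24
import Cfsg.Agent.Lib.Spor.StabFacts
import Cfsg.Agent.Lib.Spor.OctadGeom
import Cfsg.Agent.Lib.Spor.SylowList
import Cfsg.Agent.Lib.Spor.PointSubgroups

set_option autoImplicit false

namespace CfsgLib.Spor.OddIndexM24

open Cfsg MulAction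
open scoped Pointwise

/-- The listed element. -/
def el (k : ℕ) : ℕ := SylTwoM24.data.el k

/-- The listed group. -/
noncomputable def S : Subgroup (Equiv.Perm GolayPt) := SylTwoM24.valid.grp

theorem size_eq : SylTwoM24.data.size = 1024 := by decide +kernel

theorem el_mem {k : ℕ} (hk : k < 1024) : permOf (el k) ∈ S := ⟨k, size_eq.symm ▸ hk, rfl⟩

theorem el_perm {k : ℕ} (hk : k < 1024) : isPermCode (el k) = true := SylTwoM24.valid.perm (size_eq.symm ▸ hk)

theorem S_le : S ≤ M24 := SylTwoM24.valid.grp_le

theorem card_S : Nat.card S = 1024 := SylTwoM24.valid.card_grp.trans size_eq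

/-- Repeated product. -/
def powCode (c : ℕ) : ℕ → ℕ
  | 0 => idPacked
  | n + 1 => permMulCode (powCode c n) c

theorem powCode_spec {c : ℕ} (hc : isPermCode c = true) :
    ∀ n, isPermCode (powCode c n) = true ∧ permOf (powCode c n) = permOf c ^ n
  | 0 => ⟨(by decide +kernel : isPermCode idPacked = true), permOf_idPacked⟩
  | n + 1 => by
    obtain ⟨h1, h2⟩ := powCode_spec hc n
    refine ⟨isPermCode_permMulCode h1 hc, ?_⟩
    rw [pow_succ, ← h2, permOf_permMulCode h1 hc (isPermCode_permMulCode h1 hc) rfl]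
    rfl

/-- Fixing the points of a mask. -/
def fixes (c m : ℕ) : Bool := (List.range 24).all fun i => !m.testBit i || permFn c i == i

theorem fixes_spec {c m : ℕ} (hc : isPermCode c = true) (h : fixes c m = true) :
    ∀ p ∈ pts m, permOf c p = p := fun p hp => by
  have := List.all_eq_true.1 h (ptIdx p) (List.mem_range.2 (ptIdx_lt p))
  rw [mem_pts.1 hp] at this
  rw [permOf_apply hc, show permFn c (ptIdx p) = ptIdx p by simpa using this, idxPt_ptIdx]

/-- The pointwise stabiliser of the invariant octad lies in the listed group. -/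
def baseFix : List ℕ := (List.range 1024).filter fun k => fixes (el k) base

theorem baseFix_len : baseFix.length = 16 := by decide +kernel

theorem el_inj {a b : ℕ} (ha : a < 1024) (hb : b < 1024) (h : permOf (el a) = permOf (el b)) : a = b :=
  SylTwoM24.valid.injOn (size_eq.symm ▸ ha) (size_eq.symm ▸ hb) h

theorem base_octad_true : (codeTest base && (pop 24 base == 8)) = true := by decide +kernel

theorem base_octad : pts base ∈ octads := by
  have h := base_octad_true
  simp only [Bool.and_eq_true, beq_iff_eq] at h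
  exact ⟨⟨word _, (word_mem_golayCode_iff _).2 h.1, support₂_word _⟩, by rw [card_pts, h.2]⟩

theorem ptwise_base_le : ptwise (pts base) ≤ S := by
  classical
  have hlt : ∀ k ∈ baseFix, k < 1024 := fun k hk => List.mem_range.1 (List.mem_filter.1 hk).1
  let T : Finset (Equiv.Perm GolayPt) := (baseFix.map fun k => permOf (el k)).toFinset
  have hT : T.card = 16 := by
    rw [List.toFinset_card_of_nodup, List.length_map, baseFix_len]
    exact ((List.nodup_range.filter _).map_on fun a ha b hb h => el_inj (hlt a ha) (hlt b hb) h)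
  have hsub : (T : Set (Equiv.Perm GolayPt)) ⊆ ptwise (pts base) := fun x hx => by
    simp only [T, List.coe_toFinset, Set.mem_ofPred_eq, List.mem_map] at hx
    obtain ⟨k, hk, rfl⟩ := hx
    exact mem_ptwise.2 ⟨S_le (el_mem (hlt k hk)), fixes_spec (el_perm (hlt k hk)) (List.mem_filter.1 hk).2⟩
  have e := Set.eq_of_subset_of_ncard_le hsub (by
    rw [Set.ncard_coe_finset, hT, ← Nat.card_coe_set_eq]
    exact (ptwise_facts base_octad).1.le) (Set.toFinite _)
  intro x hx
  have : x ∈ (T : Set (Equiv.Perm GolayPt)) := e.symm ▸ hx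
  simp only [T, List.coe_toFinset, Set.mem_ofPred_eq, List.mem_map] at this
  obtain ⟨k, hk, rfl⟩ := this
  exact el_mem (hlt k hk)

/-- A representative is impossible. -/
def repOK (r : ℕ × ℕ × ℕ × ℕ) : Bool :=
  let c := permMulCode (el r.2.1) r.2.2.1
  decide (r.2.1 < 1024) && isM24Code r.2.2.1 && fixes r.2.2.1 r.1 && (r.2.2.2 == 11 || r.2.2.2 == 23) &&
    (powCode c r.2.2.2 == idPacked) && !((List.range 24).all fun i => permFn c i == i)

theorem reps_ok : reps.all repOK = true := by decide +kernel

/-- Every octad is among the fifteen or equivalent to a representative. -/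
def caseOK (i : ℕ) : Bool :=
  let m := arrGet 24 (arrGet 24 octadStabV i) 0
  let c := arrGet 16 cases i
  if fifteen.contains m then true
  else decide (c / 16 < 1024) && decide (c % 16 < reps.length) &&
    (permMask (el (c / 16)) (reps.getD (c % 16) (0, 0, 0, 0)).1 == m)

theorem cases_ok : (List.range 759).all caseOK = true := by decide +kernel

/-- Members of the fifteen meet in tetrads of the sextet. -/
theorem fifteen_meets : (fifteen.all fun a => fifteen.all fun b =>
    !(pop 24 (a &&& b) == 4) || (famList 6 sextetCode).contains (a &&& b)) = true := by decide +kernel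

/-- A member outside the three has a translate, or one of the three, meeting it in a tetrad. -/
def meetOK (i : ℕ) : Bool :=
  let a := fifteen.getD i 0
  let w := meets.getD i (0, 0)
  three.contains a || (decide (w.1 < 1024) && (permMask (el w.1) a == w.2) && (pop 24 (a &&& w.2) == 4))

theorem meets_ok : (List.range fifteen.length).all meetOK = true := by decide +kernel

theorem codes_ok : isSextetCode sextetCode = true ∧ isTrioCode trioCode = true ∧
    famList 3 trioCode = three ∧ base ∈ three ∧ other ∈ three ∧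
    (∀ a ∈ three, a = base ∨ a = other ∨ a = permMask (el swapK) other) ∧ swapK < 1024 ∧
    (∀ a ∈ fifteen, a < 2 ^ 24) ∧ (∀ a ∈ three, a < 2 ^ 24) ∧
    famOk 6 sextetCode = true ∧ other ≠ base := by decide +kernel

theorem pts_inter (a b : ℕ) : pts a ∩ pts b = pts (a &&& b) := by
  ext p
  simp [mem_pts, Nat.testBit_and]

theorem key (H : Subgroup (Equiv.Perm GolayPt)) (hH : H ≤ M24) (hS : S ≤ H)
    (h11 : ¬ 11 ∣ Nat.card H) (h23 : ¬ 23 ∣ Nat.card H) :
    (∀ g ∈ H, g • pts base = pts base) ∨ (∀ g ∈ H, g • famSet 3 trioCode = famSet 3 trioCode) ∨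
      (∀ g ∈ H, g • famSet 6 sextetCode = famSet 6 sextetCode) := by
  classical
  obtain ⟨hsx, htr, hfl, hb3, ho3, hcov, hsw, hlt15, hlt3, hfok, hob⟩ := codes_ok
  -- the orbit of the octad
  have h15 : ∀ g ∈ H, ∃ m ∈ fifteen, g • pts base = pts m := by
    intro g hg
    have hmem : g • pts base ∈ octads := smul_mem_octads (hH hg) base_octad
    rw [octadStabOrb_all] at hmem
    obtain ⟨i, hi, e⟩ := hmem
    have hlen : octadStabOrb.lens.sum = 759 := by decide +kernel
    have hc := List.all_eq_true.1 cases_ok i (List.mem_range.2 (hlen ▸ hi))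
    simp only [caseOK] at hc
    change pts (arrGet 24 (arrGet 24 octadStabV i) 0) = g • pts base at e
    split_ifs at hc with h
    · exact ⟨_, List.contains_iff_mem.1 h, e.symm⟩
    · exfalso
      simp only [Bool.and_eq_true, decide_eq_true_eq, beq_iff_eq] at hc
      obtain ⟨⟨hk, hj⟩, hm⟩ := hc
      set k := arrGet 16 cases i / 16
      set r := reps.getD (arrGet 16 cases i % 16) (0, 0, 0, 0)
      have hr := List.all_eq_true.1 reps_ok r (by
        rw [show r = reps[_] from List.getD_eq_getElem _ _ hj]; exact List.getElem_mem _)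
      simp only [repOK, Bool.and_eq_true, decide_eq_true_eq, Bool.or_eq_true, beq_iff_eq, Bool.not_eq_true',
        List.all_eq_false, List.mem_range] at hr
      obtain ⟨⟨⟨⟨⟨hs, he⟩, hfix⟩, hn⟩, hp⟩, i0, hi0, hne⟩ := hr
      -- the representative is in the orbit
      have hmove : (permOf (el k))⁻¹ * g ∈ H := H.mul_mem (H.inv_mem (hS (el_mem hk))) hg
      have hrep : ((permOf (el k))⁻¹ * g) • pts base = pts r.1 := by
        rw [mul_smul, ← e, ← hm, ← smul_pts (el_perm hk), inv_smul_smul]
      have heP : isPermCode r.2.2.1 = true := isPermCode_of_isM24Code he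
      have he' : permOf r.2.2.1 ∈ H := by
        have h1 : permOf r.2.2.1 ∈ ptwise (((permOf (el k))⁻¹ * g) • pts base) :=
          mem_ptwise.2 ⟨permOf_mem_M24 he, by rw [hrep]; exact fixes_spec heP hfix⟩
        rw [ptwise_smul _ (hH hmove)] at h1
        obtain ⟨x, hx, hx'⟩ := h1
        rw [← hx']
        exact H.mul_mem (H.mul_mem hmove (hS (ptwise_base_le hx))) (H.inv_mem hmove)
      have hcP : isPermCode (permMulCode (el r.2.1) r.2.2.1) = true :=
        isPermCode_permMulCode (el_perm hs) heP
      have hcH : permOf (permMulCode (el r.2.1) r.2.2.1) ∈ H := by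
        rw [← permOf_permMulCode (el_perm hs) heP hcP rfl]
        exact H.mul_mem (hS (el_mem hs)) he'
      have hpow := (powCode_spec hcP r.2.2.2).2
      rw [hp, permOf_idPacked] at hpow
      have hne1 : permOf (permMulCode (el r.2.1) r.2.2.1) ≠ 1 := fun h1 => by
        have h2 := congrArg (fun σ : Equiv.Perm GolayPt => ptIdx (σ (idxPt i0))) h1
        simp only [permOf_idxPt hcP hi0, Equiv.Perm.one_apply, ptIdx_idxPt _ (permFn_lt hcP hi0),
          ptIdx_idxPt _ hi0] at h2
        exact (by simpa using hne : ¬ _ = _) h2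
      have hd := Subgroup.orderOf_dvd_natCard H hcH
      rcases hn with hn | hn
      · haveI : Fact (Nat.Prime 11) := ⟨by norm_num⟩
        rw [orderOf_eq_prime (p := 11) (by rw [← hn]; exact hpow.symm) hne1] at hd
        exact h11 hd
      · haveI : Fact (Nat.Prime 23) := ⟨by norm_num⟩
        rw [orderOf_eq_prime (p := 23) (by rw [← hn]; exact hpow.symm) hne1] at hd
        exact h23 hd
  by_cases hfix : ∀ g ∈ H, g • pts base = pts base
  · exact Or.inl hfix
  by_cases h3 : ∀ g ∈ H, g • pts base ∈ famSet 3 trioCode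
  · right; left
    -- the orbit is the trio
    have horb : ∀ a ∈ three, ∃ h ∈ H, h • pts base = pts a := by
      push Not at hfix
      obtain ⟨g, hg, hgb⟩ := hfix
      obtain ⟨a, ha, hae⟩ := mem_famSet.1 (h3 g hg)
      rw [hfl] at ha
      have hs := hS (el_mem hsw)
      have hoth : ∃ h ∈ H, h • pts base = pts other := by
        rcases hcov a ha with rfl | rfl | rfl
        · exact absurd hae.symm hgb
        · exact ⟨g, hg, hae.symm⟩
        · refine ⟨(permOf (el swapK))⁻¹ * g, H.mul_mem (H.inv_mem hs) hg, ?_⟩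
          rw [mul_smul, ← hae, ← smul_pts (el_perm hsw), inv_smul_smul]
      intro b hb
      rcases hcov b hb with rfl | rfl | rfl
      · exact ⟨1, H.one_mem, one_smul _ _⟩
      · exact hoth
      · obtain ⟨h, hh, he⟩ := hoth
        exact ⟨permOf (el swapK) * h, H.mul_mem hs hh, by rw [mul_smul, he, smul_pts (el_perm hsw)]⟩
    intro g hg
    refine Finset.eq_of_subset_of_card_le (fun t ht => ?_) (by rw [Finset.card_smul_finset])
    obtain ⟨u, hu, rfl⟩ := Finset.mem_smul_finset.1 ht
    obtain ⟨a, ha, rfl⟩ := mem_famSet.1 hu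
    obtain ⟨h, hh, he⟩ := horb a (hfl ▸ ha)
    rw [← he, ← mul_smul]
    exact h3 _ (H.mul_mem hg hh)
  · right; right
    push Not at h3
    obtain ⟨g0, hg0, hn3⟩ := h3
    obtain ⟨a, ha, hae⟩ := h15 g0 hg0
    obtain ⟨i, hi, hia⟩ := List.mem_iff_getElem.1 ha
    have hm := List.all_eq_true.1 meets_ok i (List.mem_range.2 hi)
    simp only [meetOK, List.getD_eq_getElem _ _ hi, hia, Bool.or_eq_true, Bool.and_eq_true, decide_eq_true_eq,
      beq_iff_eq, List.contains_iff_mem] at hm
    rcases hm with hm | ⟨⟨hk, hb⟩, h4⟩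
    · exact absurd (hae ▸ mem_famSet.2 ⟨a, hfl.symm ▸ hm, rfl⟩) hn3
    set w := meets.getD i (0, 0)
    set g1 := permOf (el w.1) * g0
    have hg1 : g1 ∈ H := H.mul_mem (hS (el_mem hk)) hg0
    have hb' : g1 • pts base = pts w.2 := by rw [mul_smul, hae, smul_pts (el_perm hk), hb]
    have hchk := fifteen_meets
    simp only [List.all_eq_true, Bool.or_eq_true, Bool.not_eq_true', beq_eq_false_iff_ne, ne_eq,
      List.contains_iff_mem] at hchk
    have hin : ∀ x ∈ H, ∀ y ∈ H, ((x • pts base) ∩ (y • pts base)).card = 4 →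
        (x • pts base) ∩ (y • pts base) ∈ famSet 6 sextetCode := by
      intro x hx y hy hc
      obtain ⟨p, hp, hpe⟩ := h15 x hx
      obtain ⟨q, hq, hqe⟩ := h15 y hy
      rw [hpe, hqe, pts_inter] at hc ⊢
      rw [card_pts] at hc
      exact mem_famSet.2 ⟨_, (hchk p hp q hq).resolve_left (not_not_intro hc), rfl⟩
    have hc4 : ((g0 • pts base) ∩ (g1 • pts base)).card = 4 := by rw [hae, hb', pts_inter, card_pts, h4]
    intro g hg
    have ht := hin g0 hg0 g1 hg1 hc4
    have ht' := hin (g * g0) (H.mul_mem hg hg0) (g * g1) (H.mul_mem hg hg1) (by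
      rw [mul_smul, mul_smul, ← Finset.smul_finset_inter, Finset.card_smul_finset, hc4])
    rw [mul_smul, mul_smul, ← Finset.smul_finset_inter] at ht'
    exact sextet_eq_of_mem (smul_mem_sextets (hH hg) (famSet_mem_sextets hsx)) (famSet_mem_sextets hsx)
      (Finset.smul_mem_smul_finset (a := g) ht) ht'

theorem card_stab_of_orbit {β : Type*} [MulAction M24 β] (x : β) {m : ℕ} (h : (orbit M24 x).ncard = m)
    (hm : 0 < m) : Nat.card (stabilizer M24 x) = 244823040 / m := by
  have e := Nat.card_congr (orbitProdStabilizerEquivGroup M24 x)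
  rw [Nat.card_prod, Nat.card_coe_set_eq, h, card_M24] at e
  rw [← e, Nat.mul_div_cancel_left _ hm]

theorem card_stab_octad {o : Finset GolayPt} (ho : o ∈ octads) :
    Nat.card (stabilizer M24 o) = 322560 := by
  have e : orbit M24 o = orbit M24 (pts baseOctad) := by
    obtain ⟨g, hg⟩ := exists_smul_octad baseOctad_mem ho
    rw [← hg, orbit_smul]
  rw [card_stab_of_orbit o (m := 759) _ (by norm_num)]
  rw [e, orbit_baseOctad, octads, ncard_wordsOfWeight]
  decide +kernel

theorem card_stab_trio {T : Finset (Finset GolayPt)} (hT : T ∈ trios) :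
    Nat.card (stabilizer M24 T) = 64512 := by
  obtain ⟨g, hgm, hg⟩ := exists_smul_baseTrio hT
  rw [card_stab_of_orbit T (m := 3795) _ (by norm_num)]
  rw [← hg]
  rw [show g • famSet 3 baseTrio = (⟨g, hgm⟩ : M24) • famSet 3 baseTrio from rfl, show (orbit M24 ((⟨g, hgm⟩ : M24) • famSet 3 baseTrio)) = orbit M24 (famSet 3 baseTrio) from orbit_smul _ _,
    orbit_baseTrio, ncard_trios]

theorem card_stab_sextet {T : Finset (Finset GolayPt)} (hT : T ∈ sextets) :
    Nat.card (stabilizer M24 T) = 138240 := by
  obtain ⟨g, hgm, hg⟩ := exists_smul_baseSextet hT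
  rw [card_stab_of_orbit T (m := 1771) _ (by norm_num)]
  rw [← hg]
  rw [show g • famSet 6 baseSextet = (⟨g, hgm⟩ : M24) • famSet 6 baseSextet from rfl, show (orbit M24 ((⟨g, hgm⟩ : M24) • famSet 6 baseSextet)) = orbit M24 (famSet 6 baseSextet) from orbit_smul _ _,
    orbit_baseSextet, ncard_sextets]

theorem card_of_index (H : Subgroup M24) : Nat.card H * H.index = 244823040 := by
  rw [Subgroup.card_mul_index, card_M24]

/-- An odd index subgroup without elements of order eleven and twenty-three. -/
theorem odd_index (H : Subgroup M24) {n : ℕ} (hn : Nat.card H = 1024 * n) (h11 : ¬ 11 ∣ 1024 * n)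
    (h23 : ¬ 23 ∣ 1024 * n) :
    (∃ o ∈ octads, H ≤ stabilizer M24 o) ∨ (∃ T ∈ trios, H ≤ stabilizer M24 T) ∨
      (∃ T ∈ sextets, H ≤ stabilizer M24 T) := by
  haveI : Fact (Nat.Prime 2) := ⟨Nat.prime_two⟩
  have hf : (Nat.card M24).factorization 2 = 10 := by
    rw [card_M24, show (244823040 : ℕ) = 2 ^ 10 * 239085 by norm_num]
    rw [Nat.factorization_mul (by norm_num) (by norm_num), Finsupp.add_apply, Nat.prime_two.factorization_pow,
      Finsupp.single_eq_same, Nat.factorization_eq_zero_of_not_dvd (by norm_num)]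
  obtain ⟨Q, hQ⟩ := Sylow.exists_subgroup_card_pow_prime (G := H) 2 (n := 10) (by rw [hn]; exact dvd_mul_right _ _)
  have hQ' : Nat.card (Q.map H.subtype) = 2 ^ (Nat.card M24).factorization 2 := by
    rw [hf, Subgroup.card_map_of_injective H.subtype_injective, hQ]
  have hS' : Nat.card (S.subgroupOf M24) = 2 ^ (Nat.card M24).factorization 2 := by
    rw [hf, Nat.card_congr (Subgroup.subgroupOfEquivOfLe S_le).toEquiv, card_S]
    norm_num
  obtain ⟨c, hc⟩ := exists_smul_eq M24 (Sylow.ofCard _ hQ') (Sylow.ofCard _ hS')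
  set K : Subgroup M24 := H.map (MulAut.conj c).toMonoidHom with hKdef
  have hQK : S.subgroupOf M24 ≤ K := by
    have e : (Q.map H.subtype).map (MulAut.conj c).toMonoidHom = S.subgroupOf M24 :=
      congrArg (fun P : Sylow 2 M24 => (P : Subgroup M24)) hc
    rw [← e]
    exact Subgroup.map_mono (Subgroup.map_subtype_le _)
  have hcard : Nat.card (K.map M24.subtype) = 1024 * n := by
    rw [Subgroup.card_map_of_injective M24.subtype_injective, hKdef,
      Subgroup.card_map_of_injective (f := (MulAut.conj c).toMonoidHom) (MulAut.conj c).injective, hn]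
  have hback : ∀ {β : Type} [MulAction (Equiv.Perm GolayPt) β] (x : β),
      (∀ g ∈ K.map M24.subtype, g • x = x) → H ≤ stabilizer M24 ((c⁻¹ : M24) • x) := by
    intro β _ x hx h hh
    have h1 : ((c * h * c⁻¹ : M24) : Equiv.Perm GolayPt) • x = x := hx _ ⟨_, ⟨h, hh, rfl⟩, rfl⟩
    rw [mem_stabilizer_iff]
    have h2 : (c * h * c⁻¹) • x = x := h1
    rw [mul_smul, mul_smul] at h2
    exact (eq_inv_smul_iff.2 h2)
  rcases key (K.map M24.subtype) (Subgroup.map_subtype_le _) (fun x hx => ⟨⟨x, S_le hx⟩, hQK hx, rfl⟩)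
    (by rwa [hcard]) (by rwa [hcard]) with h | h | h
  · exact Or.inl ⟨_, smul_mem_octads (c⁻¹ : M24).2 base_octad, hback _ h⟩
  · exact Or.inr (Or.inl ⟨_, smul_mem_trios (c⁻¹ : M24).2 (famSet_mem_trios codes_ok.2.1), hback _ h⟩)
  · exact Or.inr (Or.inr ⟨_, smul_mem_sextets (c⁻¹ : M24).2 (famSet_mem_sextets codes_ok.1), hback _ h⟩)

theorem index_759 (H : Subgroup M24) (h : H.index = 759) : ∃ o ∈ octads, H = stabilizer M24 o := by
  have hc := card_of_index H
  rw [h] at hc
  have hn : Nat.card H = 1024 * 315 := by omega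
  rcases odd_index H hn (by norm_num) (by norm_num) with ⟨o, ho, hle⟩ | ⟨T, hT, hle⟩ | ⟨T, hT, hle⟩
  · exact ⟨o, ho, Subgroup.eq_of_le_of_card_ge hle (by rw [card_stab_octad ho, hn])⟩
  · have := Subgroup.card_dvd_of_le hle
    rw [card_stab_trio hT, hn] at this; norm_num at this
  · have := Subgroup.card_dvd_of_le hle
    rw [card_stab_sextet hT, hn] at this; norm_num at this

theorem index_1771 (H : Subgroup M24) (h : H.index = 1771) : ∃ T ∈ sextets, H = stabilizer M24 T := by
  have hc := card_of_index H
  rw [h] at hc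
  have hn : Nat.card H = 1024 * 135 := by omega
  rcases odd_index H hn (by norm_num) (by norm_num) with ⟨o, ho, hle⟩ | ⟨T, hT, hle⟩ | ⟨T, hT, hle⟩
  · have := Subgroup.card_dvd_of_le hle
    rw [card_stab_octad ho, hn] at this; norm_num at this
  · have := Subgroup.card_dvd_of_le hle
    rw [card_stab_trio hT, hn] at this; norm_num at this
  · exact ⟨T, hT, Subgroup.eq_of_le_of_card_ge hle (by rw [card_stab_sextet hT, hn])⟩

theorem index_ne_253 (H : Subgroup M24) : H.index ≠ 253 := by
  intro h
  have hc := card_of_index H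
  rw [h] at hc
  have hn : Nat.card H = 1024 * 945 := by omega
  rcases odd_index H hn (by norm_num) (by norm_num) with ⟨o, ho, hle⟩ | ⟨T, hT, hle⟩ | ⟨T, hT, hle⟩
  all_goals have := Subgroup.card_dvd_of_le hle
  · rw [card_stab_octad ho, hn] at this; norm_num at this
  · rw [card_stab_trio hT, hn] at this; norm_num at this
  · rw [card_stab_sextet hT, hn] at this; norm_num at this

/-! ### Index 276 -/

open PointSub in
theorem index_276 (H : Subgroup M24) (h : H.index = 276) :
    ∃ s : Finset GolayPt, s.card = 2 ∧ H = stabilizer M24 s := by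
  classical
  have hc0 := card_of_index H
  rw [h] at hc0
  have hn : Nat.card H = 887040 := by omega
  set K : Subgroup (Equiv.Perm GolayPt) := H.map M24.subtype with hKdef
  have hK : K ≤ M24 := Subgroup.map_subtype_le _
  have hKc : Nat.card K = 887040 := by rw [hKdef, Subgroup.card_map_of_injective M24.subtype_injective, hn]
  haveI h11f : Fact (Nat.Prime 11) := ⟨by norm_num⟩
  haveI h7f : Fact (Nat.Prime 7) := ⟨by norm_num⟩
  -- sizes of invariant sets
  have sizes : ∀ L : Subgroup (Equiv.Perm GolayPt), L ≤ M24 → ∀ x ∈ L, orderOf x = 11 → ∀ y ∈ L, orderOf y = 7 →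
      ∀ U : Finset GolayPt, (∀ g ∈ L, ∀ q ∈ U, g q ∈ U) → ∀ t : Finset GolayPt, Disjoint t U →
      (∀ g ∈ L, ∀ q ∈ t, g q = q) → U.card % 11 + t.card ≤ 2 ∧ U.card % 7 + t.card ≤ 3 := by
    intro L hL x hx hox y hy hoy U hU t htU ht
    have a1 := card_modEq (pow_orderOf_self hox) U (hU x hx)
    have a2 := fixIn_card_le (x := x) (ht x hx) htU
    rw [fix_card (by norm_num) (hL hx) hox] at a2
    have b1 := card_modEq (pow_orderOf_self hoy) U (hU y hy)
    have b2 := fixIn_card_le (x := y) (ht y hy) htU
    rw [fix_card (by norm_num) (hL hy) hoy] at b2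
    have := Nat.mod_le (fixIn x U).card 11
    have := Nat.mod_le (fixIn y U).card 7
    omega
  obtain ⟨x, hxK, hox⟩ := exists_order (H := K) 11 (by rw [hKc]; norm_num)
  obtain ⟨y, hyK, hoy⟩ := exists_order (H := K) 7 (by rw [hKc]; norm_num)
  have hdvd : ∀ q, (orbitF K q).card ∣ 887040 := fun q => ⟨_, hKc ▸ (card_orbitF K q).symm⟩
  have hclosed : ∀ q, ∀ g ∈ K, ∀ r ∈ orbitF K q, g r ∈ orbitF K q := fun q g hg => orbitF_closed hg
  have hsize : ∀ q, (orbitF K q).card ≤ 2 ∨ (orbitF K q).card = 22 ∨ (orbitF K q).card = 24 := fun q => by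
    have := sizes K hK x hxK hox y hyK hoy _ (hclosed q) ∅ (Finset.disjoint_empty_left _) (by simp)
    have hle := Finset.card_le_univ (orbitF K q)
    rw [← Finset.card_univ, card_univ_pts] at hle
    have hd := hdvd q
    rw [Finset.card_empty] at this
    interval_cases hm : (orbitF K q).card <;> first | omega | norm_num at hd
  by_cases h22 : ∃ q, (orbitF K q).card = 22
  · obtain ⟨q, hq⟩ := h22
    set s : Finset GolayPt := Finset.univ \ orbitF K q with hsdef
    have hs2 : s.card = 2 := by
      rw [hsdef, Finset.card_sdiff_of_subset (Finset.subset_univ _), card_univ_pts, hq]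
    have hle : H ≤ stabilizer M24 s := fun g hg => by
      rw [mem_stabilizer_iff]
      show (g : Equiv.Perm GolayPt) • s = s
      refine Finset.eq_of_subset_of_card_le (fun r hr => ?_) (by rw [Finset.card_smul_finset])
      obtain ⟨r, hr', rfl⟩ := Finset.mem_smul_finset.1 hr
      exact compl_orbitF_closed (H := K) ⟨g, hg, rfl⟩ (fun _ _ => Finset.mem_univ _) r hr'
    refine ⟨s, hs2, Subgroup.eq_of_le_of_card_ge hle ?_⟩
    rw [card_stab_of_orbit s (m := 276) _ (by norm_num), hn]
    rw [orbit_of_card (by norm_num) hs2, ncard_setOf_card]; decide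
  exfalso
  push Not at h22
  -- some orbit is everything
  obtain ⟨a, ha⟩ : ∃ q, (orbitF K q).card = 24 := by
    by_contra hno
    push Not at hno
    have hall : ∀ q, x q = q := fun q => by
      by_contra hne
      have h2 : (orbitF K q).card ≤ 2 := by have := hsize q; have := h22 q; have := hno q; omega
      have e := card_modEq (pow_orderOf_self hox) (orbitF K q) (hclosed q x hxK)
      have hl := Finset.card_le_card (Finset.filter_subset (fun r => x r = r) (orbitF K q))
      have hl' : (fixIn x (orbitF K q)).card ≤ (orbitF K q).card := hl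
      rw [Nat.mod_eq_of_lt (by omega), Nat.mod_eq_of_lt (by omega)] at e
      have e' : fixIn x (orbitF K q) = orbitF K q :=
        Finset.eq_of_subset_of_card_le (Finset.filter_subset _ _) e.le
      exact hne (mem_fixIn.1 (e'.symm ▸ self_mem_orbitF K q)).2
    have : x = 1 := Equiv.ext hall
    rw [this, orderOf_one] at hox
    norm_num at hox
  have htr : ∀ q, ∃ g ∈ K, g a = q := fun q => mem_orbitF.1 (by
    rw [Finset.eq_univ_of_card (orbitF K a) (by rw [ha, ← Finset.card_univ, card_univ_pts])]
    exact Finset.mem_univ q)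
  set A := K ⊓ stabilizer (Equiv.Perm GolayPt) a
  have hA : Nat.card A = 36960 := card_stab ha (by rw [hKc]) (by norm_num)
  obtain ⟨x, hxA, hox⟩ := exists_order (H := A) 11 (by rw [hA]; norm_num)
  obtain ⟨y, hyA, hoy⟩ := exists_order (H := A) 7 (by rw [hA]; norm_num)
  have hfixa : ∀ g ∈ A, ∀ q ∈ ({a} : Finset GolayPt), g q = q := fun g hg q hq => by
    rw [Finset.mem_singleton.1 hq]; exact (mem_inf_stab.1 hg).2
  have hAK : A ≤ K := inf_le_left
  -- the other fixed point
  obtain ⟨b, hba, hb⟩ : ∃ b, b ≠ a ∧ ∀ g ∈ A, g b = b := by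
    by_contra hno
    push Not at hno
    -- a fixed point of x other than a lies in a small orbit
    have hx2 : (fixSet x).card = 2 := fix_card (by norm_num) (hK (hAK hxA)) hox
    obtain ⟨b, hb, hba⟩ := Finset.exists_mem_ne (show 1 < (fixSet x).card by omega) a
    set U := orbitF A b
    have hUa : a ∉ U := fun hau => by
      obtain ⟨g, hg, e⟩ := mem_orbitF.1 hau
      exact hba (g.injective (e.trans (hfixa g hg a (Finset.mem_singleton_self a)).symm))
    have hd : U.card ∣ 36960 := ⟨_, hA ▸ (card_orbitF A b).symm⟩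
    have hs := sizes A (hAK.trans hK) x hxA hox y hyA hoy U (fun g hg => orbitF_closed hg) {a}
      (Finset.disjoint_singleton_left.2 hUa) hfixa
    rw [Finset.card_singleton] at hs
    have hle : U.card ≤ 23 := by
      have := Finset.card_le_card (Finset.subset_univ (insert a U))
      rw [Finset.card_insert_of_notMem hUa, card_univ_pts] at this
      omega
    have hpos : 1 ≤ U.card := Finset.card_pos.2 ⟨b, self_mem_orbitF A b⟩
    have h1 : U.card = 1 ∨ U.card = 22 := by
      interval_cases hm : U.card <;> first | omega | norm_num at hd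
    rcases h1 with h1 | h1
    · obtain ⟨g, hg, hne⟩ := hno b hba
      exact hne (fixed_of_orbitF_one h1 g hg)
    · -- the complement of a and the orbit is one point
      have hcard : ((Finset.univ \ insert a U) : Finset GolayPt).card = 1 := by
        rw [Finset.card_sdiff_of_subset (Finset.subset_univ _), card_univ_pts,
          Finset.card_insert_of_notMem hUa, h1]
      obtain ⟨b', hb'⟩ := Finset.card_eq_one.1 hcard
      have hb'm : b' ∈ Finset.univ \ insert a U := hb' ▸ Finset.mem_singleton_self b'
      have hb'a : b' ≠ a := fun e => (Finset.mem_sdiff.1 hb'm).2 (e ▸ Finset.mem_insert_self a U)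
      obtain ⟨g, hg, hne⟩ := hno b' hb'a
      refine hne ?_
      have hcl : g b' ∈ Finset.univ \ insert a U := by
        rw [Finset.mem_sdiff]
        refine ⟨Finset.mem_univ _, fun hm => (Finset.mem_sdiff.1 hb'm).2 ?_⟩
        rcases Finset.mem_insert.1 hm with hm | hm
        · exact Finset.mem_insert.2 (Or.inl (g.injective (hm.trans (hfixa g hg a (Finset.mem_singleton_self a)).symm)))
        · exact Finset.mem_insert.2 (Or.inr ((invariant_iff (orbitF_closed hg) b').1 hm))
      rw [hb', Finset.mem_singleton] at hcl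
      exact hcl
  have hxA2 : fixSet x = {a, b} := (Finset.eq_of_subset_of_card_le (fun q hq => by
      rcases Finset.mem_insert.1 hq with rfl | hq
      · exact mem_fixSet.2 (mem_inf_stab.1 hxA).2
      · rw [Finset.mem_singleton.1 hq]; exact mem_fixSet.2 (hb x hxA))
    (by rw [fix_card (by norm_num) (hK (hAK hxA)) hox, Finset.card_pair (Ne.symm hba)])).symm
  choose g hg hga using htr
  let p : GolayPt → GolayPt := fun q => g q b
  have hp : ∀ h ∈ K, ∀ q, h a = q → h b = p q := fun h hh q e => by
    have hm : (g q)⁻¹ * h ∈ A := mem_inf_stab.2 ⟨K.mul_mem (K.inv_mem (hg q)) hh, by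
      rw [Equiv.Perm.mul_apply, e, Equiv.Perm.inv_def, Equiv.symm_apply_eq, hga]⟩
    have := congrArg (g q) (hb _ hm)
    simpa [p] using this
  have hpp : ∀ h ∈ K, ∀ q, p (h q) = h (p q) := fun h hh q =>
    (hp (h * g q) (K.mul_mem hh (hg q)) (h q) (by rw [Equiv.Perm.mul_apply, hga])).symm
  have hpa : p a = b := (hp 1 K.one_mem a rfl).symm
  have hne : ∀ q, p q ≠ q := fun q e => hba ((g q).injective (e.trans (hga q).symm))
  have hpb : p b = a := by
    have hxb : x (p b) = p b := by rw [← hpp x (hAK hxA), hb x hxA]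
    have : p b ∈ fixSet x := mem_fixSet.2 hxb
    rw [hxA2, Finset.mem_insert, Finset.mem_singleton] at this
    exact this.resolve_right (hne b)
  have hinv : ∀ q, p (p q) = q := fun q => by
    conv_lhs => rw [← hga q, hpp (g q) (hg q), hpa, hpp (g q) (hg q), hpb]
    rw [hga]
  have hyf : (fixSet y).card = 3 := fix_card (by norm_num) (hK (hAK hyA)) hoy
  obtain ⟨c, hc, hcab⟩ : ∃ c ∈ fixSet y, c ∉ ({a, b} : Finset GolayPt) := by
    by_contra hno
    push Not at hno
    have := Finset.card_le_card hno
    rw [hyf, Finset.card_pair (Ne.symm hba)] at this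
    omega
  rw [Finset.mem_insert, Finset.mem_singleton, not_or] at hcab
  have hpc : p c ∈ fixSet y := mem_fixSet.2 (by rw [← hpp y (hAK hyA), mem_fixSet.1 hc])
  have h1 : p c ≠ a := fun e => hcab.2 (by rw [← hinv c, e, hpa])
  have h2 : p c ≠ b := fun e => hcab.1 (by rw [← hinv c, e, hpb])
  have hsub : ({a, b, c, p c} : Finset GolayPt) ⊆ fixSet y := fun q hq => by
    simp only [Finset.mem_insert, Finset.mem_singleton] at hq
    rcases hq with rfl | rfl | rfl | rfl
    · exact mem_fixSet.2 (mem_inf_stab.1 hyA).2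
    · exact mem_fixSet.2 (hb y hyA)
    · exact hc
    · exact hpc
  have h4 : ({a, b, c, p c} : Finset GolayPt).card = 4 :=
    Finset.card_eq_four.2 ⟨a, b, c, p c, Ne.symm hba, Ne.symm hcab.1, Ne.symm h1, Ne.symm hcab.2, Ne.symm h2,
      (hne c).symm, rfl⟩
  have := Finset.card_le_card hsub
  rw [h4, hyf] at this
  omega

end CfsgLib.Spor.OddIndexM24
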