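/-
Quartets of a dodecad.
-/
import Cfsg.Agent.Lib.Spor.HexadGroup

set_option autoImplicit false

namespace CfsgLib.Spor

open Cfsg
open scoped Pointwise

variable {d : Finset GolayPt}

theorem hexadsOn_eq {h h' : Finset GolayPt} (hh : h ∈ hexadsOn d) (hh' : h' ∈ hexadsOn d)
    (h5 : 5 ≤ (h ∩ h').card) : h = h' := by
  obtain ⟨-, o, ho, rfl⟩ := hh
  obtain ⟨-, o', ho', rfl⟩ := hh'
  rw [octad_eq_of_five ho ho' (h5.trans (Finset.card_le_card fun p hp => ?_))]
  simp only [Finset.mem_inter] at hp ⊢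
  exact ⟨hp.1.1, hp.2.1⟩

theorem hexadsOn_subset {h : Finset GolayPt} (hh : h ∈ hexadsOn d) : h ⊆ d := by
  obtain ⟨-, o, -, rfl⟩ := hh
  exact Finset.inter_subset_right

theorem smul_mem_hexadsOn {g : Equiv.Perm GolayPt} (hg : g ∈ M24) (hgd : g • d = d) {h : Finset GolayPt}
    (hh : h ∈ hexadsOn d) : g • h ∈ hexadsOn d := by
  obtain ⟨h6, o, ho, rfl⟩ := hh
  refine ⟨by rw [card_smul_finset', h6], g • o, smul_mem_octads hg ho, ?_⟩
  rw [Finset.smul_finset_inter, hgd]

theorem disjoint_of_union {t u : Finset GolayPt} (ht : t.card = 3) (hu : u.card = 3) (h : t ∪ u ∈ hexadsOn d) :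
    Disjoint t u := by
  rw [Finset.disjoint_iff_inter_eq_empty, ← Finset.card_eq_zero]
  have := Finset.card_union_add_card_inter t u
  have := h.1
  omega

theorem smul_mem_quartets {g : Equiv.Perm GolayPt} (hg : g ∈ M24) {d d' : Finset GolayPt} (hgd : g • d = d')
    {Q : Finset (Finset GolayPt)} (hQ : Q ∈ quartets d) : g • Q ∈ quartets d' := by
  refine ⟨by rw [Finset.card_smul_finset, hQ.1], fun t ht => ?_, fun t ht u hu hne => ?_⟩
  · obtain ⟨s, hs, rfl⟩ := Finset.mem_smul_finset.1 ht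
    exact ⟨(card_smul_finset' g s).trans (hQ.2.1 s hs).1, hgd ▸ Finset.smul_finset_subset_smul_finset (hQ.2.1 s hs).2⟩
  · obtain ⟨s, hs, rfl⟩ := Finset.mem_smul_finset.1 ht
    obtain ⟨r, hr, rfl⟩ := Finset.mem_smul_finset.1 hu
    obtain ⟨h6, o, ho, e⟩ := hQ.2.2 s hs r hr fun e => hne (e ▸ rfl)
    rw [← Finset.smul_finset_union]
    exact ⟨by rw [card_smul_finset', h6], g • o, smul_mem_octads hg ho, by rw [← hgd, ← Finset.smul_finset_inter, e]⟩

/-- Ordered pairs of complementary triples of hexads are conjugate under the dodecad stabiliser. -/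
theorem exists_map_pair (hd : d ∈ dodecads) {t u t' u' : Finset GolayPt} (ht : t.card = 3) (hu : u.card = 3)
    (ht' : t'.card = 3) (hu' : u'.card = 3) (h : t ∪ u ∈ hexadsOn d) (h' : t' ∪ u' ∈ hexadsOn d) :
    ∃ g ∈ M24, g • d = d ∧ g • t = t' ∧ g • u = u' := by
  have emb : ∀ {t u : Finset GolayPt}, t.card = 3 → u.card = 3 → Disjoint t u →
      ∃ x : Fin 5 ↪ GolayPt, (∀ i, x i ∈ t ∪ u) ∧ t = Finset.univ.filter (fun p => ∃ i : Fin 5, i.1 < 3 ∧ x i = p) := by
    intro t u ht hu htu
    let e := (t.equivFinOfCardEq ht).symm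
    obtain ⟨a, b, hab, he⟩ : ∃ a b, a ≠ b ∧ ({a, b} : Finset GolayPt) ⊆ u := by
      obtain ⟨v, hv, hv2⟩ := Finset.exists_subset_card_eq (s := u) (n := 2) (by omega)
      obtain ⟨a, b, hab, rfl⟩ := Finset.card_eq_two.1 hv2
      exact ⟨a, b, hab, hv⟩
    have ha : a ∈ u := he (by simp)
    have hb : b ∈ u := he (by simp)
    let f : Fin 5 → GolayPt := ![(e 0).1, (e 1).1, (e 2).1, a, b]
    have hne : ∀ i, (e i).1 ≠ a ∧ (e i).1 ≠ b := fun i =>
      ⟨fun h => Finset.disjoint_left.1 htu (e i).2 (h ▸ ha), fun h => Finset.disjoint_left.1 htu (e i).2 (h ▸ hb)⟩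
    have hinj : Function.Injective f := by
      intro i j hij
      fin_cases i <;> fin_cases j <;>
        first
        | rfl
        | exact absurd hij (hne 0).1 | exact absurd hij (hne 0).2
        | exact absurd hij (hne 1).1 | exact absurd hij (hne 1).2
        | exact absurd hij (hne 2).1 | exact absurd hij (hne 2).2
        | exact absurd hij.symm (hne 0).1 | exact absurd hij.symm (hne 0).2
        | exact absurd hij.symm (hne 1).1 | exact absurd hij.symm (hne 1).2
        | exact absurd hij.symm (hne 2).1 | exact absurd hij.symm (hne 2).2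
        | exact absurd hij hab | exact absurd hij.symm hab
        | exact absurd (e.injective (Subtype.ext hij)) (by decide)
    refine ⟨⟨f, hinj⟩, fun i => ?_, Finset.ext fun p => ?_⟩
    · fin_cases i
      · exact Finset.mem_union_left _ (e 0).2
      · exact Finset.mem_union_left _ (e 1).2
      · exact Finset.mem_union_left _ (e 2).2
      · exact Finset.mem_union_right _ ha
      · exact Finset.mem_union_right _ hb
    · simp only [Finset.mem_filter, Finset.mem_univ, true_and]
      constructor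
      · intro hp
        obtain ⟨i, hi⟩ := e.surjective ⟨p, hp⟩
        refine ⟨⟨i.1, by omega⟩, i.2, ?_⟩
        rw [show p = (e i).1 from (congrArg Subtype.val hi).symm]
        fin_cases i <;> rfl
      · rintro ⟨i, hi, rfl⟩
        fin_cases i
        · exact (e 0).2
        · exact (e 1).2
        · exact (e 2).2
        · exact absurd hi (by decide)
        · exact absurd hi (by decide)
  obtain ⟨x, hx, htx⟩ := emb ht hu (disjoint_of_union ht hu h)
  obtain ⟨y, hy, hty⟩ := emb ht' hu' (disjoint_of_union ht' hu' h')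
  obtain ⟨g, hg, -⟩ := sharply_five_transitive_dodecad hd x y (fun i => hexadsOn_subset h (hx i))
    fun i => hexadsOn_subset h' (hy i)
  set σ : Equiv.Perm GolayPt := ((g : M24) : Equiv.Perm GolayPt) with hσ
  have hσd : σ • d = d := g.2
  have hσt : σ • t = t' := by
    refine Finset.eq_of_subset_of_card_le (fun p hp => ?_) (by rw [card_smul_finset', ht, ht'])
    obtain ⟨q, hq, rfl⟩ := Finset.mem_smul_finset.1 hp
    rw [htx, Finset.mem_filter] at hq
    obtain ⟨-, i, hi, rfl⟩ := hq
    rw [hty, Finset.mem_filter]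
    exact ⟨Finset.mem_univ _, i, hi, (hg i).symm⟩
  have hh : σ • (t ∪ u) = t' ∪ u' := by
    refine hexadsOn_eq (smul_mem_hexadsOn (g : M24).2 hσd h) h' ?_
    calc 5 = (Finset.univ.map y).card := by simp
      _ ≤ _ := Finset.card_le_card fun p hp => ?_
    obtain ⟨i, -, rfl⟩ := Finset.mem_map.1 hp
    exact Finset.mem_inter.2 ⟨Finset.mem_smul_finset.2 ⟨x i, hx i, hg i⟩, hy i⟩
  refine ⟨σ, (g : M24).2, hσd, hσt, Finset.eq_of_subset_of_card_le (fun p hp => ?_) (by rw [card_smul_finset', hu, hu'])⟩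
  have hp' : p ∈ t' ∪ u' := hh ▸ Finset.smul_finset_subset_smul_finset Finset.subset_union_right hp
  refine (Finset.mem_union.1 hp').resolve_left fun h1 => ?_
  rw [← hσt] at h1
  exact Finset.disjoint_left.1 (Finset.disjoint_iff_inter_eq_empty.2 (by
    rw [← Finset.smul_finset_inter, Finset.disjoint_iff_inter_eq_empty.1 (disjoint_of_union ht hu h),
      Finset.smul_finset_empty])) h1 hp

/-- The hexads on the base dodecad, each with an octad cutting it out. -/
def hexPairs : List (ℕ × ℕ) := [(98319, 622863), (165895, 2263063), (198667, 210955), (231436, 231532), (296971, 298027), (329741, 346141), (362502, 371206), (395278, 919694), (425997, 430605), (458759, 459847), (491530, 2605066), (493569, 493953), (1083406, 1103886), (1116167, 1116327), (1148937, 3246601), (1181709, 1182989), (1212427, 1212619), (1245198, 1245726), (1277957, 1302533), (1280002, 1805314), (1310735, 3416079), (1345541, 1869893), (1378314, 1378634), (1409027, 1413139), (1409036, 1410188), (1443843,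 1460739), (1474566, 1474854), (1476616, 1484824), (1507337, 2031657), (1509380, 3610628), (4196367, 4196943), (4294661, 4299781), (4294666, 4294810), (4358158, 4367374), (4360201, 4900873), (4390925, 6488205), (4392966, 4409606), (4423683, 4424227), (4489223, 4505735), (4491276, 6588684), (4521998, 4526126), (4524035, 7145475), (4554761, 4563017), (4587531, 4587803), (4589573, 4597797), (4622338, 4626498), (4655112, 4656648), (4685828, 5210132), (5275661, 5275709), (5277699, 5286147), (5308427, 5325835), (5310476, 5842956), (5341190, 7438406), (5373959, 5902343), (5376010, 7473194), (5408772, 5409412), (5441537, 5441617), (5472264, 5476616), (5507078, 5508118), (5507081, 5511305), (5537802, 6062602), (5570565, 5571333), (5605376, 5621792), (5636108, 5652556), (5668865, 7767041), (5701634, 5709954), (8423437, 8431757), (8456206, 10554382), (8488963, 8505411), (8519695, 8536111), (8554506, 8555274), (8587269, 9112069), (8617990, 8622214), (8617993, 8619033), (8652807, 8657159),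 (8683534, 8683614), (8716299, 8716939), (8749061, 10846245), (8751112, 9279496), (8783881, 10881097), (8814595, 9347075), (8816644, 8834052), (8847372, 8855820), (8849410, 8849458), (9439243, 9963547), (9469959, 9471495), (9502733, 9506893), (9535498, 9543722), (9537540, 9537812), (9570310, 9578566), (9601036, 12222476), (9603073, 9607201), (9633795, 11731203), (9635848, 9652360), (9701388, 9701932), (9732105, 9748745), (9734146, 11831426), (9764870, 10305542), (9766913, 9776129), (9830405, 9830549), (9830410, 9835530), (9928704, 9929280), (12615691, 14716939), (12617734, 13142054), (12648455, 12656663), (12650505, 12650793), (12681228, 12698124), (12716035, 12717187), (12716044, 12720156), (12746757, 12747077), (12779530, 13303882), (12814336, 14919680), (12845069, 13370381), (12847114, 12871690), (12879873, 12880401), (12912644, 12912836), (12943362, 12944642), (12976134, 15073798), (13008904, 13009064), (13041665, 13062145), (13631502, 13631886), (13633541, 15747077),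 (13666312, 13667400), (13699074, 13703682), (13729793, 14254209), (13762569, 13771273), (13795330, 13811730), (13828100, 13829156), (13893635, 13893731), (13926404, 13938692), (13959176, 16056344), (14026752, 14551296)]

/-- Whether a number is a hexad on the base dodecad. -/
def hexTest (m : ℕ) : Bool := hexPairs.any fun ho => ho.1 == m

theorem hexPairs_sound : (hexPairs.all fun ho => codeTest ho.2 && (pop 24 ho.2 == 8) && (pop 24 ho.1 == 6) &&
    (ho.2 &&& baseDodecad == ho.1)) = true := by decide +kernel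

theorem hexPairs_complete : ((weightList 8).all fun o => !(pop 24 (o &&& baseDodecad) == 6) ||
    hexTest (o &&& baseDodecad)) = true := by decide +kernel

theorem codeTest_maskPts {o : ℕ} (hc : codeTest o = true) : codeTest (maskPts (pts o)) = true := by
  have key : ∀ r ∈ rows, r < 2 ^ 24 := rows_lt
  have h : ∀ r ∈ rows, r &&& maskPts (pts o) = r &&& o := fun r hr => Nat.eq_of_testBit_eq fun i => by
    simp only [Nat.testBit_and, maskPts, testBit_maskFn]
    by_cases hi : i < 24
    · simp [hi, mem_pts, ptIdx_idxPt i hi]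
    · simp [Nat.testBit_eq_false_of_lt ((key r hr).trans_le (Nat.pow_le_pow_right (by norm_num) (Nat.not_lt.1 hi)))]
  rw [codeTest, List.all_eq_true] at hc ⊢
  intro r hr
  rw [h r hr]
  exact hc r hr

theorem hexTest_iff {m : ℕ} (hm : m < 2 ^ 24) : pts m ∈ hexadsOn (pts baseDodecad) ↔ hexTest m = true := by
  have hint : ∀ a, pts (a &&& baseDodecad) = pts a ∩ pts baseDodecad := fun a => by
    ext p; simp [mem_pts, Nat.testBit_and]
  constructor
  · rintro ⟨h6, o, ho, e⟩
    obtain ⟨a, ha, rfl⟩ := mem_weightList ho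
    have e' : a &&& baseDodecad = m := by
      refine eq_of_pts_eq (lt_of_le_of_lt Nat.and_le_left (codeList_spec (List.mem_filter.1 ha).1).1) hm ?_
      rw [hint, e]
    have h := List.all_eq_true.1 hexPairs_complete a ha
    rw [e', show pop 24 m = 6 from (card_pts m).symm.trans h6] at h
    simpa using h
  · intro h
    obtain ⟨⟨h', o⟩, hho, e⟩ := List.any_eq_true.1 h
    rw [beq_iff_eq] at e
    have hs := List.all_eq_true.1 hexPairs_sound _ hho
    simp only [Bool.and_eq_true, beq_iff_eq] at hs e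
    obtain ⟨⟨⟨hc, h8⟩, h6⟩, ho'⟩ := hs
    refine ⟨(card_pts m).trans (e ▸ h6), pts o, ⟨(mem_supports_iff_codeTest _).2 ?_, (card_pts o).trans h8⟩, ?_⟩
    · exact codeTest_maskPts hc
    · rw [← hint, ho', e]

theorem pts_or (a b : ℕ) : pts (a ||| b) = pts a ∪ pts b := by
  ext p; simp [mem_pts, Nat.testBit_or]

theorem pts_two_pow (p : GolayPt) : pts (2 ^ ptIdx p) = {p} := by
  ext q; simp [mem_pts, Nat.testBit_two_pow, ptIdx_injective.eq_iff, eq_comm]

/-- The indices of the base dodecad. -/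
def baseIdx : List ℕ := (List.range 24).filter fun i => baseDodecad.testBit i

/-- Only two triples complete the base pair. -/
def completeCheck : Bool :=
  baseIdx.all fun i => baseIdx.all fun j => baseIdx.all fun k =>
    let v := 2 ^ i ||| 2 ^ j ||| 2 ^ k
    i == j || i == k || j == k || v == 8652800 || v == 5373952 || !(hexTest (7 ||| v)) || !(hexTest (98312 ||| v))

theorem completeCheck_true : completeCheck = true := by decide +kernel

theorem hexTest_pts {a : ℕ} (ha : a < 2 ^ 24) : pts a ∈ hexadsOn (pts baseDodecad) → hexTest a = true :=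
  (hexTest_iff ha).1

theorem base_unique : ∃ t u : Finset GolayPt, t.card = 3 ∧ u.card = 3 ∧ t ∪ u ∈ hexadsOn (pts baseDodecad) ∧
    ∃! Q, Q ∈ quartets (pts baseDodecad) ∧ t ∈ Q ∧ u ∈ Q := by
  have key : ∀ a ∈ [7, 98312, 8652800, 5373952], ∀ b ∈ [7, 98312, 8652800, 5373952], a ≠ b →
      a ||| b < 2 ^ 24 ∧ hexTest (a ||| b) = true := by decide +kernel
  have key3 : ∀ a ∈ [7, 98312, 8652800, 5373952], a < 2 ^ 24 ∧ pop 24 a = 3 ∧ a &&& baseDodecad = a := by
    decide +kernel
  have hhex : ∀ a ∈ [7, 98312, 8652800, 5373952], ∀ b ∈ [7, 98312, 8652800, 5373952], a ≠ b →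
      pts a ∪ pts b ∈ hexadsOn (pts baseDodecad) := fun a ha b hb hne => by
    rw [← pts_or]; exact (hexTest_iff (key a ha b hb hne).1).2 (key a ha b hb hne).2
  have hinj : ∀ a ∈ [7, 98312, 8652800, 5373952], ∀ b ∈ [7, 98312, 8652800, 5373952],
      pts a = pts b → a = b := fun a ha b hb e => eq_of_pts_eq (key3 a ha).1 (key3 b hb).1 e
  have hfour : ({pts 7, pts 98312, pts 8652800, pts 5373952} : Finset (Finset GolayPt)) =
      ([7, 98312, 8652800, 5373952] : List ℕ).toFinset.image pts := by simp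
  refine ⟨pts 7, pts 98312, (card_pts _).trans (key3 7 (by simp)).2.1, (card_pts _).trans (key3 98312 (by simp)).2.1,
    hhex 7 (by simp) 98312 (by simp) (by norm_num),
    {pts 7, pts 98312, pts 8652800, pts 5373952}, ⟨⟨?_, ?_, ?_⟩, by simp, by simp⟩, ?_⟩
  · rw [hfour, Finset.card_image_of_injOn fun a ha b hb e => hinj a (List.mem_toFinset.1 ha) b (List.mem_toFinset.1 hb) e]
    decide +kernel
  · intro s hs
    rw [hfour, Finset.mem_image] at hs
    obtain ⟨a, ha, rfl⟩ := hs
    obtain ⟨-, h3, hsub⟩ := key3 a (List.mem_toFinset.1 ha)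
    refine ⟨(card_pts _).trans h3, fun p hp => ?_⟩
    rw [← hsub, mem_pts, Nat.testBit_and, Bool.and_eq_true] at hp
    exact mem_pts.2 hp.2
  · intro s hs r hr hne
    rw [hfour, Finset.mem_image] at hs hr
    obtain ⟨a, ha, rfl⟩ := hs
    obtain ⟨b, hb, rfl⟩ := hr
    exact hhex a (List.mem_toFinset.1 ha) b (List.mem_toFinset.1 hb) fun e => hne (by rw [e])
  · rintro Q ⟨⟨h4, hsub, hh⟩, htQ, huQ⟩
    refine Finset.eq_of_subset_of_card_le (fun v hv => ?_) (by
      rw [h4, hfour]; exact Finset.card_image_le.trans (by decide +kernel))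
    simp only [Finset.mem_insert, Finset.mem_singleton]
    by_cases h1 : v = pts 7
    · exact Or.inl h1
    by_cases h2 : v = pts 98312
    · exact Or.inr (Or.inl h2)
    obtain ⟨p, q, r, hpq, hpr, hqr, rfl⟩ := Finset.card_eq_three.1 (hsub v hv).1
    have hv' : ({p, q, r} : Finset GolayPt) = pts (2 ^ ptIdx p ||| 2 ^ ptIdx q ||| 2 ^ ptIdx r) := by
      rw [pts_or, pts_or, pts_two_pow, pts_two_pow, pts_two_pow]; ext x; simp [or_assoc]
    have hlt : ∀ {a}, a < 2 ^ 24 → a ||| (2 ^ ptIdx p ||| 2 ^ ptIdx q ||| 2 ^ ptIdx r) < 2 ^ 24 := fun ha =>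
      Nat.or_lt_two_pow ha (Nat.or_lt_two_pow (Nat.or_lt_two_pow (Nat.pow_lt_pow_right (by norm_num) (ptIdx_lt _))
        (Nat.pow_lt_pow_right (by norm_num) (ptIdx_lt _))) (Nat.pow_lt_pow_right (by norm_num) (ptIdx_lt _)))
    have e1 := hh _ htQ _ hv (Ne.symm h1)
    have e2 := hh _ huQ _ hv (Ne.symm h2)
    rw [hv', ← pts_or] at e1 e2
    have hmem : ∀ x ∈ ({p, q, r} : Finset GolayPt), ptIdx x ∈ baseIdx := fun x hx =>
      List.mem_filter.2 ⟨List.mem_range.2 (ptIdx_lt x), mem_pts.1 ((hsub _ hv).2 hx)⟩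
    have c := completeCheck_true
    simp only [completeCheck, List.all_eq_true] at c
    have c' := c _ (hmem p (by simp)) _ (hmem q (by simp)) _ (hmem r (by simp))
    rw [hexTest_pts (hlt (by norm_num)) e1, hexTest_pts (hlt (by norm_num)) e2] at c'
    simp only [Bool.or_eq_true, beq_iff_eq, ptIdx_injective.eq_iff, hpq, hpr, hqr, false_or, Bool.not_true,
      or_false, Bool.false_eq_true] at c'
    rw [hv']
    exact Or.inr (Or.inr (c'.imp (fun e => by rw [e]) (fun e => by rw [e])))

theorem quartet_unique (hd : d ∈ dodecads) {t u : Finset GolayPt} (ht : t.card = 3) (hu : u.card = 3)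
    (h : t ∪ u ∈ hexadsOn d) : ∃! Q, Q ∈ quartets d ∧ t ∈ Q ∧ u ∈ Q := by
  obtain ⟨t₀, u₀, ht₀, hu₀, h₀, Q₀, ⟨hQ₀, htQ₀, huQ₀⟩, huniq⟩ := base_unique
  obtain ⟨g, hg, hgd⟩ := exists_smul_baseDodecad hd
  have hgid : g⁻¹ • d = pts baseDodecad := by rw [← hgd, inv_smul_smul]
  have h' : g⁻¹ • t ∪ g⁻¹ • u ∈ hexadsOn (pts baseDodecad) := by
    obtain ⟨h6, o, ho, e⟩ := h
    rw [← Finset.smul_finset_union]
    exact ⟨by rw [card_smul_finset', h6], g⁻¹ • o, smul_mem_octads (M24.inv_mem hg) ho,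
      by rw [← e, Finset.smul_finset_inter, hgid]⟩
  obtain ⟨k, hk, hkd, hkt, hku⟩ := exists_map_pair baseDodecad_mem ht₀ hu₀
    (by rw [card_smul_finset', ht]) (by rw [card_smul_finset', hu]) h₀ h'
  have hσ : g * k ∈ M24 := M24.mul_mem hg hk
  have hσd : (g * k) • pts baseDodecad = d := by rw [mul_smul, hkd, hgd]
  have hσt : (g * k) • t₀ = t := by rw [mul_smul, hkt, smul_inv_smul]
  have hσu : (g * k) • u₀ = u := by rw [mul_smul, hku, smul_inv_smul]
  refine ⟨(g * k) • Q₀, ⟨smul_mem_quartets hσ hσd hQ₀, Finset.mem_smul_finset.2 ⟨t₀, htQ₀, hσt⟩,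
    Finset.mem_smul_finset.2 ⟨u₀, huQ₀, hσu⟩⟩, fun Q ⟨hQ, htQ, huQ⟩ => ?_⟩
  rw [← huniq ((g * k)⁻¹ • Q) ⟨smul_mem_quartets (M24.inv_mem hσ) (by rw [← hσd, inv_smul_smul]) hQ,
    Finset.mem_smul_finset.2 ⟨t, htQ, by rw [← hσt, inv_smul_smul]⟩,
    Finset.mem_smul_finset.2 ⟨u, huQ, by rw [← hσu, inv_smul_smul]⟩⟩, smul_inv_smul]

theorem exists_two_of_quartet {Q : Finset (Finset GolayPt)} (hQ : Q ∈ quartets d) :
    ∃ t ∈ Q, ∃ u ∈ Q, t ≠ u := Finset.one_lt_card.1 (by rw [hQ.1]; norm_num)

theorem quartets_transitive (hd : d ∈ dodecads) {Q Q' : Finset (Finset GolayPt)} (hQ : Q ∈ quartets d)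
    (hQ' : Q' ∈ quartets d) : ∃ g : Equiv.Perm GolayPt, g ∈ M24 ∧ g • d = d ∧ g • Q = Q' := by
  obtain ⟨t, ht, u, hu, htu⟩ := exists_two_of_quartet hQ
  obtain ⟨t', ht', u', hu', htu'⟩ := exists_two_of_quartet hQ'
  obtain ⟨g, hg, hgd, e1, e2⟩ := exists_map_pair hd (hQ.2.1 t ht).1 (hQ.2.1 u hu).1 (hQ'.2.1 t' ht').1
    (hQ'.2.1 u' hu').1 (hQ.2.2 t ht u hu htu) (hQ'.2.2 t' ht' u' hu' htu')
  exact ⟨g, hg, hgd, (quartet_unique hd (hQ'.2.1 t' ht').1 (hQ'.2.1 u' hu').1 (hQ'.2.2 t' ht' u' hu' htu')).unique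
    ⟨smul_mem_quartets hg hgd hQ, Finset.mem_smul_finset.2 ⟨t, ht, e1⟩, Finset.mem_smul_finset.2 ⟨u, hu, e2⟩⟩
    ⟨hQ', ht', hu'⟩⟩

theorem ncard_hexadsOn (hd : d ∈ dodecads) : (hexadsOn d).ncard = 132 := by
  have h := ncard_meet_dodecad hd 8 6
  rw [show {x | x ∈ wordsOfWeight (golayCode : Set (GolayPt → ZMod 2)) 8 ∧ (x ∩ d).card = 6} =
    {x | x ∈ octads ∧ (x ∩ d).card = 6} from rfl] at h
  rw [show hexadsOn d = (fun o => o ∩ d) '' {x | x ∈ octads ∧ (x ∩ d).card = 6} from ?_, Set.InjOn.ncard_image, h]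
  · decide +kernel
  · rintro a ⟨ha, ha6⟩ b ⟨hb, -⟩ (e : a ∩ d = b ∩ d)
    refine octad_eq_of_five ha hb (le_trans (by omega : 5 ≤ (a ∩ d).card) (Finset.card_le_card fun p hp => ?_))
    exact Finset.mem_inter.2 ⟨(Finset.mem_inter.1 hp).1, (Finset.mem_inter.1 (e ▸ hp)).1⟩
  ext s
  constructor
  · rintro ⟨h6, o, ho, rfl⟩; exact ⟨o, ⟨ho, h6⟩, rfl⟩
  · rintro ⟨o, ⟨ho, h6⟩, rfl⟩; exact ⟨h6, o, ho, rfl⟩

theorem ncard_quartets (hd : d ∈ dodecads) : (quartets d).ncard = 220 := by
  classical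
  let Qf := (quartets d).toFinite.toFinset
  let Hf := (hexadsOn d).toFinite.toFinset
  have hbij : (Qf.sigma fun Q => Q.offDiag).card = (Hf.sigma fun h => Finset.powersetCard 3 h).card := by
    refine Finset.card_bij (fun z _ => ⟨z.2.1 ∪ z.2.2, z.2.1⟩) ?_ ?_ ?_
    · rintro ⟨Q, t, u⟩ hz
      simp only [Finset.mem_sigma, Set.Finite.mem_toFinset, Finset.mem_offDiag, Qf, Hf] at hz ⊢
      exact ⟨hz.1.2.2 t hz.2.1 u hz.2.2.1 hz.2.2.2,
        Finset.mem_powersetCard.2 ⟨Finset.subset_union_left, (hz.1.2.1 t hz.2.1).1⟩⟩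
    · rintro ⟨Q, t, u⟩ hz ⟨Q', t', u'⟩ hz' e
      simp only [Finset.mem_sigma, Set.Finite.mem_toFinset, Finset.mem_offDiag, Qf] at hz hz'
      obtain ⟨e1, e2⟩ := Sigma.mk.inj_iff.1 e
      obtain rfl : t = t' := eq_of_heq e2
      have h1 := hz.1.2.2 t hz.2.1 u hz.2.2.1 hz.2.2.2
      have h2 := hz'.1.2.2 t hz'.2.1 u' hz'.2.2.1 hz'.2.2.2
      have d1 := disjoint_of_union (hz.1.2.1 t hz.2.1).1 (hz.1.2.1 u hz.2.2.1).1 h1
      have d2 := disjoint_of_union (hz'.1.2.1 t hz'.2.1).1 (hz'.1.2.1 u' hz'.2.2.1).1 h2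
      have hu : u = u' := by
        have := congrArg (fun s => s \ t) e1
        simpa [Finset.union_sdiff_left, d1.symm.sdiff_eq_left, d2.symm.sdiff_eq_left] using this
      subst hu
      rw [(quartet_unique hd (hz.1.2.1 t hz.2.1).1 (hz.1.2.1 u hz.2.2.1).1 h1).unique
        ⟨hz.1, hz.2.1, hz.2.2.1⟩ ⟨hz'.1, hz'.2.1, hz'.2.2.1⟩]
    · rintro ⟨h, t⟩ hz
      simp only [Finset.mem_sigma, Set.Finite.mem_toFinset, Finset.mem_powersetCard, Hf] at hz
      obtain ⟨hh, hth, ht⟩ := hz
      have hu : (h \ t).card = 3 := by rw [Finset.card_sdiff_of_subset hth, hh.1, ht]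
      obtain ⟨Q, ⟨hQ, htQ, huQ⟩, -⟩ := quartet_unique hd ht hu (by rwa [Finset.union_sdiff_of_subset hth])
      refine ⟨⟨Q, t, h \ t⟩, ?_, ?_⟩
      · simp only [Finset.mem_sigma, Set.Finite.mem_toFinset, Finset.mem_offDiag, Qf]
        refine ⟨hQ, htQ, huQ, fun e => ?_⟩
        have hne : t.Nonempty := Finset.card_pos.1 (by omega)
        obtain ⟨p, hp⟩ := hne
        exact (Finset.mem_sdiff.1 (e ▸ hp)).2 hp
      · simp only [Finset.union_sdiff_of_subset hth]
  rw [Finset.card_sigma, Finset.card_sigma, Finset.sum_const_nat (m := 12) (fun Q hQ => by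
    rw [Finset.offDiag_card, ((Set.Finite.mem_toFinset _).1 hQ).1]),
    Finset.sum_const_nat (m := 20) (fun h hh => by
      rw [Finset.card_powersetCard, ((Set.Finite.mem_toFinset _).1 hh).1]; decide)] at hbij
  rw [← Set.ncard_eq_toFinset_card _ _, ← Set.ncard_eq_toFinset_card _ _, ncard_hexadsOn hd] at hbij
  omega

end CfsgLib.Spor
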