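/-
The stabilizer of a dodecad and a quartet on it: order 432, shape 3^2:GL(2,3), and its orbits on quartets.
-/
import Cfsg.Agent.Lib.Spor.QuartetStabData
import Cfsg.Agent.Lib.Spor.Quartets
import Cfsg.Agent.Lib.Spor.FamCodes
import Cfsg.Agent.Lib.Spor.M11Outer
import Mathlib.LinearAlgebra.Matrix.GeneralLinearGroup.Card
import Mathlib.GroupTheory.QuotientGroup.Basic

set_option autoImplicit false

namespace CfsgLib.Spor.QuartetStab

open Cfsg MulAction CfsgLib.Spor.M11Outer
open scoped Pointwise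

local notation "D₀" => pts baseDodecad
local notation "Q₀" => famSet 4 baseQuartet

/-- The test for a packed quartet on the base dodecad. -/
def quartTest (x : ℕ) : Bool :=
  famOk 4 x && (famList 4 x).all fun a => (pop 24 a == 3) && ((a &&& baseDodecad == a) &&
    (famList 4 x).all fun b => (a == b) || (decide (a ||| b < 2 ^ 24) && hexTest (a ||| b)))

theorem quartTest_mem {x : ℕ} (h : quartTest x = true) : famSet 4 x ∈ quartets D₀ := by
  simp only [quartTest, Bool.and_eq_true, List.all_eq_true, beq_iff_eq, Bool.or_eq_true,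
    decide_eq_true_eq] at h
  obtain ⟨hok, hh⟩ := h
  refine ⟨card_famSet hok, fun t ht => ?_, fun t ht u hu hne => ?_⟩
  · obtain ⟨m, hm, rfl⟩ := mem_famSet.1 ht
    obtain ⟨h3, hsub, -⟩ := hh m hm
    refine ⟨(card_pts m).trans h3, fun p hp => ?_⟩
    rw [← hsub, mem_pts, Nat.testBit_and, Bool.and_eq_true] at hp
    exact mem_pts.2 hp.2
  · obtain ⟨m, hm, rfl⟩ := mem_famSet.1 ht
    obtain ⟨m', hm', rfl⟩ := mem_famSet.1 hu
    rcases (hh m hm).2.2 m' hm' with e | ⟨hlt, e⟩
    · exact absurd (by rw [e]) hne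
    · rw [← pts_or]; exact (hexTest_iff hlt).2 e

/-- Action of a packed permutation on packed families, without tables. -/
def famActP (k g x : ℕ) : ℕ := packList (sortMasks ((famList k x).map (permMask g)))

theorem smul_famSetP {g : ℕ} (hg : isPermCode g = true) (k x : ℕ) :
    permOf g • famSet k x = famSet k (famActP k g x) := by
  have hlt : ∀ m ∈ sortMasks ((famList k x).map (permMask g)), m < 2 ^ 24 := by
    intro m hm
    rw [mem_sortMasks] at hm
    obtain ⟨m', _, rfl⟩ := List.mem_map.1 hm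
    exact permMask_lt hg m'
  have hlen : (sortMasks ((famList k x).map (permMask g))).length = k := by
    simp [length_sortMasks, famList]
  have e : famList k (famActP k g x) = sortMasks ((famList k x).map (permMask g)) := by
    rw [famActP]
    conv_lhs => arg 1; rw [← hlen]
    exact famList_packList _ hlt
  ext s
  rw [mem_famSet, e, Finset.smul_finset_def, Finset.mem_image]
  constructor
  · rintro ⟨t, ht, rfl⟩
    obtain ⟨m, hm, rfl⟩ := mem_famSet.1 ht
    exact ⟨permMask g m, (mem_sortMasks _ _).2 (List.mem_map.2 ⟨m, hm, rfl⟩), (smul_pts hg m).symm⟩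
  · rintro ⟨m, hm, rfl⟩
    rw [mem_sortMasks] at hm
    obtain ⟨m', hm', rfl⟩ := List.mem_map.1 hm
    exact ⟨pts m', mem_famSet.2 ⟨m', hm', rfl⟩, smul_pts hg m'⟩

/-- The model stabilizer. -/
def H₀ : Subgroup (Equiv.Perm GolayPt) :=
  M24 ⊓ stabilizer (Equiv.Perm GolayPt) D₀ ⊓ stabilizer (Equiv.Perm GolayPt) Q₀

theorem mem_H₀ (g : Equiv.Perm GolayPt) : g ∈ H₀ ↔ g ∈ M24 ∧ g • D₀ = D₀ ∧ g • Q₀ = Q₀ := by
  simp only [H₀, Subgroup.mem_inf, mem_stabilizer_iff, and_assoc]

/-- The generator test. -/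
def genTest (g : ℕ) : Bool :=
  isM24Code g && ((permMask g baseDodecad == baseDodecad) && (famActP 4 g baseQuartet == baseQuartet))

theorem gens_ok : qGens.all genTest = true ∧ quartTest baseQuartet = true ∧ qGens.all isPermCode = true := by
  decide +kernel

theorem gen_mem : ∀ g ∈ qGens, permOf g ∈ H₀ := by
  intro g hg
  have h := List.all_eq_true.1 gens_ok.1 g hg
  simp only [genTest, Bool.and_eq_true, beq_iff_eq] at h
  have hp := isPermCode_of_isM24Code h.1
  exact (mem_H₀ _).2 ⟨permOf_mem_M24 h.1, by rw [smul_pts hp, h.2.1], by rw [smul_famSetP hp, h.2.2]⟩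

theorem qTree_ok : treeOk qGens qTree 432 = true := by decide +kernel

theorem node_spec {i : ℕ} (hi : i < 432) :
    isPermCode (code qTree i) = true ∧ permOf (code qTree i) ∈ H₀ ∧
      permMulCode (code qTree i) idPacked = code qTree i := tree_mem qTree_ok gen_mem i hi

theorem card_H₀ : Nat.card H₀ = 432 := by
  classical
  let S := stabilizer M24 D₀
  have hQ : Q₀ ∈ quartets D₀ := quartTest_mem gens_ok.2.1
  have horb : orbit S Q₀ = quartets D₀ := by
    ext X
    constructor
    · rintro ⟨g, rfl⟩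
      exact smul_mem_quartets (g : M24).2 g.2 hQ
    · intro hX
      obtain ⟨g, hg, hgd, e⟩ := quartets_transitive baseDodecad_mem hQ hX
      exact ⟨⟨⟨g, hg⟩, hgd⟩, e⟩
  have h := Nat.card_congr (orbitProdStabilizerEquivGroup S Q₀)
  rw [Nat.card_prod, Nat.card_coe_set_eq, horb, ncard_quartets baseDodecad_mem,
    card_stabilizer_dodecad baseDodecad_mem] at h
  have e : Nat.card (stabilizer S Q₀) = Nat.card H₀ :=
    Nat.card_congr
      { toFun := fun g => ⟨((g.1 : M24) : Equiv.Perm GolayPt), (mem_H₀ _).2 ⟨(g.1 : M24).2, g.1.2, g.2⟩⟩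
        invFun := fun g => ⟨⟨⟨g.1, ((mem_H₀ _).1 g.2).1⟩, ((mem_H₀ _).1 g.2).2.1⟩, ((mem_H₀ _).1 g.2).2.2⟩
        left_inv := fun _ => rfl
        right_inv := fun _ => rfl }
  omega

/-- The check of the increasing order. -/
def orderTest (j : ℕ) : Bool :=
  decide (get2 qOrder 0 j < 432) &&
    ((j == 0) || decide (code qTree (get2 qOrder 0 (j - 1)) < code qTree (get2 qOrder 0 j)))

theorem order_ok : (List.range 432).all orderTest = true := by decide +kernel

theorem order_mono {i j : ℕ} (hij : i < j) (hj : j < 432) :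
    code qTree (get2 qOrder 0 i) < code qTree (get2 qOrder 0 j) := by
  induction j with
  | zero => omega
  | succ j ih =>
    have h := List.all_eq_true.1 order_ok (j + 1) (List.mem_range.2 hj)
    simp only [orderTest, Bool.and_eq_true, Bool.or_eq_true, beq_iff_eq, decide_eq_true_eq,
      Nat.add_sub_cancel] at h
    have hstep := h.2.resolve_left (by omega)
    rcases Nat.lt_or_eq_of_le (Nat.le_of_lt_succ hij) with h' | rfl
    · exact (ih h' (by omega)).trans hstep
    · exact hstep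

theorem listed_H₀ : ∀ x ∈ H₀, ∃ i < 432, permOf (code qTree i) = x := by
  classical
  have hb : ∀ j : Fin 432, get2 qOrder 0 j.1 < 432 := fun j => by
    have h := List.all_eq_true.1 order_ok j.1 (List.mem_range.2 j.2)
    simp only [orderTest, Bool.and_eq_true, decide_eq_true_eq] at h
    exact h.1
  let f : Fin 432 → H₀ := fun j => ⟨_, (node_spec (hb j)).2.1⟩
  have hf : Function.Injective f := by
    intro i j e
    have h := norm_inj (node_spec (hb i)).1 (node_spec (hb j)).1 (node_spec (hb i)).2.2 (node_spec (hb j)).2.2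
      (congrArg Subtype.val e)
    rcases Nat.lt_trichotomy i.1 j.1 with hlt | heq | hlt
    · exact absurd h (order_mono hlt j.2).ne
    · exact Fin.ext heq
    · exact absurd h (order_mono hlt i.2).ne'
  haveI : Finite H₀ := Nat.finite_of_card_ne_zero (by rw [card_H₀]; norm_num)
  intro x hx
  obtain ⟨j, hj⟩ := (hf.bijective_of_nat_card_le (by rw [Nat.card_fin, card_H₀])).2 ⟨x, hx⟩
  exact ⟨_, hb j, congrArg Subtype.val hj⟩

/-! ### The quotient by the nine -/

abbrev L23 := GL (Fin 2) (ZMod 3)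
abbrev Q4 := ℕ × ℕ × ℕ × ℕ

/-- The matrix with the given entries. -/
def raw3 (m : Q4) : Matrix (Fin 2) (Fin 2) (ZMod 3) :=
  !![(m.1 : ZMod 3), (m.2.1 : ZMod 3); (m.2.2.1 : ZMod 3), (m.2.2.2 : ZMod 3)]

/-- Product of quadruples. -/
def mul3 (m n : Q4) : Q4 :=
  ((m.1 * n.1 + m.2.1 * n.2.2.1) % 3, (m.1 * n.2.1 + m.2.1 * n.2.2.2) % 3,
    (m.2.2.1 * n.1 + m.2.2.2 * n.2.2.1) % 3, (m.2.2.1 * n.2.1 + m.2.2.2 * n.2.2.2) % 3)

/-- Entries reduced and determinant a unit. -/
def quad3 (m : Q4) : Bool :=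
  decide (m.1 < 3 ∧ m.2.1 < 3 ∧ m.2.2.1 < 3 ∧ m.2.2.2 < 3 ∧ (m.1 * m.2.2.2 + 2 * (m.2.1 * m.2.2.1)) % 3 ≠ 0)

theorem raw3_mul (m n : Q4) : raw3 (mul3 m n) = raw3 m * raw3 n := by
  ext i j
  fin_cases i <;> fin_cases j <;>
    simp [raw3, mul3, Matrix.mul_apply, Fin.sum_univ_two, ZMod.natCast_mod, Nat.cast_add, Nat.cast_mul]

theorem det3_ne {m : Q4} (h : quad3 m = true) : (raw3 m).det ≠ 0 := by
  simp only [quad3, decide_eq_true_eq] at h
  intro hd
  apply h.2.2.2.2
  have e : (((m.1 * m.2.2.2 + 2 * (m.2.1 * m.2.2.1)) % 3 : ℕ) : ZMod 3) = ((0 : ℕ) : ZMod 3) := by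
    rw [ZMod.natCast_mod]
    push_cast
    rw [show (2 : ZMod 3) = -1 by decide]
    rw [raw3, Matrix.det_fin_two_of] at hd
    rw [← hd]; ring
  exact Nat.ModEq.eq_of_lt_of_lt ((ZMod.natCast_eq_natCast_iff _ _ _).1 e) (Nat.mod_lt _ (by norm_num)) (by norm_num)

/-- The invertible matrix with the given entries. -/
noncomputable def toGL (m : Q4) : L23 :=
  haveI : Fact (Nat.Prime 3) := ⟨Nat.prime_three⟩
  if h : (raw3 m).det ≠ 0 then Matrix.GeneralLinearGroup.mkOfDetNeZero (raw3 m) h else 1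

theorem toGL_val {m : Q4} (h : quad3 m = true) : (toGL m).1 = raw3 m := by
  haveI : Fact (Nat.Prime 3) := ⟨Nat.prime_three⟩
  exact congrArg Units.val (dif_pos (det3_ne h) : toGL m = _)

/-- Matrix and successors at an index. -/
def row (i : ℕ) : Q4 × ℕ × ℕ := get2 qMats ((0, 0, 0, 0), 0, 0) i

/-- The first generator. -/
def genA : ℕ := qGens.getD 0 0

/-- The second generator. -/
def genB : ℕ := qGens.getD 1 0

/-- The matrices of the generators. -/
def matA : Q4 := (row (row 0).2.1).1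

/-- The matrix of the second generator. -/
def matB : Q4 := (row (row 0).2.2).1

/-- The local test at an index. -/
def rowTest (i : ℕ) : Bool :=
  let r := row i
  let c := code qTree i
  quad3 r.1 && decide (r.2.1 < 432 ∧ r.2.2 < 432) &&
    (permMulCode c genA == code qTree r.2.1) && (permMulCode c genB == code qTree r.2.2) &&
    (mul3 r.1 matA == (row r.2.1).1) && (mul3 r.1 matB == (row r.2.2).1) &&
    (!(c == idPacked) || (r.1 == (1, 0, 0, 1)))

theorem rows_ok : (List.range 432).all rowTest = true := by decide +kernel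

theorem first_facts : code qTree 0 = idPacked ∧ (row 0).1 = (1, 0, 0, 1) ∧ qGens = [genA, genB] ∧
    isPermCode genA = true ∧ isPermCode genB = true ∧ quad3 matA = true ∧ quad3 matB = true := by
  decide +kernel

theorem row_quad {i : ℕ} (hi : i < 432) : quad3 (row i).1 = true := by
  have h := List.all_eq_true.1 rows_ok i (List.mem_range.2 hi)
  simp only [rowTest, Bool.and_eq_true] at h
  exact h.1.1.1.1.1.1

/-- The listed pairs. -/
def Graph : Set (Equiv.Perm GolayPt × L23) :=
  {x | ∃ i < 432, x = (permOf (code qTree i), toGL (row i).1)}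

/-- The first pair. -/
noncomputable def pA : Equiv.Perm GolayPt × L23 := (permOf genA, toGL matA)

/-- The second pair. -/
noncomputable def pB : Equiv.Perm GolayPt × L23 := (permOf genB, toGL matB)

theorem graph_step {x : Equiv.Perm GolayPt × L23} (hx : x ∈ Graph) : x * pA ∈ Graph ∧ x * pB ∈ Graph := by
  obtain ⟨i, hi, rfl⟩ := hx
  have h := List.all_eq_true.1 rows_ok i (List.mem_range.2 hi)
  simp only [rowTest, Bool.and_eq_true, beq_iff_eq, decide_eq_true_eq] at h
  obtain ⟨⟨⟨⟨⟨⟨-, ha, hb⟩, hca⟩, hcb⟩, hma⟩, hmb⟩, -⟩ := h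
  obtain ⟨-, -, -, hA, hB, qA, qB⟩ := first_facts
  refine ⟨⟨_, ha, Prod.ext (permOf_permMulCode (node_spec hi).1 hA (node_spec ha).1 hca) ?_⟩,
    ⟨_, hb, Prod.ext (permOf_permMulCode (node_spec hi).1 hB (node_spec hb).1 hcb) ?_⟩⟩
  · show toGL (row i).1 * toGL matA = toGL _
    apply Units.ext
    rw [Units.val_mul, toGL_val (row_quad hi), toGL_val qA, ← raw3_mul, toGL_val (row_quad ha), hma]
  · show toGL (row i).1 * toGL matB = toGL _
    apply Units.ext
    rw [Units.val_mul, toGL_val (row_quad hi), toGL_val qB, ← raw3_mul, toGL_val (row_quad hb), hmb]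

/-- The subgroup generated by the two pairs. -/
noncomputable def Γ : Subgroup (Equiv.Perm GolayPt × L23) := Subgroup.closure {pA, pB}

theorem toGL_one : toGL (1, 0, 0, 1) = 1 := by
  apply Units.ext
  rw [toGL_val (by decide)]
  ext a b
  fin_cases a <;> fin_cases b <;> simp [raw3]

theorem Γ_subset {x : Equiv.Perm GolayPt × L23} (hx : x ∈ Γ) : x ∈ Graph := by
  rw [Γ, ← Subgroup.mem_toSubmonoid, Subgroup.closure_toSubmonoid_of_finite] at hx
  induction hx using Submonoid.closure_induction_right with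
  | one =>
    obtain ⟨h0, h1, -⟩ := first_facts
    refine ⟨0, by norm_num, Prod.ext ?_ ?_⟩
    · show (1 : Equiv.Perm GolayPt) = permOf (code qTree 0)
      rw [h0, permOf_idPacked]
    · show (1 : L23) = toGL (row 0).1
      rw [h1, toGL_one]
  | mul_right y hy z hz ih =>
    rcases hz with rfl | rfl
    · exact (graph_step ih).1
    · exact (graph_step ih).2

/-- Codes of the witnesses. -/
def witTest : Bool :=
  matWit.all (fun i => decide (i < 432)) &&
    decide ((matWit.map fun i => (row i).1).Nodup ∧ matWit.length = 48)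

theorem wit_ok : witTest = true := by decide +kernel

theorem exists_quotient :
    ∃ (N : Subgroup H₀) (_ : N.Normal), Nat.card N = 9 ∧ Nonempty (H₀ ⧸ N ≃* L23) := by
  classical
  haveI : Fact (Nat.Prime 3) := ⟨Nat.prime_three⟩
  haveI : Finite H₀ := Nat.finite_of_card_ne_zero (by rw [card_H₀]; norm_num)
  let π₁ : Γ →* Equiv.Perm GolayPt := (MonoidHom.fst _ _).comp Γ.subtype
  have hgen : ∀ g ∈ qGens, permOf g ∈ π₁.range := by
    intro g hg
    simp only [first_facts.2.2.1, List.mem_cons, List.not_mem_nil, or_false] at hg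
    rcases hg with rfl | rfl
    · exact ⟨⟨pA, Subgroup.subset_closure (Or.inl rfl)⟩, rfl⟩
    · exact ⟨⟨pB, Subgroup.subset_closure (Or.inr rfl)⟩, rfl⟩
  have hB : ∀ x : Γ, π₁ x ∈ H₀ := by
    rintro ⟨x, hx⟩
    obtain ⟨i, hi, rfl⟩ := Γ_subset hx
    exact (node_spec hi).2.1
  let π : Γ →* H₀ := π₁.codRestrict _ hB
  have hsurj : Function.Surjective π := by
    rintro ⟨x, hx⟩
    obtain ⟨i, hi, rfl⟩ := listed_H₀ x hx
    obtain ⟨y, hy⟩ := (tree_mem qTree_ok hgen i hi).2.1
    exact ⟨y, Subtype.ext hy⟩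
  have hinj : Function.Injective π := by
    refine (injective_iff_map_eq_one _).2 fun x hx => ?_
    obtain ⟨x, hxΓ⟩ := x
    obtain ⟨i, hi, rfl⟩ := Γ_subset hxΓ
    have hx' : permOf (code qTree i) = 1 := congrArg Subtype.val hx
    have hc : code qTree i = idPacked :=
      norm_inj (node_spec hi).1 isPerm_id (node_spec hi).2.2 (by decide +kernel)
        (hx'.trans permOf_idPacked.symm)
    have h := List.all_eq_true.1 rows_ok i (List.mem_range.2 hi)
    simp only [rowTest, Bool.and_eq_true, Bool.or_eq_true, beq_iff_eq, hc, beq_self_eq_true, Bool.not_true,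
      Bool.false_eq_true, false_or] at h
    refine Subtype.ext (Prod.ext hx' ?_)
    show toGL (row i).1 = 1
    rw [h.2, toGL_one]
  let e : H₀ ≃* Γ := (MulEquiv.ofBijective π ⟨hinj, hsurj⟩).symm
  let ψ : H₀ →* L23 := ((MonoidHom.snd _ _).comp Γ.subtype).comp e.toMonoidHom
  have hψ : ∀ i (hi : i < 432), ψ ⟨_, (node_spec hi).2.1⟩ = toGL (row i).1 := by
    intro i hi
    obtain ⟨j, hj, hji⟩ := Γ_subset (e ⟨_, (node_spec hi).2.1⟩).2
    show ((e ⟨_, (node_spec hi).2.1⟩ : Γ) : Equiv.Perm GolayPt × L23).2 = _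
    have h1 : π (e ⟨_, (node_spec hi).2.1⟩) = ⟨_, (node_spec hi).2.1⟩ :=
      (MulEquiv.ofBijective π ⟨hinj, hsurj⟩).apply_symm_apply _
    obtain ⟨y, hy⟩ := (tree_mem qTree_ok hgen i hi).2.1
    have h2 : π y = ⟨_, (node_spec hi).2.1⟩ := Subtype.ext hy
    obtain ⟨k, hk, hky⟩ := Γ_subset y.2
    have hyk : permOf (code qTree k) = permOf (code qTree i) := by
      rw [← hy]; exact (congrArg Prod.fst hky).symm
    have hki : code qTree k = code qTree i :=
      norm_inj (node_spec hk).1 (node_spec hi).1 (node_spec hk).2.2 (node_spec hi).2.2 hyk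
    rw [hinj (h1.trans h2.symm)]
    have hdist : k = i := code_inj hk hi hki
    rw [hky, hdist]
  have hw := wit_ok
  simp only [witTest, Bool.and_eq_true, List.all_eq_true, decide_eq_true_eq] at hw
  obtain ⟨hwlt, hnd, hlen⟩ := hw
  have hψs : Function.Surjective ψ := by
    let f : Fin matWit.length → ψ.range := fun j =>
      ⟨toGL (row (matWit.get j)).1, _, hψ _ (hwlt _ (List.get_mem matWit j))⟩
    have hf : Function.Injective f := by
      intro a b hab
      have h := congrArg Units.val (congrArg Subtype.val hab)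
      rw [toGL_val (row_quad (hwlt _ (List.get_mem matWit a))),
        toGL_val (row_quad (hwlt _ (List.get_mem matWit b)))] at h
      have hq : ∀ {m n : Q4}, quad3 m = true → quad3 n = true → raw3 m = raw3 n → m = n := by
        intro m n hm hn e
        simp only [quad3, decide_eq_true_eq] at hm hn
        have e0 : ∀ {a b : ℕ}, a < 3 → b < 3 → (a : ZMod 3) = b → a = b := fun ha hb e =>
          Nat.ModEq.eq_of_lt_of_lt ((ZMod.natCast_eq_natCast_iff _ _ _).1 e) ha hb
        have e00 := congrFun (congrFun e 0) 0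
        have e01 := congrFun (congrFun e 0) 1
        have e10 := congrFun (congrFun e 1) 0
        have e11 := congrFun (congrFun e 1) 1
        simp [raw3] at e00 e01 e10 e11
        exact Prod.ext (e0 hm.1 hn.1 e00) (Prod.ext (e0 hm.2.1 hn.2.1 e01)
          (Prod.ext (e0 hm.2.2.1 hn.2.2.1 e10) (e0 hm.2.2.2.1 hn.2.2.2.1 e11)))
      have := hq (row_quad (hwlt _ (List.get_mem matWit a))) (row_quad (hwlt _ (List.get_mem matWit b))) h
      refine Fin.ext ?_
      have h2 := (List.nodup_iff_injective_get.1 hnd) (a₁ := ⟨a.1, by simp⟩) (a₂ := ⟨b.1, by simp⟩)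
        (by simpa using this)
      exact congrArg Fin.val h2
    have h48 : Nat.card L23 = 48 := by
      rw [Matrix.card_GL_field]; simp [Fin.prod_univ_two, ZMod.card]
    have hle := Nat.card_le_card_of_injective f hf
    rw [Nat.card_fin, hlen, ← h48] at hle
    exact MonoidHom.range_eq_top.1 (Subgroup.eq_top_of_le_card _ hle)
  refine ⟨ψ.ker, inferInstance, ?_, ⟨QuotientGroup.quotientKerEquivOfSurjective ψ hψs⟩⟩
  have h := Subgroup.card_eq_card_quotient_mul_card_subgroup ψ.ker
  have h48 : Nat.card L23 = 48 := by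
    rw [Matrix.card_GL_field]; simp [Fin.prod_univ_two, ZMod.card]
  rw [Nat.card_congr (QuotientGroup.quotientKerEquivOfSurjective ψ hψs).toEquiv, card_H₀, h48] at h
  omega
where
  code_inj {k i : ℕ} (hk : k < 432) (hi : i < 432) (h : code qTree k = code qTree i) : k = i := by
    have hr : (List.range 432).all (fun a => get2 qRank 0 a < 432 && get2 qOrder 0 (get2 qRank 0 a) == a) =
        true := by decide +kernel
    have ha := List.all_eq_true.1 hr k (List.mem_range.2 hk)
    have hb := List.all_eq_true.1 hr i (List.mem_range.2 hi)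
    simp only [Bool.and_eq_true, decide_eq_true_eq, beq_iff_eq] at ha hb
    rcases Nat.lt_trichotomy (get2 qRank 0 k) (get2 qRank 0 i) with hlt | heq | hlt
    · have := order_mono hlt hb.1; rw [ha.2, hb.2] at this; omega
    · rw [← ha.2, ← hb.2, heq]
    · have := order_mono hlt ha.1; rw [ha.2, hb.2] at this; omega

/-- Transitivity witnesses. -/
def transTest : Bool :=
  let idx := (List.range 24).filter fun i => baseDodecad.testBit i
  ptWit.all (fun k => decide (k < 432)) &&
    ((ptWit.map fun k => permFn (code qTree k) (idx.getD 0 0)) == idx)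

theorem trans_ok : transTest = true := by decide +kernel

theorem transitive {p q : GolayPt} (hp : p ∈ D₀) (hq : q ∈ D₀) : ∃ g ∈ H₀, g p = q := by
  have h := trans_ok
  simp only [transTest, Bool.and_eq_true, List.all_eq_true, decide_eq_true_eq, beq_iff_eq] at h
  obtain ⟨hlt, he⟩ := h
  set i₀ := ((List.range 24).filter fun i => baseDodecad.testBit i).getD 0 0 with hi₀
  have hi24 : i₀ < 24 := by rw [hi₀]; decide +kernel
  have key : ∀ r ∈ D₀, ∃ g ∈ H₀, g (idxPt i₀) = r := by
    intro r hr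
    have hm : ptIdx r ∈ (List.range 24).filter fun i => baseDodecad.testBit i :=
      List.mem_filter.2 ⟨List.mem_range.2 (ptIdx_lt r), mem_pts.1 hr⟩
    rw [← he, List.mem_map] at hm
    obtain ⟨k, hk, e⟩ := hm
    obtain ⟨a, b, -⟩ := node_spec (hlt k hk)
    exact ⟨_, b, by rw [permOf_idxPt a hi24, e, idxPt_ptIdx]⟩
  obtain ⟨g, hg, e⟩ := key p hp
  obtain ⟨k, hk, e'⟩ := key q hq
  exact ⟨k * g⁻¹, H₀.mul_mem hk (H₀.inv_mem hg), by
    rw [Equiv.Perm.mul_apply, ← e, Equiv.Perm.inv_def, Equiv.symm_apply_apply, e']⟩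

/-! ### Orbits -/

/-- The test of one orbit list. -/
def orbTest (ob : List (ℕ × ℕ)) : Bool :=
  let xs := ob.map Prod.fst
  quartTest (xs.getD 0 0) && xs.all (famOk 4) &&
    ob.all (fun p => decide (p.2 < 432) && (famActP 4 (code qTree p.2) (xs.getD 0 0) == p.1)) &&
    xs.all fun x => qGens.all fun g => xs.contains (famActP 4 g x)

theorem orbs_ok : orbTest orb0 = true ∧ orbTest orb1 = true ∧ orbTest orb2 = true ∧ orbTest orb3 = true ∧
    ((baseQuartet :: (orb0 ++ orb1 ++ orb2 ++ orb3).map Prod.fst)).Nodup ∧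
    orb0.length = 12 ∧ orb1.length = 27 ∧ orb2.length = 72 ∧ orb3.length = 108 ∧ famOk 4 baseQuartet = true := by
  decide +kernel

/-- The representative of a list. -/
def rep (ob : List (ℕ × ℕ)) : Finset (Finset GolayPt) := famSet 4 ((ob.map Prod.fst).getD 0 0)

theorem orbit_spec {ob : List (ℕ × ℕ)} (h : orbTest ob = true) (hne : ob ≠ []) :
    rep ob ∈ quartets D₀ ∧ orbit H₀ (rep ob) = {X | ∃ x ∈ ob.map Prod.fst, famSet 4 x = X} ∧
      ∀ x ∈ ob.map Prod.fst, famOk 4 x = true := by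
  simp only [orbTest, Bool.and_eq_true, List.all_eq_true, beq_iff_eq, decide_eq_true_eq,
    List.contains_iff_mem] at h
  obtain ⟨⟨⟨hq, hok⟩, hcar⟩, hcl⟩ := h
  refine ⟨quartTest_mem hq, Set.ext fun X => ⟨?_, ?_⟩, hok⟩
  · rintro ⟨⟨g, hg⟩, rfl⟩
    obtain ⟨i, hi, rfl⟩ := listed_H₀ g hg
    let S : Set (Finset (Finset GolayPt)) := {X | ∃ x ∈ ob.map Prod.fst, famSet 4 x = X}
    have hst : ∀ c ∈ qGens, permOf c ∈ stabilizer (Equiv.Perm GolayPt) S := by
      intro c hc
      refine mem_stabilizer_set_iff_smul_set_subset (Set.toFinite _) |>.2 ?_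
      rintro _ ⟨_, ⟨x, hx, rfl⟩, rfl⟩
      exact ⟨_, hcl x hx c hc, (smul_famSetP (List.all_eq_true.1 gens_ok.2.2 c hc) 4 x).symm⟩
    have hs : permOf (code qTree i) • S = S := (tree_mem qTree_ok hst i hi).2.1
    have h0 : rep ob ∈ S := by
      refine ⟨_, ?_, rfl⟩
      obtain ⟨a, l, rfl⟩ := List.exists_cons_of_ne_nil hne
      simp
    show permOf (code qTree i) • rep ob ∈ S
    rw [← hs]
    exact Set.smul_mem_smul_set h0
  · rintro ⟨x, hx, rfl⟩
    obtain ⟨⟨y, k⟩, hy, rfl⟩ := List.mem_map.1 hx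
    obtain ⟨hk, e⟩ := hcar _ hy
    exact ⟨⟨_, (node_spec hk).2.1⟩, (smul_famSetP (node_spec hk).1 4 _).trans (congrArg (famSet 4) e)⟩

theorem ncard_list {l : List ℕ} (hnd : l.Nodup) (hok : ∀ x ∈ l, famOk 4 x = true) :
    {X | ∃ x ∈ l, famSet 4 x = X}.ncard = l.length := by
  classical
  rw [show {X | ∃ x ∈ l, famSet 4 x = X} = famSet 4 '' ↑l.toFinset by ext X; simp,
    Set.InjOn.ncard_image, Set.ncard_coe_finset, List.toFinset_card_of_nodup hnd]
  intro a ha b hb e
  exact famSet_injective (hok a (List.mem_toFinset.1 ha)) (hok b (List.mem_toFinset.1 hb)) e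

theorem model_orbits : ∃ X₁ ∈ quartets D₀, ∃ X₂ ∈ quartets D₀, ∃ X₃ ∈ quartets D₀, ∃ X₄ ∈ quartets D₀,
    (orbit H₀ X₁).ncard = 12 ∧ (orbit H₀ X₂).ncard = 27 ∧ (orbit H₀ X₃).ncard = 72 ∧ (orbit H₀ X₄).ncard = 108 ∧
      quartets D₀ = {Q₀} ∪ orbit H₀ X₁ ∪ orbit H₀ X₂ ∪ orbit H₀ X₃ ∪ orbit H₀ X₄ := by
  classical
  obtain ⟨t0, t1, t2, t3, hnd, l0, l1, l2, l3, hb⟩ := orbs_ok
  have ne : ∀ {ob : List (ℕ × ℕ)} {n : ℕ}, ob.length = n → 0 < n → ob ≠ [] := fun h hn e => by
    rw [e] at h; simp at h; omega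
  obtain ⟨q0, o0, k0⟩ := orbit_spec t0 (ne l0 (by norm_num))
  obtain ⟨q1, o1, k1⟩ := orbit_spec t1 (ne l1 (by norm_num))
  obtain ⟨q2, o2, k2⟩ := orbit_spec t2 (ne l2 (by norm_num))
  obtain ⟨q3, o3, k3⟩ := orbit_spec t3 (ne l3 (by norm_num))
  have hall := hnd
  simp only [List.map_append, List.nodup_cons, List.nodup_append] at hall
  obtain ⟨-, ⟨⟨n0, n1, -⟩, n2, -⟩, n3, -⟩ := hall
  refine ⟨_, q0, _, q1, _, q2, _, q3, ?_, ?_, ?_, ?_, ?_⟩
  · rw [o0, ncard_list n0 k0, List.length_map, l0]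
  · rw [o1, ncard_list n1 k1, List.length_map, l1]
  · rw [o2, ncard_list n2 k2, List.length_map, l2]
  · rw [o3, ncard_list n3 k3, List.length_map, l3]
  · symm
    refine Set.eq_of_subset_of_ncard_le ?_ ?_ (Set.toFinite _)
    · have hinv : ∀ X ∈ quartets D₀, orbit H₀ X ⊆ quartets D₀ := by
        rintro X hX _ ⟨g, rfl⟩
        exact smul_mem_quartets ((mem_H₀ _).1 g.2).1 ((mem_H₀ _).1 g.2).2.1 hX
      refine Set.union_subset (Set.union_subset (Set.union_subset (Set.union_subset ?_ (hinv _ q0)) (hinv _ q1))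
        (hinv _ q2)) (hinv _ q3)
      exact Set.singleton_subset_iff.2 (quartTest_mem gens_ok.2.1)
    · have e : {Q₀} ∪ orbit H₀ (rep orb0) ∪ orbit H₀ (rep orb1) ∪ orbit H₀ (rep orb2) ∪ orbit H₀ (rep orb3) =
          {X | ∃ x ∈ baseQuartet :: (orb0 ++ orb1 ++ orb2 ++ orb3).map Prod.fst, famSet 4 x = X} := by
        rw [o0, o1, o2, o3]
        ext X
        simp only [Set.mem_union, Set.mem_singleton_iff, Set.mem_ofPred_eq, List.map_append]
        constructor
        · rintro ((((rfl | ⟨x, hx, rfl⟩) | ⟨x, hx, rfl⟩) | ⟨x, hx, rfl⟩) | ⟨x, hx, rfl⟩)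
          · exact ⟨_, List.mem_cons_self, rfl⟩
          · exact ⟨x, List.mem_cons_of_mem _ (List.mem_append_left _ (List.mem_append_left _
              (List.mem_append_left _ hx))), rfl⟩
          · exact ⟨x, List.mem_cons_of_mem _ (List.mem_append_left _ (List.mem_append_left _
              (List.mem_append_right _ hx))), rfl⟩
          · exact ⟨x, List.mem_cons_of_mem _ (List.mem_append_left _ (List.mem_append_right _ hx)), rfl⟩
          · exact ⟨x, List.mem_cons_of_mem _ (List.mem_append_right _ hx), rfl⟩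
        · rintro ⟨x, hx, rfl⟩
          simp only [List.mem_cons, List.mem_append] at hx
          rcases hx with rfl | ((h | h) | h) | h
          · exact Or.inl (Or.inl (Or.inl (Or.inl rfl)))
          · exact Or.inl (Or.inl (Or.inl (Or.inr ⟨x, h, rfl⟩)))
          · exact Or.inl (Or.inl (Or.inr ⟨x, h, rfl⟩))
          · exact Or.inl (Or.inr ⟨x, h, rfl⟩)
          · exact Or.inr ⟨x, h, rfl⟩
      have hok : ∀ x ∈ baseQuartet :: (orb0 ++ orb1 ++ orb2 ++ orb3).map Prod.fst, famOk 4 x = true := by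
        simp only [List.mem_cons, List.map_append, List.mem_append]
        rintro x (rfl | ((h | h) | h) | h)
        exacts [hb, k0 x h, k1 x h, k2 x h, k3 x h]
      rw [e, ncard_list hnd hok, ncard_quartets baseDodecad_mem, List.length_cons, List.length_map]
      simp [l0, l1, l2, l3]

/-! ### Transport -/

/-- The stabilizer of a dodecad and a quartet. -/
abbrev St (d : Finset GolayPt) (Q : Finset (Finset GolayPt)) : Subgroup M24 :=
  stabilizer M24 d ⊓ stabilizer M24 Q

theorem mem_St {d : Finset GolayPt} {Q : Finset (Finset GolayPt)} (x : M24) :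
    x ∈ St d Q ↔ (x : Equiv.Perm GolayPt) • d = d ∧ (x : Equiv.Perm GolayPt) • Q = Q := by
  simp only [St, Subgroup.mem_inf, mem_stabilizer_iff]
  rfl

theorem exists_frame {d : Finset GolayPt} (hd : d ∈ dodecads) {Q : Finset (Finset GolayPt)}
    (hQ : Q ∈ quartets d) : ∃ g ∈ M24, g • D₀ = d ∧ g • Q₀ = Q := by
  obtain ⟨g, hg, hgd⟩ := exists_smul_baseDodecad hd
  obtain ⟨k, hk, hkd, hkQ⟩ := quartets_transitive hd (smul_mem_quartets hg hgd (quartTest_mem gens_ok.2.1)) hQ
  exact ⟨k * g, M24.mul_mem hk hg, by rw [mul_smul, hgd, hkd], by rw [mul_smul, hkQ]⟩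

/-- Transport to the model. -/
def toSt {d : Finset GolayPt} {Q : Finset (Finset GolayPt)} {g : Equiv.Perm GolayPt} (hg : g ∈ M24)
    (hd : g • D₀ = d) (hQ : g • Q₀ = Q) : H₀ ≃* St d Q where
  toFun x := ⟨⟨g * (x : Equiv.Perm GolayPt) * g⁻¹,
      M24.mul_mem (M24.mul_mem hg ((mem_H₀ _).1 x.2).1) (M24.inv_mem hg)⟩, by
    obtain ⟨-, e1, e2⟩ := (mem_H₀ _).1 x.2
    refine (mem_St _).2 ⟨?_, ?_⟩
    · show (g * (x : Equiv.Perm GolayPt) * g⁻¹) • d = d
      rw [mul_smul, mul_smul, ← hd, inv_smul_smul, e1]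
    · show (g * (x : Equiv.Perm GolayPt) * g⁻¹) • Q = Q
      rw [mul_smul, mul_smul, ← hQ, inv_smul_smul, e2]⟩
  invFun y := ⟨g⁻¹ * ((y : M24) : Equiv.Perm GolayPt) * g, by
    obtain ⟨e1, e2⟩ := (mem_St _).1 y.2
    refine (mem_H₀ _).2 ⟨M24.mul_mem (M24.mul_mem (M24.inv_mem hg) (y : M24).2) hg, ?_, ?_⟩
    · rw [mul_smul, mul_smul, hd, e1, inv_smul_eq_iff, hd]
    · rw [mul_smul, mul_smul, hQ, e2, inv_smul_eq_iff, hQ]⟩
  left_inv x := Subtype.ext (by simp [mul_assoc])
  right_inv y := Subtype.ext (Subtype.ext (by simp [mul_assoc]))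
  map_mul' x y := Subtype.ext (Subtype.ext (by simp [mul_assoc]))

theorem orbit_toSt {d : Finset GolayPt} {Q : Finset (Finset GolayPt)} {g : Equiv.Perm GolayPt} (hg : g ∈ M24)
    (hd : g • D₀ = d) (hQ : g • Q₀ = Q) (X : Finset (Finset GolayPt)) :
    orbit (St d Q) (g • X) = (fun Y => g • Y) '' orbit H₀ X := by
  ext Y
  constructor
  · rintro ⟨s, rfl⟩
    refine ⟨((toSt hg hd hQ).symm s : Equiv.Perm GolayPt) • X, ⟨(toSt hg hd hQ).symm s, rfl⟩, ?_⟩
    show g • (g⁻¹ * ((s : M24) : Equiv.Perm GolayPt) * g) • X = _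
    rw [mul_smul, mul_smul, smul_inv_smul]
    rfl
  · rintro ⟨_, ⟨h, rfl⟩, rfl⟩
    refine ⟨toSt hg hd hQ h, ?_⟩
    show (g * (h : Equiv.Perm GolayPt) * g⁻¹) • g • X = g • (h : Equiv.Perm GolayPt) • X
    rw [mul_smul, mul_smul, inv_smul_smul]

end CfsgLib.Spor.QuartetStab
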