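/-
A Majorana axis `a` and a second vector `b`: the eigenvectors cut out of `b`, and the products
they determine.
-/
import Cfsg.Agent.Lib.Spor.Majorana

set_option autoImplicit false

namespace CfsgLib.Spor.Sakuma

open Cfsg.Axial CfsgLib.Spor.Majorana

variable {V : Type*} [AddCommGroup V] [Module ℝ V] {mul : V →ₗ[ℝ] V →ₗ[ℝ] V}
  {B : LinearMap.BilinForm ℝ V} {μ : V ≃ₗ[ℝ] V} {a : V}

/-- The vector `a ∘ b - (a + b) / 32`. -/
noncomputable def sv (mul : V →ₗ[ℝ] V →ₗ[ℝ] V) (a b : V) : V := mul a b - (1 / 32 : ℝ) • (a + b)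

theorem mul_eq_sv (a b : V) : mul a b = sv mul a b + (1 / 32 : ℝ) • (a + b) := by
  rw [sv]; abel

theorem sv_comm (hV : IsMajoranaAmbient mul B) (a b : V) : sv mul b a = sv mul a b := by
  rw [sv, sv, hV.1 b a, add_comm b a]

theorem map_sv {ν : V ≃ₗ[ℝ] V} (hν : ∀ u v : V, ν (mul u v) = mul (ν u) (ν v)) (a b : V) :
    ν (sv mul a b) = sv mul (ν a) (ν b) := by
  rw [sv, sv, map_sub, hν, map_smul, map_add]

theorem fix_self (h : IsMajoranaPair mul B μ a) : μ a = a := by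
  refine h.2.2.2.1 a (Submodule.mem_iSup_of_mem 1 (Submodule.mem_iSup_of_mem (by simp) ?_))
  exact mem_eigen.2 (by rw [one_smul, h.2.2.1.1.2.1])

/-- Agreement on the four eigenspaces suffices. -/
theorem eigen_ext (h : IsMajoranaPair mul B μ a) {f g : V →ₗ[ℝ] V}
    (hfg : ∀ c ∈ majoranaSpectrum, ∀ v ∈ eigen mul a c, f v = g v) : f = g := by
  refine LinearMap.ext fun v => ?_
  have : eigenSum mul a majoranaSpectrum ≤ LinearMap.eqLocus f g := iSup₂_le hfg
  exact this (h.2.2.1.1.2.2.1 ▸ Submodule.mem_top)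

theorem eigen_split (h : IsMajoranaPair mul B μ a) {c : ℝ} (hc : c ∈ majoranaSpectrum) {v : V}
    (hv : v ∈ eigen mul a c) : (c = 1 / 32 ∧ μ v = -v) ∨ (c ≠ 1 / 32 ∧ μ v = v) := by
  by_cases h32 : c = 1 / 32
  · subst h32
    exact .inl ⟨rfl, h.2.2.2.2 v hv⟩
  · refine .inr ⟨h32, h.2.2.2.1 v (Submodule.mem_iSup_of_mem c (Submodule.mem_iSup_of_mem ?_ hv))⟩
    simp only [majoranaSpectrum, Set.mem_insert_iff, Set.mem_singleton_iff] at hc ⊢
    tauto

theorem invol (h : IsMajoranaPair mul B μ a) (v : V) : μ (μ v) = v := by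
  have := eigen_ext h (f := (μ : V →ₗ[ℝ] V).comp (μ : V →ₗ[ℝ] V)) (g := LinearMap.id) fun c hc v hv => by
    rcases eigen_split h hc hv with ⟨-, e⟩ | ⟨-, e⟩ <;> simp [e]
  exact LinearMap.congr_fun this v

theorem mul_sub_flip (h : IsMajoranaPair mul B μ a) (v : V) :
    mul a (v - μ v) = (1 / 32 : ℝ) • (v - μ v) := by
  have := eigen_ext h (f := (mul a).comp (LinearMap.id - (μ : V →ₗ[ℝ] V)))
    (g := (1 / 32 : ℝ) • (LinearMap.id - (μ : V →ₗ[ℝ] V))) fun c hc v hv => by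
    rcases eigen_split h hc hv with ⟨rfl, e⟩ | ⟨-, e⟩
    · simp [e, mem_eigen.1 hv, smul_add]
    · simp [e]
  exact LinearMap.congr_fun this v

theorem sv_flip (h : IsMajoranaPair mul B μ a) (b : V) : sv mul a (μ b) = sv mul a b := by
  have e := mul_sub_flip h b
  rw [map_sub] at e
  simp only [sv]
  linear_combination (norm := module) -e

theorem map_sv_self (h : IsMajoranaPair mul B μ a) (b : V) : μ (sv mul a b) = sv mul a b := by
  rw [map_sv h.1, fix_self h, sv_flip h]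

/-- A linear map conjugating one axis to another conjugates the involutions. -/
theorem conj_of_axis {μ' ν : V ≃ₗ[ℝ] V} {a' : V} (h : IsMajoranaPair mul B μ a)
    (h' : IsMajoranaPair mul B μ' a') (hν : ∀ u v : V, ν (mul u v) = mul (ν u) (ν v)) (he : ν a = a') :
    ν * μ = μ' * ν := by
  have := eigen_ext h (f := ((ν * μ : V ≃ₗ[ℝ] V) : V →ₗ[ℝ] V)) (g := ((μ' * ν : V ≃ₗ[ℝ] V) : V →ₗ[ℝ] V))
    fun c hc v hv => by
      show ν (μ v) = μ' (ν v)
      have hv' : ν v ∈ eigen mul a' c := mem_eigen.2 (by rw [← he, ← hν, mem_eigen.1 hv, map_smul])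
      rcases eigen_split h hc hv with ⟨rfl, e⟩ | ⟨hne, e⟩
      · rw [e, map_neg]; exact (h'.2.2.2.2 _ hv').symm
      · rcases eigen_split h' hc hv' with ⟨h32, -⟩ | ⟨-, e'⟩
        · exact absurd h32 hne
        · rw [e, e']
  exact LinearEquiv.toLinearMap_injective this

theorem B_sv_left (hV : IsMajoranaAmbient mul B) {a b : V} (ha : mul a a = a) (hn : B a a = 1) :
    B a (sv mul a b) = 31 / 32 * B a b - 1 / 32 := by
  rw [sv, map_sub, map_smul, map_add, smul_eq_mul, hV.2.2.2.1, ha, hn]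
  ring

theorem eq_of_B_eq_one (hV : IsMajoranaAmbient mul B) {x y : V} (hx : B x x = 1) (hy : B y y = 1)
    (hxy : B x y = 1) : x = y := by
  refine sub_eq_zero.1 (eq_zero_of_B hV ?_)
  simp only [map_sub, LinearMap.sub_apply, hV.2.1 y x, hx, hy, hxy]
  ring

theorem law_vals' : monsterLaw (1 / 4 : ℝ) (1 / 32) 0 0 = {0} ∧
    monsterLaw (1 / 4 : ℝ) (1 / 32) 0 (1 / 4) = {1 / 4} ∧
    monsterLaw (1 / 4 : ℝ) (1 / 32) (1 / 4) (1 / 4) = {1, 0} := law_vals

/-- The component in the null space. -/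
noncomputable def uv0 (mul : V →ₗ[ℝ] V →ₗ[ℝ] V) (a b b' : V) (t : ℝ) : V :=
  (-4 : ℝ) • sv mul a b + (3 * t - 1 / 8) • a + (7 / 16 : ℝ) • (b + b')

/-- The component in the eigenspace of `1/4`. -/
noncomputable def uv4 (mul : V →ₗ[ℝ] V →ₗ[ℝ] V) (a b b' : V) (t : ℝ) : V :=
  (4 : ℝ) • sv mul a b + (1 / 8 - 4 * t) • a + (1 / 16 : ℝ) • (b + b')

variable (hV : IsMajoranaAmbient mul B) (h : IsMajoranaPair mul B μ a) (hn : B a a = 1)

include hV h hn

theorem uv_mem {b b' : V} (hb' : μ b = b') {t : ℝ} (ht : B a b = t) :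
    uv0 mul a b b' t ∈ eigen mul a 0 ∧ uv4 mul a b b' t ∈ eigen mul a (1 / 4) := by
  subst hb'
  have hfix : μ ((1 / 2 : ℝ) • (b + μ b)) = (1 / 2 : ℝ) • (b + μ b) := by
    rw [map_smul, map_add, invol h, add_comm]
  obtain ⟨s, z, q, hz, hq, e⟩ := decompose hV h hfix
  have haa : mul a a = a := h.2.2.1.1.2.1
  have h1 : a ∈ eigen mul a 1 := mem_eigen.2 (by rw [one_smul, haa])
  have hbb : B a (μ b) = t := by rw [← fix_self h, h.2.1, ht]
  have hs : s = t := by
    have := congrArg (B a) e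
    simp only [map_add, map_smul, smul_eq_mul, hn, ht, hbb, orth hV (by norm_num) h1 hz,
      orth hV (by norm_num) h1 hq] at this
    linarith
  subst hs
  have hm := congrArg (mul a) e
  have hf := mul_sub_flip h b
  rw [map_sub] at hf
  simp only [map_add, map_smul, haa, mem_eigen.1 hz, mem_eigen.1 hq] at hm
  have hq' : q = uv4 mul a b (μ b) s := by
    simp only [uv4, sv]
    linear_combination (norm := module) (-4 : ℝ) • hm + (-2 : ℝ) • hf
  have hz' : z = uv0 mul a b (μ b) s := by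
    have : z = (1 / 2 : ℝ) • (b + μ b) - s • a - q := by rw [e]; abel
    rw [this, hq']
    simp only [uv0, uv4]
    module
  exact ⟨hz' ▸ hz, hq' ▸ hq⟩

/-- The product with the invariant vector. -/
theorem mul_sv {b b' : V} (hb' : μ b = b') {t : ℝ} (ht : B a b = t) :
    mul a (sv mul a b) =
      (7 / 32 : ℝ) • sv mul a b + (3 / 4 * t - 25 / 1024) • a + (7 / 2048 : ℝ) • (b + b') := by
  have h0 := mem_eigen.1 (uv_mem hV h hn hb' ht).1
  have e2 : mul a b' = sv mul a b + (1 / 32 : ℝ) • (a + b') := by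
    rw [← sv_flip h b, hb', ← mul_eq_sv]
  simp only [uv0, map_add, map_smul, h.2.2.1.1.2.1, mul_eq_sv a b, e2] at h0
  linear_combination (norm := module) (-1 / 4 : ℝ) • h0

/-- The fusion rules on the two components. -/
theorem uv_fusion {b b' : V} (hb' : μ b = b') {t : ℝ} (ht : B a b = t) :
    mul a (mul (uv0 mul a b b' t) (uv0 mul a b b' t)) = 0 ∧
    mul a (mul (uv0 mul a b b' t) (uv4 mul a b b' t)) =
      (1 / 4 : ℝ) • mul (uv0 mul a b b' t) (uv4 mul a b b' t) ∧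
    mul a (mul (uv4 mul a b b' t) (uv4 mul a b b' t)) =
      (1 / 4 * B (uv4 mul a b b' t) (uv4 mul a b b' t)) • a := by
  obtain ⟨hu, hv⟩ := uv_mem hV h hn hb' ht
  obtain ⟨l00, l0q, lqq⟩ := law_vals
  have m0 : (0 : ℝ) ∈ majoranaSpectrum := by simp [majoranaSpectrum]
  have mq : (1 / 4 : ℝ) ∈ majoranaSpectrum := by simp [majoranaSpectrum]
  have huu := fusion h m0 m0 hu hu
  have huv := fusion h m0 mq hu hv
  have hvv := fusion h mq mq hv hv
  rw [l00, eigenSum_single] at huu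
  rw [l0q, eigenSum_single] at huv
  rw [lqq] at hvv
  refine ⟨by rw [mem_eigen.1 huu, zero_smul], mem_eigen.1 huv, ?_⟩
  obtain ⟨x, hx, y, hy, hxy⟩ := mem_sum_one_zero hvv
  rw [h.2.2.1.2, Submodule.mem_span_singleton] at hx
  obtain ⟨s, rfl⟩ := hx
  have hs : s = 1 / 4 * B (uv4 mul a b b' t) (uv4 mul a b b' t) := by
    have h1 : a ∈ eigen mul a 1 := mem_eigen.2 (by rw [one_smul, h.2.2.1.1.2.1])
    have := congrArg (B a) hxy
    rw [map_add, map_smul, hn, orth hV (by norm_num) h1 hy, hV.2.2.2.1, mem_eigen.1 hv] at this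
    simpa using this
  rw [← hxy, map_add, map_smul, h.2.2.1.1.2.1, mem_eigen.1 hy, zero_smul, add_zero, hs]

end CfsgLib.Spor.Sakuma
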