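/-
Sakuma's theorem: two Majorana involutions generate a dihedral group of order at most 12.
-/
import Cfsg.Agent.Lib.Spor.SakumaBase

set_option autoImplicit false

set_option maxRecDepth 8000

namespace CfsgLib.Spor.Sakuma

open Cfsg.Axial CfsgLib.Spor.Majorana

variable {V : Type*} [AddCommGroup V] [Module ℝ V] {mul : V →ₗ[ℝ] V →ₗ[ℝ] V}
  {B : LinearMap.BilinForm ℝ V} {μ₀ μ₁ : V ≃ₗ[ℝ] V} {a b : V}

/-- The products `a ∘ O` and `S ∘ S`. -/
theorem level_two (hV : IsMajoranaAmbient mul B) (h₀ : IsMajoranaPair mul B μ₀ a)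
    (h₁ : IsMajoranaPair mul B μ₁ b) (hn₀ : B a a = 1) (hn₁ : B b b = 1)
    {p c d : V} (hp : μ₀ b = p) (hc : μ₁ a = c) (hd : μ₀ c = d) {L m m' : ℝ}
    (hL : B a b = L) (hm : B a c = m) (hm' : B b p = m') :
    mul a (sv mul b p) = (7 / 96 : ℝ) • sv mul a c + (32 / 3 * L - 19 / 48) • sv mul a b
      + (-(32 / 3) * L ^ 2 + 5 / 3 * L - 1 / 24 * m' - 127 / 3072) • a
      + (1 / 6 * L - 19 / 3072) • (b + p) + (7 / 6144 : ℝ) • (c + d) ∧
    mul (sv mul a b) (sv mul a b) = (-7 / 1536 : ℝ) • sv mul a c + (7 / 2048 : ℝ) • sv mul b p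
      + (-(5 / 12) * L - 13 / 1536) • sv mul a b
      + (7 / 6 * L ^ 2 - 7 / 384 * L + 7 / 1536 * m' - 7 / 98304) • a
      + (49 / 768 * L - 245 / 196608) • (b + p) + (49 / 196608 : ℝ) • (c + d) := by
  obtain ⟨huu, huv, hvv⟩ := uv_fusion hV h₀ hn₀ hp hL
  have aa : mul a a = a := h₀.2.2.1.1.2.1
  have bb : mul b b = b := h₁.2.2.1.1.2.1
  have pp : mul p p = p := by rw [← hp, ← h₀.1, bb]
  have Bpp : B p p = 1 := by rw [← hp, h₀.2.1, hn₁]
  have Bap : B a p = L := by rw [← hp, ← fix_self h₀, h₀.2.1, hL]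
  have ab := mul_eq_sv (mul := mul) a b
  have ap : mul a p = sv mul a b + (1 / 32 : ℝ) • (a + p) := by
    rw [mul_eq_sv a p, ← hp, sv_flip h₀]
  have ac := mul_eq_sv (mul := mul) a c
  have ad : mul a d = sv mul a c + (1 / 32 : ℝ) • (a + d) := by
    rw [mul_eq_sv a d, ← hd, sv_flip h₀]
  have bp := mul_eq_sv (mul := mul) b p
  have aS := mul_sv hV h₀ hn₀ hp hL
  have aE := mul_sv hV h₀ hn₀ hd hm
  have bS := mul_sv hV h₁ hn₁ hc (by rw [hV.2.1, hL] : B b a = L)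
  rw [sv_comm hV] at bS
  have pS : mul p (sv mul a b) =
      (7 / 32 : ℝ) • sv mul a b + (3 / 4 * L - 25 / 1024) • p + (7 / 2048 : ℝ) • (a + d) := by
    have := congrArg μ₀ bS
    rwa [h₀.1, map_sv_self h₀, hp, map_add, map_add, map_smul, map_smul, map_smul, map_add,
      map_sv_self h₀, hp, hd, fix_self h₀] at this
  have ba : mul b a = mul a b := hV.1 b a
  have pa : mul p a = mul a p := hV.1 p a
  have pb : mul p b = mul b p := hV.1 p b
  have Sa : mul (sv mul a b) a = mul a (sv mul a b) := hV.1 _ a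
  have Sb : mul (sv mul a b) b = mul b (sv mul a b) := hV.1 _ b
  have Sp : mul (sv mul a b) p = mul p (sv mul a b) := hV.1 _ p
  have hk : B (uv4 mul a b p L) (uv4 mul a b p L) =
      4 * (31 / 32 * L - 1 / 32) + (1 / 8 - 4 * L) * L + 1 / 16 * (1 + m') := by
    obtain ⟨hu, hv⟩ := uv_mem hV h₀ hn₀ hp hL
    have h1 : a ∈ eigen mul a 1 := mem_eigen.2 (by rw [one_smul, aa])
    have e : (1 / 2 : ℝ) • (b + p) = L • a + uv0 mul a b p L + uv4 mul a b p L := by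
      simp only [uv0, uv4]; module
    have h := congrArg (B (uv4 mul a b p L)) e
    rw [map_add, map_add, map_smul (B (uv4 mul a b p L)) L a, orth hV (by norm_num) hv h1,
      orth hV (by norm_num) hv hu, smul_zero, zero_add, zero_add] at h
    rw [← h]
    have B1 : B (sv mul a b) b = 31 / 32 * L - 1 / 32 := by
      rw [hV.2.1, ← sv_comm hV, B_sv_left hV bb hn₁, hV.2.1, hL]
    have B2 : B (sv mul a b) p = 31 / 32 * L - 1 / 32 := by
      rw [← B1, ← hp]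
      conv_lhs => rw [← map_sv_self h₀ b]
      rw [h₀.2.1]
    simp only [uv4, map_add, map_smul, LinearMap.add_apply, LinearMap.smul_apply, smul_eq_mul, B1, B2,
      hL, Bap, hn₁, Bpp, hm', hV.2.1 p b]
    ring
  rw [hk] at hvv
  simp only [uv0, uv4, map_add, map_smul, LinearMap.add_apply, LinearMap.smul_apply, aa, bb, pp, ba, pa,
    pb, Sa, Sb, Sp, ab, ap, ac, ad, bp, aS, bS, pS] at huu huv hvv
  have hY : mul a (sv mul b p) = (7 / 96 : ℝ) • sv mul a c + (32 / 3 * L - 19 / 48) • sv mul a b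
      + (-(32 / 3) * L ^ 2 + 5 / 3 * L - 1 / 24 * m' - 127 / 3072) • a
      + (1 / 6 * L - 19 / 3072) • (b + p) + (7 / 6144 : ℝ) • (c + d) := by
    linear_combination (norm := module) (8 / 3 : ℝ) • huu - (8 / 3 : ℝ) • hvv
  refine ⟨hY, ?_⟩
  rw [hY] at huu huv
  linear_combination (norm := module) (1 / 4 : ℝ) • huu + (1 / 4 : ℝ) • huv

/-- The scalar certificate. -/
theorem cases_of_equations {L m : ℝ}
    (hQ : 16384 * L ^ 4 - 18176 * L ^ 3 + 320 * L ^ 2 * m + 1440 * L ^ 2 + 139 / 2 * L * m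
      - 75 / 2 * L + m ^ 2 - 167 / 128 * m + 39 / 128 = 0)
    (hE : 402653184 / 49 * L ^ 5 - 453771264 / 49 * L ^ 4 + 19660800 / 49 * L ^ 3 * m
      + 33103872 / 49 * L ^ 3 - 1195008 / 49 * L ^ 2 * m - 92160 / 7 * L ^ 2 + 70656 / 49 * L * m ^ 2
      + 124392 / 49 * L * m - 216 / 7 * L + 2088 / 49 * m ^ 2 - 8703 / 196 * m + 351 / 196 = 0) :
    L = 1 ∨ (L = 0 ∧ m = 1) ∨ (L = 1 / 8 ∧ m = 1) ∨ (L = 13 / 256 ∧ m = 13 / 256) ∨
      (L = 1 / 64 ∧ m = 1 / 64) ∨ (L = 1 / 64 ∧ m = 1 / 8) ∨ (L = 1 / 32 ∧ m = 0) ∨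
      (L = 3 / 128 ∧ m = 3 / 128) ∨ (L = 5 / 256 ∧ m = 13 / 256) := by
  have hlin : (8775 / 784 + 71460 / 49 * L - 138240 * L ^ 2 - 2949120 / 49 * L ^ 3) * m
      + (-8775 / 784 + 55260 / 49 * L - 1002240 / 49 * L ^ 2 - 30689280 / 49 * L ^ 3
        + 796262400 / 49 * L ^ 4 - 754974720 / 49 * L ^ 5) = 0 := by
    linear_combination hE - (2088 / 49 + 70656 / 49 * L) * hQ
  have hroots : L * (L - 1) * (L - 1 / 8) * (L - 13 / 256) * (L - 1 / 64) ^ 2 * (L - 1 / 32)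
      * (L - 3 / 128) * (L - 5 / 256) = 0 := by
    linear_combination (-49 / 35624176739942400) *
      (8775 / 784 + 71460 / 49 * L - 138240 * L ^ 2 - 2949120 / 49 * L ^ 3) ^ 2 * hQ
      + (49 / 35624176739942400) *
      ((8775 / 784 + 71460 / 49 * L - 138240 * L ^ 2 - 2949120 / 49 * L ^ 3) * m
        - (-8775 / 784 + 55260 / 49 * L - 1002240 / 49 * L ^ 2 - 30689280 / 49 * L ^ 3
          + 796262400 / 49 * L ^ 4 - 754974720 / 49 * L ^ 5)
        + (8775 / 784 + 71460 / 49 * L - 138240 * L ^ 2 - 2949120 / 49 * L ^ 3)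
          * (320 * L ^ 2 + 139 / 2 * L - 167 / 128)) * hlin
  simp only [mul_eq_zero, pow_eq_zero_iff (n := 2) two_ne_zero, sub_eq_zero] at hroots
  rcases hroots with ((((((h | h) | h) | h) | h) | h) | h) | h <;> subst h <;> norm_num at hlin hQ ⊢
  all_goals first
    | linarith
    | (rcases mul_eq_zero.1 (show (m - 1 / 64) * (m - 1 / 8) = 0 by linear_combination hQ) with h | h
       · left; linarith
       · right; linarith)

theorem sakuma (hV : IsMajoranaAmbient mul B) (h₀ : IsMajoranaPair mul B μ₀ a)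
    (h₁ : IsMajoranaPair mul B μ₁ b) (hn₀ : B a a = 1) (hn₁ : B b b = 1) :
    ∃ n : ℕ, 1 ≤ n ∧ n ≤ 6 ∧ (μ₀ * μ₁) ^ n = 1 := by
  obtain ⟨p, hp⟩ : ∃ p, μ₀ b = p := ⟨_, rfl⟩
  obtain ⟨c, hc⟩ : ∃ c, μ₁ a = c := ⟨_, rfl⟩
  obtain ⟨d, hd⟩ : ∃ d, μ₀ c = d := ⟨_, rfl⟩
  obtain ⟨e, he⟩ : ∃ e, μ₁ p = e := ⟨_, rfl⟩
  obtain ⟨L, hL⟩ : ∃ L, B a b = L := ⟨_, rfl⟩
  obtain ⟨m, hm⟩ : ∃ m, B a c = m := ⟨_, rfl⟩
  obtain ⟨m', hm'⟩ : ∃ m', B b p = m' := ⟨_, rfl⟩
  have sym := hV.2.1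
  have f0 : μ₀ a = a := fix_self h₀
  have f1 : μ₁ b = b := fix_self h₁
  have hp' : μ₀ p = b := by rw [← hp, invol h₀]
  have hc' : μ₁ c = a := by rw [← hc, invol h₁]
  have hd' : μ₀ d = c := by rw [← hd, invol h₀]
  have he' : μ₁ e = p := by rw [← he, invol h₁]
  have aa : mul a a = a := h₀.2.2.1.1.2.1
  have bb : mul b b = b := h₁.2.2.1.1.2.1
  have cc : mul c c = c := by rw [← hc, ← h₁.1, aa]
  have pp : mul p p = p := by rw [← hp, ← h₀.1, bb]
  have ee : mul e e = e := by rw [← he, ← h₁.1, pp]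
  obtain ⟨hY, hX⟩ := level_two hV h₀ h₁ hn₀ hn₁ hp hc hd hL hm hm'
  obtain ⟨-, hX'⟩ := level_two hV h₁ h₀ hn₁ hn₀ hc hp he (by rw [sym, hL]) hm' hm
  rw [sv_comm hV a b] at hX'
  set S := sv mul a b with hS
  set E := sv mul a c with hE
  set O := sv mul b p with hO
  -- invariance of the three vectors
  have S0 : μ₀ S = S := map_sv_self h₀ b
  have S1 : μ₁ S = S := by rw [hS, ← sv_comm hV]; exact map_sv_self h₁ a
  have E0 : μ₀ E = E := map_sv_self h₀ c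
  have E1 : μ₁ E = E := by rw [hE, map_sv h₁.1, hc, hc', sv_comm hV]
  have O0 : μ₀ O = O := by rw [hO, map_sv h₀.1, hp, hp', sv_comm hV]
  have O1 : μ₁ O = O := map_sv_self h₁ p
  have i0 := h₀.2.1
  have i1 := h₁.2.1
  -- the Gram matrix
  have pp1 : B p p = 1 := by rw [← hp, i0, hn₁]
  have cc1 : B c c = 1 := by rw [← hc, i1, hn₀]
  have dd1 : B d d = 1 := by rw [← hd, i0, cc1]
  have ee1 : B e e = 1 := by rw [← he, i1, pp1]
  have gap : B a p = L := by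
    rw [← hp]
    conv_lhs => rw [← f0]
    rw [i0, hL]
  have gad : B a d = m := by rw [← i0 a d, f0, hd', hm]
  have gbc : B b c = L := by rw [← i1 b c, f1, hc', sym, hL]
  have gpd : B p d = L := by rw [← i0 p d, hp', hd', gbc]
  have gbe : B b e = m' := by rw [← i1 b e, f1, he', hm']
  have gce : B c e = L := by rw [← i1 c e, hc', he', gap]
  have gpc : B p c = B a e := by rw [← i1 p c, he, hc', sym]
  have gbd : B b d = B a e := by rw [← i0 b d, hp, hd', gpc]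
  have gaS : B a S = 31 / 32 * L - 1 / 32 := by rw [hS, B_sv_left hV aa hn₀, hL]
  have gbS : B b S = 31 / 32 * L - 1 / 32 := by
    rw [hS, ← sv_comm hV, B_sv_left hV bb hn₁, sym, hL]
  have gpS : B p S = 31 / 32 * L - 1 / 32 := by rw [← i0 p S, hp', S0, gbS]
  have gcS : B c S = 31 / 32 * L - 1 / 32 := by rw [← i1 c S, hc', S1, gaS]
  have gdS : B d S = 31 / 32 * L - 1 / 32 := by rw [← i0 d S, hd', S0, gcS]
  have geS : B e S = 31 / 32 * L - 1 / 32 := by rw [← i1 e S, he', S1, gpS]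
  have gaE : B a E = 31 / 32 * m - 1 / 32 := by rw [hE, B_sv_left hV aa hn₀, hm]
  have gcE : B c E = 31 / 32 * m - 1 / 32 := by rw [← i1 c E, hc', E1, gaE]
  have gdE : B d E = 31 / 32 * m - 1 / 32 := by rw [← i0 d E, hd', E0, gcE]
  have gbE : B b E = 31 / 32 * L - 1 / 32 + 1 / 32 * (m + L) - 1 / 16 * L := by
    rw [hE, sv, map_sub, map_smul, map_add, hV.2.2.2.1, hV.1 b a, mul_eq_sv a b, ← hS]
    simp only [map_add, map_smul, LinearMap.add_apply, LinearMap.smul_apply, smul_eq_mul, sym b a, hL,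
      gbc, hm, sym S c, gcS]
    ring
  have gpE : B p E = 31 / 32 * L - 1 / 32 + 1 / 32 * (m + L) - 1 / 16 * L := by
    rw [← i0 p E, hp', E0, gbE]
  have geE : B e E = 31 / 32 * L - 1 / 32 + 1 / 32 * (m + L) - 1 / 16 * L := by
    rw [← i1 e E, he', E1, gpE]
  have gbO : B b O = 31 / 32 * m' - 1 / 32 := by rw [hO, B_sv_left hV bb hn₁, hm']
  have gpO : B p O = 31 / 32 * m' - 1 / 32 := by rw [← i0 p O, hp', O0, gbO]
  have geO : B e O = 31 / 32 * m' - 1 / 32 := by rw [← i1 e O, he', O1, gpO]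
  have gaO : B a O = 31 / 32 * L - 1 / 32 + 1 / 32 * (m' + L) - 1 / 16 * L := by
    rw [hO, sv, map_sub, map_smul, map_add, hV.2.2.2.1, mul_eq_sv a b, ← hS]
    simp only [map_add, map_smul, LinearMap.add_apply, LinearMap.smul_apply, smul_eq_mul, hL, gap, hm',
      sym S p, gpS]
    ring
  have gcO : B c O = 31 / 32 * L - 1 / 32 + 1 / 32 * (m' + L) - 1 / 16 * L := by
    rw [← i1 c O, hc', O1, gaO]
  have gdO : B d O = 31 / 32 * L - 1 / 32 + 1 / 32 * (m' + L) - 1 / 16 * L := by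
    rw [← i0 d O, hd', O0, gcO]
  -- the two distance-two parameters agree
  obtain rfl : m' = m := by
    have h : B a (mul a O) = B a O := by rw [hV.2.2.2.1, aa]
    rw [hY] at h
    simp only [map_add, map_smul, smul_eq_mul, hn₀, hL, gap, hm, gad, gaS, gaE, gaO] at h
    linarith
  -- the linear relation
  have hR : e = d + (256 * L - 6) • p
      + (32768 / 7 * L ^ 2 - 2304 / 7 * L + 128 / 7 * m' + 33 / 7) • a
      - (32768 / 7 * L ^ 2 - 2304 / 7 * L + 128 / 7 * m' + 33 / 7) • b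
      - (256 * L - 6) • c + (32 : ℝ) • O - (32 : ℝ) • E := by
    linear_combination (norm := module) (196608 / 49 : ℝ) • (hX'.symm.trans hX)
  have dot : ∀ x, B x e = B x d + (256 * L - 6) * B x p
      + (32768 / 7 * L ^ 2 - 2304 / 7 * L + 128 / 7 * m' + 33 / 7) * B x a
      - (32768 / 7 * L ^ 2 - 2304 / 7 * L + 128 / 7 * m' + 33 / 7) * B x b
      - (256 * L - 6) * B x c + 32 * B x O - 32 * B x E := fun x => by
    conv_lhs => rw [hR]
    simp only [map_add, map_sub, map_smul, smul_eq_mul]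
  have gae := dot a
  rw [gad, gap, hn₀, hL, hm, gaO, gaE] at gae
  have gcd' := dot c
  rw [gce, sym c p, gpc, sym c a, hm, sym c b, gbc, cc1, gcO, gcE] at gcd'
  have gpe := dot p
  rw [gpd, pp1, sym p a, gap, sym p b, hm', gpc, gpO, gpE] at gpe
  have gde := dot d
  rw [dd1, sym d p, gpd, sym d a, gad, sym d b, gbd, sym d c, gdO, gdE] at gde
  have hOO : B O O = 7 / 32 * (31 / 32 * m' - 1 / 32) + (3 / 4 * m' - 25 / 1024) * m'
      + 7 / 2048 * (1 + B p e) - 1 / 16 * (31 / 32 * m' - 1 / 32) := by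
    have bO := mul_sv hV h₁ hn₁ he hm'
    rw [← hO] at bO
    conv_lhs => arg 2; rw [hO, sv]
    rw [map_sub, map_smul, map_add, hV.2.2.2.1, hV.1 O b, bO]
    simp only [map_add, map_smul, LinearMap.add_apply, LinearMap.smul_apply, smul_eq_mul, hm',
      sym O b, sym O p, gbO, gpO, pp1, sym e p]
    ring
  have hEO : B O E = 7 / 96 * (31 / 32 * m' - 1 / 32) + (32 / 3 * L - 19 / 48) * (31 / 32 * L - 1 / 32)
      + (-(32 / 3) * L ^ 2 + 5 / 3 * L - 1 / 24 * m' - 127 / 3072) * m'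
      + (1 / 6 * L - 19 / 3072) * (L + B a e) + 7 / 6144 * (1 + B c d)
      - 1 / 16 * (31 / 32 * L - 1 / 32 + 1 / 32 * (m' + L) - 1 / 16 * L) := by
    conv_lhs => arg 2; rw [hE, sv]
    rw [map_sub, map_smul, map_add, hV.2.2.2.1, hV.1 O a, hY]
    simp only [map_add, map_smul, LinearMap.add_apply, LinearMap.smul_apply, smul_eq_mul, sym E c, gcE,
      sym S c, gcS, hm, gbc, gpc, cc1, sym d c, sym O a, gaO, sym O c, gcO]
    ring
  have hQ := dot O
  rw [sym O e, geO, sym O d, gdO, sym O p, gpO, sym O a, gaO, sym O b, gbO, sym O c, gcO, hOO, hEO] at hQ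
  have hE2 : B (mul a e) e = B a e := by rw [← hV.2.2.2.1, ee]
  conv at hE2 => lhs; arg 1; arg 2; arg 2; rw [hR]
  have aE := mul_sv hV h₀ hn₀ hd hm
  rw [← hE] at aE
  have ap : mul a p = S + (1 / 32 : ℝ) • (a + p) := by rw [mul_eq_sv a p, ← hp, sv_flip h₀]
  have ad : mul a d = E + (1 / 32 : ℝ) • (a + d) := by rw [mul_eq_sv a d, ← hd, sv_flip h₀]
  simp only [map_add, map_sub, map_smul, LinearMap.add_apply, LinearMap.sub_apply,
    LinearMap.smul_apply, smul_eq_mul, aa, mul_eq_sv a b, mul_eq_sv a c, ← hS, ← hE, ap, ad, hY, aE,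
    gbe, gce, sym S e, geS, sym E e, geE, sym O e, geO] at hE2
  have hgroup : ∀ x : V ≃ₗ[ℝ] V, (∀ v, x (x v) = v) → x * x = 1 := fun x hx => LinearEquiv.ext hx
  have q0 := hgroup μ₀ (invol h₀)
  have q1 := hgroup μ₁ (invol h₁)
  have k0 : ∀ x : V ≃ₗ[ℝ] V, μ₀ * (μ₀ * x) = x := fun x => by rw [← mul_assoc, q0, one_mul]
  have k1 : ∀ x : V ≃ₗ[ℝ] V, μ₁ * (μ₁ * x) = x := fun x => by rw [← mul_assoc, q1, one_mul]
  have auto2 : ∀ {x y : V ≃ₗ[ℝ] V}, (∀ u v : V, x (mul u v) = mul (x u) (x v)) →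
      (∀ u v : V, y (mul u v) = mul (y u) (y v)) → ∀ u v : V, (x * y) (mul u v) = mul ((x * y) u) ((x * y) v) :=
    fun hx hy u v => by
      show _ = mul _ _
      simp only [LinearEquiv.mul_apply, hy, hx]
  have g0 := h₀.1
  have g1 := h₁.1
  rw [gae] at gcd' gde gpe hQ hE2
  have hcd : B c d = L - ((256 * L - 6) * B a e
      + (32768 / 7 * L ^ 2 - 2304 / 7 * L + 128 / 7 * m' + 33 / 7) * m'
      - (32768 / 7 * L ^ 2 - 2304 / 7 * L + 128 / 7 * m' + 33 / 7) * L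
      - (256 * L - 6) * 1 + 32 * (31 / 32 * L - 1 / 32 + 1 / 32 * (m' + L) - 1 / 16 * L)
      - 32 * (31 / 32 * m' - 1 / 32)) := by
    rw [gae]
    linear_combination -gcd'
  have c1 : L = 1 → (μ₀ * μ₁) ^ 1 = 1 := fun h => by
    obtain rfl : a = b := eq_of_B_eq_one hV hn₀ hn₁ (by rw [hL, h])
    have := conj_of_axis h₀ h₁ (ν := 1) (fun u v => rfl) rfl
    rw [one_mul, mul_one] at this
    rw [pow_one, ← this, q0]
  have c2 : m' = 1 → (μ₀ * μ₁) ^ 2 = 1 := fun h => by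
    have := conj_of_axis h₀ h₀ g1 (by rw [hc, ← eq_of_B_eq_one hV hn₀ cc1 (by rw [hm, h])])
    simp only [pow_succ, pow_zero, one_mul, mul_assoc]
    rw [← mul_assoc μ₁, this]
    simp only [mul_assoc, k0, q1]
  have c3 : B a e = 1 → (μ₀ * μ₁) ^ 3 = 1 := fun h => by
    have := conj_of_axis h₁ h₀ (ν := μ₁ * μ₀) (auto2 g1 g0)
      (by rw [LinearEquiv.mul_apply, hp, he, eq_of_B_eq_one hV hn₀ ee1 h])
    simp only [mul_assoc] at this
    simp only [pow_succ, pow_zero, one_mul, mul_assoc]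
    rw [this]
    simp only [mul_assoc, k0, k1, q0]
  have c4 : B c d = 1 → (μ₀ * μ₁) ^ 4 = 1 := fun h => by
    have := conj_of_axis h₀ h₀ (ν := μ₁ * (μ₀ * μ₁)) (auto2 g1 (auto2 g0 g1))
      (by rw [LinearEquiv.mul_apply, LinearEquiv.mul_apply, hc, hd, ← eq_of_B_eq_one hV cc1 dd1 h, hc'])
    simp only [mul_assoc] at this
    simp only [pow_succ, pow_zero, one_mul, mul_assoc]
    rw [← mul_assoc μ₁, ← mul_assoc (μ₁ * μ₀), ← mul_assoc (μ₁ * μ₀ * μ₁)]
    simp only [mul_assoc]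
    rw [show μ₁ * (μ₀ * (μ₁ * (μ₀ * μ₁))) = μ₀ * (μ₁ * (μ₀ * (μ₁ * μ₁))) by
      simpa only [mul_assoc] using congrArg (· * μ₁) this]
    simp only [q0, q1, mul_one, k0, k1]
  have c5 : B d e = 1 → (μ₀ * μ₁) ^ 5 = 1 := fun h => by
    have := conj_of_axis h₀ h₁ (ν := μ₀ * (μ₁ * (μ₀ * μ₁))) (auto2 g0 (auto2 g1 (auto2 g0 g1)))
      (by rw [LinearEquiv.mul_apply, LinearEquiv.mul_apply, LinearEquiv.mul_apply, hc, hd,
        eq_of_B_eq_one hV dd1 ee1 h, he', hp'])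
    simp only [mul_assoc] at this
    simp only [pow_succ, pow_zero, one_mul, mul_assoc]
    conv_lhs => arg 2; arg 2; arg 2; arg 2; arg 2; rw [← this]
    simp only [mul_assoc, k0, k1, q0, q1]
  have c6 : B (μ₀ e) e = 1 → (μ₀ * μ₁) ^ 6 = 1 := fun h => by
    have := conj_of_axis h₁ h₁ (ν := μ₀ * (μ₁ * (μ₀ * (μ₁ * μ₀))))
      (auto2 g0 (auto2 g1 (auto2 g0 (auto2 g1 g0))))
      (by simp only [LinearEquiv.mul_apply]
          rw [hp, he, eq_of_B_eq_one hV (by rw [i0, ee1]) ee1 h, he', hp'])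
    simp only [mul_assoc] at this
    simp only [pow_succ, pow_zero, one_mul, mul_assoc]
    rw [this]
    simp only [mul_assoc, k0, k1, q0, q1]
  rcases cases_of_equations (L := L) (m := m')
    (by rw [gpe, hcd, gae] at hQ; linear_combination (-7 / 48 : ℝ) * hQ)
    (by rw [gde, gpe, hcd, gae] at hE2; linear_combination hE2) with
    h | ⟨rfl, rfl⟩ | ⟨rfl, rfl⟩ | ⟨rfl, rfl⟩ | ⟨rfl, rfl⟩ | ⟨rfl, rfl⟩ | ⟨rfl, rfl⟩ | ⟨rfl, rfl⟩ | ⟨rfl, rfl⟩
  · exact ⟨1, le_refl 1, by norm_num, c1 h⟩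
  · exact ⟨2, by norm_num, by norm_num, c2 rfl⟩
  · exact ⟨2, by norm_num, by norm_num, c2 rfl⟩
  · exact ⟨3, by norm_num, by norm_num, c3 (by rw [gae]; norm_num)⟩
  · exact ⟨3, by norm_num, by norm_num, c3 (by rw [gae]; norm_num)⟩
  · exact ⟨4, by norm_num, by norm_num, c4 (by rw [hcd, gae]; norm_num)⟩
  · exact ⟨4, by norm_num, by norm_num, c4 (by rw [hcd, gae]; norm_num)⟩
  · exact ⟨5, by norm_num, by norm_num, c5 (by rw [gde, hcd, gae]; norm_num)⟩
  · refine ⟨6, by norm_num, le_refl 6, c6 ?_⟩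
    have gfd : B (μ₀ e) d = 5 / 256 := by rw [← hd, i0, sym, gce]
    have gfp : B (μ₀ e) p = 13 / 256 := by rw [← hp, i0, sym, gbe]
    have gfa : B (μ₀ e) a = B a e := by
      conv_lhs => rw [← f0]
      rw [i0, sym]
    have gfb : B (μ₀ e) b = B p e := by rw [← hp', i0, sym]
    have gfc : B (μ₀ e) c = B d e := by rw [← hd', i0, sym]
    have gfO : B (μ₀ e) O = B e O := by
      conv_lhs => rw [← O0]
      rw [i0]
    have gfE : B (μ₀ e) E = B e E := by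
      conv_lhs => rw [← E0]
      rw [i0]
    rw [dot, gfd, gfp, gfa, gfb, gfc, gfO, gfE, geO, geE, gde, gpe, gae]
    rw [hcd, gae]
    norm_num

end CfsgLib.Spor.Sakuma
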