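/-
Singular subgroups of a group with a large extraspecial subgroup.
-/
import Cfsg.Agent.Lib.PGroup.ExtraspecialPairing
import Cfsg.Agent.Lib.PGroup.Basic
import Cfsg.Prelude.Def_MonsterType

set_option autoImplicit false

namespace CfsgLib.Spor.Singular

open Subgroup
open scoped commutatorElement

variable {G : Type*} [Group G] [Finite G]

/-- The largest normal two-subgroup of the centraliser of `x`. -/
noncomputable abbrev coreAt (x : G) : Subgroup G :=
  (Cfsg.pCore 2 (centralizer ({x} : Set G))).map (centralizer ({x} : Set G)).subtype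

/-- The properties of an extraspecial self-centralising core. -/
structure Good (y : G) : Prop where
  small : CfsgLib.PGroup.SmallCenter 2 (coreAt y)
  cent : centralizer (coreAt y : Set G) ≤ coreAt y
  order : orderOf y = 2

theorem core_le (y : G) : coreAt y ≤ centralizer ({y} : Set G) := map_subtype_le _

theorem conj_centralizer (g y : G) :
    (centralizer ({y} : Set G)).map (MulAut.conj g).toMonoidHom = centralizer ({g * y * g⁻¹} : Set G) := by
  ext x
  simp only [mem_map_equiv, mem_centralizer_singleton_iff, MulAut.conj_symm_apply]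
  constructor <;> intro h
  · calc x * (g * y * g⁻¹) = g * (g⁻¹ * x * g * y) * g⁻¹ := by group
      _ = g * (y * (g⁻¹ * x * g)) * g⁻¹ := by rw [h]
      _ = g * y * g⁻¹ * x := by group
  · calc g⁻¹ * x * g * y = g⁻¹ * (x * (g * y * g⁻¹)) * g := by group
      _ = g⁻¹ * (g * y * g⁻¹ * x) * g := by rw [h]
      _ = y * (g⁻¹ * x * g) := by group

theorem core_max (y : G) {N : Subgroup G} (hN : N ≤ centralizer ({y} : Set G)) (hp : IsPGroup 2 N)
    (hn : ∀ c ∈ centralizer ({y} : Set G), ∀ n ∈ N, c * n * c⁻¹ ∈ N) : N ≤ coreAt y := fun n hn' =>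
  ⟨⟨n, hN hn'⟩, CfsgLib.PGroup.le_pCore (N := N.subgroupOf _) ⟨fun m hm c => hn c c.2 m hm⟩ hp.comap_subtype hn',
    rfl⟩

theorem core_isPGroup (y : G) : IsPGroup 2 (coreAt y) := (CfsgLib.PGroup.isPGroup_pCore 2 _).map _

theorem core_norm {y c n : G} (hc : c ∈ centralizer ({y} : Set G)) (hn : n ∈ coreAt y) : c * n * c⁻¹ ∈ coreAt y := by
  obtain ⟨m, hm, rfl⟩ := hn
  refine ⟨⟨c, hc⟩ * m * ⟨c, hc⟩⁻¹, ?_, rfl⟩
  let N := Cfsg.pCore 2 (centralizer ({y} : Set G))
  have hmap : N.map (MulAut.conj (⟨c, hc⟩ : centralizer ({y} : Set G))).toMonoidHom ≤ N := by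
    rw [map_le_iff_le_comap]
    exact sSup_le fun K hK x hx => mem_comap.2 (le_sSup hK (hK.1.conj_mem x hx _))
  exact hmap ⟨m, hm, rfl⟩

theorem conj_core (g y : G) : (coreAt y).map (MulAut.conj g).toMonoidHom = coreAt (g * y * g⁻¹) := by
  have key : ∀ g y : G, (coreAt y).map (MulAut.conj g).toMonoidHom ≤ coreAt (g * y * g⁻¹) := fun g y => by
    refine core_max _ (conj_centralizer g y ▸ map_mono (core_le y)) ((core_isPGroup y).map _) ?_
    rintro c hc _ ⟨n, hn, rfl⟩
    rw [← conj_centralizer] at hc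
    obtain ⟨d, hd, rfl⟩ := hc
    exact ⟨d * n * d⁻¹, core_norm hd hn, by simp [mul_assoc]⟩
  refine le_antisymm (key g y) fun x hx => ?_
  have h := key g⁻¹ (g * y * g⁻¹) ⟨x, hx, rfl⟩
  rw [show g⁻¹ * (g * y * g⁻¹) * g⁻¹⁻¹ = y by group] at h
  exact ⟨g⁻¹ * x * g, by simpa using h, by simp [mul_assoc]⟩

theorem mem_conj {g y v : G} (hv : v ∈ coreAt y) : g * v * g⁻¹ ∈ coreAt (g * y * g⁻¹) :=
  conj_core g y ▸ ⟨v, hv, rfl⟩

namespace Good

variable {y : G} (h : Good y)
include h

theorem mem_self : y ∈ coreAt y :=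
  h.cent (mem_centralizer_iff.2 fun q hq => mem_centralizer_singleton_iff.1 (core_le y hq))

theorem ne_one : y ≠ 1 := fun e => by have := h.order; rw [e, orderOf_one] at this; omega

theorem sq_one : y * y = 1 := by rw [← pow_two, ← h.order, pow_orderOf_eq_one]

theorem central_eq {u : G} (hu : ∀ q ∈ coreAt y, q * u = u * q) : u = 1 ∨ u = y := by
  rcases eq_or_ne u 1 with rfl | hu1
  · exact Or.inl rfl
  refine Or.inr ?_
  have e := CfsgLib.ESPairing.center_two h.small (a := ⟨u, h.cent (mem_centralizer_iff.2 hu)⟩)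
    (b := ⟨y, h.mem_self⟩) (mem_center_iff.2 fun q => Subtype.ext (hu q q.2))
    (mem_center_iff.2 fun q => Subtype.ext (mem_centralizer_singleton_iff.1 (core_le y q.2)))
    (fun e => hu1 (congrArg Subtype.val e)) (fun e => h.ne_one (congrArg Subtype.val e))
  exact congrArg Subtype.val e

theorem comm_cases {a b : G} (ha : a ∈ coreAt y) (hb : b ∈ coreAt y) :
    a * b * a⁻¹ * b⁻¹ = 1 ∨ a * b * a⁻¹ * b⁻¹ = y := by
  refine h.central_eq fun q hq => ?_
  exact congrArg Subtype.val (mem_center_iff.1 (h.small.comm_mem ⟨a, ha⟩ ⟨b, hb⟩) ⟨q, hq⟩)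

theorem conj_cases {a b : G} (ha : a ∈ coreAt y) (hb : b ∈ coreAt y) :
    a * b * a⁻¹ = b ∨ a * b * a⁻¹ = y * b :=
  (h.comm_cases ha hb).imp (fun e => mul_inv_eq_one.1 e) fun e => mul_inv_eq_iff_eq_mul.1 e

theorem sq_cases {a : G} (ha : a ∈ coreAt y) : a * a = 1 ∨ a * a = y := by
  refine h.central_eq fun q hq => ?_
  have e := congrArg Subtype.val (mem_center_iff.1 (h.small.pow_mem ⟨a, ha⟩) ⟨q, hq⟩)
  simpa [pow_two] using e

theorem exists_swap {t : G} (ht : t ∈ coreAt y) (h1 : t ≠ 1) (h2 : t ≠ y) :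
    ∃ a ∈ coreAt y, a * t * a⁻¹ = y * t := by
  by_contra hcon
  push Not at hcon
  exact (h.central_eq fun q hq => mul_inv_eq_iff_eq_mul.1 ((h.conj_cases hq ht).resolve_right (hcon q hq))).elim h1 h2

theorem of_conj (g : G) : Good (g * y * g⁻¹) := by
  have hc := conj_core g y
  let e : coreAt y ≃* coreAt (g * y * g⁻¹) :=
    ((MulAut.conj g).subgroupMap (coreAt y)).trans (MulEquiv.subgroupCongr hc)
  refine ⟨⟨?_, fun a b => ?_, fun a => ?_⟩, fun u hu => ?_, ?_⟩
  · rw [← h.small.card_center]
    exact (Nat.card_congr (Subgroup.centerCongr e).toEquiv).symm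
  · obtain ⟨a, rfl⟩ := e.surjective a
    obtain ⟨b, rfl⟩ := e.surjective b
    rw [← map_commutatorElement, mem_center_iff]
    intro q
    obtain ⟨q, rfl⟩ := e.surjective q
    rw [← map_mul, ← map_mul, mem_center_iff.1 (h.small.comm_mem a b) q]
  · obtain ⟨a, rfl⟩ := e.surjective a
    rw [← map_pow, mem_center_iff]
    intro q
    obtain ⟨q, rfl⟩ := e.surjective q
    rw [← map_mul, ← map_mul, mem_center_iff.1 (h.small.pow_mem a) q]
  · have h' : g⁻¹ * u * g ∈ coreAt y := h.cent (mem_centralizer_iff.2 fun q hq => by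
      have e1 := mem_centralizer_iff.1 hu _ (mem_conj (g := g) hq)
      calc q * (g⁻¹ * u * g) = g⁻¹ * (g * q * g⁻¹ * u) * g := by group
        _ = g⁻¹ * (u * (g * q * g⁻¹)) * g := by rw [e1]
        _ = _ := by group)
    have := mem_conj (g := g) h'
    rwa [show g * (g⁻¹ * u * g) * g⁻¹ = u by group] at this
  · rw [show g * y * g⁻¹ = MulAut.conj g y from rfl, MulEquiv.orderOf_eq, h.order]

end Good

/-- Orthogonality is symmetric. -/
theorem orth_symm {z x : G} (hz : Good z) (hx : Good x) (h : x ∈ coreAt z) : z ∈ coreAt x := by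
  rcases eq_or_ne x z with rfl | hne
  · exact h
  have hzx : z * x = x * z := (mem_centralizer_singleton_iff.1 (core_le z h)).symm
  have hzC : z ∈ centralizer ({x} : Set G) := mem_centralizer_singleton_iff.2 hzx
  obtain ⟨a, ha, hat⟩ := hz.exists_swap h hx.ne_one hne
  -- a conjugate of z by the core of x gives the result by the symmetry of a triangle
  by_cases hq : ∃ q ∈ coreAt x, q * z * q⁻¹ = x * z
  · obtain ⟨q, hq, hqz⟩ := hq
    have e1 : x ∈ coreAt (x * z) := by
      have := mem_conj (g := q) h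
      rwa [hqz, mem_centralizer_singleton_iff.1 (core_le x hq), mul_inv_cancel_right] at this
    have e2 := mem_conj (g := a) e1
    have e3 : a * (x * z) * a⁻¹ = x := by
      rw [show a * (x * z) * a⁻¹ = (a * x * a⁻¹) * (a * z * a⁻¹) by group, hat,
        mem_centralizer_singleton_iff.1 (core_le z ha), mul_inv_cancel_right, hzx, mul_assoc, hz.sq_one, mul_one]
    rw [hat, e3] at e2
    have := mul_mem e2 hx.mem_self
    rwa [mul_assoc, hx.sq_one, mul_one] at this
  push Not at hq
  -- the centraliser of z in the core of x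
  set R := coreAt x ⊓ centralizer ({z} : Set G) with hR
  have hR' : ∀ q ∈ coreAt x, q * z * q⁻¹ * z⁻¹ = 1 ∨ q * z * q⁻¹ * z⁻¹ = x → q ∈ R := fun q hq' hc =>
    ⟨hq', mem_centralizer_singleton_iff.2 (hc.elim (fun e => mul_inv_eq_iff_eq_mul.1 (mul_inv_eq_one.1 e))
      fun e => absurd (mul_inv_eq_iff_eq_mul.1 e) (hq q hq'))⟩
  by_contra hzQ
  set P := coreAt z ⊓ centralizer ({x} : Set G) with hP
  have hxx : ∀ {u : G}, u ∈ coreAt x → x * u = u * x := fun hu => (mem_centralizer_singleton_iff.1 (core_le x hu)).symm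
  have hD : ∀ u ∈ coreAt x, u ∈ coreAt z → u = 1 ∨ u = x := by
    intro u hu huz
    have hcent : ∀ p ∈ P, p * u = u * p := fun p hp => by
      rcases hz.conj_cases hp.1 huz with e | e
      · exact mul_inv_eq_iff_eq_mul.1 e
      · exfalso
        have := mul_mem (core_norm hp.2 hu) (inv_mem hu)
        rw [e, mul_inv_cancel_right] at this
        exact hzQ this
    by_cases hau : a * u = u * a
    · refine (hz.central_eq fun q hq' => ?_).imp_right fun e => absurd (e ▸ hu) hzQ
      rcases hz.conj_cases hq' h with e | e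
      · exact hcent q ⟨hq', mem_centralizer_singleton_iff.2 (mul_inv_eq_iff_eq_mul.1 e)⟩
      · have hmem : a⁻¹ * q ∈ P := by
          refine ⟨(coreAt z).mul_mem ((coreAt z).inv_mem ha) hq', mem_centralizer_singleton_iff.2 ?_⟩
          have : a⁻¹ * q * x * (a⁻¹ * q)⁻¹ = x := by
            calc a⁻¹ * q * x * (a⁻¹ * q)⁻¹ = a⁻¹ * (q * x * q⁻¹) * a := by group
              _ = a⁻¹ * (a * x * a⁻¹) * a := by rw [e, hat]
              _ = x := by group
          exact mul_inv_eq_iff_eq_mul.1 this
        have h2 := hcent _ hmem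
        calc q * u = a * (a⁻¹ * q * u) := by group
          _ = a * (u * (a⁻¹ * q)) := by rw [h2]
          _ = a * u * (a⁻¹ * q) := by group
          _ = u * q := by rw [hau]; group
    · right
      have eu : a * u * a⁻¹ = z * u := (hz.conj_cases ha huz).resolve_left fun e => hau (mul_inv_eq_iff_eq_mul.1 e)
      have hxu : x * u = u * x := hxx hu
      have hmem : u * x⁻¹ = 1 ∨ u * x⁻¹ = z := hz.central_eq fun q hq' => by
        have key : ∀ p ∈ P, p * (u * x⁻¹) = u * x⁻¹ * p := fun p hp =>
          (Commute.mul_right (hcent p hp) (Commute.inv_right (mem_centralizer_singleton_iff.1 hp.2))).eq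
        have ka : a * (u * x⁻¹) * a⁻¹ = u * x⁻¹ := by
          have hzu : z * u = u * z := (mem_centralizer_singleton_iff.1 (core_le z huz)).symm
          calc a * (u * x⁻¹) * a⁻¹ = (a * u * a⁻¹) * (a * x * a⁻¹)⁻¹ := by group
            _ = z * u * x⁻¹ * z⁻¹ := by rw [eu, hat]; group
            _ = u * x⁻¹ := by
              rw [mul_assoc z, mul_inv_eq_iff_eq_mul]
              exact (Commute.mul_right hzu (Commute.inv_right hzx)).eq
        rcases hz.conj_cases hq' h with e | e
        · exact key q ⟨hq', mem_centralizer_singleton_iff.2 (mul_inv_eq_iff_eq_mul.1 e)⟩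
        · have hmem : a⁻¹ * q ∈ P := by
            refine ⟨(coreAt z).mul_mem ((coreAt z).inv_mem ha) hq', mem_centralizer_singleton_iff.2 ?_⟩
            have : a⁻¹ * q * x * (a⁻¹ * q)⁻¹ = x := by
              calc a⁻¹ * q * x * (a⁻¹ * q)⁻¹ = a⁻¹ * (q * x * q⁻¹) * a := by group
                _ = a⁻¹ * (a * x * a⁻¹) * a := by rw [e, hat]
                _ = x := by group
            exact mul_inv_eq_iff_eq_mul.1 this
          calc q * (u * x⁻¹) = a * (a⁻¹ * q * (u * x⁻¹)) := by group
            _ = a * (u * x⁻¹ * (a⁻¹ * q)) := by rw [key _ hmem]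
            _ = a * (u * x⁻¹) * a⁻¹ * q := by group
            _ = u * x⁻¹ * q := by rw [ka]
      rcases hmem with e | e
      · exact mul_inv_eq_one.1 e
      · exact absurd (e ▸ mul_mem hu (inv_mem hx.mem_self)) hzQ
  -- P acts trivially on R modulo x
  have hRP : ∀ r ∈ R, ∀ p ∈ P, p * r * p⁻¹ = r ∨ p * r * p⁻¹ = x * r := by
    intro r hr p hp
    have hh := hD (p * r * p⁻¹ * r⁻¹) (mul_mem (core_norm hp.2 hr.1) (inv_mem hr.1)) (by
      rw [mul_assoc p, mul_assoc p]
      exact mul_mem hp.1 (core_norm hr.2 (inv_mem hp.1)))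
    exact hh.imp (fun e => mul_inv_eq_one.1 e) fun e => mul_inv_eq_iff_eq_mul.1 e
  by_cases hab : ∃ p ∈ P, ∃ p' ∈ P, p * p' ≠ p' * p
  · obtain ⟨p, hp, p', hp', hne'⟩ := hab
    have hpp : p * p' * p⁻¹ = z * p' :=
      (hz.conj_cases hp.1 hp'.1).resolve_left fun e => hne' (mul_inv_eq_iff_eq_mul.1 e)
    have hzq : ∀ {q : G}, q ∈ coreAt x → z * q * z⁻¹ ∈ coreAt x := fun hq' => core_norm hzC hq'
    have hcomm_R : ∀ q ∈ coreAt x, z * q * z⁻¹ * q⁻¹ ∈ R := by
      intro q hq'
      have hc : z * q * z⁻¹ * q⁻¹ ∈ coreAt x := mul_mem (hzq hq') (inv_mem hq')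
      refine hR' _ hc ?_
      set c := z * q * z⁻¹ * q⁻¹ with hcdef
      have e : c * z * c⁻¹ * z⁻¹ = c * c := by
        have hzi : z⁻¹ = z := inv_eq_of_mul_eq_one_right hz.sq_one
        rw [hcdef]; simp only [mul_inv_rev, inv_inv, hzi]; group; simp only [mul_assoc, hz.sq_one, mul_one]
      rw [e]; exact hx.sq_cases hc
    have hself : ∀ u ∈ coreAt x, (∀ r ∈ R, u * r = r * u) → u ∈ R := by
      intro u hu hur
      set c := z * u * z⁻¹ * u⁻¹ with hcdef
      refine hR' u hu ?_
      have hc : c ∈ coreAt x := mul_mem (hzq hu) (inv_mem hu)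
      have hcr : ∀ r ∈ R, c * r = r * c := fun r hr => by
        have h1 : Commute z r := (mem_centralizer_singleton_iff.1 hr.2).symm
        exact ((h1.mul_left (hur r hr)).mul_left h1.inv_left).mul_left (Commute.inv_left (hur r hr)) |>.eq
      have hcc := hx.central_eq (u := c) fun q hq' => by
        set d := z * q * z⁻¹ * q⁻¹ with hddef
        have hzconj : c * q * c⁻¹ * q⁻¹ = 1 := by
          have e1 : z * (u * q * u⁻¹ * q⁻¹) * z⁻¹ = u * q * u⁻¹ * q⁻¹ := by
            rcases hx.comm_cases hu hq' with e | e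
            · rw [e]; group
            · rw [e, hzx, mul_inv_cancel_right]
          rcases hx.comm_cases hc hq' with e | e
          · exact e
          exfalso
          have hd : d ∈ R := hcomm_R q hq'
          have hcd : c * d = d * c := hcr d hd
          have hud : u * d = d * u := hur d hd
          have hcu : c * u * c⁻¹ * u⁻¹ = 1 ∨ c * u * c⁻¹ * u⁻¹ = x := hx.comm_cases hc hu
          have hdq : ∀ s ∈ coreAt x, x * s = s * x := fun s hs => hxx hs
          have zu : z * u * z⁻¹ = c * u := by rw [hcdef]; group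
          have zq : z * q * z⁻¹ = d * q := by rw [hddef]; group
          have e2 : (c * u) * (d * q) * (c * u)⁻¹ * (d * q)⁻¹ = u * q * u⁻¹ * q⁻¹ := by
            rw [← zu, ← zq, ← e1]; group
          have key : (c * u) * (d * q) * (c * u)⁻¹ * (d * q)⁻¹ =
              d * (c * (u * q * u⁻¹ * q⁻¹) * c⁻¹ * (c * q * c⁻¹ * q⁻¹)) * d⁻¹ := by
            calc (c * u) * (d * q) * (c * u)⁻¹ * (d * q)⁻¹
                = c * (u * d) * q * (c * u)⁻¹ * (d * q)⁻¹ := by group
              _ = c * (d * u) * q * (c * u)⁻¹ * (d * q)⁻¹ := by rw [hud]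
              _ = (c * d) * (u * q) * (c * u)⁻¹ * (d * q)⁻¹ := by group
              _ = (d * c) * (u * q) * (c * u)⁻¹ * (d * q)⁻¹ := by rw [hcd]
              _ = _ := by group
          rw [key, e] at e2
          have hcm : c * (u * q * u⁻¹ * q⁻¹) * c⁻¹ = u * q * u⁻¹ * q⁻¹ := by
            rcases hx.comm_cases hu hq' with e' | e'
            · rw [e']; group
            · rw [e', ← hdq c hc, mul_inv_cancel_right]
          rw [hcm] at e2
          have hsx : ∀ s, s = 1 ∨ s = x → d * (s * x) * d⁻¹ = s * x := by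
            rintro s (rfl | rfl)
            · rw [one_mul, ← hdq d hd.1, mul_inv_cancel_right]
            · rw [hx.sq_one]; group
          rw [hsx _ (hx.comm_cases hu hq')] at e2
          exact hx.ne_one (mul_eq_left.1 e2)
        exact (mul_inv_eq_iff_eq_mul.1 (mul_inv_eq_one.1 hzconj)).symm
      rcases hcc with e | e
      · left
        have : z * u * z⁻¹ = u := mul_inv_eq_one.1 e
        have hzu := mul_inv_eq_iff_eq_mul.1 this
        rw [mul_inv_eq_one, mul_inv_eq_iff_eq_mul, hzu]
      · right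
        have : z * u * z⁻¹ = x * u := mul_inv_eq_iff_eq_mul.1 e
        have h1 : u * z * u⁻¹ * z⁻¹ = x⁻¹ := by
          calc u * z * u⁻¹ * z⁻¹ = u * (z * u * z⁻¹)⁻¹ := by group
            _ = x⁻¹ := by rw [this]; group
        rw [h1]; exact inv_eq_of_mul_eq_one_right hx.sq_one
    have hQP : ∀ w ∈ P, ∀ q ∈ coreAt x, w * q * w⁻¹ * q⁻¹ ∈ R := by
      intro w hw q hq'
      refine hself _ (mul_mem (core_norm hw.2 hq') (inv_mem hq')) fun r hr => ?_
      have hw' : r * w * r⁻¹ = w ∨ r * w * r⁻¹ = x * w := by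
        rcases hRP r hr w hw with e | e
        · left
          rw [mul_inv_eq_iff_eq_mul]
          exact (mul_inv_eq_iff_eq_mul.1 e).symm
        · right
          have hxi : x⁻¹ = x := inv_eq_of_mul_eq_one_right hx.sq_one
          have hxw : x * w = w * x := (mem_centralizer_singleton_iff.1 hw.2).symm
          calc r * w * r⁻¹ = r * (w * r * w⁻¹)⁻¹ * w := by group
            _ = x * w := by rw [e, mul_inv_rev, hxi]; group
      have hc' : ∀ s t : G, s = 1 ∨ s = x → t * x = x * t → s * t = t * s := by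
        rintro s t (rfl | rfl) ht
        · simp
        · exact ht.symm
      have hq'' : r * q * r⁻¹ = q ∨ r * q * r⁻¹ = x * q := hx.conj_cases hr.1 hq'
      have e : r * (w * q * w⁻¹ * q⁻¹) * r⁻¹ = w * q * w⁻¹ * q⁻¹ := by
        rw [show r * (w * q * w⁻¹ * q⁻¹) * r⁻¹ =
          (r * w * r⁻¹) * (r * q * r⁻¹) * (r * w * r⁻¹)⁻¹ * (r * q * r⁻¹)⁻¹ by group]
        have hxq : x * q = q * x := hxx hq'
        have hxw : x * w = w * x := (mem_centralizer_singleton_iff.1 hw.2).symm
        have hw2 : ∀ t : G, x * t = t * x → (x * w) * t * (x * w)⁻¹ = w * t * w⁻¹ := fun t ht => by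
          rw [hxw, mul_inv_rev, mul_assoc w x, ht]; group
        rcases hw' with a1 | a1 <;> rcases hq'' with b1 | b1 <;> rw [a1, b1]
        · have hq1 : w * (x * q) * w⁻¹ = x * (w * q * w⁻¹) := by rw [← mul_assoc w, ← hxw]; group
          have hcore : x * (w * q * w⁻¹) = (w * q * w⁻¹) * x := hxx (core_norm hw.2 hq')
          rw [hq1, hcore, hxq]; group
        · rw [hw2 q hxq]
        · rw [hw2 (x * q) (by rw [mul_assoc, hxq])]
          have hq1 : w * (x * q) * w⁻¹ = x * (w * q * w⁻¹) := by rw [← mul_assoc w, ← hxw]; group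
          have hcore : x * (w * q * w⁻¹) = (w * q * w⁻¹) * x := hxx (core_norm hw.2 hq')
          rw [hq1, hcore, hxq]; group
      exact (mul_inv_eq_iff_eq_mul.1 e).symm
    -- z is a commutator in P, so it centralises the core modulo x
    have hall : ∀ q ∈ coreAt x, q * z = z * q := by
      intro q hq'
      have hmod : ∀ w ∈ P, ∀ r ∈ R, ∃ s : G, (s = 1 ∨ s = x) ∧ w * r * w⁻¹ = s * r := fun w hw r hr => by
        rcases hRP r hr w hw with e | e
        · exact ⟨1, Or.inl rfl, by rw [e, one_mul]⟩
        · exact ⟨x, Or.inr rfl, e⟩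
      set c := p * q * p⁻¹ * q⁻¹ with hc
      set c' := p' * q * p'⁻¹ * q⁻¹ with hc'
      have hcR : c ∈ R := hQP p hp q hq'
      have hc'R : c' ∈ R := hQP p' hp' q hq'
      obtain ⟨s, hs, es⟩ := hmod p hp c' hc'R
      obtain ⟨s', hs', es'⟩ := hmod p' hp' c hcR
      obtain ⟨t, ht, et⟩ : ∃ t, (t = 1 ∨ t = x) ∧ c * c' = t * (c' * c) := by
        rcases hx.comm_cases hcR.1 hc'R.1 with e | e
        · exact ⟨1, Or.inl rfl, by rw [one_mul, ← mul_inv_eq_one, mul_inv_rev, ← mul_assoc]; exact e⟩
        · exact ⟨x, Or.inr rfl, by rw [← mul_inv_eq_iff_eq_mul, mul_inv_rev, ← mul_assoc]; exact e⟩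
      have e1 : p * p' * q * (p * p')⁻¹ = s * c' * (c * q) := by
        rw [show p * p' * q * (p * p')⁻¹ = (p * c' * p⁻¹) * (c * q) by rw [hc, hc']; group, es]
      have e2 : p' * p * q * (p' * p)⁻¹ = s' * c * (c' * q) := by
        rw [show p' * p * q * (p' * p)⁻¹ = (p' * c * p'⁻¹) * (c' * q) by rw [hc, hc']; group, es']
      have hzpp : p * p' = z * (p' * p) := by rw [← mul_assoc, ← hpp]; group
      have hf : z * (p' * p * q * (p' * p)⁻¹) * z⁻¹ = p * p' * q * (p * p')⁻¹ := by rw [hzpp]; group
      set q' := p' * p * q * (p' * p)⁻¹ with hq2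
      have hq'mem : q' ∈ coreAt x := core_norm (mul_mem hp'.2 hp.2) hq'
      have hzq' : q' ∈ R := by
        refine hR' _ hq'mem ?_
        have hn : z * q' * z⁻¹ * q'⁻¹ = s * c' * (c * q) * (s' * c * (c' * q))⁻¹ := by rw [hf, e1, e2]
        have hfin : s * c' * (c * q) * (s' * c * (c' * q))⁻¹ = 1 ∨ s * c' * (c * q) * (s' * c * (c' * q))⁻¹ = x := by
          have e3 : s * c' * (c * q) * (s' * c * (c' * q))⁻¹ = s * t⁻¹ * s'⁻¹ := by
            calc s * c' * (c * q) * (s' * c * (c' * q))⁻¹ = s * (c' * c) * (c * c')⁻¹ * s'⁻¹ := by group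
              _ = s * t⁻¹ * s'⁻¹ := by rw [et]; group
          rw [e3]
          have hxi : x⁻¹ = x := inv_eq_of_mul_eq_one_right hx.sq_one
          rcases hs with rfl | rfl <;> rcases hs' with rfl | rfl <;> rcases ht with rfl | rfl <;>
            simp [hxi, hx.sq_one]
        rw [← hn] at hfin
        have hxz : z⁻¹ * x * z = x := by rw [mul_assoc, ← hzx, inv_mul_cancel_left]
        rcases hfin with e | e
        · left
          calc q' * z * q'⁻¹ * z⁻¹ = (z * q' * z⁻¹ * q'⁻¹)⁻¹ := by group
            _ = 1 := by rw [e, inv_one]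
        · right
          calc q' * z * q'⁻¹ * z⁻¹ = (z * q' * z⁻¹ * q'⁻¹)⁻¹ := by group
            _ = x := by rw [e]; exact inv_eq_of_mul_eq_one_right hx.sq_one
      have h1 := mem_centralizer_singleton_iff.1 hzq'.2
      have h2 : (p' * p) * z = z * (p' * p) :=
        mem_centralizer_singleton_iff.1 (mul_mem (core_le z hp'.1) (core_le z hp.1))
      calc q * z = (p' * p)⁻¹ * (q' * ((p' * p) * z)) := by rw [hq2]; group
        _ = (p' * p)⁻¹ * (q' * z) * (p' * p) := by rw [h2]; group
        _ = (p' * p)⁻¹ * (z * q') * (p' * p) := by rw [h1]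
        _ = (p' * p)⁻¹ * z * (p' * p) * q := by rw [hq2]; group
        _ = z * q := by rw [mul_assoc (p' * p)⁻¹, ← h2, inv_mul_cancel_left]
    exact hzQ (hx.cent (mem_centralizer_iff.2 fun q hq' => hall q hq'))
  · -- P is the four group
    push Not at hab
    have hdec : ∀ q ∈ coreAt z, q ∈ P ∨ a⁻¹ * q ∈ P := fun q hq' => by
      rcases hz.conj_cases hq' h with e | e
      · exact Or.inl ⟨hq', mem_centralizer_singleton_iff.2 (mul_inv_eq_iff_eq_mul.1 e)⟩
      · refine Or.inr ⟨(coreAt z).mul_mem ((coreAt z).inv_mem ha) hq', mem_centralizer_singleton_iff.2 (mul_inv_eq_iff_eq_mul.1 ?_)⟩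
        calc a⁻¹ * q * x * (a⁻¹ * q)⁻¹ = a⁻¹ * (q * x * q⁻¹) * a := by group
          _ = a⁻¹ * (a * x * a⁻¹) * a := by rw [e, hat]
          _ = x := by group
    have hcent : ∀ w, (∀ p ∈ P, p * w = w * p) → a * w * a⁻¹ = w → w = 1 ∨ w = z := fun w hp hw =>
      hz.central_eq fun q hq' => by
        rcases hdec q hq' with hh | hh
        · exact hp q hh
        · calc q * w = a * (a⁻¹ * q * w) := by group
            _ = a * (w * (a⁻¹ * q)) := by rw [hp _ hh]
            _ = a * w * a⁻¹ * q := by group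
            _ = w * q := by rw [hw]
    have hxi : x⁻¹ = x := inv_eq_of_mul_eq_one_right hx.sq_one
    have hxP : x ∈ P := ⟨h, mem_centralizer_singleton_iff.2 rfl⟩
    have hzP : z ∈ P := ⟨hz.mem_self, hzC⟩
    have hP4 : ∀ w ∈ P, w = 1 ∨ w = z ∨ w = x ∨ w = z * x := fun w hw => by
      rcases hz.conj_cases ha hw.1 with e | e
      · rcases hcent w (fun p hp => hab p hp w hw) e with r | r
        · exact Or.inl r
        · exact Or.inr (Or.inl r)
      · have e' : a * (w * x) * a⁻¹ = w * x := by
          calc a * (w * x) * a⁻¹ = (a * w * a⁻¹) * (a * x * a⁻¹) := by group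
            _ = z * w * (z * x) := by rw [e, hat]
            _ = z * (w * z) * x := by group
            _ = z * (z * w) * x := by rw [mem_centralizer_singleton_iff.1 (core_le z hw.1)]
            _ = w * x := by rw [← mul_assoc, hz.sq_one, one_mul]
        rcases hcent (w * x) (fun p hp => hab p hp _ (mul_mem hw hxP)) e' with r | r
        · exact Or.inr (Or.inr (Or.inl (by rw [← hxi]; exact eq_inv_of_mul_eq_one_left r)))
        · refine Or.inr (Or.inr (Or.inr ?_))
          calc w = w * x * x := by rw [mul_assoc, hx.sq_one, mul_one]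
            _ = z * x := by rw [r]
    -- every element of R lies in the core of z
    have hRQ : ∀ r ∈ R, r ∈ coreAt z := by
      intro r hr
      have hrz : r * z = z * r := mem_centralizer_singleton_iff.1 hr.2
      have hrx : r * x = x * r := (hxx hr.1).symm
      have hrP : ∀ w ∈ P, w * r = r * w := fun w hw => by
        rcases hP4 w hw with rfl | rfl | rfl | rfl
        · simp
        · exact hrz.symm
        · exact hrx.symm
        · exact ((Commute.mul_right hrz hrx).symm).eq
      -- move of the outer element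
      have ha' : r * a * r⁻¹ ∈ coreAt z := core_norm hr.2 ha
      have hp₀ : a⁻¹ * (r * a * r⁻¹) ∈ P := by
        refine ⟨(coreAt z).mul_mem ((coreAt z).inv_mem ha) ha', mem_centralizer_singleton_iff.2 (mul_inv_eq_iff_eq_mul.1 ?_)⟩
        have hfix : r * a * r⁻¹ * x * (r * a * r⁻¹)⁻¹ = z * x := by
          calc r * a * r⁻¹ * x * (r * a * r⁻¹)⁻¹ = r * a * (r⁻¹ * x * r) * a⁻¹ * r⁻¹ := by group
            _ = r * (a * x * a⁻¹) * r⁻¹ := by rw [mul_assoc r⁻¹, ← hrx]; group
            _ = z * x := by rw [hat, mul_inv_eq_iff_eq_mul, (Commute.mul_right hrz hrx).eq]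
        calc a⁻¹ * (r * a * r⁻¹) * x * (a⁻¹ * (r * a * r⁻¹))⁻¹
            = a⁻¹ * (r * a * r⁻¹ * x * (r * a * r⁻¹)⁻¹) * a := by group
          _ = a⁻¹ * (a * x * a⁻¹) * a := by rw [hfix, hat]
          _ = x := by group
      set p₀ := a⁻¹ * (r * a * r⁻¹) with hp0
      have hrap : r * a * r⁻¹ = a * p₀ := by rw [hp0]; group
      -- the square rules out the other coset
      have hp₀z : p₀ = 1 ∨ p₀ = z := by
        have hsq : (r * a * r⁻¹) * (r * a * r⁻¹) = a * a := by
          calc (r * a * r⁻¹) * (r * a * r⁻¹) = r * (a * a) * r⁻¹ := by group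
            _ = a * a := by
              rcases hz.sq_cases ha with e | e <;> rw [e]
              · group
              · rw [hrz, mul_inv_cancel_right]
        rw [hrap] at hsq
        have hap : p₀ * a * p₀ = a := mul_left_cancel (by rw [← hsq]; group : a * (p₀ * a * p₀) = a * a)
        rcases hP4 p₀ hp₀ with e | e | e | e
        · exact Or.inl e
        · exact Or.inr e
        · exfalso
          rw [e] at hap
          have h3 : a * x * a⁻¹ = x := by
            rw [mul_inv_eq_iff_eq_mul]
            calc a * x = x * (x * a * x) := by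
                  rw [show x * (x * a * x) = x * x * (a * x) by group, hx.sq_one, one_mul]
              _ = x * a := by rw [hap]
          rw [hat] at h3
          exact hz.ne_one (mul_eq_right.1 h3)
        · exfalso
          rw [e] at hap
          have hy : a * (z * x) * a⁻¹ = x := by
            calc a * (z * x) * a⁻¹ = (a * z * a⁻¹) * (a * x * a⁻¹) := by group
              _ = z * (z * x) := by rw [hat, mem_centralizer_singleton_iff.1 (core_le z ha), mul_inv_cancel_right]
              _ = x := by rw [← mul_assoc, hz.sq_one, one_mul]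
          have hss : (z * x) * (z * x) = 1 := by
            calc (z * x) * (z * x) = z * (x * z) * x := by group
              _ = z * (z * x) * x := by rw [← hzx]
              _ = (z * z) * (x * x) := by group
              _ = 1 := by rw [hz.sq_one, hx.sq_one, one_mul]
          have h3 : a * (z * x) * a⁻¹ = z * x := by
            rw [mul_inv_eq_iff_eq_mul]
            calc a * (z * x) = (z * x) * ((z * x) * a * (z * x)) := by
                  rw [show (z * x) * ((z * x) * a * (z * x)) = (z * x) * (z * x) * (a * (z * x)) by group, hss,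
                    one_mul]
              _ = (z * x) * a := by rw [hap]
          rw [hy] at h3
          exact hz.ne_one (mul_eq_right.1 h3.symm)
      rcases hp₀z with e | e
      · refine hz.cent (mem_centralizer_iff.2 fun q hq' => ?_)
        have hra : r * a * r⁻¹ = a := by rw [hrap, e, mul_one]
        rcases hdec q hq' with hh | hh
        · exact hrP q hh
        · calc q * r = a * (a⁻¹ * q * r) := by group
            _ = a * (r * (a⁻¹ * q)) := by rw [hrP _ hh]
            _ = a * r * a⁻¹ * q := by group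
            _ = r * q := by
              have := mul_inv_eq_iff_eq_mul.1 hra
              rw [← this, mul_inv_cancel_right]
      · have hxr : x * r ∈ coreAt z := hz.cent (mem_centralizer_iff.2 fun q hq' => by
          have hxa : a * (x * r) * a⁻¹ = x * r := by
            have h4 : a * r * a⁻¹ = z * r := by
              have h5 : r * a = a * z * r := by rw [← e, ← hrap]; group
              have h6 : a * r = z * (r * a) := by
                rw [h5, mem_centralizer_singleton_iff.1 (core_le z ha), ← mul_assoc, ← mul_assoc, hz.sq_one, one_mul]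
              rw [h6]; group
            calc a * (x * r) * a⁻¹ = (a * x * a⁻¹) * (a * r * a⁻¹) := by group
              _ = z * x * (z * r) := by rw [hat, h4]
              _ = z * (x * z) * r := by group
              _ = z * (z * x) * r := by rw [hzx]
              _ = x * r := by rw [← mul_assoc, hz.sq_one, one_mul]
          have hcp : ∀ w ∈ P, w * (x * r) = x * r * w := fun w hw =>
            (Commute.mul_right (mem_centralizer_singleton_iff.1 hw.2) (hrP w hw)).eq
          rcases hdec q hq' with hh | hh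
          · exact hcp q hh
          · calc q * (x * r) = a * (a⁻¹ * q * (x * r)) := by group
              _ = a * (x * r * (a⁻¹ * q)) := by rw [hcp _ hh]
              _ = a * (x * r) * a⁻¹ * q := by group
              _ = x * r * q := by rw [hxa])
        have := mul_mem h hxr
        rwa [← mul_assoc, hx.sq_one, one_mul] at this
    -- so R is tiny, which is absurd
    have hR2 : ∀ r ∈ R, r = 1 ∨ r = x := fun r hr => hD r hr.1 (hRQ r hr)
    obtain ⟨q, hq1, hq2⟩ : ∃ q ∈ coreAt x, q ∉ R := by
      by_contra hcon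
      push Not at hcon
      refine hzQ (hx.cent (mem_centralizer_iff.2 fun q hq' => mem_centralizer_singleton_iff.1 (hcon q hq').2))
    set c := z * q * z⁻¹ * q⁻¹ with hcdef
    have hc : c ∈ coreAt x := mul_mem (core_norm hzC hq1) (inv_mem hq1)
    have hcR : c ∈ R := hR' c hc (by
      have e : c * z * c⁻¹ * z⁻¹ = c * c := by
        have hzi : z⁻¹ = z := inv_eq_of_mul_eq_one_right hz.sq_one
        rw [hcdef]; simp only [mul_inv_rev, inv_inv, hzi]; group; simp only [mul_assoc, hz.sq_one, mul_one]
      rw [e]; exact hx.sq_cases hc)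
    refine hq2 (hR' q hq1 ?_)
    have : q * z * q⁻¹ * z⁻¹ = c⁻¹ := by rw [hcdef]; group
    rw [this]
    rcases hR2 c hcR with e | e <;> rw [e]
    · simp
    · exact Or.inr hxi

end CfsgLib.Spor.Singular
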