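/-
The action of the join of the cores on a singular subgroup.
-/
import Cfsg.Agent.Lib.Spor.Singular

set_option autoImplicit false

namespace CfsgLib.Spor.Singular

open Subgroup
open scoped commutatorElement

variable {G : Type*} [Group G] [Finite G]

/-- A singular elementary abelian subgroup. -/
structure IsSingular (U : Subgroup G) : Prop where
  sq : ∀ u ∈ U, u * u = 1
  good : ∀ u ∈ U, u ≠ 1 → Good u
  orth : ∀ u ∈ U, ∀ v ∈ U, u ≠ 1 → v ≠ 1 → v ∈ coreAt u

theorem singular_of_conj {z : G} (hz : orderOf z = 2) (hE : Cfsg.IsExtraspecial 2 (coreAt z))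
    (hC : centralizer (coreAt z : Set G) ≤ coreAt z) {x : G} (hx : ∃ g : G, g * z * g⁻¹ = x) : Good x := by
  haveI : Fact (Nat.Prime 2) := ⟨Nat.prime_two⟩
  obtain ⟨g, rfl⟩ := hx
  exact Good.of_conj ⟨(CfsgLib.PGroup.smallCenter_of_extraspecial hE).1, hC, hz⟩ g

/-- An element of the core of `u` fixing `X` and moving `v`. -/
theorem exists_move {u v : G} (hu : Good u) {X : Subgroup G} (hX : X ≤ coreAt u) (huX : u ∈ X)
    (hv : v ∈ coreAt u) (hvX : v ∉ X) :
    ∃ a ∈ coreAt u, (∀ x ∈ X, a * x = x * a) ∧ a * v * a⁻¹ = u * v := by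
  by_contra hcon
  push Not at hcon
  set W := X.subgroupOf (coreAt u)
  have hP := hu.small
  have hZW : center (coreAt u) ≤ W := fun c hc => by
    rcases hu.central_eq (u := (c : G)) fun q hq => congrArg Subtype.val (mem_center_iff.1 hc ⟨q, hq⟩) with e | e <;>
      rw [mem_subgroupOf, e]
    exacts [one_mem X, huX]
  have htop : ∀ S : Subgroup (coreAt u), center (coreAt u) ≤ S →
      Nat.card (coreAt u) * 2 = Nat.card S * Nat.card (centralizer (S : Set (coreAt u))) := fun S hS => by
    have := CfsgLib.ESPairing.pairing_card hP ⊤ S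
    rwa [card_top, top_inf_eq, coe_top, centralizer_univ, inf_eq_right.2 hS, hP.card_center] at this
  have hZC : ∀ S : Set (coreAt u), center (coreAt u) ≤ centralizer S := fun S c hc =>
    mem_centralizer_iff.2 fun q _ => mem_center_iff.1 hc q
  set C := centralizer (W : Set (coreAt u))
  have hle : W ≤ centralizer (C : Set (coreAt u)) := fun w hw =>
    mem_centralizer_iff.2 fun c hc => (mem_centralizer_iff.1 hc w hw).symm
  have hcard : Nat.card (centralizer (C : Set (coreAt u))) = Nat.card W := by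
    have h1 := htop W hZW
    rw [htop C (hZC _), mul_comm (Nat.card W)] at h1
    exact Nat.eq_of_mul_eq_mul_left Nat.card_pos h1
  have heq := eq_of_le_of_card_ge hle hcard.le
  refine hvX (mem_subgroupOf.1 (show (⟨v, hv⟩ : coreAt u) ∈ W from heq ▸ mem_centralizer_iff.2 fun c hc => ?_))
  refine Subtype.ext ?_
  have hfix : ∀ x ∈ X, (c : G) * x = x * c := fun x hx =>
    congrArg Subtype.val (mem_centralizer_iff.1 hc ⟨x, hX hx⟩ (mem_subgroupOf.2 hx)).symm
  exact mul_inv_eq_iff_eq_mul.1 ((hu.conj_cases c.2 hv).resolve_right (hcon c c.2 hfix))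

/-- Two orthogonal cores meet inside the core at the product. -/
theorem inf_le_core {s t : G} (hs : Good s) (ht : Good t) (hv : Good (s * t)) (hne : s ≠ t)
    (h : t ∈ coreAt s) : coreAt s ⊓ coreAt t ≤ coreAt (s * t) := by
  obtain ⟨a, ha, hat⟩ := hs.exists_swap h ht.ne_one hne.symm
  intro y hy
  have h1 : a * y * a⁻¹ ∈ coreAt (s * t) := hat ▸ mem_conj hy.2
  have hs' : s ∈ coreAt (s * t) :=
    orth_symm hs hv (mul_mem hs.mem_self h) |> fun hh => hh
  rcases hs.conj_cases ha hy.1 with e | e
  · rwa [e] at h1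
  · rw [e] at h1
    have := mul_mem (inv_mem hs') h1
    rwa [inv_mul_cancel_left] at this

variable {U : Subgroup G}

theorem core_of_generators (hU : IsSingular U) {T : Set G} (hT : closure T = U) (hT1 : (1 : G) ∉ T) :
    (⨅ u ∈ ((U : Set G) \ {1}), coreAt u) = ⨅ t ∈ T, coreAt t := by
  refine le_antisymm ?_ ?_
  · refine le_iInf₂ fun t ht => iInf₂_le t ⟨?_, fun e => hT1 (e ▸ ht)⟩
    exact hT ▸ subset_closure ht
  · refine le_iInf₂ fun u ⟨hu, hu1⟩ => ?_
    have key : ∀ w ∈ closure T, w = 1 ∨ (⨅ t ∈ T, coreAt t) ≤ coreAt w := by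
      intro w hw
      induction hw using closure_induction with
      | mem x hx => exact Or.inr (iInf₂_le x hx)
      | one => exact Or.inl rfl
      | inv x hx ih =>
        have hxU : x ∈ U := hT ▸ hx
        rw [inv_eq_of_mul_eq_one_right (hU.sq x hxU)]
        exact ih
      | mul x y hx hy ihx ihy =>
        rcases ihx with rfl | ihx
        · rw [one_mul]; exact ihy
        rcases ihy with rfl | ihy
        · rw [mul_one]; exact Or.inr ihx
        have hxU : x ∈ U := hT ▸ hx
        have hyU : y ∈ U := hT ▸ hy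
        rcases eq_or_ne x 1 with rfl | x1
        · rw [one_mul]; exact Or.inr ihy
        rcases eq_or_ne y 1 with rfl | y1
        · rw [mul_one]; exact Or.inr ihx
        rcases eq_or_ne x y with rfl | hxy
        · exact Or.inl (hU.sq x hxU)
        have hxy1 : x * y ≠ 1 := fun e => hxy (by
          calc x = x * (y * y) := by rw [hU.sq y hyU, mul_one]
            _ = (x * y) * y := (mul_assoc _ _ _).symm
            _ = y := by rw [e, one_mul])
        exact Or.inr ((le_inf ihx ihy).trans (inf_le_core (hU.good x hxU x1) (hU.good y hyU y1)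
          (hU.good _ (mul_mem hxU hyU) hxy1) hxy (hU.orth x hxU y hyU x1 y1)))
    exact (key u (hT ▸ hu)).resolve_left hu1

theorem le_core_inter (hU : IsSingular U) : U ≤ ⨅ u ∈ ((U : Set G) \ {1}), coreAt u := by
  refine le_iInf₂ fun u hu v hv => ?_
  rcases eq_or_ne v 1 with rfl | v1
  · exact one_mem _
  · exact hU.orth u hu.1 v hv hu.2 v1

theorem join_le_normalizer (hU : IsSingular U) :
    (⨆ u ∈ ((U : Set G) \ {1}), coreAt u) ≤ normalizer (U : Set G) := by
  refine iSup₂_le fun u hu a ha => ?_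
  have hmem : ∀ a ∈ coreAt u, ∀ v ∈ U, a * v * a⁻¹ ∈ U := fun a ha v hv => by
    rcases (hU.good u hu.1 hu.2).conj_cases ha (le_core_inter hU hv |> fun h => (mem_iInf.1 ((mem_iInf.1 h) u)) hu) with e | e <;>
      rw [e]
    exacts [hv, mul_mem hu.1 hv]
  refine mem_normalizer_iff.2 fun v => ⟨fun hv => hmem a ha v hv, fun hv => ?_⟩
  have := hmem a⁻¹ (inv_mem ha) _ hv
  simpa [mul_assoc] using this

theorem core_mem (hU : IsSingular U) {u v : G} (hu : u ∈ U) (hu1 : u ≠ 1) (hv : v ∈ U) : v ∈ coreAt u :=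
  (mem_iInf.1 ((mem_iInf.1 (le_core_inter hU hv)) u)) ⟨hu, hu1⟩

theorem exists_agree (hU : IsSingular U) (φ : U ≃* U) :
    ∃ g ∈ (⨆ u ∈ ((U : Set G) \ {1}), coreAt u), ∀ u : U, g * (u : G) * g⁻¹ = ((φ u : U) : G) := by
  set L := ⨆ u ∈ ((U : Set G) \ {1}), coreAt u
  suffices h : ∀ S : List U, ∃ g ∈ L, ∀ u ∈ closure {x | x ∈ S}, g * (u : G) * g⁻¹ = ((φ u : U) : G) by
    haveI := Fintype.ofFinite U
    obtain ⟨g, hg, h'⟩ := h (Finset.univ : Finset U).toList
    exact ⟨g, hg, fun u => h' u (subset_closure (by simp))⟩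
  intro S
  induction S with
  | nil =>
    refine ⟨1, one_mem _, fun u hu => ?_⟩
    simp only [List.not_mem_nil, Set.ext_iff] at hu
    rw [show {x : U | False} = ∅ from rfl, Subgroup.closure_empty, mem_bot] at hu
    subst hu; simp
  | cons s S ih =>
    obtain ⟨g, hg, hagree⟩ := ih
    have hgU : ∀ v ∈ U, g * v * g⁻¹ ∈ U := fun v hv => (mem_normalizer_iff.1 (join_le_normalizer hU hg) v).1 hv
    by_cases hs : g * (s : G) * g⁻¹ = ((φ s : U) : G)
    · refine ⟨g, hg, fun u hu => ?_⟩
      induction hu using closure_induction with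
      | mem x hx =>
        rcases List.mem_cons.1 hx with rfl | hx
        · exact hs
        · exact hagree x (subset_closure hx)
      | one => simp
      | mul x y _ _ ex ey => rw [map_mul, coe_mul, coe_mul, ← ex, ← ey]; group
      | inv x _ ex => rw [map_inv, coe_inv, coe_inv, ← ex]; group
    -- move the new image onto the wanted one, fixing the old images
    set K := closure {x : U | x ∈ S}
    let X : Subgroup G := (K.map φ.toMonoidHom).map U.subtype
    set v := g * (s : G) * g⁻¹
    set v' := ((φ s : U) : G)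
    have hvU : v ∈ U := hgU _ s.2
    set u := v * v'
    have huU : u ∈ U := mul_mem hvU (φ s).2
    have hu1 : u ≠ 1 := fun e => hs (by
      calc v = v * (v' * v') := by rw [hU.sq v' (φ s).2, mul_one]
        _ = u * v' := (mul_assoc _ _ _).symm
        _ = v' := by rw [e, one_mul])
    have hgood := hU.good u huU hu1
    have hvX : v ∉ X ⊔ zpowers u := by
      intro hv
      have hcomm : ∀ a ∈ U, ∀ b ∈ U, a * b = b * a := fun a ha b hb => by
        have e := hU.sq _ (mul_mem ha hb)
        calc a * b = a * (a * b * (a * b)) * b := by rw [e, mul_one]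
          _ = (a * a) * b * a * (b * b) := by group
          _ = b * a := by rw [hU.sq a ha, hU.sq b hb, one_mul, mul_one]
      have hXU : X ≤ U := map_subtype_le _
      have hsplit : ∀ w ∈ X ⊔ zpowers u, w ∈ X ∨ w * u ∈ X := by
        intro w hw
        rw [sup_eq_closure] at hw
        induction hw using closure_induction with
        | mem x hx =>
          rcases hx with hx | hx
          · exact Or.inl hx
          · obtain ⟨k, rfl⟩ := mem_zpowers_iff.1 hx
            rcases Int.even_or_odd k with ⟨m, rfl⟩ | ⟨m, rfl⟩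
            · left
              rw [← two_mul, zpow_mul, zpow_two, hU.sq u huU, one_zpow]; exact one_mem _
            · right
              rw [zpow_add, zpow_mul, zpow_two, hU.sq u huU, one_zpow, one_mul, zpow_one, hU.sq u huU]
              exact one_mem _
        | one => exact Or.inl (one_mem _)
        | inv x hx ihx =>
          have hxU : x ∈ U := (sup_eq_closure X (zpowers u) ▸ sup_le hXU (zpowers_le.2 huU) : _ ≤ U) hx
          rw [inv_eq_of_mul_eq_one_right (hU.sq x hxU)]; exact ihx
        | mul x y hx hy ihx ihy =>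
          have hyU : y ∈ U := (sup_eq_closure X (zpowers u) ▸ sup_le hXU (zpowers_le.2 huU) : _ ≤ U) hy
          rcases ihx with a | a <;> rcases ihy with b | b
          · exact Or.inl (mul_mem a b)
          · exact Or.inr (by rw [mul_assoc]; exact mul_mem a b)
          · exact Or.inr (by rw [mul_assoc, hcomm y hyU u huU, ← mul_assoc]; exact mul_mem a b)
          · refine Or.inl ?_
            have := mul_mem a b
            rwa [hcomm y hyU u huU, mul_assoc x, ← mul_assoc u u, hU.sq u huU, one_mul] at this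
      rcases hsplit v hv with h | h
      · obtain ⟨w, ⟨k, hk, rfl⟩, hw⟩ := h
        refine hs ?_
        have h1 := hagree k hk
        have : (k : G) = s := by
          have hw' : g * (k : G) * g⁻¹ = g * (s : G) * g⁻¹ := h1.trans hw
          exact mul_left_cancel (mul_right_cancel hw')
        have hks : k = s := Subtype.ext this
        rw [hks] at h1
        exact h1
      · obtain ⟨w, ⟨k, hk, rfl⟩, hw⟩ := h
        have hvu : v * u = v' := by
          show v * (v * v') = v'
          rw [← mul_assoc, hU.sq v hvU, one_mul]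
        have hks : k = s := φ.injective (Subtype.ext (hw.trans hvu))
        exact hs (hagree s (hks ▸ hk))
    obtain ⟨a, ha, hfix, hmove⟩ := exists_move hgood (X := X ⊔ zpowers u)
      (sup_le (fun w hw => core_mem hU huU hu1 (map_subtype_le _ hw)) (zpowers_le.2 hgood.mem_self))
      (mem_sup_right (mem_zpowers u)) (core_mem hU huU hu1 hvU) hvX
    refine ⟨a * g, mul_mem (mem_iSup_of_mem u (mem_iSup_of_mem ⟨huU, hu1⟩ ha)) hg, fun w hw => ?_⟩
    induction hw using closure_induction with
    | mem x hx =>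
      rcases List.mem_cons.1 hx with rfl | hx
      · calc a * g * (x : G) * (a * g)⁻¹ = a * v * a⁻¹ := by
              show _ = a * (g * (x : G) * g⁻¹) * a⁻¹
              group
          _ = u * v := hmove
          _ = v' := by
            show v * v' * v = v'
            have e := hU.sq _ huU
            calc v * v' * v = (v * v') * (v * v') * v'⁻¹ := by group
              _ = v'⁻¹ := by rw [e, one_mul]
              _ = v' := inv_eq_of_mul_eq_one_right (hU.sq v' (φ _).2)
      · have hxK := subset_closure (k := {x : U | x ∈ S}) hx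
        calc a * g * (x : G) * (a * g)⁻¹ = a * (g * x * g⁻¹) * a⁻¹ := by group
          _ = a * ((φ x : U) : G) * a⁻¹ := by rw [hagree x hxK]
          _ = _ := by rw [hfix ((φ x : U) : G) (mem_sup_left ⟨φ x, ⟨x, hxK, rfl⟩, rfl⟩), mul_inv_cancel_right]
    | one => simp
    | mul x y _ _ ex ey => rw [map_mul, coe_mul, coe_mul, ← ex, ← ey]; group
    | inv x _ ex => rw [map_inv, coe_inv, coe_inv, ← ex]; group

theorem trivial_mod (hU : IsSingular U) :
    ∀ g ∈ (⨆ u ∈ ((U : Set G) \ {1}), coreAt u), ∀ x ∈ (⨅ u ∈ ((U : Set G) \ {1}), coreAt u),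
      g * x * g⁻¹ * x⁻¹ ∈ U := by
  intro g hg x hx
  let S : Submonoid G :=
    { carrier := {g | g ∈ normalizer (U : Set G) ∧
        ∀ x ∈ (⨅ u ∈ ((U : Set G) \ {1}), coreAt u), g * x * g⁻¹ * x⁻¹ ∈ U}
      one_mem' := ⟨one_mem _, fun x _ => by simp⟩
      mul_mem' := fun {a b} ha hb => ⟨mul_mem ha.1 hb.1, fun x hx => by
        have h := mul_mem ((mem_normalizer_iff.1 ha.1 _).1 (hb.2 x hx)) (ha.2 x hx)
        rwa [show a * (b * x * b⁻¹ * x⁻¹) * a⁻¹ * (a * x * a⁻¹ * x⁻¹) = a * b * x * (a * b)⁻¹ * x⁻¹ by group] at h⟩ }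
  suffices h : ∀ g ∈ (⨆ u ∈ ((U : Set G) \ {1}), coreAt u), g ∈ S from (h g hg).2 x hx
  intro g hg
  have hsub : ((⨆ u ∈ ((U : Set G) \ {1}), coreAt u) : Subgroup G) ≤
      ({ toSubmonoid := S, inv_mem' := fun {g} hg => by
          obtain ⟨n, hn⟩ := (isOfFinOrder_of_finite g).mem_powers_iff_mem_zpowers.2 (inv_mem (mem_zpowers g))
          have hn' : g ^ n = g⁻¹ := hn
          exact hn' ▸ S.pow_mem hg n } : Subgroup G) := by
    refine iSup₂_le fun u hu a ha => ⟨join_le_normalizer hU (mem_iSup_of_mem u (mem_iSup_of_mem hu ha)), fun x hx => ?_⟩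
    have hxu : x ∈ coreAt u := (mem_iInf.1 ((mem_iInf.1 hx) u)) hu
    rcases (hU.good u hu.1 hu.2).comm_cases ha hxu with e | e <;> rw [e]
    exacts [one_mem _, hu.1]
  exact hsub hg

theorem transitive_coset (hU : IsSingular U) :
    ∀ x ∈ (⨅ u ∈ ((U : Set G) \ {1}), coreAt u), x ∉ U → ∀ u ∈ U,
      ∃ g ∈ (⨆ u ∈ ((U : Set G) \ {1}), coreAt u) ⊓ centralizer (U : Set G), g * x * g⁻¹ = x * u := by
  intro x hx hxU u hu
  rcases eq_or_ne u 1 with rfl | hu1
  · exact ⟨1, one_mem _, by simp⟩
  have hgood := hU.good u hu hu1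
  have hxu : x ∈ coreAt u := (mem_iInf.1 ((mem_iInf.1 hx) u)) ⟨hu, hu1⟩
  obtain ⟨a, ha, hfix, hmove⟩ := exists_move hgood (X := U) (fun v hv => core_mem hU hu hu1 hv) hu hxu hxU
  refine ⟨a, ⟨mem_iSup_of_mem u (mem_iSup_of_mem ⟨hu, hu1⟩ ha), mem_centralizer_iff.2 fun v hv => (hfix v hv).symm⟩, ?_⟩
  rw [hmove, mem_centralizer_singleton_iff.1 (core_le u hxu)]

end CfsgLib.Spor.Singular
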