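/-
Certified generators for stabilizers in `Cfsg.M24` and their exact orbits.
-/
import Cfsg.Agent.Lib.Spor.FamCodes
import Cfsg.Agent.Lib.Spor.MaximalCriterion

namespace CfsgLib.Spor

open Cfsg MulAction
open scoped Pointwise

/-- Straight-line program and levels showing that the closure of `gens` has order at least `N`. -/
structure SlpCert (gens : List ℕ) (N : ℕ) where
  bs : List ℕ
  W : ℕ
  n : ℕ
  ops : ℕ
  targets : List (List ℕ)
  slp : slpCheck (gens.length + 1) n W ops = true
  first : (List.range (gens.length + 1)).map (arrGet 120 W) = idPacked :: gens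
  levels : levelsCheck bs W n targets = true
  size : ((List.range bs.length).map fun k => (targets.getD k []).length).prod = N
  inM24 : gens.all isM24Code = true

theorem SlpCert.eq_closure {gens : List ℕ} {N : ℕ} (c : SlpCert gens N) {H : Subgroup (Equiv.Perm GolayPt)}
    (hgen : ∀ g ∈ gens, permOf g ∈ H) (hH : Nat.card H ≤ N) : H = codesClosure gens :=
  eq_codesClosure c.slp c.first c.levels c.size hgen hH

theorem SlpCert.permOf_mem {gens : List ℕ} {N : ℕ} (c : SlpCert gens N) : ∀ g ∈ gens, permOf g ∈ M24 :=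
  fun g hg => permOf_mem_M24 (List.all_eq_true.1 c.inM24 g hg)

theorem SlpCert.closure_le_M24 {gens : List ℕ} {N : ℕ} (c : SlpCert gens N) : codesClosure gens ≤ M24 :=
  codesClosure_le c.permOf_mem

/-- A stabilizer in `M24` of an object whose orbit has known size. -/
theorem SlpCert.stabilizer_map {β : Type*} [MulAction (Equiv.Perm GolayPt) β] {gens : List ℕ} {N m : ℕ}
    (c : SlpCert gens N) (x : β) (hfix : ∀ g ∈ gens, permOf g • x = x) (horb : (orbit M24 x).ncard = m)
    (hN : m * N = 244823040) : (stabilizer M24 x).map M24.subtype = codesClosure gens := by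
  refine c.eq_closure (fun g hg => (mem_map_stabilizer x _).2 ⟨c.permOf_mem g hg, hfix g hg⟩) ?_
  rw [← card_subgroup_M24]
  have h := Nat.card_congr (orbitProdStabilizerEquivGroup M24 x)
  rw [Nat.card_prod, Nat.card_coe_set_eq, horb, card_M24] at h
  have hm : 0 < m := Nat.pos_of_ne_zero fun h0 => by rw [h0, Nat.zero_mul] at hN; omega
  exact (Nat.eq_of_mul_eq_mul_left hm (h.trans hN.symm)).le

theorem orbit_eq_of_map {β : Type*} [MulAction (Equiv.Perm GolayPt) β] {S : Subgroup M24}
    {K : Subgroup (Equiv.Perm GolayPt)} (h : S.map M24.subtype = K) (y : β) : orbit S y = orbit K y := by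
  subst h
  ext z
  constructor
  · rintro ⟨g, rfl⟩; exact ⟨⟨_, g.1, g.2, rfl⟩, rfl⟩
  · rintro ⟨⟨_, g, hg, rfl⟩, rfl⟩; exact ⟨⟨g, hg⟩, rfl⟩

/-- Segments of an array which are orbits of a closure. -/
structure OrbCert {β : Type*} [MulAction (Equiv.Perm GolayPt) β] (dec : ℕ → β) (gens : List ℕ) where
  act : ℕ → ℕ → ℕ
  tabs : List ℕ
  w : ℕ
  V : ℕ
  P : ℕ
  C : ℕ
  lens : List ℕ
  segs : segsCheck act tabs w V P C 0 lens = true
  acts : ActsAs act gens tabs dec
  inj : Set.InjOn (fun i => dec (arrGet w V i)) (Set.Iio lens.sum)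

variable {β : Type*} [MulAction (Equiv.Perm GolayPt) β] {dec : ℕ → β} {gens : List ℕ}

/-- The value at an index. -/
def OrbCert.val (c : OrbCert dec gens) (i : ℕ) : β := dec (arrGet c.w c.V i)

/-- The first member of a segment. -/
def OrbCert.root (c : OrbCert dec gens) (k : ℕ) : β := c.val (segStart c.lens k)

/-- The members of a segment. -/
def OrbCert.seg (c : OrbCert dec gens) (k : ℕ) : Set β := segSet dec c.w c.V c.lens k

/-- All values. -/
def OrbCert.all (c : OrbCert dec gens) : Set β := c.val '' Set.Iio c.lens.sum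

theorem OrbCert.orbit_root (c : OrbCert dec gens) {k : ℕ} (hk : k < c.lens.length) :
    orbit (codesClosure gens) (c.root k) = c.seg k :=
  orbit_eq_segSet c.segs c.acts hk

theorem OrbCert.ncard_seg (c : OrbCert dec gens) {k : ℕ} (hk : k < c.lens.length) :
    (c.seg k).ncard = c.lens.getD k 0 :=
  CfsgLib.Spor.ncard_segSet c.inj hk

theorem OrbCert.ncard_orbit (c : OrbCert dec gens) {k : ℕ} (hk : k < c.lens.length) :
    (orbit (codesClosure gens) (c.root k)).ncard = c.lens.getD k 0 := by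
  rw [c.orbit_root hk, c.ncard_seg hk]

theorem OrbCert.all_eq_iUnion (c : OrbCert dec gens) :
    c.all = {x | ∃ k < c.lens.length, x ∈ c.seg k} :=
  iUnion_segSet

theorem OrbCert.ncard_all (c : OrbCert dec gens) : c.all.ncard = c.lens.sum := by
  rw [OrbCert.all, show c.val = fun i => dec (arrGet c.w c.V i) from rfl, c.inj.ncard_image,
    ← Finset.coe_Iio, Set.ncard_coe_finset, Nat.card_Iio]

theorem OrbCert.root_mem_seg (c : OrbCert dec gens) {k : ℕ} (hk : k < c.lens.length) : c.root k ∈ c.seg k :=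
  c.orbit_root hk ▸ mem_orbit_self _

/-- An invariant set of the right size containing all roots is the set of all values. -/
theorem OrbCert.eq_all (c : OrbCert dec gens) {U : Set β} (hfin : U.Finite) (hU : U.ncard ≤ c.lens.sum)
    (hroot : ∀ k < c.lens.length, c.root k ∈ U) (hinv : ∀ g ∈ codesClosure gens, ∀ y ∈ U, g • y ∈ U) :
    U = c.all := by
  refine (Set.eq_of_subset_of_ncard_le ?_ (hU.trans c.ncard_all.ge) hfin).symm
  rw [c.all_eq_iUnion]
  rintro x ⟨k, hk, hx⟩
  rw [← c.orbit_root hk] at hx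
  obtain ⟨g, rfl⟩ := hx
  exact hinv g g.2 _ (hroot k hk)

/-- A code of an invariant is constant on each segment and separates segments. -/
def sepCheck (fc : ℕ → ℕ) (w V : ℕ) (lens : List ℕ) (vals : List ℕ) : Bool :=
  decide (vals.length = lens.length) && decide vals.Nodup &&
    (List.range lens.length).all fun k => (List.range (lens.getD k 0)).all fun j =>
      fc (arrGet w V (segStart lens k + j)) == vals.getD k 0

theorem OrbCert.mem_seg_iff (c : OrbCert dec gens) {fc : ℕ → ℕ} {f : β → ℕ} {vals : List ℕ}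
    (hf : ∀ i < c.lens.sum, f (c.val i) = fc (arrGet c.w c.V i))
    (hsep : sepCheck fc c.w c.V c.lens vals = true) {k : ℕ} (hk : k < c.lens.length) {y : β} (hy : y ∈ c.all) :
    y ∈ c.seg k ↔ f y = vals.getD k 0 := by
  simp only [sepCheck, Bool.and_eq_true, decide_eq_true_eq, List.all_eq_true, List.mem_range,
    beq_iff_eq] at hsep
  obtain ⟨⟨hlen, hnd⟩, hconst⟩ := hsep
  have key : ∀ j < c.lens.length, ∀ z ∈ c.seg j, f z = vals.getD j 0 := by
    rintro j hj _ ⟨i, ⟨h1, h2⟩, rfl⟩
    refine (hf i (lt_of_lt_of_le h2 (segStart_add_le c.lens hj))).trans ?_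
    have := hconst j hj (i - segStart c.lens j) (by omega)
    rwa [Nat.add_sub_cancel' h1] at this
  refine ⟨key k hk y, fun h => ?_⟩
  rw [c.all_eq_iUnion] at hy
  obtain ⟨j, hj, hyj⟩ := hy
  have h2 := key j hj y hyj
  rw [h, List.getD_eq_getElem _ _ (hlen ▸ hk), List.getD_eq_getElem _ _ (hlen ▸ hj)] at h2
  exact (hnd.getElem_inj_iff.1 h2) ▸ hyj

/-- Values with the same invariant form one orbit. -/
theorem OrbCert.exists_smul_eq (c : OrbCert dec gens) {fc : ℕ → ℕ} {f : β → ℕ} {vals : List ℕ}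
    (hf : ∀ i < c.lens.sum, f (c.val i) = fc (arrGet c.w c.V i))
    (hsep : sepCheck fc c.w c.V c.lens vals = true) {y y' : β} (hy : y ∈ c.all) (hy' : y' ∈ c.all)
    (h : f y = f y') : ∃ g ∈ codesClosure gens, g • y = y' := by
  have hy0 := hy
  rw [c.all_eq_iUnion] at hy0
  obtain ⟨k, hk, hyk⟩ := hy0
  have h1 := (c.mem_seg_iff hf hsep hk hy).1 hyk
  have h2 := (c.mem_seg_iff hf hsep hk hy').2 (h ▸ h1)
  rw [← c.orbit_root hk] at hyk h2
  obtain ⟨⟨a, ha⟩, rfl⟩ := hyk
  obtain ⟨⟨b, hb⟩, rfl⟩ := h2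
  exact ⟨b * a⁻¹, mul_mem hb (inv_mem ha), by show (b * a⁻¹) • a • c.root k = b • c.root k; rw [mul_smul, inv_smul_smul]⟩

theorem OrbCert.ncard_filter (c : OrbCert dec gens) {fc : ℕ → ℕ} {f : β → ℕ} {vals : List ℕ}
    (hf : ∀ i < c.lens.sum, f (c.val i) = fc (arrGet c.w c.V i))
    (hsep : sepCheck fc c.w c.V c.lens vals = true) {k : ℕ} (hk : k < c.lens.length) :
    {y | y ∈ c.all ∧ f y = vals.getD k 0}.ncard = c.lens.getD k 0 := by
  rw [← c.ncard_seg hk]
  congr 1
  ext y
  refine ⟨fun h => (c.mem_seg_iff hf hsep hk h.1).2 h.2, fun h => ?_⟩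
  have hy : y ∈ c.all := by rw [c.all_eq_iUnion]; exact ⟨k, hk, h⟩
  exact ⟨hy, (c.mem_seg_iff hf hsep hk hy).1 h⟩

/-- Maximality from orbits whose first segment is the object itself. -/
theorem OrbCert.isCoatom_stabilizer (c : OrbCert dec gens) (x : β)
    (hK : (stabilizer M24 x).map M24.subtype = codesClosure gens) (hall : orbit M24 x = c.all)
    (hroot : c.root 0 = x) {m : ℕ} (hlens : c.lens.length = m + 1) (hm : 0 < m) (hone : c.lens.getD 0 0 = 1)
    (hdiv : ∀ I : Finset (Fin m), (1 + ∑ i ∈ I, c.lens.getD ((i : ℕ) + 1) 0) ∣ c.lens.sum →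
      I = ∅ ∨ I = Finset.univ) :
    IsCoatom (stabilizer M24 x) := by
  have hcard : (orbit M24 x).ncard = c.lens.sum := by rw [hall, c.ncard_all]
  have hzero : c.seg 0 = {x} := by
    obtain ⟨z, hz⟩ := Set.ncard_eq_one.1 ((c.ncard_seg (k := 0) (by omega)).trans hone)
    have h := c.root_mem_seg (k := 0) (by omega)
    rw [hroot, hz] at h
    rw [hz, Set.mem_singleton_iff.1 h]
  have hsum : c.lens.sum = 1 + ∑ i : Fin m, c.lens.getD ((i : ℕ) + 1) 0 := by
    rcases hl : c.lens with _ | ⟨a, l⟩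
    · rw [hl] at hlens; simp at hlens
    · rw [hl] at hlens hone
      simp only [List.length_cons, Nat.add_right_cancel_iff] at hlens
      simp only [List.getD_cons_zero] at hone
      subst hlens hone
      rw [List.sum_cons]
      congr 1
      simp only [List.getD_cons_succ]
      rw [← Fin.sum_univ_getElem]
      exact Finset.sum_congr rfl fun i _ => (List.getD_eq_getElem _ _ i.2).symm
  refine isCoatom_stabilizer_of_orbits x hm (fun i => c.root ((i : ℕ) + 1))
    (fun i => c.lens.getD ((i : ℕ) + 1) 0) (fun i => ?_) ?_ (hcard.trans hsum) fun I hI => hdiv I (hsum ▸ hI)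
  · rw [orbit_eq_of_map hK, c.ncard_orbit (by omega)]
  · rw [hall, c.all_eq_iUnion]
    ext y
    simp only [Set.mem_ofPred_eq, Set.mem_union, Set.mem_singleton_iff, Set.mem_iUnion, orbit_eq_of_map hK]
    constructor
    · rintro ⟨k, hk, hy⟩
      rcases k with _ | k
      · rw [hzero] at hy; exact Or.inl hy
      · exact Or.inr ⟨⟨k, by omega⟩, (c.orbit_root hk).symm ▸ hy⟩
    · rintro (rfl | ⟨i, hy⟩)
      · exact ⟨0, by omega, hroot ▸ c.root_mem_seg (k := 0) (by omega)⟩
      · exact ⟨(i : ℕ) + 1, by omega, (c.orbit_root (k := (i : ℕ) + 1) (by omega)) ▸ hy⟩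

end CfsgLib.Spor

namespace CfsgLib.Spor

theorem injOn_ptsArr {V S N : ℕ} (hd : distinctCheck 24 V S N = true) :
    Set.InjOn (fun i => pts (arrGet 24 (arrGet 24 V i) 0)) (Set.Iio N) := by
  have e : (fun i => pts (arrGet 24 (arrGet 24 V i) 0)) = fun i => pts (arrGet 24 V i) := by
    funext i
    congr 1
    simp only [arrGet, Nat.mul_zero, Nat.shiftRight_zero, Nat.and_two_pow_sub_one_eq_mod, Nat.mod_mod]
  rw [e]
  intro i hi j hj h
  exact injOn_of_distinctCheck hd hi hj (eq_of_pts_eq (arrGet_lt _ _ _) (arrGet_lt _ _ _) h)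

theorem pts_arrGet_zero {m : ℕ} (h : m < 2 ^ 24) : pts (arrGet 24 m 0) = pts m := by
  congr 1
  simp only [arrGet, Nat.mul_zero, Nat.shiftRight_zero, Nat.and_two_pow_sub_one_eq_mod, Nat.mod_eq_of_lt h]

end CfsgLib.Spor
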