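/-
Block counts for Steiner systems S(5,8,24).
-/
import Cfsg.Prelude.Def_Sporadic_a
import Mathlib.Data.Finset.Powerset
import Mathlib.Algebra.BigOperators.Group.Finset.Basic

set_option autoImplicit false

namespace CfsgLib.Spor.Steiner

open Cfsg Finset

variable {α : Type*} [Fintype α] [DecidableEq α]

/-- Five-sets between two sets. -/
theorem card_between (s b : Finset α) (hs : s ⊆ b) (h5 : s.card ≤ 5) :
    ((powersetCard 5 b).filter fun F => s ⊆ F).card = (b.card - s.card).choose (5 - s.card) := by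
  rw [← card_sdiff_of_subset hs, ← card_powersetCard]
  refine card_bij' (fun F _ => F \ s) (fun T _ => T ∪ s) ?_ ?_ ?_ ?_
  · intro F hF
    obtain ⟨h1, h2⟩ := mem_filter.1 hF
    obtain ⟨h3, h4⟩ := mem_powersetCard.1 h1
    exact mem_powersetCard.2 ⟨sdiff_subset_sdiff h3 le_rfl, by rw [card_sdiff_of_subset h2, h4]⟩
  · intro T hT
    obtain ⟨h1, h2⟩ := mem_powersetCard.1 hT
    refine mem_filter.2 ⟨mem_powersetCard.2 ⟨union_subset (h1.trans sdiff_subset) hs, ?_⟩, subset_union_right⟩
    rw [card_union_of_disjoint (disjoint_of_subset_left h1 sdiff_disjoint), h2]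
    omega
  · intro F hF
    exact sdiff_union_of_subset (mem_filter.1 hF).2
  · intro T hT
    exact union_sdiff_cancel_right (disjoint_of_subset_left (mem_powersetCard.1 hT).1 sdiff_disjoint)

/-- The number of blocks through a set of at most five points. -/
theorem count_through (hα : Fintype.card α = 24) {B : Finset (Finset α)}
    (hk : ∀ b ∈ B, b.card = 8) (hu : ∀ F : Finset α, F.card = 5 → ∃! b, b ∈ B ∧ F ⊆ b)
    (s : Finset α) (hs : s.card ≤ 5) :
    (B.filter fun b => s ⊆ b).card * (8 - s.card).choose (5 - s.card) = (24 - s.card).choose (5 - s.card) := by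
  have h1 : ∀ b ∈ B.filter (fun b => s ⊆ b),
      ((powersetCard 5 b).filter fun F => s ⊆ F).card = (8 - s.card).choose (5 - s.card) := by
    intro b hb
    obtain ⟨hb1, hb2⟩ := mem_filter.1 hb
    rw [card_between s b hb2 hs, hk b hb1]
  rw [← smul_eq_mul, ← sum_const, ← sum_congr rfl h1, ← hα, ← card_univ, ← card_between s univ (subset_univ _) hs,
    ← card_biUnion]
  · congr 1
    ext F
    simp only [mem_biUnion, mem_filter, mem_powersetCard, subset_univ, true_and]
    constructor
    · rintro ⟨b, -, ⟨-, h5⟩, hsF⟩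
      exact ⟨h5, hsF⟩
    · rintro ⟨h5, hsF⟩
      obtain ⟨b, ⟨hb, hFb⟩, -⟩ := hu F h5
      exact ⟨b, ⟨hb, hsF.trans hFb⟩, ⟨hFb, h5⟩, hsF⟩
  · intro b hb c hc hne
    refine disjoint_left.2 fun F hF hF' => hne ?_
    obtain ⟨hF1, hF5⟩ := mem_powersetCard.1 (mem_filter.1 hF).1
    obtain ⟨hF2, -⟩ := mem_powersetCard.1 (mem_filter.1 hF').1
    exact (hu F hF5).unique ⟨(mem_filter.1 hb).1, hF1⟩ ⟨(mem_filter.1 hc).1, hF2⟩

theorem meet_counts (hα : Fintype.card α = 24) {B : Finset (Finset α)}
    (hk : ∀ b ∈ B, b.card = 8) (hu : ∀ F : Finset α, F.card = 5 → ∃! b, b ∈ B ∧ F ⊆ b)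
    (Y : Finset α) (hY : Y.card = 3) :
    (B.filter fun b => (b ∩ Y).card = 3).card = 21 ∧ (B.filter fun b => (b ∩ Y).card = 2).card = 168 ∧
    (B.filter fun b => (b ∩ Y).card = 1).card = 360 ∧ (B.filter fun b => (b ∩ Y).card = 0).card = 210 := by
  obtain ⟨a, b, c, hab, hac, hbc, rfl⟩ := card_eq_three.1 hY
  have l0 := count_through hα hk hu ∅ (by simp)
  have l1 : ∀ x, (B.filter fun t => x ∈ t).card = 253 := fun x => by
    have := count_through hα hk hu {x} (by simp)
    simp [singleton_subset_iff, Nat.choose] at this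
    omega
  have l2 : ∀ x y, x ≠ y → (B.filter fun t => x ∈ t ∧ y ∈ t).card = 77 := fun x y h => by
    have := count_through hα hk hu {x, y} (by rw [card_pair h]; norm_num)
    simp [card_pair h, insert_subset_iff, Nat.choose] at this
    omega
  have l3 : (B.filter fun t => a ∈ t ∧ b ∈ t ∧ c ∈ t).card = 21 := by
    have := count_through hα hk hu {a, b, c} (by rw [hY]; norm_num)
    simp [hY, insert_subset_iff, Nat.choose] at this
    omega
  simp [Nat.choose] at l0
  have e : ∀ (p : Finset α → Prop) [DecidablePred p], (B.filter p).card = ∑ t ∈ B, if p t then 1 else 0 :=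
    fun p _ => card_filter p B
  have m : ∀ t : Finset α, (t ∩ {a, b, c}).card =
      (if a ∈ t then 1 else 0) + (if b ∈ t then 1 else 0) + (if c ∈ t then 1 else 0) := by
    intro t
    by_cases ha : a ∈ t <;> by_cases hb : b ∈ t <;> by_cases hc : c ∈ t <;>
      simp [ha, hb, hc, inter_comm t, insert_inter_of_mem, insert_inter_of_notMem, singleton_inter_of_mem,
        singleton_inter_of_notMem, hab, hac, hbc]
  have key : ∀ f : Finset α → ℕ, ∀ u v w x : ℕ, (∀ t, f t = u * (if (t ∩ {a, b, c}).card = 3 then 1 else 0) +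
      v * (if (t ∩ {a, b, c}).card = 2 then 1 else 0) + w * (if (t ∩ {a, b, c}).card = 1 then 1 else 0) +
      x * (if (t ∩ {a, b, c}).card = 0 then 1 else 0)) →
      ∑ t ∈ B, f t = u * (B.filter fun t => (t ∩ {a, b, c}).card = 3).card +
        v * (B.filter fun t => (t ∩ {a, b, c}).card = 2).card +
        w * (B.filter fun t => (t ∩ {a, b, c}).card = 1).card +
        x * (B.filter fun t => (t ∩ {a, b, c}).card = 0).card := fun f u v w x hf => by
    simp only [hf, sum_add_distrib, ← mul_sum, e]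
  have k0 := key (fun _ => 1) 1 1 1 1 fun t => by
    rw [m t]; by_cases ha : a ∈ t <;> by_cases hb : b ∈ t <;> by_cases hc : c ∈ t <;> simp [ha, hb, hc]
  have k1 := key (fun t => (if a ∈ t then 1 else 0) + (if b ∈ t then 1 else 0) + (if c ∈ t then 1 else 0)) 3 2 1 0
    fun t => by
    rw [m t]; by_cases ha : a ∈ t <;> by_cases hb : b ∈ t <;> by_cases hc : c ∈ t <;> simp [ha, hb, hc]
  have k2 := key (fun t => (if a ∈ t ∧ b ∈ t then 1 else 0) + (if a ∈ t ∧ c ∈ t then 1 else 0) +
      (if b ∈ t ∧ c ∈ t then 1 else 0)) 3 1 0 0 fun t => by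
    rw [m t]; by_cases ha : a ∈ t <;> by_cases hb : b ∈ t <;> by_cases hc : c ∈ t <;> simp [ha, hb, hc]
  have k3 := key (fun t => if a ∈ t ∧ b ∈ t ∧ c ∈ t then 1 else 0) 1 0 0 0 fun t => by
    rw [m t]; by_cases ha : a ∈ t <;> by_cases hb : b ∈ t <;> by_cases hc : c ∈ t <;> simp [ha, hb, hc]
  simp only [sum_add_distrib, ← e, l1, l2 a b hab, l2 a c hac, l2 b c hbc, l3, sum_const, smul_eq_mul, mul_one, l0] at k0 k1 k2 k3
  omega

end CfsgLib.Spor.Steiner
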