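/-
A Sylow 2-subgroup of a simple group that is an involution centralizer with Frattini subgroup of
order two is dihedral of order eight.
-/
import Cfsg.Agent.Lib.Invol.ZStar
import Cfsg.Agent.Lib.Fusion.Tate
import Cfsg.Agent.Lib.Coprime.PGroupFrattini

set_option autoImplicit false

open Subgroup
open scoped commutatorElement Pointwise

namespace CfsgLib.Spor.SylowFrattiniCentre

variable {L : Type*} [Group L] [Finite L] {z : L} {R : Sylow 2 L}

/-- A subgroup of index two through a given subgroup containing the squares, missing a given element. -/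
theorem exists_half {S K : Subgroup L} (hKS : K ≤ S) (hsq : ∀ a ∈ S, a * a ∈ K) {e : L} (heS : e ∈ S)
    (heK : e ∉ K) :
    ∃ M : Subgroup L, K ≤ M ∧ M ≤ S ∧ e ∉ M ∧ (∀ a ∈ S, a ∈ M ∨ e⁻¹ * a ∈ M) ∧ M.relIndex S = 2 := by
  obtain ⟨M, ⟨hKM, hMS, heM⟩, hmax⟩ : ∃ M, (K ≤ M ∧ M ≤ S ∧ e ∉ M) ∧
      ∀ N, (K ≤ N ∧ N ≤ S ∧ e ∉ N) → M ≤ N → N ≤ M := by
    obtain ⟨M, hM⟩ := (Set.toFinite {M : Subgroup L | K ≤ M ∧ M ≤ S ∧ e ∉ M}).exists_maximal ⟨K, le_rfl, hKS, heK⟩
    exact ⟨M, hM.1, fun N hN h => hM.2 hN h⟩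
  have hcomm : ∀ a ∈ S, ∀ b ∈ S, a * b * a⁻¹ * b⁻¹ ∈ K := fun a ha b hb => by
    have e1 : a * b * a⁻¹ * b⁻¹ = (a * a) * ((a⁻¹ * b) * (a⁻¹ * b)) * (b⁻¹ * b⁻¹) := by group
    rw [e1]
    exact mul_mem (mul_mem (hsq a ha) (hsq _ (mul_mem (inv_mem ha) hb))) (hsq _ (inv_mem hb))
  have hdich : ∀ a ∈ S, a ∈ M ∨ e⁻¹ * a ∈ M := by
    intro a ha
    by_contra hcon
    rw [not_or] at hcon
    let N : Subgroup L :=
      { carrier := {x | x ∈ M ∨ a⁻¹ * x ∈ M}
        one_mem' := Or.inl (one_mem M)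
        mul_mem' := by
          rintro x y (hx | hx) (hy | hy)
          · exact Or.inl (mul_mem hx hy)
          · refine Or.inr ?_
            rw [show a⁻¹ * (x * y) = (a⁻¹ * x * a⁻¹⁻¹ * x⁻¹) * x * (a⁻¹ * y) by group]
            exact mul_mem (mul_mem (hKM (hcomm _ (inv_mem ha) _ (hMS hx))) hx) hy
          · refine Or.inr ?_
            rw [← mul_assoc]
            exact mul_mem hx hy
          · refine Or.inl ?_
            rw [show x * y = (a * (a⁻¹ * x) * a⁻¹ * (a⁻¹ * x)⁻¹) * (a⁻¹ * x) * (a * a) * (a⁻¹ * y) by group]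
            exact mul_mem (mul_mem (mul_mem (hKM (hcomm _ ha _ (hMS hx))) hx) (hKM (hsq a ha))) hy
        inv_mem' := by
          rintro x (hx | hx)
          · exact Or.inl (inv_mem hx)
          · refine Or.inr ?_
            have hxS : x ∈ S := by
              have := mul_mem ha (hMS hx)
              rwa [mul_inv_cancel_left] at this
            rw [show a⁻¹ * x⁻¹ = (a⁻¹ * (a⁻¹ * x)⁻¹ * a⁻¹⁻¹ * (a⁻¹ * x)) * (a⁻¹ * x)⁻¹ * (a⁻¹ * a⁻¹) by group]
            refine mul_mem (mul_mem (hKM ?_) (inv_mem hx)) (hKM (hsq _ (inv_mem ha)))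
            simpa only [inv_inv] using hcomm _ (inv_mem ha) _ (inv_mem (hMS hx)) }
    have hle : N ≤ M := hmax N ⟨hKM.trans fun x hx => Or.inl hx, fun x hx => by
        rcases hx with hx | hx
        · exact hMS hx
        · have := mul_mem ha (hMS hx)
          rwa [mul_inv_cancel_left] at this, fun he => by
        rcases he with he | he
        · exact heM he
        · refine hcon.2 ?_
          rw [show e⁻¹ * a = (a⁻¹ * e)⁻¹ by group]
          exact inv_mem he⟩ (fun x hx => Or.inl hx)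
    exact hcon.1 (hle (Or.inr (by rw [inv_mul_cancel]; exact one_mem M)))
  refine ⟨M, hKM, hMS, heM, hdich, ?_⟩
  rw [relIndex, index_eq_two_iff]
  refine ⟨⟨e, heS⟩, fun b => ?_⟩
  rw [mem_subgroupOf, mem_subgroupOf]
  show Xor' ((b : L) * e ∈ M) ((b : L) ∈ M)
  by_cases hb : (b : L) ∈ M
  · exact Or.inr ⟨hb, fun h => heM ((mul_mem_cancel_left hb).1 h)⟩
  · refine Or.inl ⟨?_, hb⟩
    have h1 := (hdich _ b.2).resolve_left hb
    rw [show (b : L) * e = (e * (e⁻¹ * b) * e⁻¹ * (e⁻¹ * b)⁻¹) * (e⁻¹ * b) * (e * e) by group]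
    exact mul_mem (mul_mem (hKM (hcomm _ heS _ (hMS h1))) h1) (hKM (hsq e heS))

/-- The hypotheses. -/
structure Data (R : Sylow 2 L) (z : L) : Prop where
  simple : IsSimpleGroup L
  nonab : ∃ a b : L, a * b ≠ b * a
  ord : orderOf z = 2
  cent : (R : Subgroup L) = centralizer ({z} : Set L)
  sq : ∀ a ∈ R, a * a = 1 ∨ a * a = z
  comm : ∀ a ∈ R, ∀ b ∈ R, a * b * a⁻¹ * b⁻¹ = 1 ∨ a * b * a⁻¹ * b⁻¹ = z
  exists_sq : ∃ a ∈ R, a * a = z

namespace Data

variable (h : Data R z)
include h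

theorem mem_iff {a : L} : a ∈ R ↔ a * z = z * a := by
  show a ∈ (R : Subgroup L) ↔ _
  rw [h.cent, mem_centralizer_singleton_iff]

theorem z_mem : z ∈ R := h.mem_iff.2 rfl

theorem z_sq : z * z = 1 := by
  rw [← pow_two, ← h.ord, pow_orderOf_eq_one]

theorem z_ne : z ≠ 1 := by
  intro e
  have := h.ord
  rw [e, orderOf_one] at this
  omega

theorem normal_cases {N : Subgroup L} (hN : N.Normal) : N = ⊥ ∨ N = ⊤ :=
  h.simple.eq_bot_or_eq_top_of_normal N hN

/-- Whatever maps `R` into itself lies in `R`. -/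
theorem mem_of_conj {g : L} (hg : ∀ a ∈ R, g * a * g⁻¹ ∈ R) : g ∈ R := by
  obtain ⟨a, ha, haa⟩ := h.exists_sq
  have e : g * a * g⁻¹ * (g * a * g⁻¹) = g * z * g⁻¹ := by rw [← haa]; group
  rcases h.sq _ (hg a ha) with e' | e'
  · exact absurd (conj_eq_one_iff.1 (e.symm.trans e')) h.z_ne
  · exact h.mem_iff.2 (mul_inv_eq_iff_eq_mul.1 (e.symm.trans e'))

/-- Two images of `R` in a subgroup are conjugate there. -/
theorem sylow_conj {H : Subgroup L} {a b : L} (ha : ∀ x ∈ R, a * x * a⁻¹ ∈ H) (hb : ∀ x ∈ R, b * x * b⁻¹ ∈ H) :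
    ∃ c ∈ H, b⁻¹ * c * a ∈ R := by
  haveI : Fact (Nat.Prime 2) := ⟨Nat.prime_two⟩
  have le : ∀ {g : L}, (∀ x ∈ R, g * x * g⁻¹ ∈ H) → ((g • R : Sylow 2 L) : Subgroup L) ≤ H := by
    intro g hg x hx
    rw [Sylow.coe_subgroup_smul] at hx
    obtain ⟨y, hy, rfl⟩ := hx
    exact hg y hy
  obtain ⟨c, hc⟩ := MulAction.exists_smul_eq H ((a • R).subtype (le ha)) ((b • R).subtype (le hb))
  refine ⟨c, c.2, h.mem_of_conj fun x hx => ?_⟩
  have hax : (⟨a * x * a⁻¹, ha x hx⟩ : H) ∈ (a • R).subtype (le ha) := by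
    show a * x * a⁻¹ ∈ ((a • R : Sylow 2 L) : Subgroup L)
    rw [Sylow.coe_subgroup_smul]
    exact ⟨x, hx, rfl⟩
  have hm : c * ⟨a * x * a⁻¹, ha x hx⟩ * c⁻¹ ∈ ((b • R).subtype (le hb) : Subgroup H) := by
    rw [← hc, Sylow.coe_subgroup_smul]
    exact ⟨_, hax, rfl⟩
  have hm' : (c : L) * (a * x * a⁻¹) * (c : L)⁻¹ ∈ ((b • R : Sylow 2 L) : Subgroup L) := hm
  rw [Sylow.coe_subgroup_smul] at hm'
  obtain ⟨y, hy, hye⟩ := hm'
  have e : y = b⁻¹ * c * a * x * (b⁻¹ * c * a)⁻¹ := by
    have hye' : b * y * b⁻¹ = (c : L) * (a * x * a⁻¹) * (c : L)⁻¹ := hye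
    calc y = b⁻¹ * (b * y * b⁻¹) * b := by group
      _ = _ := by rw [hye']; group
  rw [← e]
  exact hy

/-- Central elements of `R` conjugate in `L` are equal. -/
theorem central_conj {e y g : L} (he : ∀ r ∈ R, r * e = e * r) (hy : ∀ r ∈ R, r * y = y * r)
    (hg : g * e * g⁻¹ = y) : y = e := by
  obtain ⟨c, hc, hcg⟩ := h.sylow_conj (H := centralizer ({y} : Set L)) (a := g) (b := 1)
    (fun x hx => mem_centralizer_singleton_iff.2 (by
      rw [← hg]
      calc g * x * g⁻¹ * (g * e * g⁻¹) = g * (x * e) * g⁻¹ := by group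
        _ = _ := by rw [he x hx]; group))
    (fun x hx => by simpa using mem_centralizer_singleton_iff.2 (hy x hx))
  have h1 := he _ hcg
  rw [inv_one, one_mul] at h1
  have hc' := mem_centralizer_singleton_iff.1 hc
  calc y = c * y * c⁻¹ := by rw [hc']; group
    _ = c * g * e * (c * g)⁻¹ := by rw [← hg]; group
    _ = e := by rw [h1]; group

theorem nonab_R : ∃ a ∈ R, ∃ b ∈ R, a * b * a⁻¹ * b⁻¹ = z := by
  haveI : Fact (Nat.Prime 2) := ⟨Nat.prime_two⟩
  by_contra hcon
  push Not at hcon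
  have hab : ∀ a ∈ R, ∀ b ∈ R, a * b = b * a := fun a ha b hb =>
    mul_inv_eq_iff_eq_mul.1 (mul_inv_eq_one.1 ((h.comm a ha b hb).resolve_right (hcon a ha b hb)))
  have hP : normalizer ((R : Subgroup L) : Set L) ≤ centralizer ((R : Subgroup L) : Set L) := fun n hn =>
    mem_centralizer_iff.2 fun b hb => hab b hb n (h.mem_of_conj fun a ha => (mem_normalizer_iff.1 hn a).1 ha)
  have hc := MonoidHom.ker_transferSylow_isComplement' R hP
  rcases h.normal_cases (MonoidHom.transferSylow R hP).normal_ker with e | e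
  · rw [e, isComplement'_bot_left] at hc
    obtain ⟨a, b, hne⟩ := h.nonab
    exact hne (hab a (hc ▸ mem_top a : a ∈ (R : Subgroup L)) b (hc ▸ mem_top b : b ∈ (R : Subgroup L)))
  · rw [e, isComplement'_top_left] at hc
    exact h.z_ne (mem_bot.1 (hc ▸ h.z_mem))

theorem exists_conj : ∃ g : L, g * z * g⁻¹ ∈ R ∧ g * z * g⁻¹ ≠ z := by
  by_contra hcon
  push Not at hcon
  have hz := CfsgLib.Invol.zstar_of_weakly_closed R h.ord fun g hg => hcon g hg
  have hcore : Cfsg.pPrimeCore 2 L = ⊥ := by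
    refine (h.normal_cases (inferInstance : (Cfsg.pPrimeCore 2 L).Normal)).resolve_right fun e => ?_
    exact CfsgLib.Invol.notMem_pPrimeCore h.ord (e ▸ mem_top z)
  have hcen : z ∈ center L := mem_center_iff.2 fun g => by
    have := hz g
    rw [hcore, mem_bot] at this
    exact (mul_inv_eq_iff_eq_mul.1 (mul_inv_eq_one.1 this)).symm
  rcases h.normal_cases (inferInstance : (center L).Normal) with e | e
  · rw [e, mem_bot] at hcen; exact h.z_ne hcen
  · obtain ⟨a, b, hne⟩ := h.nonab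
    exact hne (mem_center_iff.1 (e ▸ mem_top b : b ∈ center L) a)

/-- For a conjugate `w ≠ z` in `R` the centralizer of `w` in `R` is elementary abelian. -/
theorem conj_facts {g w : L} (hg : g * z * g⁻¹ = w) (hw : w ∈ R) (hne : w ≠ z) :
    (¬ ∀ r ∈ R, r * w = w * r) ∧
      ∀ a ∈ R, a * w = w * a → a * a = 1 ∧ ∀ b ∈ R, b * w = w * b → a * b = b * a := by
  refine ⟨fun hc => hne (h.central_conj (fun r hr => h.mem_iff.1 hr) hc hg), fun a ha haw => ?_⟩
  have hback : ∀ x : L, x * w = w * x → g⁻¹ * x * g ∈ R := fun x hx => h.mem_iff.2 (by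
    rw [← hg] at hx
    calc g⁻¹ * x * g * z = g⁻¹ * (x * (g * z * g⁻¹)) * g := by group
      _ = g⁻¹ * ((g * z * g⁻¹) * x) * g := by rw [hx]
      _ = z * (g⁻¹ * x * g) := by group)
  have only : ∀ x : L, (x = 1 ∨ x = z) → (g⁻¹ * x * g = 1 ∨ g⁻¹ * x * g = z) → x = 1 := by
    intro x h1 h2
    rcases h1 with e1 | e1
    · exact e1
    subst x
    rcases h2 with e | e
    · exact absurd (by calc z = g * (g⁻¹ * z * g) * g⁻¹ := by group
                            _ = 1 := by rw [e]; group) h.z_ne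
    · exact absurd (by calc w = g * z * g⁻¹ := hg.symm
                            _ = g * (g⁻¹ * z * g) * g⁻¹ := by rw [e]
                            _ = z := by group) hne
  refine ⟨only _ (h.sq a ha) ?_, fun b hb hbw => ?_⟩
  · have := h.sq _ (hback a haw)
    rwa [show g⁻¹ * a * g * (g⁻¹ * a * g) = g⁻¹ * (a * a) * g by group] at this
  · refine mul_inv_eq_iff_eq_mul.1 (mul_inv_eq_one.1 (only _ (h.comm a ha b hb) ?_))
    have := h.comm _ (hback a haw) _ (hback b hbw)
    rwa [show g⁻¹ * a * g * (g⁻¹ * b * g) * (g⁻¹ * a * g)⁻¹ * (g⁻¹ * b * g)⁻¹ = g⁻¹ * (a * b * a⁻¹ * b⁻¹) * g by group] at this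

/-- Two elements of `R` not commuting with `x` have product commuting with `x`. -/
theorem comm_mul {x a b : L} (hx : x ∈ R) (ha : a ∈ R) (hb : b ∈ R) (hax : a * x ≠ x * a) (hbx : b * x ≠ x * b) :
    a * b * x = x * (a * b) := by
  have e : ∀ c ∈ R, c * x ≠ x * c → c * x = z * (x * c) := fun c hc hcx => by
    rcases h.comm c hc x hx with e | e
    · exact absurd (mul_inv_eq_iff_eq_mul.1 (mul_inv_eq_one.1 e)) hcx
    · rw [← e]; group
  calc a * b * x = a * (b * x) := mul_assoc _ _ _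
    _ = a * z * x * b := by rw [e b hb hbx]; group
    _ = z * (a * x) * b := by rw [h.mem_iff.1 ha]; group
    _ = z * z * (x * (a * b)) := by rw [e a ha hax]; group
    _ = _ := by rw [h.z_sq, one_mul]

/-- The conjugates of `z` in the centralizer of one of them. -/
theorem same_four {g g' w w' : L} (hg : g * z * g⁻¹ = w) (hg' : g' * z * g'⁻¹ = w') (hw : w ∈ R) (hw' : w' ∈ R)
    (hne : w ≠ z) (hne' : w' ≠ z) (hc : w * w' = w' * w) : w' = w ∨ w' = z * w := by
  obtain ⟨hnc, hel⟩ := h.conj_facts hg hw hne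
  obtain ⟨hnc', hel'⟩ := h.conj_facts hg' hw' hne'
  by_cases hww : w' = w
  · exact Or.inl hww
  refine Or.inr ?_
  have ww : w * w = 1 := (hel w hw rfl).1
  -- the product is central in R
  have hu : ∀ r ∈ R, r * (w' * w) = w' * w * r := by
    intro r hr
    by_cases hrw : r * w = w * r
    · have := (hel r hr hrw).2 w' hw' hc.symm
      calc r * (w' * w) = r * w' * w := by group
        _ = w' * (r * w) := by rw [this]; group
        _ = _ := by rw [hrw]; group
    · have hrw' : r * w' ≠ w' * r := fun e => hrw ((hel' r hr e).2 w hw hc)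
      have := h.comm_mul hr hw' hw (fun e => hrw' e.symm) (fun e => hrw e.symm)
      exact this.symm
  -- an element of C(w) moving w'
  obtain ⟨q, hqw, hqw'⟩ : ∃ q : L, q * w = w * q ∧ q * w' ≠ w' * q := by
    by_contra hcon
    push Not at hcon
    refine hww (?_ : w' = w)
    have hconj : ∀ r ∈ R, (g'⁻¹ * g) * r * (g'⁻¹ * g)⁻¹ ∈ R := fun r hr => h.mem_iff.2 (by
      have h1 : g * r * g⁻¹ * w = w * (g * r * g⁻¹) := by
        rw [← hg]
        calc g * r * g⁻¹ * (g * z * g⁻¹) = g * (r * z) * g⁻¹ := by group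
          _ = _ := by rw [h.mem_iff.1 hr]; group
      have h2 := hcon _ h1
      rw [← hg'] at h2
      calc g'⁻¹ * g * r * (g'⁻¹ * g)⁻¹ * z = g'⁻¹ * (g * r * g⁻¹ * (g' * z * g'⁻¹)) * g' := by group
        _ = g'⁻¹ * ((g' * z * g'⁻¹) * (g * r * g⁻¹)) * g' := by rw [h2]
        _ = _ := by group)
    have := h.mem_iff.1 (h.mem_of_conj hconj)
    rw [← hg, ← hg']
    calc g' * z * g'⁻¹ = g' * (z * (g'⁻¹ * g)) * g⁻¹ := by group
      _ = g' * ((g'⁻¹ * g) * z) * g⁻¹ := by rw [this]
      _ = g * z * g⁻¹ := by group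
  -- it moves w' to w' w
  have hback : ∀ x : L, x * w = w * x → g⁻¹ * x * g ∈ R := fun x hx => h.mem_iff.2 (by
    rw [← hg] at hx
    calc g⁻¹ * x * g * z = g⁻¹ * (x * (g * z * g⁻¹)) * g := by group
      _ = g⁻¹ * ((g * z * g⁻¹) * x) * g := by rw [hx]
      _ = z * (g⁻¹ * x * g) := by group)
  have hmove : q * w' * q⁻¹ = w' * w := by
    rcases h.comm _ (hback q hqw) _ (hback w' hc.symm) with e | e
    · exfalso
      refine hqw' (mul_inv_eq_iff_eq_mul.1 (mul_inv_eq_one.1 ?_))
      calc q * w' * q⁻¹ * w'⁻¹ = g * (g⁻¹ * q * g * (g⁻¹ * w' * g) * (g⁻¹ * q * g)⁻¹ * (g⁻¹ * w' * g)⁻¹) * g⁻¹ := by group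
        _ = 1 := by rw [e]; group
    · calc q * w' * q⁻¹ = g * (g⁻¹ * q * g * (g⁻¹ * w' * g) * (g⁻¹ * q * g)⁻¹ * (g⁻¹ * w' * g)⁻¹) * g⁻¹ * w' := by group
        _ = w * w' := by rw [e, hg]
        _ = _ := hc
  have := h.central_conj (fun r hr => h.mem_iff.1 hr) hu (g := q * g') (by rw [← hmove, ← hg']; group)
  calc w' = w' * w * w := by rw [mul_assoc, ww, mul_one]
    _ = z * w := by rw [this]

/-- Conjugates of `z` span, with `z`, at most a dihedral group meeting the centre in `⟨z⟩`. -/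
theorem centre_small {e : L} (he : e ∈ R) (hec : ∀ r ∈ R, r * e = e * r) : e = 1 ∨ e = z := by
  classical
  obtain ⟨g₁, hw1, hne1⟩ := h.exists_conj
  set w₁ := g₁ * z * g₁⁻¹ with hw₁
  clear_value w₁
  obtain ⟨hnc1, hel1⟩ := h.conj_facts hw₁.symm hw1 hne1
  by_contra hcon
  rw [not_or] at hcon
  have he2 : e * e = 1 := (hel1 e he (hec w₁ hw1).symm).1
  -- a second generator
  obtain ⟨w₂, hw2, hall⟩ : ∃ w₂, w₂ ∈ R ∧ (w₂ = z ∨ (w₂ * w₁ ≠ w₁ * w₂ ∧ w₂ * w₂ = 1)) ∧
      ∀ g : L, g * z * g⁻¹ ∈ R → g * z * g⁻¹ ∈ closure ({z, w₁, w₂} : Set L) := by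
    have cl : ∀ w₂ : L, ∀ x, x = z ∨ x = w₁ ∨ x = w₂ → x ∈ closure ({z, w₁, w₂} : Set L) := fun w₂ x hx =>
      subset_closure (by simpa using hx)
    by_cases hex : ∃ g : L, g * z * g⁻¹ ∈ R ∧ g * z * g⁻¹ * w₁ ≠ w₁ * (g * z * g⁻¹)
    · obtain ⟨g₂, hg2, hnc⟩ := hex
      have hne2 : g₂ * z * g₂⁻¹ ≠ z := fun e => hnc (by rw [e]; exact (h.mem_iff.1 hw1).symm)
      refine ⟨_, hg2, Or.inr ⟨hnc, ((h.conj_facts rfl hg2 hne2).2 _ hg2 rfl).1⟩, fun g hgR => ?_⟩
      by_cases hz : g * z * g⁻¹ = z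
      · exact cl _ _ (Or.inl hz)
      have hA : ∀ {g' w}, g' * z * g'⁻¹ = w → w ∈ R → w ≠ z → w * (g * z * g⁻¹) = g * z * g⁻¹ * w →
          g * z * g⁻¹ = w ∨ g * z * g⁻¹ = z * w := fun hg' hw hwz hc => h.same_four hg' rfl hw hgR hwz hz hc
      by_cases h1 : w₁ * (g * z * g⁻¹) = g * z * g⁻¹ * w₁
      · rcases hA hw₁.symm hw1 hne1 h1 with e | e <;> rw [e]
        · exact cl _ _ (Or.inr (Or.inl rfl))
        · exact mul_mem (cl _ _ (Or.inl rfl)) (cl _ _ (Or.inr (Or.inl rfl)))
      by_cases h2 : g₂ * z * g₂⁻¹ * (g * z * g⁻¹) = g * z * g⁻¹ * (g₂ * z * g₂⁻¹)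
      · rcases hA rfl hg2 hne2 h2 with e | e <;> rw [e]
        · exact cl _ _ (Or.inr (Or.inr rfl))
        · exact mul_mem (cl _ _ (Or.inl rfl)) (cl _ _ (Or.inr (Or.inr rfl)))
      exfalso
      have hp := h.comm_mul hgR hw1 hg2 h1 h2
      have hgg := ((h.conj_facts rfl hgR hz).2 _ (mul_mem hw1 hg2) hp).1
      refine hnc ?_
      have ww : w₁ * w₁ = 1 := (hel1 w₁ hw1 rfl).1
      have w22 := ((h.conj_facts rfl hg2 hne2).2 _ hg2 rfl).1
      calc g₂ * z * g₂⁻¹ * w₁ = (g₂ * z * g₂⁻¹)⁻¹ * w₁⁻¹ := by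
            rw [inv_eq_of_mul_eq_one_right w22, inv_eq_of_mul_eq_one_right ww]
        _ = (w₁ * (g₂ * z * g₂⁻¹))⁻¹ := by group
        _ = w₁ * (g₂ * z * g₂⁻¹) := inv_eq_of_mul_eq_one_right hgg
    · push Not at hex
      refine ⟨z, h.z_mem, Or.inl rfl, fun g hgR => ?_⟩
      by_cases hz : g * z * g⁻¹ = z
      · exact cl _ _ (Or.inl hz)
      rcases h.same_four hw₁.symm rfl hw1 hgR hne1 hz (hex g hgR).symm with e | e <;> rw [e]
      · exact cl _ _ (Or.inr (Or.inl rfl))
      · exact mul_mem (cl _ _ (Or.inl rfl)) (cl _ _ (Or.inr (Or.inl rfl)))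
  -- the group they generate
  set K := closure ({z, w₁, w₂} : Set L)
  have hKR : K ≤ (R : Subgroup L) := (closure_le _).2 (by
    rintro x (rfl | rfl | rfl)
    · exact h.z_mem
    · exact hw1
    · exact hw2)
  obtain ⟨hw2', hall⟩ := hall
  have heK : e ∉ K := by
    -- every element of K is z^i, z^i w₁, z^i w₂ or z^i w₁ w₂
    have zc : ∀ a ∈ R, a * z = z * a := fun a ha => h.mem_iff.1 ha
    have ww : w₁ * w₁ = 1 := (hel1 w₁ hw1 rfl).1
    have w22 : w₂ * w₂ = 1 := by rcases hw2' with rfl | ⟨-, e'⟩; exacts [h.z_sq, e']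
    let C4 : Set L := {x | ∃ i j k : ℕ, x = z ^ i * w₁ ^ j * w₂ ^ k}
    have flip : ∃ i : ℕ, w₂ * w₁ = z ^ i * (w₁ * w₂) := by
      rcases h.comm w₂ hw2 w₁ hw1 with e' | e'
      · exact ⟨0, by rw [pow_zero, one_mul]; exact mul_inv_eq_iff_eq_mul.1 (mul_inv_eq_one.1 e')⟩
      · exact ⟨1, by rw [pow_one, ← e']; group⟩
    obtain ⟨fi, hfi⟩ := flip
    have zpc : ∀ (i : ℕ), ∀ a ∈ R, a * z ^ i = z ^ i * a := fun i a ha => (Commute.pow_right (zc a ha) i).eq
    have step : ∀ x ∈ C4, ∀ s ∈ ({z, w₁, w₂} : Set L), x * s ∈ C4 := by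
      rintro _ ⟨i, j, k, rfl⟩ s hs
      have hkR : w₂ ^ k ∈ R := pow_mem hw2 k
      have hjR : w₁ ^ j ∈ R := pow_mem hw1 j
      simp only [Set.mem_insert_iff, Set.mem_singleton_iff] at hs
      rcases hs with hs | hs | hs <;> rw [hs]
      · exact ⟨i + 1, j, k, by
          rw [mul_assoc _ (w₂ ^ k), zc _ hkR, ← mul_assoc, mul_assoc _ (w₁ ^ j), zc _ hjR, ← mul_assoc, ← pow_succ]⟩
      · have hk : ∀ k : ℕ, ∃ m : ℕ, w₂ ^ k * w₁ = z ^ m * (w₁ * w₂ ^ k) := by
          intro k
          induction k with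
          | zero => exact ⟨0, by simp⟩
          | succ k ih =>
            obtain ⟨m, hm⟩ := ih
            refine ⟨fi + m, ?_⟩
            calc w₂ ^ (k + 1) * w₁ = w₂ ^ k * (w₂ * w₁) := by rw [pow_succ, mul_assoc]
              _ = w₂ ^ k * z ^ fi * (w₁ * w₂) := by rw [hfi, mul_assoc]
              _ = z ^ fi * (w₂ ^ k * w₁) * w₂ := by rw [zpc fi _ (pow_mem hw2 k)]; group
              _ = _ := by rw [hm, pow_add, pow_succ]; group
        obtain ⟨m, hm⟩ := hk k
        refine ⟨i + m, j + 1, k, ?_⟩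
        rw [mul_assoc _ (w₂ ^ k), hm, ← mul_assoc, mul_assoc _ (w₁ ^ j), zpc m _ hjR,
          ← mul_assoc (z ^ i), ← pow_add, pow_succ]
        simp only [mul_assoc]
      · exact ⟨i, j, k + 1, by rw [pow_succ]; group⟩
    intro heK
    have key : ∀ u : L, u * u = 1 → u⁻¹ = u := fun u hu => inv_eq_of_mul_eq_one_right hu
    have hK4 : ∀ x ∈ K, x ∈ C4 := by
      intro x hx
      rw [show K = closure ({z, w₁, w₂} : Set L) from rfl, ← mem_toSubmonoid, closure_toSubmonoid] at hx
      induction hx using Submonoid.closure_induction_right with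
      | one => exact ⟨0, 0, 0, by simp⟩
      | mul_right y _ s hs ih =>
        rcases hs with hs | hs
        · exact step y ih s hs
        · rw [Set.mem_inv] at hs
          refine step y ih s ?_
          rcases hs with e' | e' | e'
          · exact Or.inl (by rw [← inv_inv s, e', key z h.z_sq])
          · exact Or.inr (Or.inl (by rw [← inv_inv s, e', key w₁ ww]))
          · exact Or.inr (Or.inr (by rw [Set.mem_singleton_iff.1 e' |> inv_eq_iff_eq_inv.1, key w₂ w22]; rfl))
    have hin : e ∈ C4 := hK4 e heK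
    obtain ⟨i, j, k, hijk⟩ := hin
    have par : ∀ (x : L) (n : ℕ), x * x = 1 → x ^ n = 1 ∨ x ^ n = x := fun x n hx => by
      rcases Nat.even_or_odd n with ⟨m, rfl⟩ | ⟨m, rfl⟩
      · exact Or.inl (by rw [← two_mul, pow_mul, pow_two, hx, one_pow])
      · exact Or.inr (by rw [pow_succ, pow_mul, pow_two, hx, one_pow, one_mul])
    -- test with w₁, then with w₂
    have hzi : ∀ r ∈ R, r * (w₁ ^ j * w₂ ^ k) = w₁ ^ j * w₂ ^ k * r := fun r hr => by
      have := hec r hr
      rw [hijk, mul_assoc, ← mul_assoc, zpc i r hr, mul_assoc, mul_assoc] at this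
      exact mul_left_cancel this
    have hk1 : w₂ ^ k = 1 ∨ w₂ = z := by
      rcases par w₂ k w22 with hk | hk
      · exact Or.inl hk
      · refine Or.inr (hw2'.resolve_right fun hh => hh.1 ?_)
        have := hzi w₁ hw1
        rw [hk, ← mul_assoc, ← pow_succ', pow_succ, mul_assoc, mul_assoc] at this
        exact (mul_left_cancel this).symm
    have hj1 : ∀ r ∈ R, r * w₁ ^ j = w₁ ^ j * r := fun r hr => by
      rcases hk1 with hk | hk
      · have := hzi r hr; rwa [hk, mul_one] at this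
      · have := hzi r hr
        rw [hk, zpc k _ (pow_mem hw1 j), ← mul_assoc, zpc k r hr, mul_assoc, mul_assoc] at this
        exact mul_left_cancel this
    have hj : w₁ ^ j = 1 := (par w₁ j ww).resolve_right fun e' => hnc1 (fun r hr => e' ▸ hj1 r hr)
    rw [hj, mul_one] at hijk
    have hz2 : ∀ n : ℕ, z ^ n = 1 ∨ z ^ n = z := fun n => par z n h.z_sq
    rcases hk1 with hk | hk
    · rw [hk, mul_one] at hijk
      rcases hz2 i with e' | e'
      · exact hcon.1 (hijk.trans e')
      · exact hcon.2 (hijk.trans e')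
    · rw [hk, ← pow_add] at hijk
      rcases hz2 (i + k) with e' | e'
      · exact hcon.1 (hijk.trans e')
      · exact hcon.2 (hijk.trans e')
  -- a subgroup of index two missing e
  have hzK : z ∈ K := subset_closure (by simp)
  obtain ⟨M, hKM, hMR, heM, -, hMi⟩ := exists_half hKR (fun a ha => by
    rcases h.sq a ha with e' | e' <;> rw [e']
    · exact one_mem K
    · exact hzK) he heK
  by_cases hno : ∀ g : L, g * e * g⁻¹ ∉ M
  · obtain ⟨N, hN, hNi, -⟩ := CfsgLib.Fusion.thompson_transfer R hMR hMi (u := e) (by rw [pow_two, he2]) hno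
    rcases h.normal_cases hN with e' | e'
    · rw [e', index_bot] at hNi
      have := (R : Subgroup L).card_subgroup_dvd_card
      have h4 : 2 < Nat.card (R : Subgroup L) := by
        obtain ⟨a, ha, b, hb, hab⟩ := h.nonab_R
        by_contra hle
        have : Fact (Nat.Prime 2) := ⟨Nat.prime_two⟩
        have hsub : ({1, z, e} : Finset L).card ≤ Nat.card (R : Subgroup L) := by
          rw [← Set.ncard_coe_finset, ← SetLike.coe_sort_coe, Nat.card_coe_set_eq]
          refine Set.ncard_le_ncard ?_ (Set.toFinite _)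
          intro x hx
          simp only [Finset.coe_insert, Finset.coe_singleton, Set.mem_insert_iff, Set.mem_singleton_iff] at hx
          rcases hx with rfl | rfl | rfl
          exacts [one_mem _, h.z_mem, he]
        rw [Finset.card_insert_of_notMem, Finset.card_pair (Ne.symm hcon.2)] at hsub
        · omega
        · simp [Ne.symm hcon.1, h.z_ne.symm]
      have := Subgroup.card_le_card_group (R : Subgroup L)
      omega
    · rw [e', index_top] at hNi
      omega
  push Not at hno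
  obtain ⟨g, hgM⟩ := hno
  set y := g * e * g⁻¹ with hy
  have hyR : y ∈ R := hMR hgM
  have hync : ¬ ∀ r ∈ R, r * y = y * r := fun hc => heM (h.central_conj hec hc hy.symm ▸ hgM)
  -- a Sylow subgroup of C(y) over C_R(y)
  set T := (R : Subgroup L) ⊓ centralizer ({y} : Set L)
  have hTp : IsPGroup 2 T := R.2.to_le inf_le_left
  obtain ⟨P, hTP⟩ := IsPGroup.exists_le_sylow (G := centralizer ({y} : Set L))
    (hTp.comap_of_injective (centralizer ({y} : Set L)).subtype Subtype.val_injective)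
  obtain ⟨Q, hPQ⟩ : ∃ Q : Sylow 2 L, (P : Subgroup (centralizer ({y} : Set L))).map (centralizer ({y} : Set L)).subtype ≤ (Q : Subgroup L) :=
    (P.2.map _).exists_le_sylow
  haveI : Fact (Nat.Prime 2) := ⟨Nat.prime_two⟩
  obtain ⟨k, hk⟩ := MulAction.exists_smul_eq L R Q
  have hQmem : ∀ x, x ∈ Q ↔ k⁻¹ * x * k ∈ R := fun x => by
    rw [← hk]
    show x ∈ ((k • R : Sylow 2 L) : Subgroup L) ↔ _
    rw [Sylow.coe_subgroup_smul, Subgroup.mem_pointwise_smul_iff_inv_smul_mem]
    rw [MulAut.smul_def, ← map_inv, MulAut.conj_apply, inv_inv]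
    rfl
  have hgC : ∀ x ∈ R, g * x * g⁻¹ ∈ centralizer ({y} : Set L) := fun x hx => mem_centralizer_singleton_iff.2 (by
    rw [hy]
    calc g * x * g⁻¹ * (g * e * g⁻¹) = g * (x * e) * g⁻¹ := by group
      _ = _ := by rw [hec x hx]; group)
  -- P is already a Sylow subgroup of the whole group
  have hPcard : ((P : Subgroup (centralizer ({y} : Set L))).map (centralizer ({y} : Set L)).subtype) = (Q : Subgroup L) := by
    refine eq_of_le_of_card_ge hPQ ?_
    have le : ((g • R : Sylow 2 L) : Subgroup L) ≤ centralizer ({y} : Set L) := by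
      intro x hx
      rw [Sylow.coe_subgroup_smul] at hx
      obtain ⟨x, hx, rfl⟩ := hx
      exact hgC x hx
    rw [Nat.card_congr ((P : Subgroup _).equivMapOfInjective _ (centralizer ({y} : Set L)).subtype_injective).toEquiv.symm,
      P.card_eq_multiplicity, Q.card_eq_multiplicity]
    have h1 := ((g • R).subtype le).card_eq_multiplicity
    rw [show Nat.card ((g • R).subtype le) = Nat.card (g • R : Sylow 2 L) from Nat.card_congr (subgroupOfEquivOfLe le).toEquiv,
      (g • R).card_eq_multiplicity] at h1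
    exact h1.le
  have hQC : ∀ x ∈ Q, x ∈ centralizer ({y} : Set L) := fun x hx => by
    obtain ⟨p, -, rfl⟩ := hPcard.ge hx
    exact p.2
  have hTQ : ∀ t ∈ T, t ∈ Q := fun t ht => hPQ ⟨⟨t, ht.2⟩, hTP ht, rfl⟩
  set w := k * z * k⁻¹ with hw
  have hQw : ∀ x, x ∈ Q ↔ x * w = w * x := fun x => by
    rw [hQmem, h.mem_iff]
    constructor
    · intro e'
      calc x * w = k * (k⁻¹ * x * k * z) * k⁻¹ := by rw [hw]; group
        _ = w * x := by rw [e', hw]; group
    · intro e'
      calc k⁻¹ * x * k * z = k⁻¹ * (x * w) * k := by rw [hw]; group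
        _ = _ := by rw [e', hw]; group
  have hzT : z ∈ T := ⟨h.z_mem, mem_centralizer_singleton_iff.2 (h.mem_iff.1 hyR).symm⟩
  have hwR : w ∈ R := h.mem_iff.2 ((hQw z).1 (hTQ z hzT)).symm
  have hwy : w * y = y * w := mem_centralizer_singleton_iff.1 (hQC w ((hQw w).2 rfl))
  have hwz : w ≠ z := fun e' => hync fun r hr => mem_centralizer_singleton_iff.1 (hQC r ((hQw r).2 (by rw [e']; exact h.mem_iff.1 hr)))
  set W := closure ({z, w} : Set L)
  have hWT : W ≤ T := (closure_le _).2 (by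
    rintro x (rfl | rfl)
    · exact hzT
    · exact ⟨hwR, mem_centralizer_singleton_iff.2 hwy⟩)
  have hzW : z ∈ W := subset_closure (by simp)
  have hwW : w ∈ W := subset_closure (by simp)
  -- everything in ⟨R, Q⟩ is trivial on T / W
  set H := closure ((R : Set L) ∪ Q)
  have hprop : ∀ x ∈ H, ∀ t ∈ T, t⁻¹ * (x * t * x⁻¹) ∈ W := by
    have gen : ∀ x, x ∈ R ∨ x ∈ Q → ∀ t ∈ T, t⁻¹ * (x * t * x⁻¹) ∈ W := by
      intro x hx t ht
      rcases hx with hx | hx
      · rw [show t⁻¹ * (x * t * x⁻¹) = t⁻¹ * x * t⁻¹⁻¹ * x⁻¹ by group]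
        rcases h.comm _ (inv_mem ht.1) _ hx with e' | e' <;> rw [e']
        · exact one_mem W
        · exact hzW
      · rw [show t⁻¹ * (x * t * x⁻¹) = k * ((k⁻¹ * t⁻¹ * k) * (k⁻¹ * x * k) * (k⁻¹ * t⁻¹ * k)⁻¹ * (k⁻¹ * x * k)⁻¹) * k⁻¹ by group]
        rcases h.comm _ ((hQmem _).1 (inv_mem (hTQ t ht))) _ ((hQmem _).1 hx) with e' | e' <;> rw [e']
        · rw [mul_one, mul_inv_cancel]; exact one_mem W
        · exact hwW
    intro x hx
    rw [show H = closure ((R : Set L) ∪ Q) from rfl, ← mem_toSubmonoid, closure_toSubmonoid] at hx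
    induction hx using Submonoid.closure_induction_left with
    | one => intro t _; simp
    | mul_left s hs x _ ih =>
      intro t ht
      have hs' : s ∈ R ∨ s ∈ Q := by
        rcases hs with hs | hs
        · exact hs
        · rcases hs with hs | hs
          · exact Or.inl (inv_mem_iff.1 hs)
          · exact Or.inr (inv_mem_iff.1 hs)
      have h1 := ih t ht
      have h2 : x * t * x⁻¹ ∈ T := by
        have := mul_mem ht (hWT h1)
        rwa [mul_inv_cancel_left] at this
      have := mul_mem h1 (gen s hs' _ h2)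
      rwa [show t⁻¹ * (x * t * x⁻¹) * ((x * t * x⁻¹)⁻¹ * (s * (x * t * x⁻¹) * s⁻¹)) = t⁻¹ * (s * x * t * (s * x)⁻¹) by group] at this
  obtain ⟨hh, hhH, hhk⟩ := h.sylow_conj (H := H) (a := 1) (b := k)
    (fun x hx => by simpa using (Subgroup.subset_closure (Or.inl hx : x ∈ (R : Set L) ∪ Q) : x ∈ H))
    (fun x hx => subset_closure (Or.inr ((hQmem _).2 (by simpa [mul_assoc] using hx)) : k * x * k⁻¹ ∈ (R : Set L) ∪ Q))
  obtain ⟨c, hc, hck⟩ := h.sylow_conj (H := centralizer ({y} : Set L)) (a := g) (b := k) hgC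
    (fun x hx => hQC _ ((hQmem _).2 (by simpa [mul_assoc] using hx)))
  -- y is the image of e under hh
  have hye : hh * e * hh⁻¹ = y := by
    have h1 := hec _ hhk
    have h2 := hec _ hck
    rw [mul_one] at h1
    have h3 := mem_centralizer_singleton_iff.1 hc
    calc hh * e * hh⁻¹ = k * (k⁻¹ * hh * e) * hh⁻¹ := by group
      _ = k * e * k⁻¹ := by rw [h1]; group
      _ = k * (k⁻¹ * c * g * e) * (k⁻¹ * c * g)⁻¹ * k⁻¹ := by rw [h2]; group
      _ = c * (g * e * g⁻¹) * c⁻¹ := by group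
      _ = y := by rw [← hy, h3]; group
  have hv := hprop hh hhH e ⟨he, mem_centralizer_singleton_iff.2 (hec y hyR).symm⟩
  rw [hye] at hv
  -- W lies in M
  have hWM : W ≤ M := (closure_le _).2 (by
    rintro x (rfl | rfl)
    · exact hKM hzK
    · exact hKM (hall k hwR))
  exact heM (by
    have := mul_mem hgM (inv_mem (hWM hv))
    rwa [show y * (e⁻¹ * y)⁻¹ = e by group] at this)

theorem dihedral : Nonempty ((R : Subgroup L) ≃* DihedralGroup 4) := by
  classical
  obtain ⟨g, hwR, hne⟩ := h.exists_conj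
  obtain ⟨hnc, hel⟩ := h.conj_facts (g := g) rfl hwR hne
  generalize g * z * g⁻¹ = w at hwR hne hnc hel
  push Not at hnc
  obtain ⟨r, hr, hrw⟩ := hnc
  have ww : w * w = 1 := (hel w hwR rfl).1
  have e1 : r * w * r⁻¹ * w⁻¹ = z := (h.comm r hr w hwR).resolve_left fun e =>
    hrw (mul_inv_eq_iff_eq_mul.1 (mul_inv_eq_one.1 e))
  have hrw' : r * w = z * (w * r) := by rw [← e1]; group
  -- an involution outside
  obtain ⟨s, hs, hss, hsw⟩ : ∃ s ∈ R, s * s = 1 ∧ s * w = z * (w * s) := by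
    rcases h.sq r hr with e | e
    · exact ⟨r, hr, e, hrw'⟩
    · refine ⟨r * w, mul_mem hr hwR, ?_, ?_⟩
      · calc r * w * (r * w) = z * (w * r) * (r * w) := by rw [← hrw']
          _ = z * (w * (r * r) * w) := by group
          _ = z * z * (w * w) := by rw [e, h.mem_iff.1 hwR, mul_assoc z w w, ← mul_assoc z z]
          _ = 1 := by rw [h.z_sq, ww, one_mul]
      · calc r * w * w = z * (w * r) * w := by rw [hrw']
          _ = _ := by group
  obtain ⟨c, hc⟩ : ∃ c : L, c = s * w := ⟨_, rfl⟩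
  have hcR : c ∈ R := hc ▸ mul_mem hs hwR
  have hcc : c * c = z := by
    calc c * c = z * (w * s) * (s * w) := by rw [← hsw, hc]
      _ = z * (w * (s * s) * w) := by group
      _ = z := by rw [hss, mul_one, ww, mul_one]
  have hc4 : c ^ 4 = 1 := by
    rw [show 4 = 2 + 2 from rfl, pow_add, pow_two, hcc, h.z_sq]
  have hsc : s * c * s = c⁻¹ := by
    refine eq_inv_of_mul_eq_one_left ?_
    calc s * c * s * c = (s * s) * w * (s * s) * w := by rw [hc]; group
      _ = 1 := by rw [hss, one_mul, mul_one, ww]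
  -- the homomorphism
  have hpm : ∀ n : ℕ, c ^ (n % 4) = c ^ n := fun n => by
    conv_rhs => rw [← Nat.mod_add_div n 4, pow_add, pow_mul, hc4, one_pow, mul_one]
  let E : ZMod 4 → L := fun i => c ^ i.val
  have hE : ∀ i j : ZMod 4, E (i + j) = E i * E j := fun i j => by
    simp only [E, ZMod.val_add, hpm, pow_add]
  have hE0 : E 0 = 1 := pow_zero c
  have hEn : ∀ i : ZMod 4, E (-i) = (E i)⁻¹ := fun i =>
    eq_inv_of_mul_eq_one_left (by rw [← hE, neg_add_cancel, hE0])
  have hsE : ∀ i : ZMod 4, s * E i * s = (E i)⁻¹ := fun i => by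
    have : ∀ n : ℕ, s * c ^ n * s = (c ^ n)⁻¹ := fun n => by
      have hinv : s⁻¹ = s := inv_eq_of_mul_eq_one_right hss
      have e := conj_pow (i := n) (a := s) (b := c)
      rw [hinv, hsc] at e
      rw [← e, inv_pow]
    exact this _
  let φ : DihedralGroup 4 →* (R : Subgroup L) := MonoidHom.mk'
    (fun x => ⟨match x with | .r i => E i | .sr i => s * E i, by
      cases x with
      | r i => exact pow_mem hcR _
      | sr i => exact mul_mem hs (pow_mem hcR _)⟩)
    (by
      rintro (i | i) (j | j) <;> refine Subtype.ext ?_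
      · exact hE i j
      · show s * E (j - i) = E i * (s * E j)
        rw [sub_eq_add_neg, add_comm, hE, hEn, ← hsE]
        calc s * (s * E i * s * E j) = (s * s) * E i * (s * E j) := by group
          _ = _ := by rw [hss, one_mul]
      · show s * E (i + j) = s * E i * E j
        rw [hE, mul_assoc]
      · show E (j - i) = s * E i * (s * E j)
        rw [sub_eq_add_neg, add_comm, hE, hEn, ← hsE]
        group)
  have hbij : Function.Bijective φ := by
    refine ⟨?_, ?_⟩
    · rw [injective_iff_map_eq_one]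
      have hcn : ∀ i : ZMod 4, E i = 1 → i = 0 := by
        have hz1 : c ≠ 1 := fun e => h.z_ne (by rw [← hcc, e, mul_one])
        have hz2 : c ^ 2 ≠ 1 := by rw [pow_two, hcc]; exact h.z_ne
        have hz3 : c ^ 3 ≠ 1 := fun e => hz1 (by
          calc c = c * c ^ 3 := by rw [e, mul_one]
            _ = 1 := by rw [← pow_succ', hc4])
        intro i hi
        rcases (show ∀ j : ZMod 4, j = 0 ∨ j = 1 ∨ j = 2 ∨ j = 3 by decide) i with rfl | rfl | rfl | rfl
        · rfl
        · exact absurd ((pow_one c).symm.trans hi) hz1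
        · exact absurd hi hz2
        · exact absurd hi hz3
      rintro (i | i) hi
      · rw [hcn i (congrArg Subtype.val hi)]; rfl
      · exfalso
        have hsi : s * E i = 1 := congrArg Subtype.val hi
        have hs' : s = E (-i) := by rw [hEn]; exact eq_inv_of_mul_eq_one_left hsi
        -- then s would commute with c
        have hcomm : s * c = c * s := by rw [hs']; exact ((Commute.refl c).pow_left _).eq
        refine h.z_ne ?_
        have : c * c = 1 := by
          calc c * c = (s * c * s)⁻¹ * c := by rw [hsc, inv_inv]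
            _ = (c * (s * s))⁻¹ * c := by rw [hcomm, mul_assoc]
            _ = 1 := by rw [hss, mul_one, inv_mul_cancel]
        rwa [hcc] at this
    · intro x
      have hwc : w = s * c := by rw [hc, ← mul_assoc, hss, one_mul]
      have cases4 : ∀ y ∈ R, y * w = w * y → ∃ a : DihedralGroup 4, (φ a : L) = y := by
        intro y hy hyw
        obtain ⟨-, hab⟩ := hel y hy hyw
        -- y or y w is central
        by_cases hys : y * s = s * y
        · have hcen : ∀ r ∈ R, r * y = y * r := fun r' hr' => by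
            by_cases hr'w : r' * w = w * r'
            · exact (hab r' hr' hr'w).symm
            · have hsn : s * w ≠ w * s := fun e => h.z_ne (by rw [e] at hsw; exact mul_eq_right.1 hsw.symm)
              have hm := h.comm_mul hwR hs hr' hsn hr'w
              have hy1 := hab _ (mul_mem hs hr') hm
              refine mul_left_cancel (a := s) ?_
              rw [← mul_assoc, ← hy1, ← mul_assoc, hys, mul_assoc]
          rcases h.centre_small hy hcen with e | e <;> rw [e]
          · exact ⟨.r 0, hE0⟩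
          · exact ⟨.r 2, by show c ^ 2 = z; rw [pow_two, hcc]⟩
        · have hyw' : (y * w) * s = s * (y * w) := by
            have hsn : w * s ≠ s * w := fun e => h.z_ne (by rw [← e] at hsw; exact mul_eq_right.1 hsw.symm)
            exact h.comm_mul hs hy hwR hys hsn
          have hyR : y * w ∈ R := mul_mem hy hwR
          have hyww : y * w * w = w * (y * w) := by rw [hyw, mul_assoc w y w, hyw]
          have hcen : ∀ r ∈ R, r * (y * w) = y * w * r := fun r' hr' => by
            obtain ⟨-, hab'⟩ := hel _ hyR hyww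
            by_cases hr'w : r' * w = w * r'
            · exact (hab' r' hr' hr'w).symm
            · have hsn : s * w ≠ w * s := fun e => h.z_ne (by rw [e] at hsw; exact mul_eq_right.1 hsw.symm)
              have hm := h.comm_mul hwR hs hr' hsn hr'w
              have hy1 := hab' _ (mul_mem hs hr') hm
              refine mul_left_cancel (a := s) ?_
              rw [← mul_assoc, ← hy1, ← mul_assoc (y * w), hyw', mul_assoc]
          rcases h.centre_small hyR hcen with e | e
          · refine ⟨.sr 1, ?_⟩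
            show s * c ^ 1 = y
            rw [pow_one, ← hwc, ← mul_one w, ← e, ← mul_assoc, ← hyw, mul_assoc, ww, mul_one]
          · refine ⟨.sr 3, ?_⟩
            show s * c ^ 3 = y
            have : y = z * w := by rw [← e, mul_assoc, ww, mul_one]
            rw [this, hwc, ← mul_assoc z, ← h.mem_iff.1 hs, ← hcc, pow_succ, pow_two]
            simp only [mul_assoc]
      by_cases hxw : (x : L) * w = w * x
      · obtain ⟨a, ha⟩ := cases4 x x.2 hxw
        exact ⟨a, Subtype.ext ha⟩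
      · have hsn : s * w ≠ w * s := fun e => h.z_ne (by rw [e] at hsw; exact mul_eq_right.1 hsw.symm)
        obtain ⟨a, ha⟩ := cases4 (s * x) (mul_mem hs x.2) (h.comm_mul hwR hs x.2 hsn hxw)
        refine ⟨.sr 0 * a, Subtype.ext ?_⟩
        rw [map_mul, Subgroup.coe_mul, ha]
        show s * E 0 * (s * x) = x
        rw [hE0, mul_one, ← mul_assoc, hss, one_mul]
  exact ⟨(MulEquiv.ofBijective φ hbij).symm⟩

end Data

theorem data_of_frattini [IsSimpleGroup L] (hL : ¬ IsMulCommutative L) (hz : orderOf z = 2)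
    (hR : (R : Subgroup L) = centralizer ({z} : Set L))
    (hΦ : (frattini (R : Subgroup L)).map (R : Subgroup L).subtype = zpowers z) : Data R z := by
  haveI : Fact (Nat.Prime 2) := ⟨Nat.prime_two⟩
  have hzsq : z ^ 2 = 1 := hz ▸ pow_orderOf_eq_one z
  have hmem : ∀ x : L, x ∈ zpowers z → x = 1 ∨ x = z := by
    intro x hx
    obtain ⟨n, rfl⟩ := mem_zpowers_iff.1 hx
    rcases Int.even_or_odd n with ⟨m, rfl⟩ | ⟨m, rfl⟩
    · left
      rw [← two_mul, zpow_mul, zpow_ofNat, hzsq, one_zpow]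
    · right
      rw [zpow_add, zpow_mul, zpow_ofNat, hzsq, one_zpow, one_mul, zpow_one]
  have hsq : ∀ a ∈ R, a * a = 1 ∨ a * a = z := fun a ha => hmem _ (by
    rw [← hΦ]
    exact ⟨_, CfsgLib.Coprime.pow_mem_frattini R.2 ⟨a, ha⟩, by simp [pow_two]⟩)
  refine ⟨inferInstance, ?_, hz, hR, hsq, fun a ha b hb => hmem _ (by
    rw [← hΦ]
    exact ⟨⁅(⟨a, ha⟩ : (R : Subgroup L)), ⟨b, hb⟩⁆, CfsgLib.Coprime.commutator_le_frattini R.2
      (commutator_mem_commutator (mem_top _) (mem_top _)), rfl⟩), ?_⟩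
  · by_contra h
    push Not at h
    exact hL ⟨⟨h⟩⟩
  · by_contra hno
    push Not at hno
    have hzR : z ∈ (R : Subgroup L) := by rw [hR]; exact mem_centralizer_singleton_iff.2 rfl
    have hz1 : z ≠ 1 := fun e => by rw [e, orderOf_one] at hz; omega
    obtain ⟨M, -, hMR, hzM, hdich, -⟩ := exists_half (S := (R : Subgroup L)) (K := ⊥) bot_le
      (fun a ha => mem_bot.2 ((hsq a ha).resolve_right (hno a ha))) hzR (by rwa [mem_bot])
    have hco : IsCoatom (M.subgroupOf (R : Subgroup L)) := by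
      refine ⟨fun e => hzM (e.ge (mem_top (⟨z, hzR⟩ : (R : Subgroup L))) : _), fun N hN => ?_⟩
      obtain ⟨b, hbN, hbM⟩ := SetLike.exists_of_lt hN
      rw [eq_top_iff]
      intro a _
      rcases hdich a a.2 with ha | ha
      · exact hN.le ha
      · have hzN : (⟨z, hzR⟩ : (R : Subgroup L)) ∈ N := by
          have hb := (hdich b b.2).resolve_left hbM
          have : ((⟨z, hzR⟩ : (R : Subgroup L))⁻¹ * b) ∈ N := hN.le hb
          simpa using mul_mem hbN (inv_mem this)
        have : ((⟨z, hzR⟩ : (R : Subgroup L))⁻¹ * a) ∈ N := hN.le ha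
        simpa using mul_mem hzN this
    obtain ⟨x, hx, hxz⟩ : z ∈ (frattini (R : Subgroup L)).map (R : Subgroup L).subtype := hΦ ▸ mem_zpowers z
    have := frattini_le_coatom hco hx
    rw [mem_subgroupOf] at this
    exact hzM (hxz ▸ this)

end CfsgLib.Spor.SylowFrattiniCentre
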