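/-
The ternary code of length twelve, by a basis.
-/
import Cfsg.Prelude.Def_SporadicCombinatorics
import Cfsg.Agent.Lib.Spor.SmallSteiner.Rigid

set_option autoImplicit false

namespace CfsgLib.Spor.Ternary

open Cfsg Finset Search

/-- The twelve points in order. -/
def pts12 : List ArrayPt := [(0, 0), (0, 1), (0, 2), (1, 0), (1, 1), (1, 2), (2, 0), (2, 1), (2, 2), (3, 0), (3, 1), (3, 2)]

/-- Numbering of the twelve points. -/
def num : ArrayPt ≃ Fin 12 where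
  toFun p := ⟨3 * p.1.1 + p.2.val, by have := p.1.2; have := ZMod.val_lt p.2; omega⟩
  invFun i := pts12.getD i.1 (0, 0)
  left_inv := by decide +kernel
  right_inv := by decide +kernel

/-- Six words spanning the code. -/
def gens : List (List (ZMod 3)) := [[1, 0, 0, 0, 0, 1, 0, 0, 1, 1, 1, 2],
  [0, 1, 0, 0, 0, 1, 0, 2, 2, 2, 0, 2],
  [0, 0, 1, 0, 0, 1, 0, 1, 0, 2, 1, 1],
  [0, 0, 0, 1, 0, 2, 0, 2, 1, 2, 1, 0],
  [0, 0, 0, 0, 1, 2, 0, 1, 2, 0, 1, 2],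
  [0, 0, 0, 0, 0, 0, 1, 1, 1, 2, 2, 2]]

/-- Entry of a spanning word. -/
def g (k : Fin 6) (p : ArrayPt) : ZMod 3 := (gens.getD k.1 []).getD (3 * p.1.1 + p.2.val) 0

/-- Information positions. -/
def infoPts : List ArrayPt := [(0, 0), (0, 1), (0, 2), (1, 0), (1, 1), (2, 0)]

/-- The word with given information entries. -/
def recon (a : Fin 6 → ZMod 3) (p : ArrayPt) : ZMod 3 :=
  a 0 * g 0 p + a 1 * g 1 p + a 2 * g 2 p + a 3 * g 3 p + a 4 * g 4 p + a 5 * g 5 p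

/-- Digits. -/
def digit (n : Fin 729) (k : Fin 6) : ZMod 3 := ((n.1 / 3 ^ k.1 % 3 : ℕ) : ZMod 3)

/-- The codewords, numbered. -/
def word (n : Fin 729) : ArrayPt → ZMod 3 := recon (digit n)

theorem sum3 (f : ZMod 3 → ZMod 3) : ∑ r : ZMod 3, f r = f 0 + f 1 + f 2 := Fin.sum_univ_three f

theorem tet_mem {t : Fin 4 → ZMod 3} (a b : ZMod 3) (h : a • (![0, 1, 1, 1] : Fin 4 → ZMod 3) + b • ![1, 0, 1, 2] = t) :
    t ∈ tetracode :=
  Submodule.mem_span_pair.2 ⟨a, b, h⟩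

theorem eq_recon {x : ArrayPt → ZMod 3} (hx : x ∈ ternaryGolayCode) :
    x = recon fun k => x (infoPts.getD k.1 (0, 0)) := by
  obtain ⟨s, hs, hs'⟩ := hx
  have hThree : (3 : ZMod 3) = 0 := by decide
  have E0 : x (((0 : Fin 4), (0 : ZMod 3)) : ArrayPt) + x (((0 : Fin 4), (1 : ZMod 3)) : ArrayPt) + x (((0 : Fin 4), (2 : ZMod 3)) : ArrayPt) = -s := (sum3 _).symm.trans (hs 0)
  have E1 : x (((1 : Fin 4), (0 : ZMod 3)) : ArrayPt) + x (((1 : Fin 4), (1 : ZMod 3)) : ArrayPt) + x (((1 : Fin 4), (2 : ZMod 3)) : ArrayPt) = -s := (sum3 _).symm.trans (hs 1)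
  have E2 : x (((2 : Fin 4), (0 : ZMod 3)) : ArrayPt) + x (((2 : Fin 4), (1 : ZMod 3)) : ArrayPt) + x (((2 : Fin 4), (2 : ZMod 3)) : ArrayPt) = -s := (sum3 _).symm.trans (hs 2)
  have E3 : x (((3 : Fin 4), (0 : ZMod 3)) : ArrayPt) + x (((3 : Fin 4), (1 : ZMod 3)) : ArrayPt) + x (((3 : Fin 4), (2 : ZMod 3)) : ArrayPt) = -s := (sum3 _).symm.trans (hs 3)
  have T0 : x (((0 : Fin 4), (0 : ZMod 3)) : ArrayPt) + x (((1 : Fin 4), (0 : ZMod 3)) : ArrayPt) + x (((2 : Fin 4), (0 : ZMod 3)) : ArrayPt) + x (((3 : Fin 4), (0 : ZMod 3)) : ArrayPt) = s :=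
    (Fin.sum_univ_four _).symm.trans (hs' ![0, 0, 0, 0] (tet_mem 0 0 (by decide +kernel)))
  have T1 : x (((0 : Fin 4), (1 : ZMod 3)) : ArrayPt) + x (((1 : Fin 4), (0 : ZMod 3)) : ArrayPt) + x (((2 : Fin 4), (1 : ZMod 3)) : ArrayPt) + x (((3 : Fin 4), (2 : ZMod 3)) : ArrayPt) = s :=
    (Fin.sum_univ_four _).symm.trans (hs' ![1, 0, 1, 2] (tet_mem 0 1 (by decide +kernel)))
  have T2 : x (((0 : Fin 4), (2 : ZMod 3)) : ArrayPt) + x (((1 : Fin 4), (0 : ZMod 3)) : ArrayPt) + x (((2 : Fin 4), (2 : ZMod 3)) : ArrayPt) + x (((3 : Fin 4), (1 : ZMod 3)) : ArrayPt) = s :=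
    (Fin.sum_univ_four _).symm.trans (hs' ![2, 0, 2, 1] (tet_mem 0 2 (by decide +kernel)))
  have T3 : x (((0 : Fin 4), (0 : ZMod 3)) : ArrayPt) + x (((1 : Fin 4), (1 : ZMod 3)) : ArrayPt) + x (((2 : Fin 4), (1 : ZMod 3)) : ArrayPt) + x (((3 : Fin 4), (1 : ZMod 3)) : ArrayPt) = s :=
    (Fin.sum_univ_four _).symm.trans (hs' ![0, 1, 1, 1] (tet_mem 1 0 (by decide +kernel)))
  have T4 : x (((0 : Fin 4), (1 : ZMod 3)) : ArrayPt) + x (((1 : Fin 4), (1 : ZMod 3)) : ArrayPt) + x (((2 : Fin 4), (2 : ZMod 3)) : ArrayPt) + x (((3 : Fin 4), (0 : ZMod 3)) : ArrayPt) = s :=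
    (Fin.sum_univ_four _).symm.trans (hs' ![1, 1, 2, 0] (tet_mem 1 1 (by decide +kernel)))
  have T5 : x (((0 : Fin 4), (2 : ZMod 3)) : ArrayPt) + x (((1 : Fin 4), (1 : ZMod 3)) : ArrayPt) + x (((2 : Fin 4), (0 : ZMod 3)) : ArrayPt) + x (((3 : Fin 4), (2 : ZMod 3)) : ArrayPt) = s :=
    (Fin.sum_univ_four _).symm.trans (hs' ![2, 1, 0, 2] (tet_mem 1 2 (by decide +kernel)))
  have T6 : x (((0 : Fin 4), (0 : ZMod 3)) : ArrayPt) + x (((1 : Fin 4), (2 : ZMod 3)) : ArrayPt) + x (((2 : Fin 4), (2 : ZMod 3)) : ArrayPt) + x (((3 : Fin 4), (2 : ZMod 3)) : ArrayPt) = s :=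
    (Fin.sum_univ_four _).symm.trans (hs' ![0, 2, 2, 2] (tet_mem 2 0 (by decide +kernel)))
  have T7 : x (((0 : Fin 4), (1 : ZMod 3)) : ArrayPt) + x (((1 : Fin 4), (2 : ZMod 3)) : ArrayPt) + x (((2 : Fin 4), (0 : ZMod 3)) : ArrayPt) + x (((3 : Fin 4), (1 : ZMod 3)) : ArrayPt) = s :=
    (Fin.sum_univ_four _).symm.trans (hs' ![1, 2, 0, 1] (tet_mem 2 1 (by decide +kernel)))
  have T8 : x (((0 : Fin 4), (2 : ZMod 3)) : ArrayPt) + x (((1 : Fin 4), (2 : ZMod 3)) : ArrayPt) + x (((2 : Fin 4), (1 : ZMod 3)) : ArrayPt) + x (((3 : Fin 4), (0 : ZMod 3)) : ArrayPt) = s :=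
    (Fin.sum_univ_four _).symm.trans (hs' ![2, 2, 1, 0] (tet_mem 2 2 (by decide +kernel)))
  funext p
  obtain ⟨i, rfl⟩ := num.symm.surjective p
  have h0 : x (((0 : Fin 4), (0 : ZMod 3)) : ArrayPt) = x (((0 : Fin 4), (0 : ZMod 3)) : ArrayPt) * 1 + x (((0 : Fin 4), (1 : ZMod 3)) : ArrayPt) * 0 + x (((0 : Fin 4), (2 : ZMod 3)) : ArrayPt) * 0 + x (((1 : Fin 4), (0 : ZMod 3)) : ArrayPt) * 0 + x (((1 : Fin 4), (1 : ZMod 3)) : ArrayPt) * 0 + x (((2 : Fin 4), (0 : ZMod 3)) : ArrayPt) * 0 := by ring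
  have h1 : x (((0 : Fin 4), (1 : ZMod 3)) : ArrayPt) = x (((0 : Fin 4), (0 : ZMod 3)) : ArrayPt) * 0 + x (((0 : Fin 4), (1 : ZMod 3)) : ArrayPt) * 1 + x (((0 : Fin 4), (2 : ZMod 3)) : ArrayPt) * 0 + x (((1 : Fin 4), (0 : ZMod 3)) : ArrayPt) * 0 + x (((1 : Fin 4), (1 : ZMod 3)) : ArrayPt) * 0 + x (((2 : Fin 4), (0 : ZMod 3)) : ArrayPt) * 0 := by ring
  have h2 : x (((0 : Fin 4), (2 : ZMod 3)) : ArrayPt) = x (((0 : Fin 4), (0 : ZMod 3)) : ArrayPt) * 0 + x (((0 : Fin 4), (1 : ZMod 3)) : ArrayPt) * 0 + x (((0 : Fin 4), (2 : ZMod 3)) : ArrayPt) * 1 + x (((1 : Fin 4), (0 : ZMod 3)) : ArrayPt) * 0 + x (((1 : Fin 4), (1 : ZMod 3)) : ArrayPt) * 0 + x (((2 : Fin 4), (0 : ZMod 3)) : ArrayPt) * 0 := by ring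
  have h3 : x (((1 : Fin 4), (0 : ZMod 3)) : ArrayPt) = x (((0 : Fin 4), (0 : ZMod 3)) : ArrayPt) * 0 + x (((0 : Fin 4), (1 : ZMod 3)) : ArrayPt) * 0 + x (((0 : Fin 4), (2 : ZMod 3)) : ArrayPt) * 0 + x (((1 : Fin 4), (0 : ZMod 3)) : ArrayPt) * 1 + x (((1 : Fin 4), (1 : ZMod 3)) : ArrayPt) * 0 + x (((2 : Fin 4), (0 : ZMod 3)) : ArrayPt) * 0 := by ring
  have h4 : x (((1 : Fin 4), (1 : ZMod 3)) : ArrayPt) = x (((0 : Fin 4), (0 : ZMod 3)) : ArrayPt) * 0 + x (((0 : Fin 4), (1 : ZMod 3)) : ArrayPt) * 0 + x (((0 : Fin 4), (2 : ZMod 3)) : ArrayPt) * 0 + x (((1 : Fin 4), (0 : ZMod 3)) : ArrayPt) * 0 + x (((1 : Fin 4), (1 : ZMod 3)) : ArrayPt) * 1 + x (((2 : Fin 4), (0 : ZMod 3)) : ArrayPt) * 0 := by ring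
  have h5 : x (((1 : Fin 4), (2 : ZMod 3)) : ArrayPt) = x (((0 : Fin 4), (0 : ZMod 3)) : ArrayPt) * 1 + x (((0 : Fin 4), (1 : ZMod 3)) : ArrayPt) * 1 + x (((0 : Fin 4), (2 : ZMod 3)) : ArrayPt) * 1 + x (((1 : Fin 4), (0 : ZMod 3)) : ArrayPt) * 2 + x (((1 : Fin 4), (1 : ZMod 3)) : ArrayPt) * 2 + x (((2 : Fin 4), (0 : ZMod 3)) : ArrayPt) * 0 := by linear_combination (2 : ZMod 3) * E0 + (1 : ZMod 3) * E1 + ((-1 : ZMod 3) * x (((0 : Fin 4), (0 : ZMod 3)) : ArrayPt) + (-1 : ZMod 3) * x (((0 : Fin 4), (1 : ZMod 3)) : ArrayPt) + (-1 : ZMod 3) * x (((0 : Fin 4), (2 : ZMod 3)) : ArrayPt) + (-1 : ZMod 3) * x (((1 : Fin 4), (0 : ZMod 3)) : ArrayPt) + (-1 : ZMod 3) * x (((1 : Fin 4), (1 : ZMod 3)) : ArrayPt) + (-1 : ZMod 3) * s) * hThree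
  have h6 : x (((2 : Fin 4), (0 : ZMod 3)) : ArrayPt) = x (((0 : Fin 4), (0 : ZMod 3)) : ArrayPt) * 0 + x (((0 : Fin 4), (1 : ZMod 3)) : ArrayPt) * 0 + x (((0 : Fin 4), (2 : ZMod 3)) : ArrayPt) * 0 + x (((1 : Fin 4), (0 : ZMod 3)) : ArrayPt) * 0 + x (((1 : Fin 4), (1 : ZMod 3)) : ArrayPt) * 0 + x (((2 : Fin 4), (0 : ZMod 3)) : ArrayPt) * 1 := by ring
  have h7 : x (((2 : Fin 4), (1 : ZMod 3)) : ArrayPt) = x (((0 : Fin 4), (0 : ZMod 3)) : ArrayPt) * 0 + x (((0 : Fin 4), (1 : ZMod 3)) : ArrayPt) * 2 + x (((0 : Fin 4), (2 : ZMod 3)) : ArrayPt) * 1 + x (((1 : Fin 4), (0 : ZMod 3)) : ArrayPt) * 2 + x (((1 : Fin 4), (1 : ZMod 3)) : ArrayPt) * 1 + x (((2 : Fin 4), (0 : ZMod 3)) : ArrayPt) * 1 := by linear_combination (2 : ZMod 3) * E0 + (1 : ZMod 3) * E3 + (2 : ZMod 3) * T0 + (2 : ZMod 3) * T1 + (2 : ZMod 3) * T3 + ((-2 : ZMod 3) * x (((0 : Fin 4), (0 : ZMod 3)) : ArrayPt) + (-2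 : ZMod 3) * x (((0 : Fin 4), (1 : ZMod 3)) : ArrayPt) + (-1 : ZMod 3) * x (((0 : Fin 4), (2 : ZMod 3)) : ArrayPt) + (-2 : ZMod 3) * x (((1 : Fin 4), (0 : ZMod 3)) : ArrayPt) + (-1 : ZMod 3) * x (((1 : Fin 4), (1 : ZMod 3)) : ArrayPt) + (-1 : ZMod 3) * x (((2 : Fin 4), (0 : ZMod 3)) : ArrayPt) + (-1 : ZMod 3) * x (((2 : Fin 4), (1 : ZMod 3)) : ArrayPt) + (-1 : ZMod 3) * x (((3 : Fin 4), (0 : ZMod 3)) : ArrayPt) + (-1 : ZMod 3) * x (((3 : Fin 4), (1 : ZMod 3)) : ArrayPt) + (-1 : ZMod 3) * x (((3 : Fin 4), (2 : ZMod 3)) : ArrayPt) + (1 : ZMod 3) * s) * hThree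
  have h8 : x (((2 : Fin 4), (2 : ZMod 3)) : ArrayPt) = x (((0 : Fin 4), (0 : ZMod 3)) : ArrayPt) * 1 + x (((0 : Fin 4), (1 : ZMod 3)) : ArrayPt) * 2 + x (((0 : Fin 4), (2 : ZMod 3)) : ArrayPt) * 0 + x (((1 : Fin 4), (0 : ZMod 3)) : ArrayPt) * 1 + x (((1 : Fin 4), (1 : ZMod 3)) : ArrayPt) * 2 + x (((2 : Fin 4), (0 : ZMod 3)) : ArrayPt) * 1 := by linear_combination (1 : ZMod 3) * E2 + (2 : ZMod 3) * E3 + (1 : ZMod 3) * T0 + (1 : ZMod 3) * T1 + (1 : ZMod 3) * T3 + ((-1 : ZMod 3) * x (((0 : Fin 4), (0 : ZMod 3)) : ArrayPt) + (-1 : ZMod 3) * x (((0 : Fin 4), (1 : ZMod 3)) : ArrayPt) + (-1 : ZMod 3) * x (((1 : Fin 4), (0 : ZMod 3)) : ArrayPt) + (-1 : ZMod 3) * x (((1 : Fin 4), (1 : ZMod 3)) : ArrayPt) + (-1 : ZMod 3) * x (((2 : Fin 4), (0 : ZMod 3)) : ArrayPt) + (-1 : ZMod 3) * x (((2 : Fin 4), (1 : ZMod 3)) : ArrayPt) + (-1 : ZMod 3) * x (((3 : Fin 4), (0 : ZMod 3)) : ArrayPt)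 + (-1 : ZMod 3) * x (((3 : Fin 4), (1 : ZMod 3)) : ArrayPt) + (-1 : ZMod 3) * x (((3 : Fin 4), (2 : ZMod 3)) : ArrayPt)) * hThree
  have h9 : x (((3 : Fin 4), (0 : ZMod 3)) : ArrayPt) = x (((0 : Fin 4), (0 : ZMod 3)) : ArrayPt) * 1 + x (((0 : Fin 4), (1 : ZMod 3)) : ArrayPt) * 2 + x (((0 : Fin 4), (2 : ZMod 3)) : ArrayPt) * 2 + x (((1 : Fin 4), (0 : ZMod 3)) : ArrayPt) * 2 + x (((1 : Fin 4), (1 : ZMod 3)) : ArrayPt) * 0 + x (((2 : Fin 4), (0 : ZMod 3)) : ArrayPt) * 2 := by linear_combination (1 : ZMod 3) * E0 + (1 : ZMod 3) * T0 + ((-1 : ZMod 3) * x (((0 : Fin 4), (0 : ZMod 3)) : ArrayPt) + (-1 : ZMod 3) * x (((0 : Fin 4), (1 : ZMod 3)) : ArrayPt) + (-1 : ZMod 3) * x (((0 : Fin 4), (2 : ZMod 3)) : ArrayPt) + (-1 : ZMod 3) * x (((1 : Fin 4), (0 : ZMod 3)) : ArrayPt) + (-1 : ZMod 3) * x (((2 : Fin 4), (0 : ZMod 3)) : ArrayPt)) * hThree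
  have h10 : x (((3 : Fin 4), (1 : ZMod 3)) : ArrayPt) = x (((0 : Fin 4), (0 : ZMod 3)) : ArrayPt) * 1 + x (((0 : Fin 4), (1 : ZMod 3)) : ArrayPt) * 0 + x (((0 : Fin 4), (2 : ZMod 3)) : ArrayPt) * 1 + x (((1 : Fin 4), (0 : ZMod 3)) : ArrayPt) * 1 + x (((1 : Fin 4), (1 : ZMod 3)) : ArrayPt) * 1 + x (((2 : Fin 4), (0 : ZMod 3)) : ArrayPt) * 2 := by linear_combination (2 : ZMod 3) * E0 + (2 : ZMod 3) * E3 + (1 : ZMod 3) * T0 + (1 : ZMod 3) * T1 + (2 : ZMod 3) * T3 + ((-2 : ZMod 3) * x (((0 : Fin 4), (0 : ZMod 3)) : ArrayPt) + (-1 : ZMod 3) * x (((0 : Fin 4), (1 : ZMod 3)) : ArrayPt) + (-1 : ZMod 3) * x (((0 : Fin 4), (2 : ZMod 3)) : ArrayPt) + (-1 : ZMod 3) * x (((1 : Fin 4), (0 : ZMod 3)) : ArrayPt) + (-1 : ZMod 3) * x (((1 : Fin 4), (1 : ZMod 3)) : ArrayPt) + (-1 : ZMod 3) * x (((2 : Fin 4), (0 : ZMod 3)) : ArrayPt) + (-1 : ZMod 3) * x (((2 : Fin 4), (1 : ZMod 3)) : ArrayPt)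 + (-1 : ZMod 3) * x (((3 : Fin 4), (0 : ZMod 3)) : ArrayPt) + (-1 : ZMod 3) * x (((3 : Fin 4), (1 : ZMod 3)) : ArrayPt) + (-1 : ZMod 3) * x (((3 : Fin 4), (2 : ZMod 3)) : ArrayPt)) * hThree
  have h11 : x (((3 : Fin 4), (2 : ZMod 3)) : ArrayPt) = x (((0 : Fin 4), (0 : ZMod 3)) : ArrayPt) * 2 + x (((0 : Fin 4), (1 : ZMod 3)) : ArrayPt) * 2 + x (((0 : Fin 4), (2 : ZMod 3)) : ArrayPt) * 1 + x (((1 : Fin 4), (0 : ZMod 3)) : ArrayPt) * 0 + x (((1 : Fin 4), (1 : ZMod 3)) : ArrayPt) * 2 + x (((2 : Fin 4), (0 : ZMod 3)) : ArrayPt) * 2 := by linear_combination (2 : ZMod 3) * E0 + (2 : ZMod 3) * E3 + (1 : ZMod 3) * T0 + (2 : ZMod 3) * T1 + (1 : ZMod 3) * T3 + ((-2 : ZMod 3) * x (((0 : Fin 4), (0 : ZMod 3)) : ArrayPt) + (-2 : ZMod 3) * x (((0 : Fin 4), (1 : ZMod 3)) : ArrayPt) + (-1 : ZMod 3) * x (((0 : Fin 4), (2 : ZMod 3)) : ArrayPt) + (-1 : ZMod 3) * x (((1 : Fin 4), (0 : ZMod 3))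 : ArrayPt) + (-1 : ZMod 3) * x (((1 : Fin 4), (1 : ZMod 3)) : ArrayPt) + (-1 : ZMod 3) * x (((2 : Fin 4), (0 : ZMod 3)) : ArrayPt) + (-1 : ZMod 3) * x (((2 : Fin 4), (1 : ZMod 3)) : ArrayPt) + (-1 : ZMod 3) * x (((3 : Fin 4), (0 : ZMod 3)) : ArrayPt) + (-1 : ZMod 3) * x (((3 : Fin 4), (1 : ZMod 3)) : ArrayPt) + (-1 : ZMod 3) * x (((3 : Fin 4), (2 : ZMod 3)) : ArrayPt)) * hThree
  fin_cases i <;> assumption

theorem word_mem (n : Fin 729) : word n ∈ ternaryGolayCode := by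
  refine ⟨-(word n (0, 0) + word n (0, 1) + word n (0, 2)), fun i => ?_, fun t ht => ?_⟩
  · rw [sum3, neg_neg]
    revert i; revert n; decide +kernel
  · obtain ⟨a, b, rfl⟩ := Submodule.mem_span_pair.1 ht
    clear ht
    rw [Fin.sum_univ_four]
    revert a b n; decide +kernel

theorem exists_word {x : ArrayPt → ZMod 3} (hx : x ∈ ternaryGolayCode) : ∃ n, word n = x := by
  have key : ∀ a b c d e f : ZMod 3, ∃ n : Fin 729, digit n 0 = a ∧ digit n 1 = b ∧ digit n 2 = c ∧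
      digit n 3 = d ∧ digit n 4 = e ∧ digit n 5 = f := fun a b c d e f =>
    ⟨⟨a.val + 3 * b.val + 9 * c.val + 27 * d.val + 81 * e.val + 243 * f.val, by
      have := ZMod.val_lt a; have := ZMod.val_lt b; have := ZMod.val_lt c
      have := ZMod.val_lt d; have := ZMod.val_lt e; have := ZMod.val_lt f; omega⟩,
      by revert a b c d e f; decide +kernel⟩
  let a : Fin 6 → ZMod 3 := fun k => x (infoPts.getD k.1 (0, 0))
  obtain ⟨n, h0, h1, h2, h3, h4, h5⟩ := key (a 0) (a 1) (a 2) (a 3) (a 4) (a 5)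
  refine ⟨n, funext fun p => ?_⟩
  rw [eq_recon hx]
  show recon (digit n) p = recon a p
  simp only [recon, h0, h1, h2, h3, h4, h5]

theorem word_injective : Function.Injective word := by
  have key : ∀ n : Fin 729, (∑ k : Fin 6, (word n (infoPts.getD k.1 (0, 0))).val * 3 ^ k.1) = n.1 := by
    decide +kernel
  intro a b h
  rw [Fin.ext_iff, ← key a, ← key b, h]

theorem coe_code : (ternaryGolayCode : Set (ArrayPt → ZMod 3)) = Set.range word :=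
  Set.ext fun _ => ⟨exists_word, fun ⟨n, hn⟩ => hn ▸ word_mem n⟩

theorem ncard_words (P : (ArrayPt → ZMod 3) → Prop) [DecidablePred P] :
    {x | x ∈ ternaryGolayCode ∧ P x}.ncard = (univ.filter fun n => P (word n)).card := by
  rw [show {x | x ∈ ternaryGolayCode ∧ P x} = word '' ↑(univ.filter fun n => P (word n)) from ?_,
    Set.ncard_image_of_injective _ word_injective, Set.ncard_coe_finset]
  ext x
  simp only [Set.mem_setOf_eq, Set.mem_image, coe_filter, mem_univ, true_and]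
  refine ⟨fun ⟨h, hP⟩ => ?_, fun ⟨n, hn, e⟩ => e ▸ ⟨word_mem n, hn⟩⟩
  obtain ⟨n, rfl⟩ := exists_word h
  exact ⟨n, hP, rfl⟩

theorem card_code : Nat.card ternaryGolayCode = 729 := by
  rw [show Nat.card ternaryGolayCode = (ternaryGolayCode : Set (ArrayPt → ZMod 3)).ncard from Nat.card_coe_set_eq _,
    coe_code, ← Set.image_univ, Set.ncard_image_of_injective _ word_injective, Set.ncard_univ, Nat.card_fin]

theorem dot_eq_zero {x y : ArrayPt → ZMod 3} (hx : x ∈ ternaryGolayCode) (hy : y ∈ ternaryGolayCode) :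
    ∑ p, x p * y p = 0 := by
  have key : ∀ i j : Fin 6, ∑ p, g i p * g j p = 0 := by decide +kernel
  have hz : ∀ (i j : Fin 6) (a b : ZMod 3), ∑ p, a * g i p * (b * g j p) = 0 := fun i j a b => by
    simp only [mul_mul_mul_comm a (g i _), ← Finset.mul_sum, key, mul_zero]
  rw [eq_recon hx, eq_recon hy]
  simp only [recon, add_mul, mul_add, Finset.sum_add_distrib, hz, add_zero]

/-- The digit of a support. -/
def wmask (n : Fin 729) : ℕ := maskFn (fun i => decide (word n (pts12.getD i (0, 0)) ≠ 0)) 12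

/-- The supports of the weight six words. -/
def k12t : List ℕ := [63, 222, 237, 243, 347, 366, 373, 413, 427, 438, 455, 504, 591, 630, 633, 667, 679, 700, 725, 746, 791, 813, 826, 860, 867, 910, 945, 969, 978, 996, 1117, 1127, 1146, 1175, 1198, 1209, 1227, 1268, 1295, 1331, 1340, 1366, 1385, 1434, 1445, 1484, 1489, 1506, 1566, 1579, 1589, 1619, 1644, 1677, 1714, 1734, 1752, 1761, 1817, 1830, 1861, 1866, 1904, 1923, 1940, 1960, 2135, 2155, 2172, 2191, 2229, 2234, 2265, 2278, 2334, 2343, 2361, 2381, 2418, 2451, 2476, 2506, 2516, 2529, 2589, 2606, 2611, 2650, 2661, 2710, 2729, 2755, 2764, 2800, 2827, 2868, 2886, 2897, 2920, 2949, 2968, 2978, 3099, 3117, 3126, 3150, 3185, 3228, 3235, 3269, 3282, 3304, 3349, 3370, 3395, 3416, 3428, 3462, 3465, 3504, 3591, 3640, 3657, 3668, 3682, 3722, 3729, 3748, 3852, 3858, 3873, 4032]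

theorem mset_wmask (n : Fin 729) : mset 12 (wmask n) = (ternarySupport (word n)).image num := by
  ext i
  obtain ⟨p, rfl⟩ := num.surjective i
  rw [mem_mset, wmask, testBit_maskFn]
  simp only [(num p).2, decide_true, Bool.true_and, decide_eq_true_eq]
  rw [show pts12.getD (num p).1 (0, 0) = p from num.symm_apply_apply p]
  simp [ternarySupport]

theorem image_supports : (fun b : Finset ArrayPt => b.image num) ''
    {h | ∃ x ∈ ternaryGolayCode, ternarySupport x = h ∧ h.card = 6} = fam 12 k12t := by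
  have key : ∀ n : Fin 729, pop 12 (wmask n) = 6 → wmask n ∈ k12t := by decide +kernel
  have key' : ∀ m ∈ k12t, ∃ n : Fin 729, pop 12 (wmask n) = 6 ∧ wmask n = m := by decide +kernel
  have hw : ∀ n, (ternarySupport (word n)).card = pop 12 (wmask n) := fun n => by
    rw [← card_mset, mset_wmask, card_image_of_injective _ num.injective]
  ext Y
  constructor
  · rintro ⟨_, ⟨x, hx, rfl, h6⟩, rfl⟩
    obtain ⟨n, rfl⟩ := exists_word hx
    exact ⟨_, key n (hw n ▸ h6), (mset_wmask n).symm⟩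
  · rintro ⟨m, hm, rfl⟩
    obtain ⟨n, hn, rfl⟩ := key' m hm
    exact ⟨_, ⟨_, word_mem n, rfl, (hw n).trans hn⟩, (mset_wmask n).symm⟩

theorem steiner : IsSteinerSystem 5 6 {h : Finset ArrayPt | ∃ x ∈ ternaryGolayCode, ternarySupport x = h ∧ h.card = 6} ∧
    {h : Finset ArrayPt | ∃ x ∈ ternaryGolayCode, ternarySupport x = h ∧ h.card = 6}.ncard = 132 := by
  set B := {h : Finset ArrayPt | ∃ x ∈ ternaryGolayCode, ternarySupport x = h ∧ h.card = 6} with hB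
  have hF : (fun b : Finset ArrayPt => b.image num) '' B = fam 12 k12t := image_supports
  have hk : ∀ m ∈ k12t, m < 2 ^ 12 := by decide +kernel
  have key : ∀ s ∈ kSets 12 5, (k12t.filter fun b => s &&& b == s).length = 1 := by decide +kernel
  have hmem : ∀ b, b ∈ B ↔ b.image num ∈ fam 12 k12t := fun b => by
    rw [← hF, (image_injective num.injective).mem_set_image]
  refine ⟨⟨fun b ⟨x, _, _, h⟩ => h, fun s hs => ?_⟩, ?_⟩
  · have hs' : mask (s.image num) ∈ kSets 12 5 :=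
      mem_kSets.2 ⟨mask_lt _, by rw [← card_mset, mset_mask, card_image_of_injective _ num.injective, hs]⟩
    obtain ⟨m, hm⟩ := List.length_eq_one_iff.1 (key _ hs')
    have hm' : m ∈ k12t ∧ mask (s.image num) &&& m = mask (s.image num) := by
      have : m ∈ k12t.filter fun b => mask (s.image num) &&& b == mask (s.image num) := hm ▸ List.mem_singleton_self _
      simpa using this
    have hsub := subset_of_and (n := 12) hm'.2
    rw [mset_mask] at hsub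
    refine ⟨(mset 12 m).image num.symm, ⟨(hmem _).2 ⟨m, hm'.1, ?_⟩, fun q hq => ?_⟩, fun b ⟨hb, hsb⟩ => ?_⟩
    · rw [image_image, Equiv.self_comp_symm, image_id]
    · exact mem_image.2 ⟨num q, hsub (mem_image_of_mem _ hq), num.symm_apply_apply q⟩
    · obtain ⟨m', hm'', e⟩ := (hmem b).1 hb
      have h' : m' ∈ k12t.filter fun b => mask (s.image num) &&& b == mask (s.image num) := by
        refine List.mem_filter.2 ⟨hm'', beq_iff_eq.2 (subset_mset ?_ (mask_lt _))⟩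
        rw [mset_mask, ← e]; exact image_subset_image hsb
      rw [hm, List.mem_singleton] at h'
      rw [← h', ← e, image_image, Equiv.symm_comp_self, image_id]
  · rw [← Set.ncard_image_of_injective B (image_injective num.injective), hF,
      show fam 12 k12t = mset 12 '' ↑k12t.toFinset by ext; simp [fam, eq_comm],
      Set.InjOn.ncard_image fun a ha b hb h => mset_injOn (hk a (by simpa using ha)) (hk b (by simpa using hb)) h,
      Set.ncard_coe_finset]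
    decide +kernel

theorem sign_changes {c : ArrayPt → (ZMod 3)ˣ} (h : ∀ x ∈ ternaryGolayCode, monomialMap 1 c x ∈ ternaryGolayCode) :
    (∀ p, c p = 1) ∨ (∀ p, c p = -1) := by
  have gen : ∀ k : Fin 6, ∃ n : Fin 729, ∀ p, word n p = g k p := by decide +kernel
  have same : ∀ k : Fin 6, ∀ n : Fin 729, (∀ p, word n p = 0 ↔ g k p = 0) →
      (∀ p, word n p = g k p) ∨ (∀ p, word n p = -g k p) := by decide +kernel
  have hk : ∀ k, ∃ ε : (ZMod 3)ˣ, (ε = 1 ∨ ε = -1) ∧ ∀ p, g k p ≠ 0 → c p = ε := by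
    intro k
    obtain ⟨n, hn⟩ := gen k
    obtain ⟨m, hm⟩ := exists_word (h _ (word_mem n))
    have hm' : ∀ p, word m p = (c p : ZMod 3) * g k p := fun p => by rw [hm, monomialMap, Equiv.Perm.one_symm, Equiv.Perm.one_apply, hn]
    have cases2 : ∀ (u : (ZMod 3)ˣ) (v : ZMod 3), v ≠ 0 → ((u : ZMod 3) * v = v → u = 1) ∧ ((u : ZMod 3) * v = -v → u = -1) := by
      decide +kernel
    rcases same k m (fun p => by rw [hm' p, Units.mul_right_eq_zero]) with e | e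
    · exact ⟨1, Or.inl rfl, fun p hp => (cases2 _ _ hp).1 ((hm' p).symm.trans (e p))⟩
    · exact ⟨-1, Or.inr rfl, fun p hp => (cases2 _ _ hp).2 ((hm' p).symm.trans (e p))⟩
  choose ε hε hc using hk
  have link : ∀ k : Fin 6, ∃ p, g k p ≠ 0 ∧ g 0 p ≠ 0 := by decide +kernel
  have cover : ∀ p, ∃ k : Fin 6, g k p ≠ 0 := by decide +kernel
  have hall : ∀ p, c p = ε 0 := fun p => by
    obtain ⟨k, hk⟩ := cover p
    obtain ⟨q, hq, hq0⟩ := link k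
    rw [hc k p hk, ← hc k q hq, hc 0 q hq0]
  exact (hε 0).imp (fun e p => (hall p).trans e) (fun e p => (hall p).trans e)

end CfsgLib.Spor.Ternary
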