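/-
The monomial automorphisms of the ternary code of length twelve.
-/
import Cfsg.Agent.Lib.Spor.Ternary
import Cfsg.Agent.Lib.Spor.SmallSteiner.Aut
import Cfsg.Agent.Lib.Spor.SharplyTransitive

set_option autoImplicit false

namespace CfsgLib.Spor.Ternary

open Cfsg Finset MulAction

/-- For each step `k` and target `j`: images, preimages and signs. -/
def steps : List (ℕ × ℕ × List ℕ × List ℕ × List (ZMod 3)) := [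
  (0, 0, [0, 1, 2, 3, 4, 5, 6, 7, 8, 9, 10, 11], [0, 1, 2, 3, 4, 5, 6, 7, 8, 9, 10, 11], [1, 1, 1, 1, 1, 1, 1, 1, 1, 1, 1, 1]),
  (0, 1, [1, 0, 2, 3, 4, 5, 11, 9, 10, 7, 8, 6], [1, 0, 2, 3, 4, 5, 11, 9, 10, 7, 8, 6], [1, 1, 1, 1, 1, 1, 1, 1, 1, 1, 1, 1]),
  (0, 2, [2, 0, 1, 3, 4, 5, 8, 6, 7, 10, 11, 9], [1, 2, 0, 3, 4, 5, 7, 8, 6, 11, 9, 10], [1, 1, 1, 1, 1, 1, 1, 1, 1, 1, 1, 1]),
  (0, 3, [3, 0, 1, 2, 4, 5, 10, 7, 6, 8, 9, 11], [1, 2, 3, 0, 4, 5, 8, 7, 9, 10, 6, 11], [1, 1, 2, 2, 1, 1, 2, 2, 1, 2, 1, 2]),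
  (0, 4, [4, 0, 1, 2, 3, 5, 6, 9, 10, 11, 7, 8], [1, 2, 3, 4, 0, 5, 6, 10, 11, 7, 8, 9], [1, 1, 2, 1, 2, 1, 1, 2, 2, 2, 2, 1]),
  (0, 5, [5, 0, 1, 2, 3, 4, 9, 6, 8, 7, 11, 10], [1, 2, 3, 4, 5, 0, 7, 9, 8, 6, 11, 10], [1, 1, 2, 1, 1, 2, 2, 1, 2, 1, 2, 2]),
  (0, 6, [6, 0, 1, 2, 3, 9, 5, 4, 7, 10, 8, 11], [1, 2, 3, 4, 7, 6, 0, 8, 10, 5, 9, 11], [1, 2, 1, 1, 2, 1, 2, 2, 2, 1, 1, 2]),
  (0, 7, [7, 0, 1, 2, 3, 11, 10, 8, 9, 4, 5, 6], [1, 2, 3, 4, 9, 10, 11, 0, 7, 8, 6, 5], [1, 2, 2, 2, 2, 1, 1, 1, 1, 1, 2, 2]),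
  (0, 8, [8, 0, 1, 2, 3, 10, 7, 11, 4, 6, 9, 5], [1, 2, 3, 4, 8, 11, 9, 6, 0, 10, 5, 7], [1, 1, 1, 2, 1, 1, 2, 2, 1, 1, 2, 1]),
  (0, 9, [9, 0, 1, 2, 3, 6, 4, 5, 11, 8, 10, 7], [1, 2, 3, 4, 6, 7, 5, 11, 9, 0, 10, 8], [1, 2, 1, 1, 1, 2, 1, 2, 1, 2, 2, 2]),
  (0, 10, [10, 0, 1, 2, 3, 8, 11, 7, 5, 9, 6, 4], [1, 2, 3, 4, 11, 8, 10, 7, 5, 9, 0, 6], [1, 1, 1, 2, 1, 1, 1, 1, 2, 2, 1, 2]),
  (0, 11, [11, 0, 1, 2, 3, 7, 8, 10, 6, 5, 4, 9], [1, 2, 3, 4, 10, 9, 8, 5, 6, 11, 7, 0], [1, 2, 2, 2, 1, 2, 1, 2, 2, 1, 1, 1]),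
  (1, 1, [0, 1, 2, 3, 4, 5, 6, 7, 8, 9, 10, 11], [0, 1, 2, 3, 4, 5, 6, 7, 8, 9, 10, 11], [1, 1, 1, 1, 1, 1, 1, 1, 1, 1, 1, 1]),
  (1, 2, [0, 2, 1, 3, 4, 5, 9, 10, 11, 6, 7, 8], [0, 2, 1, 3, 4, 5, 9, 10, 11, 6, 7, 8], [1, 1, 1, 1, 1, 1, 1, 1, 1, 1, 1, 1]),
  (1, 3, [0, 3, 1, 2, 4, 5, 11, 8, 9, 7, 6, 10], [0, 2, 3, 1, 4, 5, 10, 9, 7, 8, 11, 6], [1, 1, 2, 2, 1, 1, 2, 2, 1, 2, 1, 2]),
  (1, 4, [0, 4, 1, 2, 3, 5, 8, 11, 7, 9, 10, 6], [0, 2, 3, 4, 1, 5, 11, 8, 6, 9, 10, 7], [1, 1, 2, 1, 2, 1, 1, 2, 2, 2, 2, 1]),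
  (1, 5, [0, 5, 1, 2, 3, 4, 10, 7, 11, 6, 8, 9], [0, 2, 3, 4, 5, 1, 9, 7, 10, 11, 6, 8], [1, 1, 2, 1, 1, 2, 2, 1, 2, 1, 2, 2]),
  (1, 6, [0, 6, 1, 2, 3, 9, 11, 10, 8, 4, 7, 5], [0, 2, 3, 4, 9, 11, 1, 10, 8, 5, 7, 6], [1, 2, 1, 1, 2, 1, 2, 2, 2, 1, 1, 2]),
  (1, 7, [0, 7, 1, 2, 3, 11, 6, 4, 5, 8, 9, 10], [0, 2, 3, 4, 7, 8, 6, 1, 9, 10, 11, 5], [1, 2, 2, 2, 2, 1, 1, 1, 1, 1, 2, 2]),
  (1, 8, [0, 8, 1, 2, 3, 10, 5, 6, 9, 11, 4, 7], [0, 2, 3, 4, 10, 6, 7, 11, 1, 8, 5, 9], [1, 1, 1, 2, 1, 1, 2, 2, 1, 1, 2, 1]),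
  (1, 9, [0, 9, 1, 2, 3, 6, 7, 8, 10, 5, 11, 4], [0, 2, 3, 4, 11, 9, 5, 6, 7, 1, 8, 10], [1, 2, 1, 1, 1, 2, 1, 2, 1, 2, 2, 2]),
  (1, 10, [0, 10, 1, 2, 3, 8, 4, 9, 6, 7, 5, 11], [0, 2, 3, 4, 6, 10, 8, 9, 5, 7, 1, 11], [1, 1, 1, 2, 1, 1, 1, 1, 2, 2, 1, 2]),
  (1, 11, [0, 11, 1, 2, 3, 7, 9, 5, 4, 10, 6, 8], [0, 2, 3, 4, 8, 7, 10, 5, 11, 6, 9, 1], [1, 2, 2, 2, 1, 2, 1, 2, 2, 1, 1, 1]),
  (2, 2, [0, 1, 2, 3, 4, 5, 6, 7, 8, 9, 10, 11], [0, 1, 2, 3, 4, 5, 6, 7, 8, 9, 10, 11], [1, 1, 1, 1, 1, 1, 1, 1, 1, 1, 1, 1]),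
  (2, 3, [0, 1, 3, 2, 4, 5, 7, 6, 10, 11, 8, 9], [0, 1, 3, 2, 4, 5, 7, 6, 10, 11, 8, 9], [1, 1, 2, 2, 1, 1, 2, 2, 1, 2, 1, 2]),
  (2, 4, [0, 1, 4, 2, 3, 5, 9, 10, 6, 8, 11, 7], [0, 1, 3, 4, 2, 5, 8, 11, 9, 6, 7, 10], [1, 1, 2, 1, 2, 1, 1, 2, 2, 2, 2, 1]),
  (2, 5, [0, 1, 5, 2, 3, 4, 6, 8, 9, 10, 7, 11], [0, 1, 3, 4, 5, 2, 6, 10, 7, 8, 9, 11], [1, 1, 2, 1, 1, 2, 2, 1, 2, 1, 2, 2]),
  (2, 6, [0, 1, 6, 2, 3, 9, 4, 7, 5, 11, 10, 8], [0, 1, 3, 4, 6, 8, 2, 7, 11, 5, 10, 9], [1, 2, 1, 1, 2, 1, 2, 2, 2, 1, 1, 2]),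
  (2, 7, [0, 1, 7, 2, 3, 11, 8, 9, 10, 6, 4, 5], [0, 1, 3, 4, 10, 11, 9, 2, 6, 7, 8, 5], [1, 2, 2, 2, 2, 1, 1, 1, 1, 1, 2, 2]),
  (2, 8, [0, 1, 8, 2, 3, 10, 11, 4, 7, 5, 6, 9], [0, 1, 3, 4, 7, 9, 10, 8, 2, 11, 5, 6], [1, 1, 1, 2, 1, 1, 2, 2, 1, 1, 2, 1]),
  (2, 9, [0, 1, 9, 2, 3, 6, 5, 11, 4, 7, 8, 10], [0, 1, 3, 4, 8, 6, 5, 9, 10, 2, 11, 7], [1, 2, 1, 1, 1, 2, 1, 2, 1, 2, 2, 2]),
  (2, 10, [0, 1, 10, 2, 3, 8, 7, 5, 11, 4, 9, 6], [0, 1, 3, 4, 9, 7, 11, 6, 5, 10, 2, 8], [1, 1, 1, 2, 1, 1, 1, 1, 2, 2, 1, 2]),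
  (2, 11, [0, 1, 11, 2, 3, 7, 10, 6, 8, 9, 5, 4], [0, 1, 3, 4, 11, 10, 7, 5, 8, 9, 6, 2], [1, 2, 2, 2, 1, 2, 1, 2, 2, 1, 1, 1]),
  (3, 3, [0, 1, 2, 3, 4, 5, 6, 7, 8, 9, 10, 11], [0, 1, 2, 3, 4, 5, 6, 7, 8, 9, 10, 11], [1, 1, 1, 1, 1, 1, 1, 1, 1, 1, 1, 1]),
  (3, 4, [0, 1, 2, 4, 3, 5, 10, 9, 11, 7, 6, 8], [0, 1, 2, 4, 3, 5, 10, 9, 11, 7, 6, 8], [1, 1, 1, 1, 1, 1, 1, 1, 1, 1, 1, 1]),
  (3, 5, [0, 1, 2, 5, 3, 4, 8, 6, 7, 11, 9, 10], [0, 1, 2, 4, 5, 3, 7, 8, 6, 10, 11, 9], [1, 1, 1, 1, 1, 1, 1, 1, 1, 1, 1, 1]),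
  (3, 6, [0, 1, 2, 6, 3, 9, 7, 4, 10, 8, 5, 11], [0, 1, 2, 4, 7, 10, 3, 6, 9, 5, 8, 11], [1, 2, 2, 1, 1, 1, 1, 1, 1, 1, 1, 1]),
  (3, 7, [0, 1, 2, 7, 3, 11, 9, 8, 4, 5, 10, 6], [0, 1, 2, 4, 8, 9, 11, 3, 7, 6, 10, 5], [1, 2, 1, 2, 2, 2, 2, 2, 2, 2, 2, 2]),
  (3, 8, [0, 1, 2, 8, 3, 10, 4, 11, 6, 9, 7, 5], [0, 1, 2, 4, 6, 11, 8, 10, 3, 9, 5, 7], [1, 1, 2, 2, 2, 2, 2, 2, 2, 2, 2, 2]),
  (3, 9, [0, 1, 2, 9, 3, 6, 11, 5, 8, 10, 4, 7], [0, 1, 2, 4, 10, 7, 5, 11, 8, 3, 9, 6], [1, 2, 2, 1, 1, 1, 1, 1, 1, 1, 1, 1]),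
  (3, 10, [0, 1, 2, 10, 3, 8, 5, 7, 9, 6, 11, 4], [0, 1, 2, 4, 11, 6, 9, 7, 5, 8, 3, 10], [1, 1, 2, 2, 2, 2, 2, 2, 2, 2, 2, 2]),
  (3, 11, [0, 1, 2, 11, 3, 7, 6, 10, 5, 4, 8, 9], [0, 1, 2, 4, 9, 8, 6, 5, 10, 11, 7, 3], [1, 2, 1, 2, 2, 2, 2, 2, 2, 2, 2, 2]),
  (4, 4, [0, 1, 2, 3, 4, 5, 6, 7, 8, 9, 10, 11], [0, 1, 2, 3, 4, 5, 6, 7, 8, 9, 10, 11], [1, 1, 1, 1, 1, 1, 1, 1, 1, 1, 1, 1]),
  (4, 5, [0, 1, 2, 3, 5, 4, 9, 11, 10, 6, 8, 7], [0, 1, 2, 3, 5, 4, 9, 11, 10, 6, 8, 7], [1, 1, 1, 1, 1, 1, 1, 1, 1, 1, 1, 1]),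
  (4, 6, [0, 1, 2, 3, 6, 9, 5, 8, 11, 4, 7, 10], [0, 1, 2, 3, 9, 6, 4, 10, 7, 5, 11, 8], [1, 2, 2, 1, 1, 1, 1, 1, 1, 1, 1, 1]),
  (4, 7, [0, 1, 2, 3, 7, 11, 10, 5, 6, 8, 9, 4], [0, 1, 2, 3, 11, 7, 8, 4, 9, 10, 6, 5], [1, 2, 1, 2, 2, 2, 2, 2, 2, 2, 2, 2]),
  (4, 8, [0, 1, 2, 3, 8, 10, 7, 9, 5, 11, 4, 6], [0, 1, 2, 3, 10, 8, 11, 6, 4, 7, 5, 9], [1, 1, 2, 2, 2, 2, 2, 2, 2, 2, 2, 2]),
  (4, 9, [0, 1, 2, 3, 9, 6, 4, 10, 7, 5, 11, 8], [0, 1, 2, 3, 6, 9, 5, 8, 11, 4, 7, 10], [1, 2, 2, 1, 1, 1, 1, 1, 1, 1, 1, 1]),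
  (4, 10, [0, 1, 2, 3, 10, 8, 11, 6, 4, 7, 5, 9], [0, 1, 2, 3, 8, 10, 7, 9, 5, 11, 4, 6], [1, 1, 2, 2, 2, 2, 2, 2, 2, 2, 2, 2]),
  (4, 11, [0, 1, 2, 3, 11, 7, 8, 4, 9, 10, 6, 5], [0, 1, 2, 3, 7, 11, 10, 5, 6, 8, 9, 4], [1, 2, 1, 2, 2, 2, 2, 2, 2, 2, 2, 2])]

/-- A permutation of twelve points from its two tables. -/
def ptFn (l : List ℕ) (p : ArrayPt) : ArrayPt := pts12.getD (l.getD (num p).1 0) (0, 0)

theorem steps_inv : ∀ t ∈ steps, ∀ p : ArrayPt, ptFn t.2.2.2.1 (ptFn t.2.2.1 p) = p ∧ ptFn t.2.2.1 (ptFn t.2.2.2.1 p) = p := by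
  decide +kernel

theorem steps_code : ∀ t ∈ steps, ∀ k : Fin 6, ∀ p : ArrayPt,
    t.2.2.2.2.getD (num p).1 0 * g k (ptFn t.2.2.2.1 p) =
      recon (fun i => t.2.2.2.2.getD (num (infoPts.getD i.1 (0, 0))).1 0 * g k (ptFn t.2.2.2.1 (infoPts.getD i.1 (0, 0)))) p := by
  decide +kernel

theorem steps_cover : ∀ k : Fin 5, ∀ j : Fin 12, k.1 ≤ j.1 → ∃ t ∈ steps, t.1 = k.1 ∧ t.2.1 = j.1 ∧
    t.2.2.1.getD k.1 0 = j.1 ∧ ∀ i : Fin 12, i.1 < k.1 → t.2.2.1.getD i.1 0 = i.1 := by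
  decide +kernel

theorem signs_unit : ∀ t ∈ steps, ∀ i : Fin 12, t.2.2.2.2.getD i.1 0 = 1 ∨ t.2.2.2.2.getD i.1 0 = -1 := by
  decide +kernel

theorem recon_mem (a : Fin 6 → ZMod 3) : recon a ∈ ternaryGolayCode := by
  have hg : ∀ k : Fin 6, (fun p => g k p) ∈ ternaryGolayCode := by
    intro k
    have gen : ∀ k : Fin 6, ∃ n : Fin 729, ∀ p, word n p = g k p := by decide +kernel
    obtain ⟨n, hn⟩ := gen k
    rw [← funext hn]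
    exact word_mem n
  have e : recon a = ∑ k : Fin 6, a k • fun p => g k p := by
    funext p
    simp only [recon, Fin.sum_univ_six, Pi.add_apply, Pi.smul_apply, smul_eq_mul]
  rw [e]
  exact Submodule.sum_mem _ fun k _ => Submodule.smul_mem _ _ (hg k)

/-- A monomial map preserves the code. -/
def Pres (σ : Equiv.Perm ArrayPt) (c : ArrayPt → (ZMod 3)ˣ) : Prop :=
  ∀ x ∈ ternaryGolayCode, monomialMap σ c x ∈ ternaryGolayCode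

theorem pres_one : Pres 1 1 := fun x hx => by
  have : monomialMap (1 : Equiv.Perm ArrayPt) 1 x = x := funext fun i => by simp [monomialMap, Equiv.Perm.one_symm]
  rwa [this]

theorem pres_mul {σ τ : Equiv.Perm ArrayPt} {c d : ArrayPt → (ZMod 3)ˣ} (h : Pres σ c) (h' : Pres τ d) :
    Pres (σ * τ) (fun i => c i * d (σ.symm i)) := fun x hx => by
  have : monomialMap (σ * τ) (fun i => c i * d (σ.symm i)) x = monomialMap σ c (monomialMap τ d x) := funext fun i => by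
    simp only [monomialMap, Units.val_mul]
    rw [mul_assoc]
    rfl
  rw [this]
  exact h _ (h' _ hx)

theorem pres_step {k : Fin 5} {j : Fin 12} (hkj : k.1 ≤ j.1) : ∃ (σ : Equiv.Perm ArrayPt) (c : ArrayPt → (ZMod 3)ˣ),
    Pres σ c ∧ σ (num.symm ⟨k.1, k.2.trans (by norm_num)⟩) = num.symm j ∧
      ∀ i : Fin 12, i.1 < k.1 → σ (num.symm i) = num.symm i := by
  obtain ⟨t, ht, -, -, hk, hi⟩ := steps_cover k j hkj
  let σ : Equiv.Perm ArrayPt := ⟨ptFn t.2.2.1, ptFn t.2.2.2.1, fun p => (steps_inv t ht p).1, fun p => (steps_inv t ht p).2⟩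
  have hcval : ∀ v : ZMod 3, v = 1 ∨ v = -1 → (((if v = 1 then 1 else -1 : (ZMod 3)ˣ)) : ZMod 3) = v := by decide +kernel
  refine ⟨σ, fun p => if t.2.2.2.2.getD (num p).1 0 = 1 then 1 else -1, fun x hx => ?_, ?_, ?_⟩
  · have hx' := eq_recon hx
    rw [hx']
    generalize (fun k : Fin 6 => x (infoPts.getD k.1 (0, 0))) = a
    let img : Fin 6 → ArrayPt → ZMod 3 := fun k p => t.2.2.2.2.getD (num p).1 0 * g k (ptFn t.2.2.2.1 p)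
    have himg : ∀ k, img k ∈ ternaryGolayCode := fun k => by
      rw [show img k = _ from funext (steps_code t ht k)]
      exact recon_mem _
    have e : monomialMap σ (fun p => if t.2.2.2.2.getD (num p).1 0 = 1 then 1 else -1) (recon a) = ∑ k, a k • img k := by
      funext p
      simp only [monomialMap, recon, Fin.sum_univ_six, Pi.add_apply, Pi.smul_apply, smul_eq_mul, img,
        hcval _ (signs_unit t ht (num p))]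
      rw [show σ.symm p = ptFn t.2.2.2.1 p from rfl]
      ring
    rw [e]
    exact Submodule.sum_mem _ fun k _ => Submodule.smul_mem _ _ (himg k)
  · show ptFn t.2.2.1 _ = _
    rw [ptFn, Equiv.apply_symm_apply, hk]
    rfl
  · intro i hik
    show ptFn t.2.2.1 _ = _
    rw [ptFn, Equiv.apply_symm_apply, hi i hik]
    rfl

/-- The points numbered below five. -/
def low (i : Fin 5) : ArrayPt := num.symm ⟨i.1, i.2.trans (by norm_num)⟩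

theorem exists_pres (y : Fin 5 ↪ ArrayPt) : ∀ k : ℕ, k ≤ 5 → ∃ (σ : Equiv.Perm ArrayPt) (c : ArrayPt → (ZMod 3)ˣ),
    Pres σ c ∧ ∀ i : Fin 5, i.1 < k → σ (low i) = y i := by
  intro k
  induction k with
  | zero => exact fun _ => ⟨1, 1, pres_one, fun i hi => absurd hi (Nat.not_lt_zero _)⟩
  | succ k ih =>
    intro hk
    obtain ⟨σ, c, hσ, hlow⟩ := ih (by omega)
    set j := num (σ.symm (y ⟨k, by omega⟩)) with hj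
    have hkj : k ≤ j.1 := by
      by_contra hlt
      rw [not_le] at hlt
      have h1 := hlow ⟨j.1, by omega⟩ hlt
      rw [show low ⟨j.1, by omega⟩ = σ.symm (y ⟨k, by omega⟩) from (num.symm_apply_eq).2 hj,
        Equiv.apply_symm_apply] at h1
      have := congrArg Fin.val (y.injective h1)
      simp only at this
      omega
    obtain ⟨τ, d, hτ, hτk, hτfix⟩ := pres_step (k := ⟨k, by omega⟩) (j := j) hkj
    refine ⟨σ * τ, _, pres_mul hσ hτ, fun i hi => ?_⟩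
    rw [Equiv.Perm.mul_apply]
    rcases Nat.lt_succ_iff_lt_or_eq.1 hi with h | h
    · rw [show τ (low i) = low i from hτfix _ h, hlow i h]
    · have e : i = ⟨k, by omega⟩ := Fin.ext h
      rw [e, show τ (low ⟨k, by omega⟩) = num.symm j from hτk, hj, Equiv.symm_apply_apply, Equiv.apply_symm_apply]

theorem ternarySupport_monomial (σ : Equiv.Perm ArrayPt) (c : ArrayPt → (ZMod 3)ˣ) (x : ArrayPt → ZMod 3) :
    ternarySupport (monomialMap σ c x) = (ternarySupport x).image σ := by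
  ext i
  simp only [ternarySupport, monomialMap, Finset.mem_filter, Finset.mem_univ, true_and, Finset.mem_image, ne_eq,
    mul_eq_zero, Units.ne_zero, false_or]
  exact ⟨fun h => ⟨σ.symm i, h, σ.apply_symm_apply i⟩, by rintro ⟨a, ha, rfl⟩; rwa [σ.symm_apply_apply]⟩

/-- The hexads. -/
def hexads : Set (Finset ArrayPt) := {h | ∃ x ∈ ternaryGolayCode, ternarySupport x = h ∧ h.card = 6}

theorem perm_part : {σ : Equiv.Perm ArrayPt | ∃ c, Pres σ c} = (setSystemAut hexads : Set (Equiv.Perm ArrayPt)) ∧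
    Nat.card (setSystemAut hexads) = 95040 := by
  have hα : Fintype.card ArrayPt = 12 := by simp [ArrayPt]
  obtain ⟨-, h5, hs⟩ := Search.aut12 hα (show IsSteinerSystem 5 6 hexads from steiner.1) _ baseDodecad_mem
  haveI := h5
  refine ⟨Set.ext fun σ => ⟨?_, fun hσ => ?_⟩, by rw [card_of_sharply (k := 5) (by omega) hs, hα]; rfl⟩
  · rintro ⟨c, hc⟩
    show σ ∈ setSystemAut hexads
    have hsub : ∀ h ∈ hexads, h.image σ ∈ hexads := by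
      rintro _ ⟨x, hx, rfl, h6⟩
      exact ⟨_, hc x hx, ternarySupport_monomial σ c x,
        by rw [Finset.card_image_of_injective _ σ.injective, h6]⟩
    rw [mem_setSystemAut]
    exact Set.eq_of_subset_of_ncard_le (by rintro _ ⟨h, hh, rfl⟩; exact hsub h hh)
      (by rw [Set.ncard_image_of_injective _ (Finset.image_injective σ.injective)]) (Set.toFinite _)
  · let lw : Fin 5 ↪ ArrayPt := ⟨low, fun a b h => Fin.ext (Fin.mk.inj (num.symm.injective h))⟩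
    obtain ⟨τ, c, hτ, hlow⟩ := exists_pres (lw.trans σ.toEmbedding) 5 le_rfl
    refine ⟨c, ?_⟩
    suffices e : σ = τ by rw [e]; exact hτ
    have hτA : τ ∈ setSystemAut hexads := by
      have hsub : ∀ h ∈ hexads, h.image τ ∈ hexads := by
        rintro _ ⟨x, hx, rfl, h6⟩
        exact ⟨_, hτ x hx, ternarySupport_monomial τ c x,
          by rw [Finset.card_image_of_injective _ τ.injective, h6]⟩
      rw [mem_setSystemAut]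
      exact Set.eq_of_subset_of_ncard_le (by rintro _ ⟨h, hh, rfl⟩; exact hsub h hh)
        (by rw [Set.ncard_image_of_injective _ (Finset.image_injective τ.injective)]) (Set.toFinite _)
    have hm : (⟨τ, hτA⟩⁻¹ * ⟨σ, hσ⟩ : setSystemAut hexads) ∈ stabilizer (setSystemAut hexads) lw := by
      refine Function.Embedding.ext fun i => ?_
      show τ⁻¹ (σ (low i)) = low i
      rw [Equiv.Perm.inv_def, Equiv.symm_apply_eq, hlow i i.2]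
      rfl
    rw [hs, Subgroup.mem_bot, inv_mul_eq_one] at hm
    exact (congrArg Subtype.val hm).symm

theorem card_monomial : Nat.card {f : Equiv.Perm ArrayPt × (ArrayPt → (ZMod 3)ˣ) // Pres f.1 f.2} = 190080 := by
  obtain ⟨hP, hcard⟩ := perm_part
  have hmem : ∀ σ : Equiv.Perm ArrayPt, (∃ c, Pres σ c) ↔ σ ∈ setSystemAut hexads := fun σ => Set.ext_iff.1 hP σ
  choose c hc using fun σ : setSystemAut hexads => (hmem σ).2 σ.2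
  have hneg : ∀ (σ : Equiv.Perm ArrayPt) (d : ArrayPt → (ZMod 3)ˣ), Pres σ d → ∀ u : (ZMod 3)ˣ, Pres σ fun p => u * d p := by
    intro σ d hd u x hx
    have : monomialMap σ (fun p => u * d p) x = (u : ZMod 3) • monomialMap σ d x := funext fun i => by
      simp [monomialMap, mul_assoc]
    rw [this]
    exact Submodule.smul_mem _ _ (hd x hx)
  let F : setSystemAut hexads × (ZMod 3)ˣ → {f : Equiv.Perm ArrayPt × (ArrayPt → (ZMod 3)ˣ) // Pres f.1 f.2} :=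
    fun s => ⟨(s.1, fun p => s.2 * c s.1 p), hneg _ _ (hc s.1) s.2⟩
  have hF : Function.Bijective F := by
    refine ⟨fun s s' h => ?_, fun f => ?_⟩
    · simp only [F, Subtype.mk.injEq, Prod.mk.injEq] at h
      obtain ⟨s, u⟩ := s
      obtain ⟨s', u'⟩ := s'
      obtain rfl : s = s' := Subtype.ext h.1
      have := congrFun h.2 (0, 0)
      simp only [mul_left_inj] at this
      rw [this]
    · obtain ⟨⟨σ, d⟩, hd⟩ := f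
      let s : setSystemAut hexads := ⟨σ, (hmem σ).1 ⟨d, hd⟩⟩
      have h1 : Pres 1 fun i => d i * (c s i)⁻¹ := by
        intro x hx
        have hinv : ∃ y ∈ ternaryGolayCode, monomialMap σ (c s) y = x := by
          have hmaps : Set.MapsTo (monomialMap σ (c s)) (ternaryGolayCode : Set (ArrayPt → ZMod 3)) ternaryGolayCode :=
            fun y hy => hc s y hy
          have hinj : Set.InjOn (monomialMap σ (c s)) (ternaryGolayCode : Set (ArrayPt → ZMod 3)) := by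
            intro y _ z _ e
            funext p
            have := congrFun e (σ p)
            simpa [monomialMap] using this
          exact (Set.eq_of_subset_of_ncard_le hmaps.image_subset (by rw [Set.InjOn.ncard_image hinj]) (Set.toFinite _)).ge hx
        obtain ⟨y, hy, rfl⟩ := hinv
        have : monomialMap (1 : Equiv.Perm ArrayPt) (fun i => d i * (c s i)⁻¹) (monomialMap σ (c s) y) = monomialMap σ d y :=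
          funext fun i => by
            simp only [monomialMap, Equiv.Perm.one_symm, Equiv.Perm.one_apply, Units.val_mul]
            rw [mul_assoc, ← mul_assoc ((↑(c s i)⁻¹ : ZMod 3)), Units.inv_mul, one_mul]
        rw [this]
        exact hd y hy
      rcases sign_changes h1 with e | e
      · exact ⟨(s, 1), Subtype.ext (Prod.ext rfl (funext fun p => by
          show 1 * c s p = d p
          rw [one_mul]; exact (mul_inv_eq_one.1 (e p)).symm))⟩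
      · exact ⟨(s, -1), Subtype.ext (Prod.ext rfl (funext fun p => by
          show -1 * c s p = d p
          exact (mul_inv_eq_iff_eq_mul.1 (e p)).symm))⟩
  rw [← Nat.card_eq_of_bijective F hF, Nat.card_prod, hcard, Nat.card_eq_fintype_card, ZMod.card_units]

end CfsgLib.Spor.Ternary
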