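/-
Stabilizers of a sextet and of a trio: induced groups, the normal subgroup of order 64, and the trio quotient.
-/
import Cfsg.Agent.Lib.Spor.TrioShapeData
import Cfsg.Agent.Lib.Spor.StabFacts
import Cfsg.Agent.Lib.Spor.QuartetStab
import Mathlib.GroupTheory.Perm.ClosureSwap
import Mathlib.LinearAlgebra.Matrix.GeneralLinearGroup.Card

set_option autoImplicit false

namespace CfsgLib.Spor.TrioShape

open Cfsg MulAction CfsgLib.Spor.M11Outer CfsgLib.Spor.QuartetStab
open scoped Pointwise

/-! ### Generalities -/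

section General

variable {S : Finset (Finset GolayPt)}

theorem smul_member (g : stabilizer M24 S) (t : ↥S) : ((g : M24) : Equiv.Perm GolayPt) • (t : Finset GolayPt) ∈ S := by
  have h : ((g : M24) : Equiv.Perm GolayPt) • S = S := g.2
  exact (Finset.ext_iff.1 h _).1 (Finset.smul_mem_smul_finset t.2)

/-- The action of the stabilizer on the members. -/
def memberPerm (S : Finset (Finset GolayPt)) : stabilizer M24 S →* Equiv.Perm ↥S :=
  MonoidHom.mk' (fun g =>
    { toFun := fun t => ⟨_, smul_member g t⟩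
      invFun := fun t => ⟨_, smul_member g⁻¹ t⟩
      left_inv := fun t => Subtype.ext (inv_smul_smul ((g : M24) : Equiv.Perm GolayPt) (t : Finset GolayPt))
      right_inv := fun t => Subtype.ext (smul_inv_smul ((g : M24) : Equiv.Perm GolayPt) (t : Finset GolayPt)) })
    fun g h => Equiv.ext fun t => Subtype.ext (mul_smul ((g : M24) : Equiv.Perm GolayPt)
      ((h : M24) : Equiv.Perm GolayPt) (t : Finset GolayPt))

theorem mem_stab {g : Equiv.Perm GolayPt} (hg : g ∈ M24) (h : g • S = S) :
    (⟨g, hg⟩ : M24) ∈ stabilizer M24 S := h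

theorem smul_eq_of_forall {g : Equiv.Perm GolayPt} (h : ∀ t ∈ S, g • t = t) : g • S = S := by
  refine Finset.eq_of_subset_of_card_le (fun o ho => ?_) (Finset.card_smul_finset g S).ge
  obtain ⟨o', ho', rfl⟩ := Finset.mem_smul_finset.1 ho
  rwa [h o' ho']

theorem mem_map_ker (g : Equiv.Perm GolayPt) (hg : g ∈ M24) (h : ∀ t ∈ S, g • t = t) :
    g ∈ ((memberPerm S).ker).map (M24.subtype.comp (stabilizer M24 S).subtype) :=
  ⟨⟨⟨g, hg⟩, smul_eq_of_forall h⟩, Equiv.ext fun t => Subtype.ext (h t t.2), rfl⟩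

end General

/-- The test for the induced transpositions. -/
def witTest (k x : ℕ) (wit : List ℕ) : Bool :=
  wit.all (fun w => isM24Code w && (famActP k w x == x)) &&
    (famList k x).all fun a => (famList k x).all fun b => (a == b) || wit.any fun w =>
      (permMask w a == b) && ((permMask w b == a) && (famList k x).all fun c => (c == a) || (c == b) ||
        (permMask w c == c))

theorem memberPerm_surjective {k x : ℕ} {wit : List ℕ} (h : witTest k x wit = true) :
    Function.Surjective (memberPerm (famSet k x)) := by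
  classical
  rw [← MonoidHom.range_eq_top, eq_top_iff, ← Equiv.Perm.closure_isSwap, Subgroup.closure_le]
  rintro σ ⟨s, t, hst, rfl⟩
  obtain ⟨a, ha, hsa⟩ := mem_famSet.1 s.2
  obtain ⟨b, hb, htb⟩ := mem_famSet.1 t.2
  simp only [witTest, Bool.and_eq_true, List.all_eq_true, beq_iff_eq, Bool.or_eq_true, List.any_eq_true] at h
  have hne : a ≠ b := fun e => hst (Subtype.ext (by rw [← hsa, ← htb, e]))
  obtain ⟨w, hw, e1, e2, e3⟩ := (h.2 a ha b hb).resolve_left hne
  obtain ⟨hM, hfix⟩ := h.1 w hw
  have hp := isPermCode_of_isM24Code hM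
  refine ⟨⟨⟨permOf w, permOf_mem_M24 hM⟩, mem_stab _ (by rw [smul_famSetP hp, hfix])⟩, Equiv.ext fun u => ?_⟩
  apply Subtype.ext
  show permOf w • (u : Finset GolayPt) = _
  rcases eq_or_ne u s with rfl | hus
  · rw [Equiv.swap_apply_left, ← hsa, smul_pts hp, e1, htb]
  rcases eq_or_ne u t with rfl | hut
  · rw [Equiv.swap_apply_right, ← htb, smul_pts hp, e2, hsa]
  rw [Equiv.swap_apply_of_ne_of_ne hus hut]
  obtain ⟨c, hc, huc⟩ := mem_famSet.1 u.2
  have hca : c ≠ a := fun e => hus (Subtype.ext (by rw [← huc, ← hsa, e]))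
  have hcb : c ≠ b := fun e => hut (Subtype.ext (by rw [← huc, ← htb, e]))
  rw [← huc, smul_pts hp, (e3 c hc).resolve_left (by simp [hca, hcb])]

/-- The test for the normal elementary subgroup. -/
def normTest (k x : ℕ) (gens nGens : List ℕ) (T : List (List (ℕ × ℕ × ℕ))) (n : ℕ) : Bool :=
  let L := codes T n
  gens.all isPermCode && nGens.all (fun a => isM24Code a && (famActP k a x == x)) && treeOk nGens T n &&
    decide L.Nodup && L.all (fun c => (permMulCode c c == idPacked) &&
      nGens.all fun a => L.contains (permMulCode c a)) &&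
    L.contains idPacked && gens.all fun g => nGens.all fun a => L.any fun b => permMulCode g a == permMulCode b g

theorem exists_elementary {k x n : ℕ} {gens nGens : List ℕ} {T : List (List (ℕ × ℕ × ℕ))}
    (hmap : (stabilizer M24 (famSet k x)).map M24.subtype = codesClosure gens)
    (h : normTest k x gens nGens T n = true) :
    ∃ N : Subgroup (stabilizer M24 (famSet k x)), N.Normal ∧ Nat.card N = n ∧ (∀ y ∈ N, y * y = 1) ∧
      ∀ y ∈ N, ((y : M24) : Equiv.Perm GolayPt) ∈ codesClosure nGens := by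
  classical
  simp only [normTest, Bool.and_eq_true, decide_eq_true_eq] at h
  obtain ⟨⟨⟨⟨⟨⟨hgp, hng⟩, htree⟩, hnd⟩, hsq⟩, hid⟩, hconj⟩ := h
  have hngens : ∀ a ∈ nGens, isPermCode a = true ∧
      permOf a ∈ (stabilizer M24 (famSet k x)).map M24.subtype := by
    intro a ha
    have h' := List.all_eq_true.1 hng a ha
    simp only [Bool.and_eq_true, beq_iff_eq] at h'
    have hp := isPermCode_of_isM24Code h'.1
    exact ⟨hp, (mem_map_stabilizer _ _).2 ⟨permOf_mem_M24 h'.1, by rw [smul_famSetP hp, h'.2]⟩⟩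
  set K := codesClosure nGens with hK
  have hgK : ∀ a ∈ nGens, permOf a ∈ K := fun a ha => Subgroup.subset_closure ⟨a, ha, rfl⟩
  have hmem : ∀ c ∈ codes T n, isPermCode c = true ∧ permOf c ∈ K ∧ permMulCode c idPacked = c :=
    tree_mem_codes htree hgK
  have hlist : ∀ y ∈ K, ∃ c ∈ codes T n, permOf c = y := by
    intro y hy
    rw [hK, codesClosure, ← Subgroup.mem_toSubmonoid, Subgroup.closure_toSubmonoid_of_finite] at hy
    induction hy using Submonoid.closure_induction_right with
    | one => exact ⟨idPacked, List.contains_iff_mem.1 hid, permOf_idPacked⟩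
    | mul_right u hu v hv ih =>
      obtain ⟨a, ha, rfl⟩ := hv
      obtain ⟨c, hc, rfl⟩ := ih
      have h' := List.all_eq_true.1 hsq c hc
      simp only [Bool.and_eq_true, List.all_eq_true, List.contains_iff_mem] at h'
      exact ⟨_, h'.2 a ha, (permOf_permMulCode (hmem c hc).1 (hngens a ha).1 (hmem _ (h'.2 a ha)).1 rfl).symm⟩
  have hcardK : Nat.card K = n := by
    have e : (K : Set (Equiv.Perm GolayPt)) = (fun c => permOf c) '' ↑(codes T n).toFinset := by
      ext y
      constructor
      · intro hy; obtain ⟨c, hc, e⟩ := hlist y hy; exact ⟨c, List.mem_toFinset.2 hc, e⟩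
      · rintro ⟨c, hc, rfl⟩; exact (hmem c (List.mem_toFinset.1 hc)).2.1
    rw [← SetLike.coe_sort_coe, Nat.card_coe_set_eq, e, Set.InjOn.ncard_image, Set.ncard_coe_finset,
      List.toFinset_card_of_nodup hnd, length_codes]
    intro a ha b hb e
    exact norm_inj (hmem a (List.mem_toFinset.1 ha)).1 (hmem b (List.mem_toFinset.1 hb)).1
      (hmem a (List.mem_toFinset.1 ha)).2.2 (hmem b (List.mem_toFinset.1 hb)).2.2 e
  have hKle : K ≤ (stabilizer M24 (famSet k x)).map M24.subtype :=
    codesClosure_le fun a ha => (hngens a ha).2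
  have hnorm : codesClosure gens ≤ Subgroup.normalizer (K : Set (Equiv.Perm GolayPt)) := by
    refine codesClosure_le fun g hg => ?_
    have hle : K ≤ K.comap (MulAut.conj (permOf g)).toMonoidHom := by
      refine codesClosure_le fun a ha => ?_
      have h' := List.all_eq_true.1 (List.all_eq_true.1 hconj g hg) a ha
      simp only [List.any_eq_true, beq_iff_eq] at h'
      obtain ⟨b, hb, e⟩ := h'
      have hgp' := List.all_eq_true.1 hgp g hg
      rw [permMulCode_eq_iff hgp' (hngens a ha).1 (hmem b hb).1 hgp'] at e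
      show permOf g * permOf a * (permOf g)⁻¹ ∈ K
      rw [e, mul_inv_cancel_right]
      exact (hmem b hb).2.1
    rw [Subgroup.mem_normalizer_iff_map_conj_eq]
    exact Subgroup.eq_of_le_of_card_ge (Subgroup.map_le_iff_le_comap.2 hle)
      (Subgroup.card_map_of_injective (MulAut.conj (permOf g)).injective).ge
  let ι : stabilizer M24 (famSet k x) →* Equiv.Perm GolayPt :=
    M24.subtype.comp (stabilizer M24 (famSet k x)).subtype
  refine ⟨K.comap ι, ⟨fun y hy z => ?_⟩, ?_, fun y hy => ?_, fun y hy => hy⟩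
  · have hz : ι z ∈ Subgroup.normalizer (K : Set (Equiv.Perm GolayPt)) := hnorm (hmap ▸ ⟨(z : M24), z.2, rfl⟩)
    rw [Subgroup.mem_comap, map_mul, map_mul, map_inv]
    exact (Subgroup.mem_normalizer_iff.1 hz _).1 hy
  · rw [← hcardK]
    refine Nat.card_congr (Equiv.ofBijective (fun y => ⟨ι y.1, y.2⟩) ⟨fun a b e => ?_, fun z => ?_⟩)
    · exact Subtype.ext (Subtype.ext (Subtype.ext (congrArg Subtype.val e :)))
    · obtain ⟨w, hw, e⟩ := hKle z.2
      refine ⟨⟨⟨w, hw⟩, ?_⟩, Subtype.ext e⟩
      show M24.subtype w ∈ K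
      rw [e]; exact z.2
  · obtain ⟨c, hc, e⟩ := hlist _ hy
    have h' := List.all_eq_true.1 hsq c hc
    simp only [Bool.and_eq_true, beq_iff_eq] at h'
    refine Subtype.ext (Subtype.ext ?_)
    show ι y * ι y = 1
    rw [← e, permOf_permMulCode (hmem c hc).1 (hmem c hc).1 isPerm_id h'.1, permOf_idPacked]

theorem card_stab {β : Type*} [MulAction (Equiv.Perm GolayPt) β] (X : β) {m n : ℕ}
    (horb : (orbit M24 X).ncard = m) (h : m * n = 244823040) : Nat.card (stabilizer M24 X) = n := by
  have h' := Nat.card_congr (orbitProdStabilizerEquivGroup M24 X)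
  rw [Nat.card_prod, Nat.card_coe_set_eq, horb, card_M24, ← h] at h'
  refine Nat.eq_of_mul_eq_mul_left (Nat.pos_of_ne_zero fun h0 => ?_) h'
  rw [h0, zero_mul] at h; omega

/-! ### The sextet -/

theorem sextet_checks : witTest 6 baseSextet sextetWit = true ∧
    normTest 6 baseSextet sextetStabGens sextetNGens sextetNTree 64 = true := by
  decide +kernel

theorem sextet_facts :
    Function.Surjective (memberPerm (famSet 6 baseSextet)) ∧ Nat.card (memberPerm (famSet 6 baseSextet)).ker = 192 ∧
    ∃ N : Subgroup (stabilizer M24 (famSet 6 baseSextet)), N.Normal ∧ Nat.card N = 64 ∧ ∀ y ∈ N, y * y = 1 := by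
  obtain ⟨N, h1, h2, h3, -⟩ := exists_elementary sextetStab_map sextet_checks.2
  have hs := memberPerm_surjective sextet_checks.1
  refine ⟨hs, ?_, N, h1, h2, h3⟩
  have hc : Nat.card (stabilizer M24 (famSet 6 baseSextet)) = 138240 :=
    card_stab _ (by rw [orbit_baseSextet, ncard_sextets]) (by norm_num)
  have h := Subgroup.card_eq_card_quotient_mul_card_subgroup (memberPerm (famSet 6 baseSextet)).ker
  rw [Nat.card_congr (QuotientGroup.quotientKerEquivOfSurjective _ hs).toEquiv, hc, Nat.card_perm,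
    Nat.card_eq_finsetCard, baseSextet_mem.1, show Nat.factorial 6 = 720 by decide] at h
  omega

/-! ### The trio -/

abbrev V3 := Fin 3 → ZMod 2
abbrev L32 := GL (Fin 3) (ZMod 2)

/-- The vector with the given binary digits. -/
def bitsV (n : ℕ) : V3 := fun i => if n.testBit i.1 then 1 else 0

/-- The number of a vector. -/
def valV (v : V3) : ℕ := (v 0).val + 2 * (v 1).val + 4 * (v 2).val

/-- The packed sextet attached to a vector. -/
def sevenCode (v : V3) : ℕ := sevenSextets.getD (valV v - 1) 0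

/-- The seven sextets as a function of a vector, empty at zero. -/
def Rv (v : V3) : Finset (Finset GolayPt) := if v = 0 then ∅ else famSet 6 (sevenCode v)

/-- The matrix with the given binary digits. -/
def matOf (m : ℕ) : Matrix (Fin 3) (Fin 3) (ZMod 2) :=
  Matrix.of fun i j => if m.testBit (3 * i.1 + j.1) then 1 else 0

/-- A code acts on the seven as the matrix does. -/
def matTest (g m : ℕ) : Bool :=
  decide ((matOf m).det = 1) && (List.range 8).all fun n => (bitsV n == 0) ||
    (famActP 6 g (sevenCode (bitsV n)) == sevenCode ((matOf m).mulVec (bitsV n)) &&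
      !((matOf m).mulVec (bitsV n) == 0))

theorem seven_ok : (∀ v : V3, v ≠ 0 → famOk 6 (sevenCode v) = true) ∧
    (∀ v w : V3, v ≠ 0 → w ≠ 0 → sevenCode v = sevenCode w → v = w) ∧ (∀ v : V3, bitsV (valV v) = v ∧ valV v < 8) := by
  decide +kernel

theorem Rv_injective : Function.Injective Rv := by
  intro v w e
  by_cases hv : v = 0 <;> by_cases hw : w = 0
  · rw [hv, hw]
  · rw [Rv, Rv, if_pos hv, if_neg hw] at e
    have := card_famSet (seven_ok.1 w hw)
    rw [← e, Finset.card_empty] at this
    omega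
  · rw [Rv, Rv, if_neg hv, if_pos hw] at e
    have := card_famSet (seven_ok.1 v hv)
    rw [e, Finset.card_empty] at this
    omega
  · rw [Rv, Rv, if_neg hv, if_neg hw] at e
    exact seven_ok.2.1 v w hv hw (famSet_injective (seven_ok.1 v hv) (seven_ok.1 w hw) e)

/-- Permutations paired with the matrices they induce on the seven sextets. -/
def Comp : Subgroup (Equiv.Perm GolayPt × L32) where
  carrier := {x | ∀ v, x.1 • Rv v = Rv (x.2.1.mulVec v)}
  one_mem' := fun v => by simp
  mul_mem' := fun {x y} hx hy v => by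
    rw [Prod.fst_mul, Prod.snd_mul, mul_smul, hy v, hx, Units.val_mul, Matrix.mulVec_mulVec]
  inv_mem' := fun {x} hx v => by
    rw [Prod.fst_inv, Prod.snd_inv, inv_smul_eq_iff, hx, Matrix.mulVec_mulVec, ← Units.val_mul, mul_inv_cancel,
      Units.val_one, Matrix.one_mulVec]

theorem comp_unique {x y : Equiv.Perm GolayPt × L32} (hx : x ∈ Comp) (hy : y ∈ Comp) (h : x.1 = y.1) :
    x.2 = y.2 := by
  refine Units.ext (Matrix.mulVec_injective.eq_iff.1 ?_ ) |>.symm.symm
  funext v
  exact Rv_injective ((hx v).symm.trans (h ▸ hy v))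

/-- The unit of a binary matrix. -/
noncomputable def glOf (m : ℕ) : L32 :=
  haveI : Fact (Nat.Prime 2) := ⟨Nat.prime_two⟩
  if h : (matOf m).det ≠ 0 then Matrix.GeneralLinearGroup.mkOfDetNeZero (matOf m) h else 1

theorem glOf_val {m : ℕ} (h : (matOf m).det = 1) : (glOf m).1 = matOf m := by
  haveI : Fact (Nat.Prime 2) := ⟨Nat.prime_two⟩
  have h' : (matOf m).det ≠ 0 := by rw [h]; exact one_ne_zero
  exact congrArg Units.val (dif_pos h' : glOf m = _)

theorem matTest_spec {g m : ℕ} (hg : isPermCode g = true) (h : matTest g m = true) :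
    (permOf g, glOf m) ∈ Comp := by
  simp only [matTest, Bool.and_eq_true, decide_eq_true_eq, List.all_eq_true, Bool.or_eq_true, beq_iff_eq,
    Bool.not_eq_true', beq_eq_false_iff_ne] at h
  intro v
  show permOf g • Rv v = Rv ((glOf m).1.mulVec v)
  rw [glOf_val h.1]
  by_cases hv : v = 0
  · subst hv
    rw [Matrix.mulVec_zero, Rv, if_pos rfl, Finset.smul_finset_empty]
  · have h' := h.2 (valV v) (List.mem_range.2 (seven_ok.2.2 v).2)
    rw [(seven_ok.2.2 v).1] at h'
    obtain ⟨e, hne⟩ := h'.resolve_left hv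
    rw [Rv, Rv, if_neg hv, if_neg hne, smul_famSetP hg, e]

/-- The tests on generators, on the subgroup of 64 and on the tree of 168. -/
def trioTest : Bool :=
  (trioStabGens.zip trioMats).all (fun p => isPermCode p.1 && matTest p.1 p.2) &&
    (trioMats.length == trioStabGens.length) &&
    trioNGens.all (fun a => matTest a 273 && (famList 3 baseTrio).all fun o => permMask a o == o) &&
    kerGens.all (fun a => isM24Code a && ((famList 3 baseTrio).all fun o => permMask a o == o)) &&
    treeOk kerGens kerTree 168 && (kerMats.length == 168) && decide kerMats.Nodup &&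
    kerMats.all (fun m => decide (m < 512)) &&
    (List.range 168).all fun i => matTest (code kerTree i) (kerMats.getD i 0)

theorem trio_checks : witTest 3 baseTrio trioWit = true ∧
    normTest 3 baseTrio trioStabGens trioNGens trioNTree 64 = true ∧ trioTest = true ∧ matOf 273 = 1 := by
  decide +kernel

theorem matOf_inj : ∀ m : ℕ, m < 512 → ∀ n : ℕ, n < 512 → matOf m = matOf n → m = n := by
  intro m hm n hn e
  refine Nat.eq_of_testBit_eq fun i => ?_
  rcases Nat.lt_or_ge i 9 with hi | hi
  · have h := congrFun (congrFun e ⟨i / 3, by omega⟩) ⟨i % 3, Nat.mod_lt _ (by norm_num)⟩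
    simp only [matOf, Matrix.of_apply, show 3 * (i / 3) + i % 3 = i from Nat.div_add_mod i 3] at h
    revert h
    cases m.testBit i <;> cases n.testBit i <;> simp
  · rw [Nat.testBit_lt_two_pow (hm.trans_le (Nat.pow_le_pow_right (by norm_num) hi : 2 ^ 9 ≤ 2 ^ i)),
      Nat.testBit_lt_two_pow (hn.trans_le (Nat.pow_le_pow_right (by norm_num) hi : 2 ^ 9 ≤ 2 ^ i))]

theorem trio_facts :
    Function.Surjective (memberPerm (famSet 3 baseTrio)) ∧
    ∃ (N : Subgroup (stabilizer M24 (famSet 3 baseTrio))) (_ : N.Normal), Nat.card N = 64 ∧ (∀ y ∈ N, y * y = 1) ∧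
      Nonempty ((stabilizer M24 (famSet 3 baseTrio)) ⧸ N ≃* L32 × Equiv.Perm (Fin 3)) := by
  classical
  obtain ⟨N, h1, h2, h3, h4⟩ := exists_elementary trioStab_map trio_checks.2.1
  have hs := memberPerm_surjective trio_checks.1
  refine ⟨hs, N, h1, h2, h3, ?_⟩
  have ht := trio_checks.2.2.1
  simp only [trioTest, Bool.and_eq_true, decide_eq_true_eq, beq_iff_eq] at ht
  obtain ⟨⟨⟨⟨⟨⟨⟨⟨hgm, hlen⟩, hN⟩, hker⟩, htree⟩, hkl⟩, hknd⟩, hklt⟩, hkm⟩ := ht
  -- every element of the stabilizer has a matrix
  have hle : codesClosure trioStabGens ≤ Comp.map (MonoidHom.fst _ _) := by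
    refine codesClosure_le fun g hg => ?_
    obtain ⟨i, hi, rfl⟩ := List.mem_iff_getElem.1 hg
    have hi' : i < trioMats.length := by omega
    have hp : (trioStabGens[i], trioMats[i]) ∈ trioStabGens.zip trioMats :=
      List.mem_iff_getElem.2 ⟨i, by rw [List.length_zip]; omega, List.getElem_zip⟩
    have h' := List.all_eq_true.1 hgm _ hp
    simp only [Bool.and_eq_true] at h'
    exact ⟨_, matTest_spec h'.1 h'.2, rfl⟩
  have hex : ∀ g : stabilizer M24 (famSet 3 baseTrio),
      ∃ M : L32, (((g : M24) : Equiv.Perm GolayPt), M) ∈ Comp := by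
    intro g
    obtain ⟨⟨a, M⟩, hM, e⟩ := hle (trioStab_map ▸ ⟨(g : M24), g.2, rfl⟩ :
      ((g : M24) : Equiv.Perm GolayPt) ∈ codesClosure trioStabGens)
    exact ⟨M, (show a = ((g : M24) : Equiv.Perm GolayPt) from e) ▸ hM⟩
  choose ψf hψf using hex
  let ψ : stabilizer M24 (famSet 3 baseTrio) →* L32 :=
    MonoidHom.mk' ψf fun g h => comp_unique (hψf (g * h)) (Comp.mul_mem (hψf g) (hψf h)) rfl
  let eT : ↥(famSet 3 baseTrio) ≃ Fin 3 := (famSet 3 baseTrio).equivFinOfCardEq baseTrio_mem.1
  let Φ : stabilizer M24 (famSet 3 baseTrio) →* L32 × Equiv.Perm (Fin 3) :=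
    ψ.prod (eT.permCongrHom.toMonoidHom.comp (memberPerm (famSet 3 baseTrio)))
  have hfix : ∀ (y : stabilizer M24 (famSet 3 baseTrio)),
      (∀ o ∈ famSet 3 baseTrio, ((y : M24) : Equiv.Perm GolayPt) • o = o) → memberPerm (famSet 3 baseTrio) y = 1 :=
    fun y hy => Equiv.ext fun o => Subtype.ext (hy o o.2)
  have hNK : codesClosure trioNGens ≤ (Comp.comap ((MonoidHom.id _).prod 1) : Subgroup (Equiv.Perm GolayPt)) ⊓
      ⨅ o ∈ famSet 3 baseTrio, stabilizer (Equiv.Perm GolayPt) o := by
    refine codesClosure_le fun a ha => ?_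
    have h' := List.all_eq_true.1 hN a ha
    simp only [Bool.and_eq_true, List.all_eq_true, beq_iff_eq] at h'
    have hp : isPermCode a = true := by
      have := trio_checks.2.1
      simp only [normTest, Bool.and_eq_true] at this
      have h'' := List.all_eq_true.1 this.1.1.1.1.1.2 a ha
      simp only [Bool.and_eq_true] at h''
      exact isPermCode_of_isM24Code h''.1
    refine Subgroup.mem_inf.2 ⟨?_, ?_⟩
    · have := matTest_spec hp h'.1
      rwa [show glOf 273 = 1 from Units.ext (by
        rw [glOf_val (by decide +kernel), trio_checks.2.2.2]; rfl)] at this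
    · simp only [Subgroup.mem_iInf, mem_stabilizer_iff]
      intro o ho
      obtain ⟨m, hm, rfl⟩ := mem_famSet.1 ho
      rw [smul_pts hp, h'.2 m hm]
  have hNker : N ≤ Φ.ker := by
    intro y hy
    obtain ⟨k1, k2⟩ := Subgroup.mem_inf.1 (hNK (h4 y hy))
    simp only [Subgroup.mem_iInf, mem_stabilizer_iff] at k2
    rw [MonoidHom.mem_ker]
    refine Prod.ext (comp_unique (hψf y) k1 rfl) ?_
    show eT.permCongrHom (memberPerm (famSet 3 baseTrio) y) = 1
    rw [hfix y k2, map_one]
  have hkerT : ∀ a ∈ kerGens, permOf a ∈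
      ((memberPerm (famSet 3 baseTrio)).ker).map (M24.subtype.comp (stabilizer M24 (famSet 3 baseTrio)).subtype) := by
    intro a ha
    have h' := List.all_eq_true.1 hker a ha
    simp only [Bool.and_eq_true, List.all_eq_true, beq_iff_eq] at h'
    have hp := isPermCode_of_isM24Code h'.1
    have hall : ∀ o ∈ famSet 3 baseTrio, permOf a • o = o := fun o ho => by
      obtain ⟨m, hm, rfl⟩ := mem_famSet.1 ho
      rw [smul_pts hp, h'.2 m hm]
    exact mem_map_ker (permOf a) (permOf_mem_M24 h'.1) hall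
  have hsurj : Function.Surjective Φ := by
    rintro ⟨M, σ⟩
    obtain ⟨y, hy⟩ := hs (eT.permCongrHom.symm σ)
    -- the fixer of the three octads maps onto the matrices
    have hsub : ∀ i < 168, ∃ z, memberPerm (famSet 3 baseTrio) z = 1 ∧ ψ z = glOf (kerMats.getD i 0) := by
      intro i hi
      obtain ⟨hp, hz, -⟩ := tree_mem htree hkerT i hi
      obtain ⟨z, hz1, hz2⟩ := hz
      refine ⟨z, hz1, ?_⟩
      have hm := matTest_spec hp (List.all_eq_true.1 hkm i (List.mem_range.2 hi))
      rw [← hz2] at hm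
      exact comp_unique (hψf z) hm rfl
    let f : Fin 168 → L32 := fun i => glOf (kerMats.getD i.1 0)
    have hf : Function.Injective f := by
      intro i j e
      have e' := congrArg Units.val e
      have hi := List.all_eq_true.1 hkm i.1 (List.mem_range.2 i.2)
      have hj := List.all_eq_true.1 hkm j.1 (List.mem_range.2 j.2)
      simp only [matTest, Bool.and_eq_true, decide_eq_true_eq] at hi hj
      rw [glOf_val hi.1, glOf_val hj.1] at e'
      have hlt : ∀ k < 168, kerMats.getD k 0 < 512 := fun k hk => by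
        rw [List.getD_eq_getElem _ _ (by omega)]
        exact of_decide_eq_true (List.all_eq_true.1 hklt _ (List.getElem_mem _))
      have e2 := matOf_inj _ (hlt i.1 i.2) _ (hlt j.1 j.2) e'
      rw [List.getD_eq_getElem _ _ (by omega), List.getD_eq_getElem _ _ (by omega)] at e2
      exact Fin.ext ((hknd.getElem_inj_iff).1 e2)
    have h168 : Nat.card L32 = 168 := by
      haveI : Fact (Nat.Prime 2) := ⟨Nat.prime_two⟩
      rw [Matrix.card_GL_field]; simp [Fin.prod_univ_three, ZMod.card]
    obtain ⟨i, hi⟩ := (hf.bijective_of_nat_card_le (by rw [Nat.card_fin, h168])).2 (M * (ψ y)⁻¹)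
    obtain ⟨z, hz1, hz2⟩ := hsub i.1 i.2
    refine ⟨z * y, Prod.ext ?_ ?_⟩
    · show ψ (z * y) = M
      rw [map_mul, hz2]
      show f i * ψ y = M
      rw [hi, inv_mul_cancel_right]
    · show eT.permCongrHom (memberPerm (famSet 3 baseTrio) (z * y)) = σ
      rw [map_mul, hz1, one_mul, hy, MulEquiv.apply_symm_apply]
  have hcard : Nat.card Φ.ker = 64 := by
    haveI : Fact (Nat.Prime 2) := ⟨Nat.prime_two⟩
    have hc : Nat.card (stabilizer M24 (famSet 3 baseTrio)) = 64512 :=
      card_stab _ (by rw [orbit_baseTrio, ncard_trios]) (by norm_num)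
    have h168 : Nat.card L32 = 168 := by
      rw [Matrix.card_GL_field]; simp [Fin.prod_univ_three, ZMod.card]
    have h := Subgroup.card_eq_card_quotient_mul_card_subgroup Φ.ker
    rw [Nat.card_congr (QuotientGroup.quotientKerEquivOfSurjective _ hsurj).toEquiv, hc, Nat.card_prod, h168,
      Nat.card_perm, Nat.card_fin, show Nat.factorial 3 = 6 by decide] at h
    omega
  have hNeq : N = Φ.ker := Subgroup.eq_of_le_of_card_ge hNker (by rw [hcard, h2])
  exact ⟨(QuotientGroup.quotientMulEquivOfEq hNeq).trans (QuotientGroup.quotientKerEquivOfSurjective _ hsurj)⟩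

/-! ### Transport -/

/-- Conjugation between stabilizers of translates. -/
def conjStab {g : Equiv.Perm GolayPt} (hg : g ∈ M24) {S S' : Finset (Finset GolayPt)} (h : g • S = S') :
    stabilizer M24 S ≃* stabilizer M24 S' where
  toFun x := ⟨⟨g * ((x : M24) : Equiv.Perm GolayPt) * g⁻¹,
      M24.mul_mem (M24.mul_mem hg (x : M24).2) (M24.inv_mem hg)⟩, by
    show (g * ((x : M24) : Equiv.Perm GolayPt) * g⁻¹) • S' = S'
    rw [mul_smul, mul_smul, ← h, inv_smul_smul, show ((x : M24) : Equiv.Perm GolayPt) • S = S from x.2]⟩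
  invFun y := ⟨⟨g⁻¹ * ((y : M24) : Equiv.Perm GolayPt) * g,
      M24.mul_mem (M24.mul_mem (M24.inv_mem hg) (y : M24).2) hg⟩, by
    show (g⁻¹ * ((y : M24) : Equiv.Perm GolayPt) * g) • S = S
    rw [mul_smul, mul_smul, h, show ((y : M24) : Equiv.Perm GolayPt) • S' = S' from y.2, inv_smul_eq_iff, h]⟩
  left_inv x := Subtype.ext (Subtype.ext (by simp [mul_assoc]))
  right_inv y := Subtype.ext (Subtype.ext (by simp [mul_assoc]))
  map_mul' x y := Subtype.ext (Subtype.ext (by simp [mul_assoc]))

theorem surjective_of_smul {g : Equiv.Perm GolayPt} (hg : g ∈ M24) {S S' : Finset (Finset GolayPt)} (h : g • S = S')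
    (hs : Function.Surjective (memberPerm S)) (e : Equiv.Perm ↥S') :
    ∃ z ∈ stabilizer M24 S', ∀ t : ↥S', (z : Equiv.Perm GolayPt) • (t : Finset GolayPt) = ((e t : ↥S') : Finset GolayPt) := by
  subst h
  let τ : ↥S ≃ ↥(g • S) :=
    { toFun := fun t => ⟨g • t.1, Finset.smul_mem_smul_finset t.2⟩
      invFun := fun t => ⟨g⁻¹ • t.1, Finset.inv_smul_mem_iff.2 t.2⟩
      left_inv := fun t => Subtype.ext (inv_smul_smul g t.1)
      right_inv := fun t => Subtype.ext (smul_inv_smul g t.1) }
  obtain ⟨x, hx⟩ := hs ((τ.trans e).trans τ.symm)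
  refine ⟨_, (conjStab hg rfl x).2, fun t => ?_⟩
  show (g * ((x : M24) : Equiv.Perm GolayPt) * g⁻¹) • (t : Finset GolayPt) = _
  have h1 := congrArg Subtype.val (Equiv.congr_fun hx (τ.symm t))
  change ((x : M24) : Equiv.Perm GolayPt) • (g⁻¹ • (t : Finset GolayPt)) = _ at h1
  rw [mul_smul, mul_smul, h1]
  show g • (g⁻¹ • ((e (τ (τ.symm t)) : ↥(g • S)) : Finset GolayPt)) = _
  rw [smul_inv_smul, Equiv.apply_symm_apply]

theorem card_fixer_of_smul {g : Equiv.Perm GolayPt} (hg : g ∈ M24) {S S' : Finset (Finset GolayPt)} (h : g • S = S')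
    {n : ℕ} (hn : Nat.card (memberPerm S).ker = n) :
    Nat.card {y : ↥(stabilizer M24 S') // ∀ t ∈ S', ((y : M24) : Equiv.Perm GolayPt) • t = t} = n := by
  subst h
  rw [← hn]
  refine Nat.card_congr (Equiv.subtypeEquiv (conjStab hg rfl).symm.toEquiv fun y => ?_)
  rw [MonoidHom.mem_ker]
  constructor
  · intro hy
    refine Equiv.ext fun t => Subtype.ext ?_
    show (g⁻¹ * ((y : M24) : Equiv.Perm GolayPt) * g) • (t : Finset GolayPt) = t
    rw [mul_smul, mul_smul, hy _ (Finset.smul_mem_smul_finset t.2), inv_smul_smul]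
  · intro hy t ht
    have h1 := congrArg Subtype.val (Equiv.congr_fun hy ⟨g⁻¹ • t, Finset.inv_smul_mem_iff.2 ht⟩)
    change (g⁻¹ * ((y : M24) : Equiv.Perm GolayPt) * g) • (g⁻¹ • t) = g⁻¹ • t at h1
    rw [mul_smul, mul_smul, smul_inv_smul] at h1
    exact MulAction.injective g⁻¹ h1

end CfsgLib.Spor.TrioShape
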