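/-
Generation of the Mathieu group of degree 23 by triples of elements of prime order.
-/
import Cfsg.Agent.Lib.Spor.TripleGenM23Data
import Cfsg.Agent.Lib.Spor.LineTwentyThree
import Cfsg.Agent.Lib.Spor.SylowTwoMathieu
import Cfsg.Agent.Lib.Spor.ElementClasses

set_option autoImplicit false

namespace CfsgLib.Spor.TripleGenM23

open Cfsg MulAction
open scoped Pointwise

/-! ### An inequality for cycles -/

noncomputable section

/-- The functions on the points. -/
abbrev V := GolayPt → ℚ

/-- A permutation minus the identity on functions. -/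
def D (g : Equiv.Perm GolayPt) : V →ₗ[ℚ] V := LinearMap.funLeft ℚ ℚ g - LinearMap.id

theorem D_apply (g : Equiv.Perm GolayPt) (v : V) (p : GolayPt) : D g v p = v (g p) - v p := rfl

theorem finrank_V : Module.finrank ℚ V = 24 := by
  rw [Module.finrank_fintype_fun_eq_card, ← Finset.card_univ, PointSub.card_univ_pts]

theorem orbit_const {g : Equiv.Perm GolayPt} {v : V} (hv : D g v = 0) :
    ∀ h ∈ Subgroup.zpowers g, ∀ p, v (h p) = v p := by
  intro h hh
  rw [Subgroup.zpowers_eq_closure] at hh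
  induction hh using Subgroup.closure_induction with
  | mem y hy =>
    intro p
    have := congrFun hv p
    rw [D_apply, Pi.zero_apply, sub_eq_zero] at this
    rw [Set.mem_singleton_iff.1 hy]
    exact this
  | one => intro p; rfl
  | mul a b _ _ ha hb => intro p; rw [Equiv.Perm.mul_apply, ha, hb]
  | inv a _ ha => intro p; rw [← ha (a⁻¹ p)]; simp

theorem rank_le {g : Equiv.Perm GolayPt} {p f c : ℕ} (hp : p.Prime) (ho : orderOf g = p)
    (hf : (fixSet g).card = f) (hc : 24 + (p - 1) * f = c * p) :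
    Module.finrank ℚ (LinearMap.range (D g)) + c ≤ 24 := by
  classical
  haveI : Fact p.Prime := ⟨hp⟩
  set Z := Subgroup.zpowers g
  haveI : Fintype Z := Fintype.ofFinite _
  have hcard : Fintype.card Z = p := by rw [← Nat.card_eq_fintype_card, Nat.card_zpowers, ho]
  have hfix : ∀ h : Z, h ≠ 1 → Fintype.card (fixedBy GolayPt h) = f := by
    intro h hne
    have hgen : Subgroup.zpowers (h : Equiv.Perm GolayPt) = Z := by
      refine Subgroup.eq_of_le_of_card_ge ((Subgroup.zpowers_le).2 h.2) ?_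
      rw [Nat.card_zpowers, Nat.card_zpowers, ho]
      have hd : orderOf (h : Equiv.Perm GolayPt) ∣ p := by
        rw [Subgroup.orderOf_coe, ← hcard, ← Nat.card_eq_fintype_card]; exact orderOf_dvd_natCard h
      rcases (Nat.dvd_prime hp).1 hd with h1 | h1
      · exact absurd (Subtype.ext (orderOf_eq_one_iff.1 h1)) hne
      · exact h1.ge
    rw [← hf, ← Fintype.card_coe]
    refine Fintype.card_congr (Equiv.subtypeEquivRight fun q => ?_)
    rw [PointSub.mem_fixSet, mem_fixedBy]
    show (h : Equiv.Perm GolayPt) q = q ↔ g q = q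
    constructor
    · intro e
      obtain ⟨k, hk⟩ := Subgroup.mem_zpowers_iff.1 (hgen.symm ▸ Subgroup.mem_zpowers g : g ∈ Subgroup.zpowers (h : Equiv.Perm GolayPt))
      rw [← hk]
      exact Equiv.Perm.zpow_apply_eq_self_of_apply_eq_self e k
    · intro e
      obtain ⟨k, hk⟩ := Subgroup.mem_zpowers_iff.1 h.2
      rw [← hk]
      exact Equiv.Perm.zpow_apply_eq_self_of_apply_eq_self e k
  have hone : Fintype.card (fixedBy GolayPt (1 : Z)) = 24 := by
    rw [← PointSub.card_univ_pts, Finset.card_univ]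
    exact Fintype.card_congr (Equiv.subtypeUnivEquiv fun q => one_smul _ q)
  have hb := MulAction.sum_card_fixedBy_eq_card_orbits_mul_card_group Z GolayPt
  rw [← Finset.add_sum_erase _ _ (Finset.mem_univ (1 : Z)), hone,
    Finset.sum_congr rfl (fun h hh => hfix h (Finset.ne_of_mem_erase hh)), Finset.sum_const,
    Finset.card_erase_of_mem (Finset.mem_univ _), Finset.card_univ, hcard, smul_eq_mul, hc] at hb
  have hc' : c = Fintype.card (Quotient (MulAction.orbitRel Z GolayPt)) :=
    Nat.eq_of_mul_eq_mul_right hp.pos hb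
  let F : (Quotient (MulAction.orbitRel Z GolayPt) → ℚ) →ₗ[ℚ] LinearMap.ker (D g) :=
    LinearMap.codRestrict _ (LinearMap.funLeft ℚ ℚ (Quotient.mk _)) fun φ => by
      rw [LinearMap.mem_ker]
      funext q
      rw [D_apply, Pi.zero_apply, sub_eq_zero]
      exact congrArg φ (Quotient.sound ⟨⟨g, Subgroup.mem_zpowers g⟩, rfl⟩)
  have hF : Function.Injective F := fun φ ψ h => by
    funext o
    induction o using Quotient.inductionOn with
    | h q => exact congrFun (congrArg Subtype.val h) q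
  have h1 := LinearMap.finrank_le_finrank_of_injective hF
  rw [Module.finrank_fintype_fun_eq_card, ← hc'] at h1
  have h2 := LinearMap.finrank_range_add_finrank_ker (D g)
  rw [finrank_V] at h2
  omega

theorem scott (x y : Equiv.Perm GolayPt) (hy : ∀ p, p ≠ none → ∃ g ∈ Subgroup.closure {x, y}, g (some 0) = p) :
    44 ≤ Module.finrank ℚ (LinearMap.range (D x)) + Module.finrank ℚ (LinearMap.range (D y)) +
      Module.finrank ℚ (LinearMap.range (D (x * y)⁻¹)) := by
  classical
  set z := (x * y)⁻¹ with hz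
  let Ly : V →ₗ[ℚ] V := LinearMap.funLeft ℚ ℚ y
  let Lz : V →ₗ[ℚ] V := LinearMap.funLeft ℚ ℚ z
  let Rx := LinearMap.range (D x)
  let Ry := LinearMap.range (D y)
  let Rz := LinearMap.range (D z)
  let σ : Rx × Ry × Rz →ₗ[ℚ] V :=
    (Lz.comp (Ly.comp Rx.subtype)).coprod ((Lz.comp Ry.subtype).coprod Rz.subtype)
  let α : V →ₗ[ℚ] Rx × Ry × Rz :=
    (D x).rangeRestrict.prod ((D y).rangeRestrict.prod (D z).rangeRestrict)
  have hxyz : ∀ p, x (y (z p)) = p := fun p => by
    rw [← Equiv.Perm.mul_apply, ← Equiv.Perm.mul_apply, hz, mul_inv_cancel]; rfl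
  have hσα : LinearMap.range α ≤ LinearMap.ker σ := by
    rintro _ ⟨v, rfl⟩
    rw [LinearMap.mem_ker]
    funext p
    show (v (x (y (z p))) - v (y (z p))) + ((v (y (z p)) - v (z p)) + (v (z p) - v p)) = 0
    rw [hxyz]; ring
  -- the kernel of the second map
  have hker : Module.finrank ℚ (LinearMap.ker α) ≤ 2 := by
    let e : LinearMap.ker α →ₗ[ℚ] ℚ × ℚ :=
      ((LinearMap.proj (none : GolayPt)).prod (LinearMap.proj (some 0 : GolayPt))).comp (LinearMap.ker α).subtype
    have he : Function.Injective e := fun u v h => by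
      have key : ∀ w : LinearMap.ker α, ∀ g ∈ Subgroup.closure {x, y}, ∀ p, (w : V) (g p) = (w : V) p := by
        intro w g hg
        have hw := LinearMap.mem_ker.1 w.2
        induction hg using Subgroup.closure_induction with
        | mem s hs =>
          intro p
          rcases hs with rfl | rfl
          · exact sub_eq_zero.1 (congrFun (congrArg (fun t : Rx × Ry × Rz => (t.1 : V)) hw) p)
          · exact sub_eq_zero.1 (congrFun (congrArg (fun t : Rx × Ry × Rz => (t.2.1 : V)) hw) p)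
        | one => intro p; rfl
        | mul a b _ _ ha hb => intro p; rw [Equiv.Perm.mul_apply, ha, hb]
        | inv a _ ha => intro p; rw [← ha (a⁻¹ p)]; simp
      refine Subtype.ext (funext fun p => ?_)
      obtain ⟨h1, h2⟩ := Prod.ext_iff.1 h
      by_cases hp : p = none
      · subst hp; exact h1
      · obtain ⟨g, hg, rfl⟩ := hy p hp
        rw [key u g hg, key v g hg]
        exact h2
    refine (LinearMap.finrank_le_finrank_of_injective he).trans ?_
    rw [Module.finrank_prod, Module.finrank_self]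
  -- the image of the first map
  set W := LinearMap.range σ
  have hz0 : Rz ≤ W := fun v hv => ⟨(0, 0, ⟨v, hv⟩), by simp [σ]⟩
  have inv_of : ∀ g : Equiv.Perm GolayPt, LinearMap.range (D g) ≤ W → ∀ w ∈ W, LinearMap.funLeft ℚ ℚ g w ∈ W := by
    intro g hg w hw
    have : LinearMap.funLeft ℚ ℚ g w = w + D g w := by funext p; rw [Pi.add_apply, D_apply]; simp [LinearMap.funLeft_apply]
    rw [this]
    exact W.add_mem hw (hg ⟨w, rfl⟩)
  have back : ∀ g : Equiv.Perm GolayPt, LinearMap.range (D g) ≤ W → ∀ v, LinearMap.funLeft ℚ ℚ g v ∈ W → v ∈ W := by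
    intro g hg v hv
    have hinj : Function.Injective (LinearMap.funLeft ℚ ℚ g) :=
      LinearMap.funLeft_injective_of_surjective ℚ ℚ g g.surjective
    have hmap : W.map (LinearMap.funLeft ℚ ℚ g) = W :=
      Submodule.eq_of_le_of_finrank_le (Submodule.map_le_iff_le_comap.2 fun w hw => inv_of g hg w hw)
        (le_of_eq (LinearEquiv.finrank_eq (Submodule.equivMapOfInjective _ hinj W)))
    rw [← hmap] at hv
    obtain ⟨w, hw, e⟩ := hv
    exact hinj e ▸ hw
  have hy0 : Ry ≤ W := fun v hv => back z hz0 v ⟨(0, ⟨v, hv⟩, 0), by simp [σ, Lz]⟩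
  have hx0 : Rx ≤ W := fun v hv => back y hy0 v (back z hz0 _ ⟨(⟨v, hv⟩, 0, 0), by simp [σ, Lz, Ly]⟩)
  have hall : ∀ g ∈ Subgroup.closure {x, y}, LinearMap.range (D g) ≤ W := by
    intro g hg
    induction hg using Subgroup.closure_induction with
    | mem s hs => rcases hs with rfl | rfl; exacts [hx0, hy0]
    | one =>
      rintro _ ⟨v, rfl⟩
      rw [show D 1 v = 0 from funext fun p => by rw [D_apply]; simp]
      exact W.zero_mem
    | mul a b _ _ ha hb =>
      rintro _ ⟨v, rfl⟩
      rw [show D (a * b) v = LinearMap.funLeft ℚ ℚ b (D a v) + D b v from funext fun p => by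
        rw [Pi.add_apply, D_apply, LinearMap.funLeft_apply, D_apply, D_apply, Equiv.Perm.mul_apply]; ring]
      exact W.add_mem (inv_of b hb _ (ha ⟨v, rfl⟩)) (hb ⟨v, rfl⟩)
    | inv a _ ha =>
      rintro _ ⟨v, rfl⟩
      refine back a ha _ ?_
      rw [show LinearMap.funLeft ℚ ℚ a (D a⁻¹ v) = - D a v from funext fun p => by
        rw [Pi.neg_apply, LinearMap.funLeft_apply, D_apply, D_apply]; simp]
      exact W.neg_mem (ha ⟨v, rfl⟩)
  let δ : GolayPt → V := fun p => Pi.single p 1
  have htop : W ⊔ Submodule.span ℚ {δ none, δ (some 0)} = ⊤ := by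
    rw [eq_top_iff, ← (Pi.basisFun ℚ GolayPt).span_eq, Submodule.span_le]
    rintro _ ⟨p, rfl⟩
    rw [Pi.basisFun_apply]
    by_cases hp : p = none
    · subst hp; exact Submodule.mem_sup_right (Submodule.subset_span (Or.inl rfl))
    · obtain ⟨g, hg, rfl⟩ := hy p hp
      have e : D g⁻¹ (δ (some 0)) + δ (some 0) = δ (g (some 0)) := by
        funext q
        rw [Pi.add_apply, D_apply, sub_add_cancel]
        simp only [δ, Pi.single_apply, Equiv.Perm.inv_eq_iff_eq]
      show δ (g (some 0)) ∈ _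
      rw [← e]
      exact Submodule.add_mem_sup (hall _ (Subgroup.inv_mem _ hg) ⟨_, rfl⟩) (Submodule.subset_span (Or.inr rfl))
  have hW : 22 ≤ Module.finrank ℚ W := by
    have h := Submodule.finrank_add_le_finrank_add_finrank W (Submodule.span ℚ {δ none, δ (some 0)})
    rw [htop, finrank_top, finrank_V] at h
    have h2 : Module.finrank ℚ (Submodule.span ℚ ({δ none, δ (some 0)} : Set V)) ≤ 2 := by
      have := finrank_span_finset_le_card (R := ℚ) ({δ none, δ (some 0)} : Finset V)
      rw [Finset.coe_insert, Finset.coe_singleton] at this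
      exact this.trans Finset.card_le_two
    omega
  have hα : 22 ≤ Module.finrank ℚ (LinearMap.range α) := by
    have := LinearMap.finrank_range_add_finrank_ker α
    rw [finrank_V] at this
    omega
  change 22 ≤ Module.finrank ℚ (LinearMap.range σ) at hW
  have h1 := Submodule.finrank_mono hσα
  have h2 := LinearMap.finrank_range_add_finrank_ker σ
  rw [Module.finrank_prod, Module.finrank_prod] at h2
  show 44 ≤ Module.finrank ℚ Rx + Module.finrank ℚ Ry + Module.finrank ℚ Rz
  omega

end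

/-! ### Fixed points -/

theorem M23_eq : Cfsg.Spor.M23 = LineTwentyThree.T := rfl

theorem fix_of_order {g : Equiv.Perm GolayPt} (hg : g ∈ LineTwentyThree.T) {p : ℕ} (hp : p.Prime) (ho : orderOf g = p) :
    (fixSet g).card = if p = 2 then 8 else if p = 3 then 6 else 24 % p := by
  haveI : Fact p.Prime := ⟨hp⟩
  have hne : (fixSet g).Nonempty := ⟨none, PointSub.mem_fixSet.2 hg.2⟩
  have hpos := Finset.card_pos.2 hne
  split_ifs with h2 h3
  · subst h2
    rcases two_fix hg.1 ho with h | h
    · exact h.2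
    · rw [h] at hpos; simp at hpos
  · subst h3
    rcases three_fix hg.1 ho with h | h <;> omega
  · have := hp.two_le
    have h4 : p ≠ 4 := fun e => absurd (e ▸ hp) (by norm_num)
    exact PointSub.fix_card (by omega) hg.1 ho

/-- Number of cycles on the 24 points. -/
def cyc (p : ℕ) : ℕ :=
  if p = 2 then 16 else if p = 3 then 12 else if p = 5 then 8 else if p = 7 then 6 else if p = 11 then 4 else 2

theorem rank_prime {g : Equiv.Perm GolayPt} (hg : g ∈ LineTwentyThree.T) {p : ℕ} (hp : p.Prime)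
    (hd : p ∣ 10200960) (ho : orderOf g = p) :
    (p = 2 ∨ p = 3 ∨ p = 5 ∨ p = 7 ∨ p = 11 ∨ p = 23) ∧
      Module.finrank ℚ (LinearMap.range (D g)) + cyc p ≤ 24 := by
  have hmem : p = 2 ∨ p = 3 ∨ p = 5 ∨ p = 7 ∨ p = 11 ∨ p = 23 := by
    have hd' : p ∣ 2 ^ 7 * 3 ^ 2 * 5 * 7 * 11 * 23 := by norm_num; exact hd
    have two : ∀ {a : ℕ}, a.Prime → p ∣ a → p = a := fun ha h => (Nat.prime_dvd_prime_iff_eq hp ha).1 h
    rcases hp.dvd_mul.1 hd' with h | h
    swap; · exact Or.inr (Or.inr (Or.inr (Or.inr (Or.inr (two (by norm_num) h)))))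
    rcases hp.dvd_mul.1 h with h | h
    swap; · exact Or.inr (Or.inr (Or.inr (Or.inr (Or.inl (two (by norm_num) h)))))
    rcases hp.dvd_mul.1 h with h | h
    swap; · exact Or.inr (Or.inr (Or.inr (Or.inl (two (by norm_num) h))))
    rcases hp.dvd_mul.1 h with h | h
    swap; · exact Or.inr (Or.inr (Or.inl (two (by norm_num) h)))
    rcases hp.dvd_mul.1 h with h | h
    · exact Or.inl (two Nat.prime_two (hp.dvd_of_dvd_pow h))
    · exact Or.inr (Or.inl (two Nat.prime_three (hp.dvd_of_dvd_pow h)))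
  refine ⟨hmem, rank_le hp ho (fix_of_order hg hp ho) ?_⟩
  rcases hmem with rfl | rfl | rfl | rfl | rfl | rfl <;> norm_num [cyc]

/-! ### Generation -/

theorem full_of_orders {N : Subgroup (Equiv.Perm GolayPt)} (hN : N ≤ LineTwentyThree.T)
    (h5 : 5 ∣ Nat.card N) (h7 : 7 ∣ Nat.card N) (h11 : 11 ∣ Nat.card N) (h23 : 23 ∣ Nat.card N) :
    N = LineTwentyThree.T := by
  haveI : Fact (Nat.Prime 23) := ⟨by norm_num⟩
  have hd : Nat.card N ∣ 10200960 := LineTwentyThree.card_T ▸ Subgroup.card_dvd_of_le hN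
  obtain ⟨s, hs, hso⟩ := PointSub.exists_order (H := N) 23 h23
  -- conjugate the element to the translation
  have hts : ∀ u : Equiv.Perm GolayPt, u ∈ LineTwentyThree.T → orderOf u = 23 →
      Nat.card ((Subgroup.zpowers u).subgroupOf LineTwentyThree.T) = 23 ^ (Nat.card LineTwentyThree.T).factorization 23 := by
    intro u hu huo
    rw [Nat.card_congr (Subgroup.subgroupOfEquivOfLe ((Subgroup.zpowers_le).2 hu)).toEquiv, Nat.card_zpowers, huo,
      LineTwentyThree.card_T, show (10200960 : ℕ) = 443520 * 23 by norm_num,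
      Nat.factorization_mul (by norm_num) (by norm_num), Finsupp.add_apply,
      Nat.factorization_eq_zero_of_not_dvd (show ¬ 23 ∣ 443520 by norm_num),
      (show Nat.Prime 23 by norm_num).factorization_self]
    norm_num
  have htT : LineTwentyThree.t ∈ LineTwentyThree.T := LineTwentyThree.F_le LineTwentyThree.t_memF
  obtain ⟨c, hc⟩ := exists_smul_eq LineTwentyThree.T (Sylow.ofCard _ (hts s (hN hs) hso))
    (Sylow.ofCard _ (hts _ htT LineTwentyThree.t_order))
  set g : Equiv.Perm GolayPt := (c : Equiv.Perm GolayPt)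
  set K := N.map (MulAut.conj g).toMonoidHom
  have hK : K ≤ LineTwentyThree.T := by
    rintro _ ⟨u, hu, rfl⟩
    exact LineTwentyThree.T.mul_mem (LineTwentyThree.T.mul_mem c.2 (hN hu)) (LineTwentyThree.T.inv_mem c.2)
  have htK : LineTwentyThree.t ∈ K := by
    have h : (⟨_, htT⟩ : LineTwentyThree.T) ∈
        ((Sylow.ofCard _ (hts _ htT LineTwentyThree.t_order) : Sylow 23 LineTwentyThree.T) : Subgroup LineTwentyThree.T) :=
      Subgroup.mem_subgroupOf.2 (Subgroup.mem_zpowers _)
    rw [← hc] at h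
    obtain ⟨u, hu, he⟩ := h
    exact ⟨(u : Equiv.Perm GolayPt), (Subgroup.zpowers_le).2 hs (Subgroup.mem_subgroupOf.1 hu),
      congrArg Subtype.val he⟩
  have hKc : Nat.card K = Nat.card N := Subgroup.card_map_of_injective (MulEquiv.injective _)
  have hfull : K = LineTwentyThree.T → N = LineTwentyThree.T := fun h =>
    Subgroup.eq_of_le_of_card_ge hN (by rw [← hKc, h])
  have h232 : ¬ 23 ^ 2 ∣ Nat.card K := fun h => by have := (hKc ▸ h).trans hd; norm_num at this
  obtain ⟨m, k, hm, hk, hk1⟩ := LineTwentyThree.count_eq K 23 htK LineTwentyThree.t_order h232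
  set A := K ⊓ Subgroup.normalizer (Subgroup.zpowers LineTwentyThree.t : Set (Equiv.Perm GolayPt))
  have hA : A ≤ LineTwentyThree.F := fun u hu => LineTwentyThree.N23 ⟨hK hu.1, hu.2⟩
  have hm1 : m ∣ 253 := by rw [← hm, ← LineTwentyThree.card_F]; exact Subgroup.card_dvd_of_le hA
  have hm2 : 23 ∣ m := by
    rw [← hm, ← LineTwentyThree.t_order]
    exact Subgroup.orderOf_dvd_natCard A ⟨htK, Subgroup.le_normalizer (Subgroup.mem_zpowers _)⟩
  have hm3 : m = 253 ∨ m = 23 := by
    obtain ⟨i, rfl⟩ := hm2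
    have hi : i ∣ 11 := Nat.dvd_of_mul_dvd_mul_left (by norm_num : 0 < 23) hm1
    rcases (Nat.dvd_prime (by norm_num)).1 hi with rfl | rfl
    · exact Or.inr rfl
    · exact Or.inl rfl
  rcases hm3 with rfl | rfl
  · have hF : LineTwentyThree.F ≤ K :=
      (Subgroup.eq_of_le_of_card_ge hA (by rw [hm, LineTwentyThree.card_F])) ▸ inf_le_left
    rcases LineTwentyThree.max_T hF hK with h | h
    · exfalso
      rw [h, LineTwentyThree.card_F] at hKc
      rw [← hKc] at h5
      norm_num at h5
    · exact hfull h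
  · exfalso
    rw [hKc] at hk
    rw [hk] at hd h5 h7 h11
    have hkd : k ∣ 443520 := Nat.dvd_of_mul_dvd_mul_left (by norm_num : 0 < 23) hd
    have e5 : 5 ∣ k := (Nat.Coprime.dvd_of_dvd_mul_left (by norm_num) h5)
    have e7 : 7 ∣ k := (Nat.Coprime.dvd_of_dvd_mul_left (by norm_num) h7)
    have e11 : 11 ∣ k := (Nat.Coprime.dvd_of_dvd_mul_left (by norm_num) h11)
    have e385 : 385 ∣ k := (show Nat.Coprime 35 11 by norm_num).mul_dvd_of_dvd_of_dvd
      ((show Nat.Coprime 5 7 by norm_num).mul_dvd_of_dvd_of_dvd e5 e7) e11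
    obtain ⟨j, rfl⟩ := e385
    have hj : j ∣ 1152 := Nat.dvd_of_mul_dvd_mul_left (by norm_num : 0 < 385) hkd
    have key : ∀ j < 1153, 1152 % j = 0 → 385 * j % 23 ≠ 1 := by decide +kernel
    exact key j (Nat.lt_succ_of_le (Nat.le_of_dvd (by norm_num) hj)) (Nat.dvd_iff_mod_eq_zero.1 hj) hk1

/-- Repeated product. -/
def powC (c : ℕ) : ℕ → ℕ
  | 0 => idPacked
  | n + 1 => permMulCode (powC c n) c

/-- The value of a word. -/
def wordC (x y : ℕ) : List ℕ → ℕ
  | [] => idPacked
  | i :: l => permMulCode (if i = 0 then x else y) (wordC x y l)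

/-- An element of the given prime order. -/
def ordC (c p : ℕ) : Bool := (powC c p == idPacked) && !((List.range 24).all fun i => permFn c i == i)

def checkOne (t : (ℕ × ℕ × ℕ) × (ℕ × ℕ) × List (List ℕ)) : Bool :=
  inM23 t.2.1.1 && inM23 t.2.1.2 && ordC t.2.1.1 t.1.1 && ordC t.2.1.2 t.1.2.1 &&
    ordC (permMulCode t.2.1.1 t.2.1.2) t.1.2.2 &&
    ((List.range 4).all fun i => ordC (wordC t.2.1.1 t.2.1.2 (t.2.2.getD i [])) ([5, 7, 11, 23].getD i 0))

theorem triples_ok : triples.all checkOne = true := by decide +kernel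

theorem triples_cover : ([2, 3, 5, 7, 11, 23].all fun p => [2, 3, 5, 7, 11, 23].all fun q =>
    [2, 3, 5, 7, 11, 23].all fun r => decide (q < p) || decide (r < q) || (p == 2 && (q == 2 || q == 3)) ||
      decide (cyc p + cyc q + cyc r > 28) || (triples.map fun t => t.1).contains (p, q, r)) = true := by decide +kernel

theorem excluded : ∀ p ∈ [2, 3, 5, 7, 11, 23], ∀ q ∈ [2, 3, 5, 7, 11, 23], ∀ r ∈ [2, 3, 5, 7, 11, 23],
    p ≤ q → q ≤ r → ¬ (p = 2 ∧ q = 2) →
      (((p = 2 ∧ q = 3) ∨ (p = 2 ∧ q = 5 ∧ r = 5) ∨ (p = 2 ∧ q = 5 ∧ r = 7) ∨ (p = 3 ∧ q = 3 ∧ r ≤ 7)) ↔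
        cyc p + cyc q + cyc r > 28) := by decide +kernel

theorem ordC_spec {c p : ℕ} (hc : isPermCode c = true) (hp : p.Prime) (h : ordC c p = true) :
    orderOf (permOf c) = p := by
  haveI : Fact p.Prime := ⟨hp⟩
  simp only [ordC, Bool.and_eq_true, beq_iff_eq, Bool.not_eq_true', List.all_eq_false, List.mem_range] at h
  obtain ⟨h1, i, hi, hne⟩ := h
  have hpow : ∀ n, isPermCode (powC c n) = true ∧ permOf (powC c n) = permOf c ^ n := by
    intro n
    induction n with
    | zero => exact ⟨(by decide +kernel : isPermCode idPacked = true), permOf_idPacked⟩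
    | succ n ih =>
      refine ⟨isPermCode_permMulCode ih.1 hc, ?_⟩
      rw [pow_succ, ← ih.2, permOf_permMulCode ih.1 hc (isPermCode_permMulCode ih.1 hc) rfl]
      rfl
  refine orderOf_eq_prime ?_ fun e => ?_
  · rw [← (hpow p).2, h1, permOf_idPacked]
  · have h2 := congrArg (fun σ : Equiv.Perm GolayPt => ptIdx (σ (idxPt i))) e
    simp only [permOf_idxPt hc hi, Equiv.Perm.one_apply, ptIdx_idxPt _ (permFn_lt hc hi),
      ptIdx_idxPt _ hi] at h2
    exact hne h2

theorem wordC_spec {x y : ℕ} (hx : isPermCode x = true) (hy : isPermCode y = true)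
    {H : Subgroup (Equiv.Perm GolayPt)} (hxH : permOf x ∈ H) (hyH : permOf y ∈ H) :
    ∀ l, isPermCode (wordC x y l) = true ∧ permOf (wordC x y l) ∈ H
  | [] => ⟨(by decide +kernel : isPermCode idPacked = true), by rw [show wordC x y [] = idPacked from rfl, permOf_idPacked]; exact H.one_mem⟩
  | i :: l => by
    obtain ⟨h1, h2⟩ := wordC_spec hx hy hxH hyH l
    have hg : isPermCode (if i = 0 then x else y) = true ∧ permOf (if i = 0 then x else y) ∈ H := by
      split_ifs
      · exact ⟨hx, hxH⟩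
      · exact ⟨hy, hyH⟩
    rw [wordC]
    refine ⟨isPermCode_permMulCode hg.1 h1, ?_⟩
    rw [← permOf_permMulCode hg.1 h1 (isPermCode_permMulCode hg.1 h1) rfl]
    exact H.mul_mem hg.2 h2

theorem main (p q r : ℕ) (hp : p.Prime) (hq : q.Prime) (hr : r.Prime) (hpq : p ≤ q) (hqr : q ≤ r)
    (hp2 : ¬ (p = 2 ∧ q = 2)) (hdvd : p ∣ 10200960 ∧ q ∣ 10200960 ∧ r ∣ 10200960) :
    (∃ x y z : Cfsg.Spor.M23, orderOf x = p ∧ orderOf y = q ∧ orderOf z = r ∧ x * y * z = 1 ∧
        Subgroup.closure {x, y} = ⊤) ↔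
      ¬ ((p = 2 ∧ q = 3) ∨ (p = 2 ∧ q = 5 ∧ r = 5) ∨ (p = 2 ∧ q = 5 ∧ r = 7) ∨ (p = 3 ∧ q = 3 ∧ r ≤ 7)) := by
  classical
  have six : ∀ s : ℕ, s.Prime → s ∣ 10200960 → s ∈ [2, 3, 5, 7, 11, 23] := by
    intro s hs hd
    have hd' : s ∣ 2 ^ 7 * 3 ^ 2 * 5 * 7 * 11 * 23 := by norm_num; exact hd
    have one : ∀ {a : ℕ}, a.Prime → a ∈ [2, 3, 5, 7, 11, 23] → s ∣ a → s ∈ [2, 3, 5, 7, 11, 23] :=
      fun ha hm h => (Nat.prime_dvd_prime_iff_eq hs ha).1 h ▸ hm
    rcases hs.dvd_mul.1 hd' with h | h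
    swap; · exact one (by norm_num) (by decide) h
    rcases hs.dvd_mul.1 h with h | h
    swap; · exact one (by norm_num) (by decide) h
    rcases hs.dvd_mul.1 h with h | h
    swap; · exact one (by norm_num) (by decide) h
    rcases hs.dvd_mul.1 h with h | h
    swap; · exact one (by norm_num) (by decide) h
    rcases hs.dvd_mul.1 h with h | h
    · exact one Nat.prime_two (by decide) (hs.dvd_of_dvd_pow h)
    · exact one Nat.prime_three (by decide) (hs.dvd_of_dvd_pow h)
  have mp := six p hp hdvd.1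
  have mq := six q hq hdvd.2.1
  have mr := six r hr hdvd.2.2
  rw [excluded p mp q mq r mr hpq hqr hp2, not_lt]
  constructor
  · rintro ⟨x, y, z, hx, hy, hz, hxyz, hgen⟩
    set X : Equiv.Perm GolayPt := (x : Equiv.Perm GolayPt)
    set Y : Equiv.Perm GolayPt := (y : Equiv.Perm GolayPt)
    have hcl : Subgroup.closure ({X, Y} : Set (Equiv.Perm GolayPt)) = LineTwentyThree.T := by
      have := congrArg (Subgroup.map Cfsg.Spor.M23.subtype) hgen
      rw [MonoidHom.map_closure, ← MonoidHom.range_eq_map, Subgroup.range_subtype, Set.image_pair] at this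
      exact this
    have h44 := scott X Y fun s hs => by
      rw [hcl]
      obtain ⟨u, rfl⟩ : ∃ u, s = some u := Option.ne_none_iff_exists'.1 hs
      have ht : ∀ n : ℕ, (LineTwentyThree.t ^ n) (some 0) = some (n : ZMod 23) := by
        intro n
        induction n with
        | zero => simp
        | succ n ih => rw [pow_succ', Equiv.Perm.mul_apply, ih, LineTwentyThree.t, ← shift_eq]; simp
      exact ⟨_, Subgroup.pow_mem _ (LineTwentyThree.F_le LineTwentyThree.t_memF) u.val,
        by rw [ht, ZMod.natCast_zmod_val]⟩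
    have hzv : (z : Equiv.Perm GolayPt) = (X * Y)⁻¹ := by
      rw [eq_inv_iff_mul_eq_one]
      have h := congrArg Subtype.val (mul_eq_one_comm.1 hxyz)
      exact h
    have a := (rank_prime x.2 hp hdvd.1 (by rw [Subgroup.orderOf_coe]; exact hx)).2
    have b := (rank_prime y.2 hq hdvd.2.1 (by rw [Subgroup.orderOf_coe]; exact hy)).2
    have c := (rank_prime z.2 hr hdvd.2.2 (by rw [Subgroup.orderOf_coe]; exact hz)).2
    rw [hzv] at c
    change Module.finrank ℚ (LinearMap.range (D X)) + _ ≤ _ at a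
    change Module.finrank ℚ (LinearMap.range (D Y)) + _ ≤ _ at b
    omega
  · intro hle
    have hmem : (p, q, r) ∈ triples.map (fun t => t.1) := by
      have h := triples_cover
      simp only [List.all_eq_true, Bool.or_eq_true, decide_eq_true_eq, Bool.and_eq_true, beq_iff_eq,
        List.contains_iff_mem] at h
      have hne23 : ¬ (p = 2 ∧ (q = 2 ∨ q = 3)) := by
        rintro ⟨rfl, rfl | rfl⟩
        · exact hp2 ⟨rfl, rfl⟩
        · have key : ∀ r ∈ [2, 3, 5, 7, 11, 23], ¬ cyc 2 + cyc 3 + cyc r ≤ 28 := by decide +kernel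
          exact key r mr hle
      rcases h p mp q mq r mr with (((h | h) | h) | h) | h
      · omega
      · omega
      · exact absurd h hne23
      · omega
      · exact h
    obtain ⟨t, ht, hte⟩ := List.mem_map.1 hmem
    obtain ⟨⟨p', q', r'⟩, ⟨X, Y⟩, ws⟩ := t
    simp only [Prod.mk.injEq] at hte
    obtain ⟨rfl, rfl, rfl⟩ := hte
    have hchk := List.all_eq_true.1 triples_ok _ ht
    simp only [checkOne, Bool.and_eq_true, List.all_eq_true, List.mem_range] at hchk
    obtain ⟨⟨⟨⟨⟨hX, hY⟩, oX⟩, oY⟩, oZ⟩, hw⟩ := hchk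
    obtain ⟨pX, mX⟩ := m23_sound hX
    obtain ⟨pY, mY⟩ := m23_sound hY
    have pXY := isPermCode_permMulCode pX pY
    let x : Cfsg.Spor.M23 := ⟨_, mX⟩
    let y : Cfsg.Spor.M23 := ⟨_, mY⟩
    refine ⟨x, y, (x * y)⁻¹, ?_, ?_, ?_, mul_inv_cancel _, ?_⟩
    · rw [← Subgroup.orderOf_coe]; exact ordC_spec pX hp oX
    · rw [← Subgroup.orderOf_coe]; exact ordC_spec pY hq oY
    · rw [orderOf_inv, ← Subgroup.orderOf_coe, show ((x * y : Cfsg.Spor.M23) : Equiv.Perm GolayPt) =
        permOf X * permOf Y from rfl, permOf_permMulCode pX pY pXY rfl]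
      exact ordC_spec pXY hr oZ
    · set N : Subgroup (Equiv.Perm GolayPt) := (Subgroup.closure {x, y}).map Cfsg.Spor.M23.subtype
      have hNle : N ≤ LineTwentyThree.T := Subgroup.map_subtype_le _
      have hd : ∀ i < 4, [5, 7, 11, 23].getD i 0 ∣ Nat.card N := by
        intro i hi
        obtain ⟨pw, mw⟩ := wordC_spec pX pY (H := N) ⟨x, Subgroup.subset_closure (Or.inl rfl), rfl⟩
          ⟨y, Subgroup.subset_closure (Or.inr rfl), rfl⟩ (ws.getD i [])
        rw [← ordC_spec pw (by interval_cases i <;> norm_num) (hw i hi)]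
        exact Subgroup.orderOf_dvd_natCard N mw
      have hfull := full_of_orders hNle (hd 0 (by norm_num)) (hd 1 (by norm_num)) (hd 2 (by norm_num))
        (hd 3 (by norm_num))
      refine Subgroup.map_injective Cfsg.Spor.M23.subtype_injective ?_
      rw [← MonoidHom.range_eq_map, Subgroup.range_subtype]
      exact hfull

end CfsgLib.Spor.TripleGenM23
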